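import Cfsg.Agent.Lib.KnownA.SLMultiplier
import Cfsg.Agent.Lib.Classical.SLOrders

/-!
# The multiplier of `PSL n` away from the exceptional cases
-/

set_option autoImplicit false

open Matrix Subgroup
open scoped commutatorElement

namespace CfsgLib.KnownA.PSLMultiplier

universe u

/-- A perfect group all of whose central extensions split gives the multiplier of its quotient by
the centre. -/
theorem hasSchurMultiplier_quotient_center {S : Type u} [Group S] [Finite S]
    (hp : commutator S = ⊤)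
    (hsec : ∀ (E : Type u) [Group E] (ξ : E →* S), Function.Surjective ξ → ξ.ker ≤ center E →
      ∃ s : S →* E, ∀ g, ξ (s g) = g)
    {A : Type} [CommGroup A] (e : center S ≃* A) :
    Cfsg.HasSchurMultiplier (S ⧸ center S) A := by
  refine ⟨⟨S, inferInstance, inferInstance, QuotientGroup.mk' (center S),
    ⟨QuotientGroup.mk'_surjective _, (QuotientGroup.ker_mk' _).le, hp ▸ le_top⟩,
    ⟨(MulEquiv.subgroupCongr (QuotientGroup.ker_mk' _)).trans e⟩⟩, ?_⟩
  intro Γ _ _ σ hσ
  let mk := QuotientGroup.mk' (center S)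
  let E : Subgroup (S × Γ) :=
    MonoidHom.eqLocus (mk.comp (MonoidHom.fst S Γ)) (σ.comp (MonoidHom.snd S Γ))
  let ξ : E →* S := (MonoidHom.fst S Γ).comp E.subtype
  have hξ : Function.Surjective ξ := fun g => by
    obtain ⟨x, hx⟩ := hσ.1 (mk g)
    exact ⟨⟨(g, x), hx.symm⟩, rfl⟩
  have hξk : ξ.ker ≤ center E := by
    rintro ⟨⟨g, x⟩, hgx⟩ hg
    obtain rfl : g = 1 := hg
    have hx : σ x = 1 := by
      have h1 : mk 1 = σ x := hgx
      rw [map_one] at h1
      exact h1.symm
    rw [mem_center_iff]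
    rintro ⟨⟨h, y⟩, -⟩
    exact Subtype.ext (Prod.ext (by simp) (mem_center_iff.1 (hσ.2.1 hx) y))
  obtain ⟨s, hs⟩ := hsec E ξ hξ hξk
  let h : S →* Γ := (MonoidHom.snd S Γ).comp (E.subtype.comp s)
  have hh : σ.comp h = mk := by
    ext g
    have e1 : (s g).1.1 = g := hs g
    have e2 : mk (s g).1.1 = σ (s g).1.2 := (s g).2
    rw [e1] at e2
    exact e2.symm
  have hle : σ.ker ≤ h.range := by
    refine hσ.2.2.trans ((CfsgLib.Schur.Basic.commutator_le_map_of_sup_center h
      (CfsgLib.Schur.Basic.range_sup_center_eq_top mk (QuotientGroup.mk'_surjective _) σ hσ.2.1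
        h hh)).trans ?_)
    rintro _ ⟨g, -, rfl⟩
    exact ⟨g, rfl⟩
  have hmem : ∀ a : center S, h a.1 ∈ σ.ker := fun a => by
    rw [MonoidHom.mem_ker, ← MonoidHom.comp_apply, hh]
    exact (QuotientGroup.eq_one_iff a.1).2 a.2
  refine ⟨((h.comp (center S).subtype).codRestrict σ.ker hmem).comp e.symm.toMonoidHom,
    fun z => ?_⟩
  obtain ⟨g, hg⟩ := hle z.2
  have hgc : g ∈ center S := by
    rw [← QuotientGroup.eq_one_iff (N := center S) g]
    change mk g = 1
    rw [← hh, MonoidHom.comp_apply, hg]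
    exact z.2
  refine ⟨e ⟨g, hgc⟩, Subtype.ext ?_⟩
  change h ((e.symm (e ⟨g, hgc⟩)) : S) = z.1
  rw [e.symm_apply_apply]
  exact hg

variable {F : Type u} [Field F] [Fintype F]

theorem exists_unit_sq (hq : 4 ≤ Fintype.card F) : ∃ a : F, a ≠ 0 ∧ a ^ 2 ≠ 1 := by
  obtain ⟨a, ha⟩ := SLMultiplier.exists_unit_sq_ne_one (K := F) (by omega) (by omega)
  exact ⟨a, a.ne_zero, fun e => ha (Units.ext (by rw [Units.val_pow_eq_pow_val, e, Units.val_one]))⟩

theorem sl_two_perfect (hq : 4 ≤ Fintype.card F) :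
    commutator (SpecialLinearGroup (Fin 2) F) = ⊤ := by
  obtain ⟨a, ha0, ha⟩ := exists_unit_sq hq
  refine CfsgLib.Classical.sl_subgroup_eq_top _ fun i j hij c => ?_
  rw [commutator_eq_closure]
  exact subset_closure (CfsgLib.Classical.transvection_mem_commutatorSet_two ha0 ha hij c)

theorem sl_two_section (hq : 4 ≤ Fintype.card F) (h4 : Fintype.card F ≠ 4)
    (h9 : Fintype.card F ≠ 9) (E : Type u) [Group E] (ξ : E →* SpecialLinearGroup (Fin 2) F)
    (hξ : Function.Surjective ξ) (hk : ξ.ker ≤ center E) :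
    ∃ s : SpecialLinearGroup (Fin 2) F →* E, ∀ g, ξ (s g) = g := by
  classical
  have hb := CfsgLib.Schur.Basic.ker_inf_commutator_eq_bot
    (CfsgLib.KGroups.SLTwoMultiplier.multiplier_trivial h4 h9) ξ hξ hk
  let r : commutator E →* SpecialLinearGroup (Fin 2) F := ξ.comp (commutator E).subtype
  have hbij : Function.Bijective r := by
    constructor
    · rw [injective_iff_map_eq_one]
      intro x hx
      have : x.1 ∈ ξ.ker ⊓ commutator E := ⟨hx, x.2⟩
      rw [hb, mem_bot] at this
      exact Subtype.ext this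
    · rw [← MonoidHom.range_eq_top, MonoidHom.range_comp, range_subtype, _root_.commutator_def,
        map_commutator, ← MonoidHom.range_eq_map, MonoidHom.range_eq_top.2 hξ,
        ← _root_.commutator_def, sl_two_perfect hq]
  let e := MulEquiv.ofBijective r hbij
  exact ⟨(commutator E).subtype.comp e.symm.toMonoidHom, fun g => e.apply_symm_apply g⟩

/-- The multiplier of `PSL n`. -/
theorem hasCyclicSchurMultiplier_psl {q : ℕ} (hF : Fintype.card F = q) (n : ℕ) (hn : 2 ≤ n)
    (h2 : n = 2 → 4 ≤ q ∧ q ≠ 4 ∧ q ≠ 9) (h3 : n = 3 → q ≠ 2 ∧ q ≠ 4) (h4 : n = 4 → q ≠ 2) :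
    Cfsg.HasCyclicSchurMultiplier (ProjectiveSpecialLinearGroup (Fin n) F) (Nat.gcd n (q - 1)) := by
  classical
  subst hF
  have : NeZero n := ⟨by omega⟩
  have hc : Nat.card (center (SpecialLinearGroup (Fin n) F)) =
      Nat.gcd n (Fintype.card F - 1) := CfsgLib.Classical.card_center_sl n (by omega)
  have : IsCyclic (center (SpecialLinearGroup (Fin n) F)) :=
    isCyclic_of_surjective _ (SpecialLinearGroup.center_equiv_rootsOfUnity' (R := F) (0 : Fin n)).symm.surjective
  rw [← hc]
  rcases Nat.eq_or_lt_of_le hn with h | h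
  · subst h
    obtain ⟨hq, hq4, hq9⟩ := h2 rfl
    exact hasSchurMultiplier_quotient_center (sl_two_perfect hq) (sl_two_section hq hq4 hq9)
      (zmodCyclicMulEquiv this).symm
  · have hA : SLMultiplier.Allowed F (Fintype.card (Fin n)) := by
      rw [Fintype.card_fin]; exact ⟨h, h3, h4⟩
    exact hasSchurMultiplier_quotient_center
      (CfsgLib.Classical.sl_perfect (by rw [Fintype.card_fin]; exact h))
      (fun E _ ξ hξ hk => SLMultiplier.exists_section hξ hk hA) (zmodCyclicMulEquiv this).symm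

end CfsgLib.KnownA.PSLMultiplier
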