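import Cfsg.Agent.Lib.KnownA.StSL
import Cfsg.Agent.Lib.Classical.SLBasic

/-!
# Universal property of the Steinberg presentation of `SL n` over a finite field, `3 ≤ n`
-/

set_option autoImplicit false

open Matrix
open scoped commutatorElement

namespace CfsgLib.KnownA.StSL

universe uι uG

variable {K : Type*} [Field K] {ι : Type uι} [Fintype ι] [DecidableEq ι]

/-- The Steinberg relations between distinct root subgroups. -/
structure PreSt {G : Type uG} [Group G] (y : ι → ι → K → G) : Prop where
  add : ∀ i j t u, i ≠ j → y i j t * y i j u = y i j (t + u)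
  comm : ∀ i j k l t u, i ≠ j → k ≠ l → i ≠ l → j ≠ k → Commute (y i j t) (y k l u)
  mix : ∀ i j k t u, i ≠ j → j ≠ k → i ≠ k → ⁅y i j t, y j k u⁆ = y i k (t * u)

namespace PreSt

variable {G : Type uG} [Group G] {y : ι → ι → K → G} (S : PreSt y)

include S

theorem y_zero {i j : ι} (h : i ≠ j) : y i j 0 = 1 := by
  have := S.add i j 0 0 h
  rw [add_zero] at this
  exact mul_eq_right.1 this

theorem y_neg {i j : ι} (h : i ≠ j) (t : K) : y i j (-t) = (y i j t)⁻¹ :=
  eq_inv_of_mul_eq_one_left (by rw [S.add i j _ _ h, neg_add_cancel, S.y_zero h])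

theorem conj_right {i j k : ι} (hij : i ≠ j) (hjk : j ≠ k) (hik : i ≠ k) (t u : K) :
    y i j t * y j k u * (y i j t)⁻¹ = y i k (t * u) * y j k u := by
  have e := S.mix i j k t u hij hjk hik
  rwa [commutatorElement_def, mul_inv_eq_iff_eq_mul] at e

theorem conj_left {i j k : ι} (hij : i ≠ j) (hjk : j ≠ k) (hik : i ≠ k) (t u : K) :
    y j k u * y i j t * (y j k u)⁻¹ = y i k (-(t * u)) * y i j t := by
  have e := S.mix i j k t u hij hjk hik
  rw [commutatorElement_def] at e
  rw [S.y_neg hik, ← e]
  group

/-- The rank one relation is a consequence of the others in rank at least three. -/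
theorem stRel (hι : 3 ≤ Fintype.card ι) : StRel y := by
  refine ⟨S.add, S.comm, S.mix, ?_⟩
  intro a b t u hab ht
  obtain ⟨c, hc⟩ : ∃ c, c ∉ ({a, b} : Finset ι) := by
    by_contra hc
    push Not at hc
    have := Finset.card_le_card (fun x (_ : x ∈ Finset.univ) => hc x)
    have := Finset.card_le_two (a := a) (b := b)
    rw [Finset.card_univ] at *
    omega
  simp only [Finset.mem_insert, Finset.mem_singleton, not_or] at hc
  obtain ⟨hca : c ≠ a, hcb : c ≠ b⟩ := hc
  set A := y a b t with hA
  set B := y b a (-t⁻¹) with hB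
  have eA : ∀ v, A * y a c v * A⁻¹ = y a c v := fun v => by
    rw [hA, (S.comm a b a c t v hab hca.symm hca.symm hab.symm).eq, mul_inv_cancel_right]
  have eA' : ∀ v, A * y c b v * A⁻¹ = y c b v := fun v => by
    rw [hA, (S.comm a b c b t v hab hcb hab hcb.symm).eq, mul_inv_cancel_right]
  have conjW : ∀ x, A * B * A * x * (A * B * A)⁻¹ =
      A * (B * (A * x * A⁻¹) * B⁻¹) * A⁻¹ := fun x => by group
  have h1 : ∀ v, A * B * A * y a c v * (A * B * A)⁻¹ = y b c (-t⁻¹ * v) := fun v => by
    rw [conjW, eA, hB, S.conj_right hab.symm hca.symm hcb.symm]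
    have : A * (y b c (-t⁻¹ * v) * y a c v) * A⁻¹ =
        (A * y b c (-t⁻¹ * v) * A⁻¹) * (A * y a c v * A⁻¹) := by group
    rw [this, eA, hA, S.conj_right hab hcb.symm hca.symm,
      (S.comm a c b c _ _ hca.symm hcb.symm hca.symm hcb).eq, mul_assoc, S.add a c _ _ hca.symm,
      show t * (-t⁻¹ * v) + v = 0 by field_simp; ring, S.y_zero hca.symm, mul_one]
  have h2 : ∀ v, A * B * A * y c b v * (A * B * A)⁻¹ = y c a (t⁻¹ * v) := fun v => by
    rw [conjW, eA', hB, S.conj_left hcb hab.symm hca,
      show -(v * -t⁻¹) = t⁻¹ * v by ring]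
    have : A * (y c a (t⁻¹ * v) * y c b v) * A⁻¹ =
        (A * y c a (t⁻¹ * v) * A⁻¹) * (A * y c b v * A⁻¹) := by group
    rw [this, eA', hA, S.conj_left hca hab hcb,
      (S.comm c b c a _ _ hcb hca hca hcb.symm).eq, mul_assoc, S.add c b _ _ hcb,
      show -(t⁻¹ * v * t) + v = 0 by field_simp; ring, S.y_zero hcb, mul_one]
  have hu : y a b u = ⁅y a c u, y c b 1⁆ := by rw [S.mix a c b u 1 hca.symm hcb hab, mul_one]
  rw [hu]
  calc A * B * A * ⁅y a c u, y c b 1⁆ * (A * B * A)⁻¹
      = ⁅A * B * A * y a c u * (A * B * A)⁻¹, A * B * A * y c b 1 * (A * B * A)⁻¹⁆ := by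
        simp only [commutatorElement_def]; group
    _ = _ := by
        rw [h1, h2, S.mix b c a _ _ hcb.symm hca hab.symm]
        congr 1
        field_simp

end PreSt

/-- Any family satisfying the Steinberg relations is the image of the transvections under a
homomorphism from the special linear group. -/
theorem exists_hom [Finite K] (hι : 3 ≤ Fintype.card ι) {G : Type uG} [Group G]
    {y : ι → ι → K → G} (S : PreSt y) :
    ∃ φ : SpecialLinearGroup ι K →* G,
      ∀ (i j : ι) (h : i ≠ j) (t : K), φ (SpecialLinearGroup.transvection h t) = y i j t := by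
  classical
  let tv : ι → ι → K → SpecialLinearGroup ι K := fun i j t =>
    if h : i ≠ j then SpecialLinearGroup.transvection h t else 1
  have tv_eq : ∀ {i j : ι} (h : i ≠ j) (t : K), tv i j t = SpecialLinearGroup.transvection h t :=
    fun h t => dif_pos h
  let p : ι → ι → K → G × SpecialLinearGroup ι K := fun i j t => (y i j t, tv i j t)
  let H : Subgroup (G × SpecialLinearGroup ι K) := Subgroup.closure (rootSet p)
  let z : ι → ι → K → H := fun i j t =>
    if h : i ≠ j then ⟨p i j t, Subgroup.subset_closure ⟨i, j, t, h, rfl⟩⟩ else 1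
  have z_coe : ∀ {i j : ι} (h : i ≠ j) (t : K),
      ((z i j t : H) : G × SpecialLinearGroup ι K) = p i j t := fun h t => by
    simp only [z, dif_pos h]
  have hz : PreSt z := by
    refine ⟨?_, ?_, ?_⟩
    · intro i j t u h
      apply Subtype.ext
      simp only [Subgroup.coe_mul, z_coe h]
      refine Prod.ext (S.add i j t u h) ?_
      change tv i j t * tv i j u = tv i j (t + u)
      rw [tv_eq h, tv_eq h, tv_eq h]
      exact Subtype.ext (transvection_mul_transvection_same i j h t u)
    · intro i j k l t u h1 h2 h3 h4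
      apply Subtype.ext
      simp only [Subgroup.coe_mul, z_coe h1, z_coe h2]
      refine Prod.ext (S.comm i j k l t u h1 h2 h3 h4).eq ?_
      change tv i j t * tv k l u = tv k l u * tv i j t
      rw [tv_eq h1, tv_eq h2]
      apply Subtype.ext
      change Matrix.transvection i j t * Matrix.transvection k l u =
        Matrix.transvection k l u * Matrix.transvection i j t
      simp only [Matrix.transvection, mul_add, add_mul, mul_one, one_mul,
        Matrix.single_mul_single_of_ne _ _ _ _ h4, Matrix.single_mul_single_of_ne _ _ _ _ h3.symm]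
      abel
    · intro i j k t u h1 h2 h3
      apply Subtype.ext
      simp only [commutatorElement_def, Subgroup.coe_mul, InvMemClass.coe_inv, z_coe h1, z_coe h2,
        z_coe h3]
      refine Prod.ext ?_ ?_
      · exact S.mix i j k t u h1 h2 h3
      · change tv i j t * tv j k u * (tv i j t)⁻¹ * (tv j k u)⁻¹ = tv i k (t * u)
        rw [tv_eq h1, tv_eq h2, tv_eq h3]
        exact CfsgLib.Classical.commutator_transvection h1 h2 h3 t u
  have hgen : Subgroup.closure (rootSet z) = ⊤ := by
    refine top_unique ((Subgroup.closure_closure_coe_preimage (k := rootSet p)).symm.le.trans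
      (Subgroup.closure_mono ?_))
    rintro x ⟨i, j, t, hij, hx⟩
    exact ⟨i, j, t, hij, Subtype.ext (hx.trans (z_coe hij t).symm)⟩
  let q : H →* SpecialLinearGroup ι K := (MonoidHom.snd _ _).comp H.subtype
  have hq : ∀ {i j : ι} (h : i ≠ j) (t : K), q (z i j t) = SpecialLinearGroup.transvection h t := by
    intro i j h t
    change ((z i j t : H) : G × SpecialLinearGroup ι K).2 = _
    rw [z_coe h]
    exact tv_eq h t
  let π : H →* Matrix ι ι K :=
    { toFun := fun x => (q x : Matrix ι ι K)
      map_one' := by rw [map_one]; rfl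
      map_mul' := fun a b => by rw [map_mul]; rfl }
  have hinj : Function.Injective π :=
    injective_of_stRel (by omega) (hz.stRel hι) hgen π fun i j t h =>
      congrArg Subtype.val (hq h t)
  have hbij : Function.Bijective q := by
    refine ⟨fun a b h => hinj (congrArg Subtype.val h), ?_⟩
    rw [← MonoidHom.range_eq_top]
    exact CfsgLib.Classical.sl_subgroup_eq_top _ fun i j h c => ⟨z i j c, hq h c⟩
  let e := MulEquiv.ofBijective q hbij
  refine ⟨((MonoidHom.fst _ _).comp H.subtype).comp e.symm.toMonoidHom, fun i j h t => ?_⟩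
  have : e.symm (SpecialLinearGroup.transvection h t) = z i j t := by
    rw [MulEquiv.symm_apply_eq]
    exact (hq h t).symm
  change ((e.symm (SpecialLinearGroup.transvection h t) : H) : G × SpecialLinearGroup ι K).1 = _
  rw [this, z_coe h]

end CfsgLib.KnownA.StSL
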