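import Mathlib

/-!
Rank of a factored matrix; evenness of the rank of an alternating form.
-/

set_option autoImplicit false

namespace CfsgLib.KnownA.RankAux

open Matrix

/-- A matrix factoring through `Fin l` and having an identity `l × l` minor-product has rank `l`. -/
theorem rank_eq_of_factor {F : Type*} [Field F] {n : Type*} [Fintype n] [DecidableEq n] {l : ℕ}
    (P : Matrix n (Fin l) F) (Q : Matrix (Fin l) n F) (A : Matrix (Fin l) n F) (B : Matrix n (Fin l) F)
    (hP : A * P = 1) (hQ : Q * B = 1) : (P * Q).rank = l := by
  refine le_antisymm ((Matrix.rank_mul_le_left P Q).trans ?_) ?_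
  · simpa using Matrix.rank_le_card_width P
  · have h1 : (A * (P * Q) * B).rank ≤ (P * Q).rank :=
      (Matrix.rank_mul_le_left _ _).trans (Matrix.rank_mul_le_right _ _)
    have h2 : A * (P * Q) * B = 1 := by
      rw [← Matrix.mul_assoc A P Q, hP, Matrix.one_mul, hQ]
    rw [h2, Matrix.rank_one, Fintype.card_fin] at h1
    exact h1

/-- The rank of an alternating bilinear map is even. -/
theorem even_finrank_range {F V : Type*} [Field F] [AddCommGroup V] [Module F V] [FiniteDimensional F V]
    (B : V →ₗ[F] V →ₗ[F] F) (hB : ∀ v, B v v = 0) : Even (Module.finrank F ↥(LinearMap.range B)) := by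
  induction hn : Module.finrank F ↥(LinearMap.range B) using Nat.strong_induction_on generalizing B with
  | _ n ih =>
    by_cases h0 : B = 0
    · subst h0
      rw [← hn, LinearMap.range_zero, finrank_bot]
      exact ⟨0, rfl⟩
    obtain ⟨x, hx⟩ : ∃ x, B x ≠ 0 := by
      by_contra h; push Not at h; exact h0 (LinearMap.ext fun v => by simpa using h v)
    obtain ⟨y₀, hy₀⟩ : ∃ y, B x y ≠ 0 := by
      by_contra h; push Not at h; exact hx (LinearMap.ext fun v => by simpa using h v)
    set y := (B x y₀)⁻¹ • y₀ with hy
    have hxy : B x y = 1 := by simp [hy, hy₀]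
    have hskew : ∀ u v, B u v = - B v u := by
      intro u v
      have := hB (u + v)
      simp only [map_add, LinearMap.add_apply, hB u, hB v] at this
      linear_combination this
    have hyx : B y x = -1 := by rw [hskew, hxy]
    let π : V →ₗ[F] V := LinearMap.id - (B.flip y).smulRight x + (B.flip x).smulRight y
    have hπ : ∀ u, π u = u - B u y • x + B u x • y := fun u => rfl
    let B' : V →ₗ[F] V →ₗ[F] F := B.compl₁₂ π π
    have hB' : ∀ v, B' v v = 0 := fun v => hB _
    have hπx : π x = 0 := by simp [hπ, hxy, hB]
    have hπy : π y = 0 := by simp [hπ, hyx, hB]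
    have hBx : ∀ u, B (π u) x = 0 := fun u => by simp [hπ, hB, hyx]
    have hBy : ∀ u, B (π u) y = 0 := fun u => by simp [hπ, hB, hxy]
    have hker : LinearMap.ker B' = LinearMap.ker B ⊔ Submodule.span F {x, y} := by
      refine le_antisymm (fun u hu => ?_) (sup_le (fun u hu => ?_) ?_)
      · have hu' : ∀ v, B (π u) (π v) = 0 := fun v => LinearMap.congr_fun (LinearMap.mem_ker.1 hu) v
        have hmem : π u ∈ LinearMap.ker B := by
          refine LinearMap.mem_ker.2 (LinearMap.ext fun v => ?_)
          have := hu' v
          rw [hπ v] at this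
          simpa [hBx, hBy] using this
        refine Submodule.mem_sup.2 ⟨π u, hmem, B u y • x - B u x • y,
          Submodule.mem_span_pair.2 ⟨B u y, -B u x, by rw [neg_smul, sub_eq_add_neg]⟩, ?_⟩
        rw [hπ]; abel
      · have hu' : B u = 0 := LinearMap.mem_ker.1 hu
        refine LinearMap.mem_ker.2 (LinearMap.ext fun v => ?_)
        show B (π u) (π v) = 0
        have : π u = u := by simp [hπ, hu']
        rw [this, hu']; rfl
      · rw [Submodule.span_le, Set.pair_subset_iff]
        exact ⟨LinearMap.mem_ker.2 (LinearMap.ext fun v => by show B (π x) (π v) = 0; simp [hπx]),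
          LinearMap.mem_ker.2 (LinearMap.ext fun v => by show B (π y) (π v) = 0; simp [hπy])⟩
    have hli : LinearIndependent F ![x, y] := by
      refine LinearIndependent.pair_iff.2 fun s t hst => ?_
      constructor
      · have := congrArg (fun w => B w y) hst
        simpa [hxy, hB] using this
      · have := congrArg (fun w => B w x) hst
        simpa [hyx, hB] using this
    have hspan : Module.finrank F ↥(Submodule.span F {x, y}) = 2 := by
      have := finrank_span_eq_card hli
      rwa [show Set.range ![x, y] = {x, y} by simp [Set.pair_comm], Fintype.card_fin] at this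
    have hdisj : LinearMap.ker B ⊓ Submodule.span F {x, y} = ⊥ := by
      rw [eq_bot_iff]
      rintro w ⟨hw1, hw2⟩
      obtain ⟨s, t, rfl⟩ := Submodule.mem_span_pair.1 hw2
      have hwy := LinearMap.congr_fun (LinearMap.mem_ker.1 hw1) y
      have hwx := LinearMap.congr_fun (LinearMap.mem_ker.1 hw1) x
      simp [hxy, hyx, hB] at hwy hwx
      simp [hwy, hwx]
    have hsum := Submodule.finrank_sup_add_finrank_inf_eq (LinearMap.ker B) (Submodule.span F {x, y})
    rw [← hker, hdisj, finrank_bot, hspan] at hsum
    have e1 := LinearMap.finrank_range_add_finrank_ker B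
    have e2 := LinearMap.finrank_range_add_finrank_ker B'
    obtain ⟨k, hk⟩ := ih _ (by omega) B' hB' rfl
    exact ⟨k + 1, by omega⟩

end CfsgLib.KnownA.RankAux
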