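import Mathlib

/-!
Three-cycles: finite facts about pairs and triples, transported to any `Fin n`, and the
characterisation of three-cycles among elements of order three in the alternating group (degree not 6).
-/

set_option autoImplicit false

namespace CfsgLib.KnownA.AltThreeCycle

open Equiv Equiv.Perm Finset

set_option synthInstance.maxSize 2000

variable {α : Type*} [Fintype α] [DecidableEq α]

/-- A set of at most `k ≤ |α|` points lies in the range of an embedding of `Fin k`. -/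
lemma exists_embedding {k : ℕ} (hk : k ≤ Fintype.card α) {s : Finset α} (hs : s.card ≤ k) :
    ∃ ι : Fin k ↪ α, ∀ x ∈ s, x ∈ Set.range ι := by
  obtain ⟨t, hst, -, ht⟩ := Finset.exists_subsuperset_card_eq (subset_univ s) hs (by simpa using hk)
  have e : ↥t ≃ Fin k := Fintype.equivFinOfCardEq (by rw [Fintype.card_coe, ht])
  refine ⟨e.symm.toEmbedding.trans (Function.Embedding.subtype (fun x => x ∈ t)), fun x hx => ?_⟩
  exact ⟨e ⟨x, hst hx⟩, by simp⟩

lemma exists_viaEmbedding {k : ℕ} (ι : Fin k ↪ α) {g : Perm α} (hg : ∀ x ∈ g.support, x ∈ Set.range ι) :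
    ∃ g' : Perm (Fin k), viaEmbeddingHom ι g' = g := by
  have hmap : ∀ i, ∃ j, ι j = g (ι i) := by
    intro i
    by_cases h : g (ι i) = ι i
    · exact ⟨i, h.symm⟩
    · exact hg _ (mem_support.2 fun h' => h (g.injective h'))
  choose f hf using hmap
  have hinj : Function.Injective f := fun a b h => ι.injective (g.injective (by rw [← hf, ← hf, h]))
  refine ⟨Equiv.ofBijective f (Finite.injective_iff_bijective.1 hinj), Equiv.ext fun x => ?_⟩
  rw [viaEmbeddingHom_apply]
  by_cases hx : x ∈ Set.range ι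
  · obtain ⟨i, rfl⟩ := hx
    rw [viaEmbedding_apply]
    exact hf i
  · rw [viaEmbedding_apply_of_notMem _ _ _ hx]
    exact (notMem_support.1 fun h => hx (hg x h)).symm

lemma isThreeCycle_iff_of_le_five {k : ℕ} (hk : k ≤ 5) (g : Perm (Fin k)) :
    g.IsThreeCycle ↔ g ^ 3 = 1 ∧ g ≠ 1 := by
  refine ⟨fun h => ⟨by rw [← h.orderOf]; exact pow_orderOf_eq_one g, h.ne_one⟩, fun ⟨h1, h2⟩ => ?_⟩
  have hlcm : orderOf g = 3 := orderOf_eq_prime h1 h2
  obtain ⟨c, hc⟩ := cycleType_prime_order (hlcm ▸ Nat.prime_three : (orderOf g).Prime)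
  rw [hlcm] at hc
  have hsum : g.cycleType.sum ≤ k := by
    rw [sum_cycleType]; exact (card_le_univ _).trans_eq (Fintype.card_fin k)
  rw [hc, Multiset.sum_replicate, smul_eq_mul] at hsum
  have : c = 0 := by omega
  subst this
  exact hc

lemma isThreeCycle_via {k : ℕ} (hk : k ≤ 5) (ι : Fin k ↪ α) (g : Perm (Fin k))
    (h : (viaEmbeddingHom ι g).IsThreeCycle) : g ^ 3 = 1 ∧ g ≠ 1 := by
  refine ⟨viaEmbeddingHom_injective ι ?_, fun hg => h.ne_one (by rw [hg, map_one])⟩
  rw [map_pow, map_one, ← h.orderOf]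
  exact pow_orderOf_eq_one _

/-- Two three-cycles whose product is an involution. -/
def Pair (u w : Perm α) : Prop := u.IsThreeCycle ∧ w.IsThreeCycle ∧ (u * w) ^ 2 = 1 ∧ u * w ≠ 1

lemma not_disjoint_of_pair {u w : Perm α} (h : Pair u w) : ¬ u.Disjoint w := by
  intro hd
  obtain ⟨h1, h2, h3, -⟩ := h
  rw [hd.commute.mul_pow] at h3
  have hu : u ^ 2 = 1 := by
    have hd2 : (u ^ 2).Disjoint (w ^ 2) := hd.pow_disjoint_pow 2 2
    rcases hd2.mul_eq_one_iff.1 h3 with ⟨a, -⟩
    exact a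
  have := orderOf_dvd_of_pow_eq_one hu
  rw [h1.orderOf] at this
  norm_num at this

lemma card_union_le {u w : Perm α} (h : Pair u w) : (u.support ∪ w.support).card ≤ 5 := by
  have h1 := h.1.card_support
  have h2 := h.2.1.card_support
  have hne : (u.support ∩ w.support).Nonempty := by
    rw [Finset.nonempty_iff_ne_empty]
    intro he
    exact not_disjoint_of_pair h (disjoint_iff_disjoint_support.2 (Finset.disjoint_iff_inter_eq_empty.2 he))
  have := Finset.card_union_add_card_inter u.support w.support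
  have := hne.card_pos
  omega

/-- A product of two three-cycles has order 1, 2, 3 or 5. -/
theorem order_mul_three_cycles (h5 : 5 ≤ Fintype.card α) {u w : Perm α} (hu : u.IsThreeCycle) (hw : w.IsThreeCycle) :
    (u * w) ^ 2 = 1 ∨ (u * w) ^ 3 = 1 ∨ (u * w) ^ 5 = 1 := by
  by_cases hd : u.Disjoint w
  · right; left
    rw [hd.commute.mul_pow]
    rw [show u ^ 3 = 1 by rw [← hu.orderOf]; exact pow_orderOf_eq_one u,
      show w ^ 3 = 1 by rw [← hw.orderOf]; exact pow_orderOf_eq_one w, one_mul]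
  have h1 := hu.card_support
  have h2 := hw.card_support
  have hne : (u.support ∩ w.support).Nonempty := by
    rw [Finset.nonempty_iff_ne_empty]
    intro he
    exact hd (disjoint_iff_disjoint_support.2 (Finset.disjoint_iff_inter_eq_empty.2 he))
  have := Finset.card_union_add_card_inter u.support w.support
  have := hne.card_pos
  obtain ⟨ι, hι⟩ := exists_embedding (k := 5) h5 (s := u.support ∪ w.support) (by omega)
  obtain ⟨u', rfl⟩ := exists_viaEmbedding ι (g := u) fun x hx => hι x (mem_union_left _ hx)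
  obtain ⟨w', rfl⟩ := exists_viaEmbedding ι (g := w) fun x hx => hι x (mem_union_right _ hx)
  have key : ∀ σ : Perm (Fin 5), Perm.sign σ = 1 → σ ^ 2 = 1 ∨ σ ^ 3 = 1 ∨ σ ^ 5 = 1 := by decide +kernel
  have hs : Perm.sign (u' * w') = 1 := by
    rw [map_mul, ((isThreeCycle_iff_of_le_five le_rfl u').2 (isThreeCycle_via le_rfl ι u' hu)).sign,
      ((isThreeCycle_iff_of_le_five le_rfl w').2 (isThreeCycle_via le_rfl ι w' hw)).sign, one_mul]
  rw [← map_mul, ← map_pow, ← map_pow, ← map_pow]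
  rcases key _ hs with h | h | h <;> simp [h]

lemma pairs_five : ∀ u : Perm (Fin 5), u ^ 3 = 1 → u ≠ 1 → ∀ w : Perm (Fin 5), w ^ 3 = 1 → w ≠ 1 →
    (u * w) ^ 2 = 1 → u * w ≠ 1 → (∃ a, u a ≠ a ∧ u a = w a) ∧
      ∀ a b, u a ≠ a → u a = w a → u b ≠ b → u b = w b → a = b := by
  decide +kernel

lemma triples_five : ∀ u : Perm (Fin 5), u ^ 3 = 1 → u ≠ 1 → ∀ w : Perm (Fin 5), w ^ 3 = 1 → w ≠ 1 →
    (u * w) ^ 2 = 1 → u * w ≠ 1 → ∀ a, u a ≠ a → u a = w a → ∀ v : Perm (Fin 5), v ^ 3 = 1 → v ≠ 1 →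
    (u * v) ^ 2 = 1 → u * v ≠ 1 → (w * v) ^ 2 = 1 → w * v ≠ 1 → u ≠ w → u ≠ v → w ≠ v → v a = u a := by
  decide +kernel

lemma pairs_four : ∀ u : Perm (Fin 4), u ^ 3 = 1 → u ≠ 1 → ∀ w : Perm (Fin 4), w ^ 3 = 1 → w ≠ 1 →
    (u * w) ^ 2 = 1 → u * w ≠ 1 → (∃ a, u a ≠ a ∧ u a = w a) ∧
      ∀ a b, u a ≠ a → u a = w a → u b ≠ b → u b = w b → a = b := by
  decide +kernel

lemma triples_four : ∀ u : Perm (Fin 4), u ^ 3 = 1 → u ≠ 1 → ∀ w : Perm (Fin 4), w ^ 3 = 1 → w ≠ 1 →
    (u * w) ^ 2 = 1 → u * w ≠ 1 → ∀ v : Perm (Fin 4), v ^ 3 = 1 → v ≠ 1 →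
    (u * v) ^ 2 = 1 → u * v ≠ 1 → (w * v) ^ 2 = 1 → w * v ≠ 1 → False := by
  decide +kernel

variable {n : ℕ}

lemma pow_three {u : Perm α} (h : u.IsThreeCycle) : u ^ 3 = 1 ∧ u ≠ 1 :=
  ⟨by rw [← h.orderOf]; exact pow_orderOf_eq_one u, h.ne_one⟩

/-- Two three-cycles with involution product share exactly one directed edge. -/
theorem pair_edge (hn : 4 ≤ n) {u w : Perm (Fin n)} (h : Pair u w) :
    (∃ a, u a ≠ a ∧ u a = w a) ∧ ∀ a b, u a ≠ a → u a = w a → u b ≠ b → u b = w b → a = b := by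
  obtain ⟨hu, hw, h2, h1⟩ := h
  rcases Nat.lt_or_ge n 5 with hn5 | hn5
  · obtain rfl : n = 4 := by omega
    exact pairs_four u (pow_three hu).1 (pow_three hu).2 w (pow_three hw).1 (pow_three hw).2 h2 h1
  obtain ⟨ι, hι⟩ := exists_embedding (α := Fin n) (k := 5) (by simpa using hn5)
    (card_union_le (u := u) (w := w) ⟨hu, hw, h2, h1⟩)
  obtain ⟨u', rfl⟩ := exists_viaEmbedding ι (g := u) fun x hx => hι x (mem_union_left _ hx)
  obtain ⟨w', rfl⟩ := exists_viaEmbedding ι (g := w) fun x hx => hι x (mem_union_right _ hx)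
  have hu' := isThreeCycle_via le_rfl ι u' hu
  have hw' := isThreeCycle_via le_rfl ι w' hw
  rw [← map_mul] at h1 h2
  rw [← map_pow] at h2
  obtain ⟨⟨a, ha, hb⟩, huniq⟩ := pairs_five u' hu'.1 hu'.2 w' hw'.1 hw'.2
    (viaEmbeddingHom_injective ι (h2.trans (map_one _).symm)) (fun h => h1 (by rw [h, map_one]))
  refine ⟨⟨ι a, ?_, ?_⟩, fun x y hx hxw hy hyw => ?_⟩
  · rw [viaEmbeddingHom_apply, viaEmbedding_apply]; exact fun h => ha (ι.injective h)
  · rw [viaEmbeddingHom_apply, viaEmbeddingHom_apply, viaEmbedding_apply, viaEmbedding_apply, hb]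
  · obtain ⟨i, rfl⟩ := hι x (mem_union_left _ (mem_support.2 hx))
    obtain ⟨j, rfl⟩ := hι y (mem_union_left _ (mem_support.2 hy))
    simp only [viaEmbeddingHom_apply, viaEmbedding_apply, ne_eq, EmbeddingLike.apply_eq_iff_eq] at hx hxw hy hyw
    rw [huniq i j hx hxw hy hyw]

/-- A third three-cycle with involution products shares the common directed edge. -/
theorem triple_edge (hn : 4 ≤ n) {u w v : Perm (Fin n)} (huw : Pair u w) (huv : Pair u v) (hwv : Pair w v)
    (huw' : u ≠ w) (huv' : u ≠ v) (hwv' : w ≠ v) {a : Fin n} (ha : u a ≠ a) (haw : u a = w a) : v a = u a := by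
  obtain ⟨hu, hw, h2, h1⟩ := huw
  obtain ⟨-, hv, k2, k1⟩ := huv
  obtain ⟨-, -, l2, l1⟩ := hwv
  rcases Nat.lt_or_ge n 5 with hn5 | hn5
  · obtain rfl : n = 4 := by omega
    exact (triples_four u (pow_three hu).1 (pow_three hu).2 w (pow_three hw).1 (pow_three hw).2 h2 h1
      v (pow_three hv).1 (pow_three hv).2 k2 k1 l2 l1).elim
  have hcard : (u.support ∪ w.support ∪ v.support).card ≤ 5 := by
    obtain ⟨⟨b, hb, hbv⟩, -⟩ := pair_edge hn (u := u) (w := v) ⟨hu, hv, k2, k1⟩
    have h1' : a ∈ u.support ∩ w.support ∧ u a ∈ u.support ∩ w.support := by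
      refine ⟨mem_inter.2 ⟨mem_support.2 ha, mem_support.2 (haw ▸ ha)⟩, mem_inter.2 ⟨apply_mem_support.2 (mem_support.2 ha), ?_⟩⟩
      rw [haw]; exact apply_mem_support.2 (mem_support.2 (haw ▸ ha))
    have h2' : b ∈ (u.support ∪ w.support) ∩ v.support ∧ u b ∈ (u.support ∪ w.support) ∩ v.support := by
      refine ⟨mem_inter.2 ⟨mem_union_left _ (mem_support.2 hb), mem_support.2 (hbv ▸ hb)⟩,
        mem_inter.2 ⟨mem_union_left _ (apply_mem_support.2 (mem_support.2 hb)), ?_⟩⟩
      rw [hbv]; exact apply_mem_support.2 (mem_support.2 (hbv ▸ hb))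
    have c1 : 2 ≤ (u.support ∩ w.support).card := by
      have := card_le_card (show {a, u a} ⊆ u.support ∩ w.support by
        simp only [insert_subset_iff, singleton_subset_iff]; exact h1')
      rwa [card_pair (Ne.symm ha)] at this
    have c2 : 2 ≤ ((u.support ∪ w.support) ∩ v.support).card := by
      have := card_le_card (show {b, u b} ⊆ (u.support ∪ w.support) ∩ v.support by
        simp only [insert_subset_iff, singleton_subset_iff]; exact h2')
      rwa [card_pair (Ne.symm hb)] at this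
    have := card_union_add_card_inter u.support w.support
    have := card_union_add_card_inter (u.support ∪ w.support) v.support
    have := hu.card_support
    have := hw.card_support
    have := hv.card_support
    omega
  obtain ⟨ι, hι⟩ := exists_embedding (α := Fin n) (k := 5) (by simpa using hn5) hcard
  obtain ⟨i, rfl⟩ := hι a (mem_union_left _ (mem_union_left _ (mem_support.2 ha)))
  obtain ⟨u', rfl⟩ := exists_viaEmbedding ι (g := u) fun x hx => hι x (mem_union_left _ (mem_union_left _ hx))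
  obtain ⟨w', rfl⟩ := exists_viaEmbedding ι (g := w) fun x hx => hι x (mem_union_left _ (mem_union_right _ hx))
  obtain ⟨v', rfl⟩ := exists_viaEmbedding ι (g := v) fun x hx => hι x (mem_union_right _ hx)
  have hu' := isThreeCycle_via le_rfl ι u' hu
  have hw' := isThreeCycle_via le_rfl ι w' hw
  have hv' := isThreeCycle_via le_rfl ι v' hv
  rw [← map_mul] at h1 h2 k1 k2 l1 l2
  rw [← map_pow] at h2 k2 l2
  simp only [viaEmbeddingHom_apply, viaEmbedding_apply, ne_eq, EmbeddingLike.apply_eq_iff_eq] at ha haw ⊢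
  exact triples_five u' hu'.1 hu'.2 w' hw'.1 hw'.2
    (viaEmbeddingHom_injective ι (h2.trans (map_one _).symm)) (fun h => h1 (by rw [h, map_one])) i ha haw
    v' hv'.1 hv'.2 (viaEmbeddingHom_injective ι (k2.trans (map_one _).symm)) (fun h => k1 (by rw [h, map_one]))
    (viaEmbeddingHom_injective ι (l2.trans (map_one _).symm)) (fun h => l1 (by rw [h, map_one]))
    (fun h => huw' (by rw [h])) (fun h => huv' (by rw [h])) (fun h => hwv' (by rw [h]))

end CfsgLib.KnownA.AltThreeCycle
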