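import Cfsg.Agent.Lib.KnownA.SemisimpleClasses

/-!
Conjugacy classes of `p'`-elements of `GL_n(q)` and `SL_n(q)` are parametrised by characteristic
polynomials.
-/

set_option autoImplicit false

namespace CfsgLib.SemisimpleClasses

open Polynomial

variable {K : Type*} [Field K]

theorem isSemisimple_toLin' {n : ℕ} (p : ℕ) [Fact p.Prime] [CharP K p] {G : Type*} [Group G]
    [Finite G] (ι : G →* Matrix (Fin n) (Fin n) K) (g : G) (hg : (orderOf g).Coprime p) :
    Module.End.IsSemisimple (Matrix.toLin' (ι g)) := by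
  refine isSemisimple_of_pow_eq_one _ (N := orderOf g) ?_ ?_
  · rw [Ne, CharP.cast_eq_zero_iff K p]
    intro h
    exact (Fact.out : p.Prime).ne_one (Nat.dvd_one.mp (hg ▸ Nat.dvd_gcd h dvd_rfl))
  · show (Matrix.toLinAlgEquiv' (ι g)) ^ orderOf g = 1
    rw [← map_pow, ← map_pow, pow_orderOf_eq_one, map_one, map_one]

theorem exists_intertwining {n : ℕ} {A B : Matrix (Fin n) (Fin n) K}
    (hA : Module.End.IsSemisimple (Matrix.toLin' A))
    (hB : Module.End.IsSemisimple (Matrix.toLin' B)) (hc : A.charpoly = B.charpoly) :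
    ∃ P : GL (Fin n) K, (P : Matrix (Fin n) (Fin n) K) * A = B * P := by
  obtain ⟨e, he⟩ := similar_aux _ _ _ _ _ rfl hA hB
    (by rw [Matrix.charpoly_toLin', Matrix.charpoly_toLin', hc])
  have hu : IsUnit (LinearMap.toMatrix' e.toLinearMap) := by
    refine ⟨⟨_, LinearMap.toMatrix' e.symm.toLinearMap, ?_, ?_⟩, rfl⟩ <;>
      rw [← LinearMap.toMatrix'_comp] <;> simp
  refine ⟨hu.unit, ?_⟩
  apply Matrix.toLin'.injective
  rw [IsUnit.unit_spec, Matrix.toLin'_mul, Matrix.toLin'_mul, Matrix.toLin'_toMatrix']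
  exact LinearMap.ext fun x => he x

theorem isConj_GL {n : ℕ} (p : ℕ) [Fact p.Prime] [CharP K p] [Finite K] (g h : GL (Fin n) K)
    (hg : (orderOf g).Coprime p) (hh : (orderOf h).Coprime p)
    (hc : (g : Matrix (Fin n) (Fin n) K).charpoly = (h : Matrix (Fin n) (Fin n) K).charpoly) :
    IsConj g h := by
  have hA := isSemisimple_toLin' (n := n) (K := K) p (Units.coeHom _) g hg
  have hB := isSemisimple_toLin' (n := n) (K := K) p (Units.coeHom _) h hh
  simp only [Units.coeHom_apply] at hA hB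
  obtain ⟨P, hP⟩ := exists_intertwining hA hB hc
  refine isConj_iff.mpr ⟨P, ?_⟩
  have h1 : P * g = h * P := Units.ext hP
  rw [h1, mul_inv_cancel_right]

theorem isConj_SL {n : ℕ} (p : ℕ) [Fact p.Prime] [CharP K p] [Finite K]
    (g h : Matrix.SpecialLinearGroup (Fin n) K)
    (hg : (orderOf g).Coprime p) (hh : (orderOf h).Coprime p)
    (hc : (g : Matrix (Fin n) (Fin n) K).charpoly = (h : Matrix (Fin n) (Fin n) K).charpoly) :
    IsConj g h := by
  rcases Nat.eq_zero_or_pos n with rfl | hn
  · rw [show g = h from Subsingleton.elim _ _]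
  let ι : Matrix.SpecialLinearGroup (Fin n) K →* Matrix (Fin n) (Fin n) K :=
    { toFun := fun x => (x : Matrix (Fin n) (Fin n) K), map_one' := rfl, map_mul' := fun _ _ => rfl }
  have hgs := isSemisimple_toLin' p ι g hg
  obtain ⟨P, hP⟩ := exists_intertwining hgs (isSemisimple_toLin' p ι h hh) hc
  obtain ⟨φ, hφc, hφd⟩ := exists_centralizer_det (Matrix.toLin' (ι g)) hgs
    (by rwa [Module.finrank_fin_fun]) ((P : Matrix (Fin n) (Fin n) K).det)⁻¹
  let C := LinearMap.toMatrix' φ
  have hC : C * ι g = ι g * C := by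
    have h1 := congrArg LinearMap.toMatrix' hφc
    simpa [LinearMap.toMatrix'_mul, LinearMap.toMatrix'_toLin'] using h1
  have hd : ((P : Matrix (Fin n) (Fin n) K) * C).det = 1 := by
    rw [Matrix.det_mul, LinearMap.det_toMatrix', hφd]
    exact mul_inv_cancel₀ ((Matrix.isUnit_iff_isUnit_det _).mp P.isUnit).ne_zero
  let S : Matrix.SpecialLinearGroup (Fin n) K := ⟨(P : Matrix (Fin n) (Fin n) K) * C, hd⟩
  refine isConj_iff.mpr ⟨S, ?_⟩
  have h1 : S * g = h * S := by
    apply Subtype.ext
    show (P : Matrix (Fin n) (Fin n) K) * C * ι g = ι h * ((P : Matrix (Fin n) (Fin n) K) * C)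
    rw [mul_assoc, hC, ← mul_assoc, hP, mul_assoc]
  rw [h1, mul_inv_cancel_right]

/-- Monic polynomials as matrices. -/
theorem exists_matrix_charpoly {P : K[X]} (hP : P.Monic) {n : ℕ} (hn : P.natDegree = n) :
    ∃ M : Matrix (Fin n) (Fin n) K, M.charpoly = P := by
  subst hn
  have := hP.finite_adjoinRoot
  have := hP.free_adjoinRoot
  let pb := AdjoinRoot.powerBasis' hP
  let b := pb.basis.reindex (finCongr (AdjoinRoot.powerBasis'_dim hP))
  refine ⟨LinearMap.toMatrix b b (LinearMap.mulLeft K (AdjoinRoot.root P)), ?_⟩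
  rw [LinearMap.charpoly_toMatrix, charpoly_mulLeft_root hP]

/-- Taking a high power of the field order gives a `p'`-element with the same characteristic
polynomial. -/
theorem exists_coprime_charpoly [Fintype K] {n : ℕ} (p : ℕ) [Fact p.Prime] [CharP K p] {G : Type*}
    [Group G] [Finite G] (ι : G →* Matrix (Fin n) (Fin n) K) (g : G) :
    ∃ s : G, (orderOf s).Coprime p ∧ (ι s).charpoly = (ι g).charpoly := by
  have hp : p.Prime := Fact.out
  have hN : orderOf g ≠ 0 := (orderOf_pos g).ne'
  let a := (orderOf g).factorization p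
  refine ⟨g ^ (Fintype.card K ^ a), ?_, ?_⟩
  · have hcop : (orderOf g / p ^ a).Coprime p :=
      (Nat.coprime_ordCompl hp hN).symm
    refine Nat.Coprime.coprime_dvd_left ?_ hcop
    rw [orderOf_dvd_iff_pow_eq_one, ← pow_mul, ← orderOf_dvd_iff_pow_eq_one]
    obtain ⟨f, _, hf⟩ := FiniteField.card K p
    conv_lhs => rw [← Nat.ordProj_mul_ordCompl_eq_self (orderOf g) p]
    refine Nat.mul_dvd_mul_right ?_ _
    rw [hf, ← pow_mul]
    exact pow_dvd_pow p (Nat.le_mul_of_pos_left a f.pos)
  · rw [map_pow]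
    have key : ∀ k : ℕ, ∀ M : Matrix (Fin n) (Fin n) K,
        (M ^ (Fintype.card K ^ k)).charpoly = M.charpoly := by
      intro k
      induction k with
      | zero => intro M; rw [pow_zero, pow_one]
      | succ k ih => intro M; rw [pow_succ, pow_mul, FiniteField.Matrix.charpoly_pow_card, ih]
    exact key a _

theorem card_monic_coeff_zero [Fintype K] (k : ℕ) (C : Set K) :
    Nat.card {P : K[X] // P.Monic ∧ P.natDegree = k + 1 ∧ P.coeff 0 ∈ C} =
      Nat.card C * Fintype.card K ^ k := by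
  classical
  let e : {P : K[X] // P.Monic ∧ P.natDegree = k + 1} ≃ (Fin (k + 1) → K) :=
    (Polynomial.monicEquivDegreeLT (k + 1)).trans (Polynomial.degreeLTEquiv K (k + 1)).toEquiv
  have he : ∀ P, e P 0 = (P : K[X]).coeff 0 := by
    intro P
    show (Polynomial.eraseLead (P : K[X])).coeff 0 = _
    rw [Polynomial.eraseLead_coeff_of_ne]
    rw [P.2.2]; exact (Nat.succ_pos k).ne
  let e2 : {P : K[X] // P.Monic ∧ P.natDegree = k + 1 ∧ P.coeff 0 ∈ C} ≃
      C × (Fin k → K) :=
    { toFun := fun P => (⟨(P : K[X]).coeff 0, P.2.2.2⟩, fun i => e ⟨P, P.2.1, P.2.2.1⟩ i.succ)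
      invFun := fun x => ⟨(e.symm (Fin.cons x.1 x.2)).1, (e.symm _).2.1, (e.symm _).2.2, by
        rw [← he (e.symm (Fin.cons x.1 x.2)), e.apply_symm_apply, Fin.cons_zero]; exact x.1.2⟩
      left_inv := fun P => by
        apply Subtype.ext
        show (e.symm _).1 = _
        have h : (Fin.cons ((P : K[X]).coeff 0) (fun i : Fin k => e ⟨P, P.2.1, P.2.2.1⟩ i.succ)
            : Fin (k + 1) → K) = e ⟨P, P.2.1, P.2.2.1⟩ := by
          funext i
          refine Fin.cases ?_ (fun j => ?_) i
          · rw [Fin.cons_zero, he]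
          · rw [Fin.cons_succ]
        rw [h, e.symm_apply_apply]
      right_inv := fun x => by
        refine Prod.ext (Subtype.ext ?_) (funext fun i => ?_)
        · show (e.symm _).1.coeff 0 = _
          rw [← he, e.apply_symm_apply, Fin.cons_zero]
        · show e (e.symm _) i.succ = _
          rw [e.apply_symm_apply, Fin.cons_succ] }
  rw [Nat.card_congr e2, Nat.card_prod, Nat.card_eq_fintype_card (α := Fin k → K),
    Fintype.card_fun, Fintype.card_fin]

end CfsgLib.SemisimpleClasses
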