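import Cfsg.Agent.Lib.KnownA.UnipotentTypes
import Cfsg.Agent.Lib.Classical.SympMatrix
import Cfsg.Agent.Lib.Orth.Bridge
import Cfsg.Prelude.Def_JordanBlocks

/-!
Jordan types in the matrix symplectic and orthogonal groups.
-/

set_option autoImplicit false
set_option linter.unusedSectionVars false

namespace CfsgLib.UnipotentTypes

open Module Matrix CfsgLib.KnownC.JordanNormal

universe u

variable {F : Type u} [Field F]

theorem chains_map {V W : Type*} [AddCommGroup V] [Module F V] [FiniteDimensional F V]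
    [AddCommGroup W] [Module F W] [FiniteDimensional F W] {N : Module.End F V} {M : Module.End F W}
    (φ : V ≃ₗ[F] W) (hφ : ∀ x, φ (N x) = M (φ x)) {t : ℕ} {d : Fin t → ℕ} {v : Fin t → V}
    (h : IsChains N d v) : IsChains M d (fun k => φ (v k)) := by
  have hp : ∀ (n : ℕ) (x : V), φ ((N ^ n) x) = (M ^ n) (φ x) := by
    intro n
    induction n with
    | zero => intro x; rfl
    | succ n ih => intro x; rw [pow_succ', Module.End.mul_apply, hφ, ih, ← Module.End.mul_apply, ← pow_succ']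
  refine ⟨h.pos, fun k => by rw [← hp, h.last, map_zero], ?_⟩
  have : comb M d (fun k => φ (v k)) = φ.toLinearMap.comp (comb N d v) := by
    refine LinearMap.ext fun c => ?_
    rw [LinearMap.comp_apply, comb_apply, comb_apply]
    simp [map_sum, hp]
  rw [this]
  exact φ.bijective.comp h.bij

variable {ι : Type} [Fintype ι] [DecidableEq ι] {t : ℕ} {d : Fin t → ℕ}

theorem chains_reindex_any (hd : ∀ k, 1 ≤ d k) (e : (Σ k : Fin t, Fin (d k)) ≃ ι) :
    ∃ v, IsChains (Matrix.toLin' (Matrix.reindex e e (Cfsg.jordanTypeMatrix d F) - 1)) d v := by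
  let f := Fintype.equivFin ι
  obtain ⟨v, hv⟩ := chains_reindex (F := F) d hd (e.trans f)
  refine ⟨_, chains_map (LinearEquiv.funCongrLeft F F f) (fun x => ?_) hv⟩
  funext i
  rw [LinearEquiv.funCongrLeft_apply, LinearMap.funLeft_apply, Matrix.toLin'_apply, Matrix.toLin'_apply,
    Matrix.sub_mulVec, Matrix.sub_mulVec, Matrix.one_mulVec, Matrix.one_mulVec, Matrix.reindex_apply,
    Matrix.reindex_apply, Matrix.submatrix_mulVec_equiv, Matrix.submatrix_mulVec_equiv]
  simp [LinearEquiv.funCongrLeft_apply, LinearMap.funLeft, Function.comp_def]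

theorem chains_of_conj (hd : ∀ k, 1 ≤ d k) {e : (Σ k : Fin t, Fin (d k)) ≃ ι} {A : Matrix ι ι F}
    (h : IsConj (Matrix.reindex e e (Cfsg.jordanTypeMatrix d F)) A) :
    ∃ v, IsChains (Matrix.toLin' (A - 1)) d v := by
  obtain ⟨c, hc⟩ := h
  obtain ⟨v, hv⟩ := chains_reindex_any (F := F) hd e
  let φ : (ι → F) ≃ₗ[F] (ι → F) := Matrix.toLin'OfInv (M' := (c : Matrix ι ι F))
    (M := ((c⁻¹ : (Matrix ι ι F)ˣ) : Matrix ι ι F)) c.inv_mul c.mul_inv
  refine ⟨_, chains_map φ (fun x => ?_) hv⟩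
  have hφ : ∀ y, φ y = (c : Matrix ι ι F) *ᵥ y := fun y => by
    simp [φ, Matrix.toLin'OfInv]
  rw [hφ, hφ]
  rw [Matrix.toLin'_apply, Matrix.toLin'_apply, Matrix.mulVec_mulVec, Matrix.mulVec_mulVec,
    Matrix.mul_sub, Matrix.sub_mul, hc.eq, Matrix.mul_one, Matrix.one_mul]

theorem conj_of_chains (hd : ∀ k, 1 ≤ d k) (e : (Σ k : Fin t, Fin (d k)) ≃ ι) (A : Matrix ι ι F)
    {t' : ℕ} {d' : Fin t' → ℕ} {w : Fin t' → ι → F} (h : IsChains (Matrix.toLin' (A - 1)) d' w)
    (hmap : Finset.univ.val.map d = Finset.univ.val.map d') :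
    IsConj (Matrix.reindex e e (Cfsg.jordanTypeMatrix d F)) A := by
  obtain ⟨v, hv⟩ := chains_reindex_any (F := F) hd e
  obtain ⟨φ, hφ⟩ := exists_equiv_conj hv h hmap
  refine ⟨⟨LinearMap.toMatrix' φ.toLinearMap, LinearMap.toMatrix' φ.symm.toLinearMap,
    by rw [← LinearMap.toMatrix'_comp]; simp, by rw [← LinearMap.toMatrix'_comp]; simp⟩, ?_⟩
  refine Matrix.toLin'.injective (LinearMap.ext fun x => ?_)
  have e' := hφ x
  simp only [map_sub, Matrix.toLin'_one, LinearMap.sub_apply, LinearMap.id_apply] at e'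
  simp only [Matrix.toLin'_mul, LinearMap.comp_apply, Matrix.toLin'_toMatrix', LinearEquiv.coe_coe]
  linear_combination (norm := abel) e'

theorem count_eq (j : ℕ) :
    (Finset.univ.val.map d).count j = (Finset.univ.filter (fun k : Fin t => d k = j)).card := by
  rw [Multiset.count_map]
  simp [Finset.card_def, eq_comm]

theorem exists_index (hsum : ∑ k, d k = Fintype.card ι) : Nonempty ((Σ k : Fin t, Fin (d k)) ≃ ι) :=
  ⟨Fintype.equivOfCardEq (by simpa using hsum)⟩

theorem pos_mem (hd : ∀ k, 1 ≤ d k) : ∀ j ∈ Finset.univ.val.map d, 1 ≤ j := by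
  intro j hj
  obtain ⟨k, -, rfl⟩ := Multiset.mem_map.1 hj
  exact hd k

theorem symp_types {m : ℕ} (hd : ∀ k, 1 ≤ d k) (hsum : ∑ k, d k = 2 * m) :
    (∃ e : ((k : Fin t) × Fin (d k)) ≃ (Fin m ⊕ Fin m), ∃ A : Matrix.symplecticGroup (Fin m) F,
      IsConj (Matrix.reindex e e (Cfsg.jordanTypeMatrix d F))
        (A : Matrix (Fin m ⊕ Fin m) (Fin m ⊕ Fin m) F)) ↔
      ∀ j : ℕ, Odd j → Even (Finset.univ.filter (fun k : Fin t => d k = j)).card := by
  constructor
  · rintro ⟨e, A, hA⟩ j hj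
    obtain ⟨v, hv⟩ := chains_of_conj hd hA
    obtain ⟨k, rfl⟩ := hj
    let u := (CfsgLib.Classical.spEquiv m A).1
    have hu : ∀ x, u x = x + Matrix.toLin' ((A : Matrix (Fin m ⊕ Fin m) (Fin m ⊕ Fin m) F) - 1) x := fun x => by
      show (CfsgLib.Classical.spEquiv m A).1 x = _
      rw [CfsgLib.Classical.spEquiv_apply, Matrix.toLin'_apply, Matrix.sub_mulVec, Matrix.one_mulVec]
      abel
    refine even_count (B := CfsgLib.Classical.sympBil F m) (CfsgLib.Classical.sympBil_nondegenerate m) u hu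
      (CfsgLib.Classical.spEquiv m A).2 hv _ (by omega) fun x hx => ?_
    rw [Nat.add_sub_cancel]
    exact zero_of_alt (CfsgLib.Classical.sympBil_isAlt m) u hu (CfsgLib.Classical.spEquiv m A).2 k x hx
  · intro h
    obtain ⟨V, _, _, _, N, t', d', v, B, hc, hs, hA, hB, hi⟩ := real_of_counts (F := F) .alt Even
      (fun j hj he => by obtain ⟨c, rfl⟩ := he; rw [← two_mul]; exact real_alt_even (by omega))
      (fun j hj => real_alt_pair hj) (Finset.univ.val.map d) (pos_mem hd)
      (fun j _ hj => by rw [count_eq]; exact h j (Nat.not_even_iff_odd.1 hj))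
    obtain ⟨m', b, hb⟩ := CfsgLib.Classical.exists_sympBasis hA hB
    obtain rfl : m' = m := by
      have h1 := finrank_eq_card_basis b
      have h2 := hc.sum_eq
      have h3 : ∑ k, d' k = 2 * m := by rw [← hsum]; exact congrArg Multiset.sum hs
      simp at h1; omega
    let φ := b.equiv ((Pi.basisFun F (Fin m' ⊕ Fin m')).reindex (Equiv.sumComm _ _)) (Equiv.refl _)
    have hstd : CfsgLib.Classical.IsSympFamily (CfsgLib.Classical.sympBil F m')
        ((Pi.basisFun F (Fin m' ⊕ Fin m')).reindex (Equiv.sumComm _ _)) := by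
      refine ⟨fun i j => ?_, fun i j => ?_, fun i j => ?_⟩ <;>
        simp [CfsgLib.Classical.sympBil_apply, Cfsg.sympForm, Matrix.J, Matrix.one_apply, eq_comm]
    have hφ : ∀ x y, CfsgLib.Classical.sympBil F m' (φ x) (φ y) = B x y :=
      hb.basisEquiv_mem hA (CfsgLib.Classical.sympBil_isAlt m') b _ hstd
    let u : V ≃ₗ[F] V := LinearEquiv.ofInjectiveEndo (1 + N : Module.End F V)
      ((injective_iff_map_eq_zero _).2 fun x hx => hB.1 x fun y => by
        rw [← hi x y, show x + N x = 0 from hx]; simp)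
    let g : CfsgLib.Classical.isomGroup (CfsgLib.Classical.sympBil F m') :=
      ⟨φ.symm.trans (u.trans φ), fun x y => by
        obtain ⟨x, rfl⟩ := φ.surjective x
        obtain ⟨y, rfl⟩ := φ.surjective y
        show CfsgLib.Classical.sympBil F m' (φ (u (φ.symm (φ x)))) (φ (u (φ.symm (φ y)))) = _
        rw [φ.symm_apply_apply, φ.symm_apply_apply, hφ, hφ]; exact hi x y⟩
    obtain ⟨e⟩ := exists_index (ι := Fin m' ⊕ Fin m') (d := d) (by simp [hsum, two_mul])
    refine ⟨e, (CfsgLib.Classical.spEquiv m').symm g, conj_of_chains hd e _ (chains_map φ (fun x => ?_) hc)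
      hs.symm⟩
    rw [Matrix.toLin'_apply, Matrix.sub_mulVec, Matrix.one_mulVec, ← CfsgLib.Classical.spEquiv_apply,
      MulEquiv.apply_symm_apply]
    show φ (N x) = φ (u (φ.symm (φ x))) - φ x
    rw [φ.symm_apply_apply, ← map_sub]
    congr 1
    show N x = x + N x - x
    abel

section Orth

variable {n : ℕ}

theorem orth_nec {Q : QuadraticForm F (Fin n → F)} (hQ : (QuadraticMap.polarBilin Q).Nondegenerate)
    (hd : ∀ k, 1 ≤ d k) {e : ((k : Fin t) × Fin (d k)) ≃ Fin n} (A : ↥(Cfsg.isometryGroup F ⇑Q))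
    (hA : IsConj (Matrix.reindex e e (Cfsg.jordanTypeMatrix d F))
      ((A : Matrix.GeneralLinearGroup (Fin n) F) : Matrix (Fin n) (Fin n) F)) :
    ∃ (u : (Fin n → F) ≃ₗ[F] (Fin n → F)) (N : Module.End F (Fin n → F)) (v : Fin t → Fin n → F),
      IsChains N d v ∧ (∀ x, u x = x + N x) ∧
        ∀ x y, QuadraticMap.polarBilin Q (u x) (u y) = QuadraticMap.polarBilin Q x y := by
  obtain ⟨v, hv⟩ := chains_of_conj hd hA
  let g := CfsgLib.Orth.toOrth Q (fun _ => rfl) A
  refine ⟨g.1, _, v, hv, fun x => ?_, fun x y => CfsgLib.Orth.polar_isom g x y⟩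
  rw [CfsgLib.Orth.toOrth_apply, Matrix.toLin'_apply, Matrix.sub_mulVec, Matrix.one_mulVec]
  abel

theorem orth_suff (hd : ∀ k, 1 ≤ d k) (hsum : ∑ k, d k = n)
    (hR : Real F .quad (Finset.univ.val.map d)) :
    ∃ Q : QuadraticForm F (Fin n → F), (QuadraticMap.polarBilin Q).Nondegenerate ∧
      ∃ e : ((k : Fin t) × Fin (d k)) ≃ Fin n, ∃ A : ↥(Cfsg.isometryGroup F ⇑Q),
        IsConj (Matrix.reindex e e (Cfsg.jordanTypeMatrix d F))
          ((A : Matrix.GeneralLinearGroup (Fin n) F) : Matrix (Fin n) (Fin n) F) := by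
  obtain ⟨V, _, _, _, N, t', d', v, Q, hc, hs, hQ, hi⟩ := hR
  have hdim : finrank F V = n := by
    rw [← hc.sum_eq, ← hsum]; exact congrArg Multiset.sum hs
  let φ : V ≃ₗ[F] (Fin n → F) := (Module.finBasisOfFinrankEq F V hdim).equivFun
  let Q' : QuadraticForm F (Fin n → F) := Q.comp φ.symm.toLinearMap
  have hpol : ∀ x y, QuadraticMap.polar Q' (φ x) (φ y) = QuadraticMap.polar Q x y := fun x y => by
    simp [QuadraticMap.polar, Q', ← map_add]
  have hQ' : (QuadraticMap.polarBilin Q').Nondegenerate := by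
    refine ⟨fun x hx => ?_, fun x hx => ?_⟩ <;> obtain ⟨x, rfl⟩ := φ.surjective x
    · rw [hQ.1 x fun y => (hpol x y).symm.trans (hx (φ y)), map_zero]
    · rw [hQ.2 x fun y => (hpol y x).symm.trans (hx (φ y)), map_zero]
  have hinj : Function.Injective (1 + N : Module.End F V) :=
    (injective_iff_map_eq_zero _).2 fun x hx => hQ.1 x fun y => by
      have h1 : QuadraticMap.polar Q (x + N x) (y + N y) = QuadraticMap.polar Q x y := by
        simp only [QuadraticMap.polar, hi]
        rw [show x + N x + (y + N y) = (x + y) + N (x + y) by rw [map_add]; abel, hi]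
      show QuadraticMap.polar Q x y = 0
      rw [← h1, show x + N x = 0 from hx]; exact QuadraticMap.polar_zero_left _ _
  let u : V ≃ₗ[F] V := LinearEquiv.ofInjectiveEndo _ hinj
  let g : CfsgLib.Orth.orthGroup Q' := ⟨φ.symm.trans (u.trans φ), fun x => by
    show Q (φ.symm (φ (u (φ.symm x)))) = Q (φ.symm x)
    rw [φ.symm_apply_apply]; exact hi _⟩
  obtain ⟨e⟩ := exists_index (ι := Fin n) (d := d) (by simp [hsum])
  refine ⟨Q', hQ', e, (CfsgLib.Orth.toOrth Q' fun _ => rfl).symm g,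
    conj_of_chains hd e _ (chains_map φ (fun x => ?_) hc) hs.symm⟩
  rw [Matrix.toLin'_apply, Matrix.sub_mulVec, Matrix.one_mulVec, ← CfsgLib.Orth.toOrth_apply Q' (fun _ => rfl),
    MulEquiv.apply_symm_apply]
  show φ (N x) = φ (u (φ.symm (φ x))) - φ x
  rw [φ.symm_apply_apply, ← map_sub]
  congr 1
  show N x = x + N x - x
  abel

theorem orth_types_two [CharP F 2] {m : ℕ} (hd : ∀ k, 1 ≤ d k) (hsum : ∑ k, d k = 2 * m) :
    (∃ Q : QuadraticForm F (Fin (2 * m) → F), (QuadraticMap.polarBilin Q).Nondegenerate ∧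
      ∃ e : ((k : Fin t) × Fin (d k)) ≃ Fin (2 * m), ∃ A : ↥(Cfsg.isometryGroup F ⇑Q),
        IsConj (Matrix.reindex e e (Cfsg.jordanTypeMatrix d F))
          ((A : Matrix.GeneralLinearGroup (Fin (2 * m)) F) : Matrix (Fin (2 * m)) (Fin (2 * m)) F)) ↔
      ∀ j : ℕ, Odd j → Even (Finset.univ.filter (fun k : Fin t => d k = j)).card := by
  constructor
  · rintro ⟨Q, hQ, e, A, hA⟩ j ⟨k, rfl⟩
    obtain ⟨u, N, v, hv, hu, hi⟩ := orth_nec hQ hd A hA
    refine even_count hQ u hu hi hv _ (by omega) fun x hx => ?_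
    rw [Nat.add_sub_cancel]
    exact zero_of_alt (fun y => by
      rw [QuadraticMap.polarBilin_apply_apply, CfsgLib.Orth.polar_self', CharTwo.two_eq_zero, zero_mul])
      u hu hi k x hx
  · intro h
    exact orth_suff hd hsum (real_of_counts .quad Even
      (fun j hj he => by obtain ⟨c, rfl⟩ := he; rw [← two_mul]; exact real_quad_even (by omega))
      (fun j hj => real_quad_pair hj) _ (pos_mem hd)
      (fun j _ hj => by rw [count_eq]; exact h j (Nat.not_even_iff_odd.1 hj)))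

theorem orth_types_odd (h2 : (2 : F) ≠ 0) (hd : ∀ k, 1 ≤ d k) (hsum : ∑ k, d k = n) :
    (∃ Q : QuadraticForm F (Fin n → F), (QuadraticMap.polarBilin Q).Nondegenerate ∧
      ∃ e : ((k : Fin t) × Fin (d k)) ≃ Fin n, ∃ A : ↥(Cfsg.isometryGroup F ⇑Q),
        IsConj (Matrix.reindex e e (Cfsg.jordanTypeMatrix d F))
          ((A : Matrix.GeneralLinearGroup (Fin n) F) : Matrix (Fin n) (Fin n) F)) ↔
      ∀ j : ℕ, Even j → 0 < j → Even (Finset.univ.filter (fun k : Fin t => d k = j)).card := by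
  constructor
  · rintro ⟨Q, hQ, e, A, hA⟩ j ⟨c, rfl⟩ hj0
    obtain ⟨k, rfl⟩ : ∃ k, c = k + 1 := ⟨c - 1, by omega⟩
    obtain ⟨u, N, v, hv, hu, hi⟩ := orth_nec hQ hd A hA
    refine even_count hQ u hu hi hv _ (by omega) fun x hx => ?_
    rw [show k + 1 + (k + 1) - 1 = 2 * k + 1 by omega]
    exact zero_of_symm h2 (fun y z => QuadraticMap.polar_comm Q y z) u hu hi k x
      (by rwa [show 2 * k + 2 = k + 1 + (k + 1) by omega])
  · intro h
    exact orth_suff hd hsum (real_of_counts .quad Odd (fun j _ hodd => real_quad_odd h2 hodd)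
      (fun j hj => real_quad_pair hj) _ (pos_mem hd)
      (fun j hj hodd => by rw [count_eq]; exact h j (Nat.not_odd_iff_even.1 hodd) hj))

end Orth

end CfsgLib.UnipotentTypes
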