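import Cfsg.Agent.Lib.Schur.Bound
import Cfsg.Agent.Lib.Schur.Metacyclic
import Cfsg.Agent.Lib.Sporadic.M11Out
import Cfsg.Agent.Lib.SmallGroups.MathieuSimple

/-!
# The multiplier of `M₁₁`
-/

set_option autoImplicit false
set_option maxRecDepth 100000

open Subgroup
open scoped commutatorElement

namespace CfsgLib.KnownA.M11Multiplier

open CfsgLib.SmallGroups.Golay CfsgLib.SmallGroups.GolayOctads CfsgLib.SmallGroups.M24Group

universe u v

/-- Two commuting elements of order `p` odd, one inverted and the other centralised by a third: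
their lifts to a central extension commute. -/
theorem commute_of_inverting {Q : Type u} [Group Q] {X : Type v} [Group X] (σ : X →* Q)
    (hk : σ.ker ≤ center X) {a b k : X} (hab : Commute (σ a) (σ b)) {p : ℕ}
    (hp : Odd p) (hap : σ a ^ p = 1) (hka : σ (k * a * k⁻¹) = (σ a)⁻¹)
    (hkb : σ (k * b * k⁻¹) = σ b) : Commute a b := by
  have hcen : ∀ {z : X}, σ z = 1 → ∀ w, Commute z w := fun hz w =>
    (Subgroup.mem_center_iff.1 (hk hz) w).symm
  set c := ⁅a, b⁆ with hc
  have hcc : ∀ w, Commute c w := hcen (by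
    rw [hc, map_commutatorElement, commutatorElement_eq_one_iff_mul_comm]; exact hab.eq)
  -- conjugation by `k` inverts the commutator
  obtain ⟨z, hz, ez⟩ : ∃ z, σ z = 1 ∧ k * a * k⁻¹ = a⁻¹ * z :=
    ⟨a * (k * a * k⁻¹), by rw [map_mul, hka, mul_inv_cancel], (inv_mul_cancel_left _ _).symm⟩
  obtain ⟨w, hw, ew⟩ : ∃ w, σ w = 1 ∧ k * b * k⁻¹ = b * w :=
    ⟨b⁻¹ * (k * b * k⁻¹), by rw [map_mul, hkb, map_inv, inv_mul_cancel],
      (mul_inv_cancel_left _ _).symm⟩
  have h1 : c = c⁻¹ := by
    calc c = k * c * k⁻¹ := by rw [← (hcc k).eq, mul_inv_cancel_right]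
      _ = ⁅a⁻¹ * z, b * w⁆ := by rw [hc, conjugate_commutatorElement, ez, ew]
      _ = a⁻¹ * (z * (b * w) * z⁻¹) * a * (w⁻¹ * b⁻¹) := by
          simp only [commutatorElement_def]; group
      _ = a⁻¹ * (b * w) * a * (w⁻¹ * b⁻¹) := by rw [(hcen hz _).eq, mul_inv_cancel_right]
      _ = a⁻¹ * b * (w * a * w⁻¹) * b⁻¹ := by group
      _ = a⁻¹ * b * a * b⁻¹ := by rw [(hcen hw _).eq, mul_inv_cancel_right]
      _ = a⁻¹ * (b * a * b⁻¹ * a⁻¹) * a := by group
      _ = a⁻¹ * c⁻¹ * a := by rw [hc, commutatorElement_inv, commutatorElement_def]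
      _ = c⁻¹ := by rw [((hcc a⁻¹).inv_left).symm.eq, inv_mul_cancel_right]
  have h2 : c ^ 2 = 1 := by rw [pow_two]; nth_rw 2 [h1]; exact mul_inv_cancel c
  have hpow : ∀ n : ℕ, a ^ n * b * (a ^ n)⁻¹ = c ^ n * b := by
    intro n
    induction n with
    | zero => simp
    | succ n ih =>
      rw [pow_succ', mul_inv_rev, show a * a ^ n * b * ((a ^ n)⁻¹ * a⁻¹) =
        a * (a ^ n * b * (a ^ n)⁻¹) * a⁻¹ by group, ih, ← mul_assoc a, ← ((hcc a).pow_left n).eq,
        pow_succ]
      simp only [hc, commutatorElement_def]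
      group
  have h3 : c ^ p = 1 := by
    have := hpow p
    rw [(hcen (by rw [map_pow, hap]) b).eq, mul_inv_cancel_right] at this
    exact mul_eq_right.mp this.symm
  obtain ⟨m, rfl⟩ := hp
  rw [pow_succ, pow_mul, h2, one_pow, one_mul] at h3
  exact commutatorElement_eq_one_iff_commute.1 h3

def tbl (l : List ℕ) : Cfsg.GolayPt → Cfsg.GolayPt := fun p => pt (l.getD (idx p) 0)

/-- Order eight. -/
def lX : List ℕ := [0, 1, 3, 2, 8, 17, 13, 19, 6, 18, 15, 21, 16, 12, 23, 11, 9, 14, 4, 22, 10, 7, 20, 5]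

/-- Its inverse. -/
def lXi : List ℕ := [0, 1, 3, 2, 18, 23, 8, 21, 4, 16, 20, 15, 13, 6, 17, 10, 12, 5, 9, 7, 22, 11, 19, 14]

/-- An involution acting on it as the cube. -/
def lY : List ℕ := [0, 1, 3, 2, 4, 5, 9, 10, 13, 6, 7, 11, 12, 8, 14, 20, 18, 23, 16, 21, 15, 19, 22, 17]

/-- Order three. -/
def lA : List ℕ := [0, 1, 2, 4, 12, 15, 16, 7, 9, 13, 10, 22, 3, 8, 21, 19, 18, 17, 6, 5, 14, 20, 23, 11]

/-- Order three, commuting with the first. -/
def lB : List ℕ := [0, 1, 2, 13, 8, 19, 4, 17, 6, 16, 7, 22, 9, 18, 14, 5, 12, 10, 3, 15, 20, 21, 23, 11]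

/-- An involution inverting the first and centralising the second. -/
def lG : List ℕ := [0, 2, 1, 3, 12, 23, 16, 7, 9, 8, 10, 19, 4, 13, 14, 22, 6, 17, 18, 11, 21, 20, 15, 5]

def permX : Equiv.Perm Cfsg.GolayPt := ⟨tbl lX, tbl lXi, by decide +kernel, by decide +kernel⟩
def permY : Equiv.Perm Cfsg.GolayPt := ⟨tbl lY, tbl lY, by decide +kernel, by decide +kernel⟩
def permA : Equiv.Perm Cfsg.GolayPt :=
  ⟨tbl lA, fun p => tbl lA (tbl lA p), by decide +kernel, by decide +kernel⟩
def permB : Equiv.Perm Cfsg.GolayPt :=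
  ⟨tbl lB, fun p => tbl lB (tbl lB p), by decide +kernel, by decide +kernel⟩
def permG : Equiv.Perm Cfsg.GolayPt := ⟨tbl lG, tbl lG, by decide +kernel, by decide +kernel⟩

theorem mem_m11 {g : Equiv.Perm Cfsg.GolayPt} (h : ∀ i < 12, isCW (mask fun p => word (bas i) (g p)) = true)
    (hs : Cfsg.Spor.squareDodecad.image g = Cfsg.Spor.squareDodecad) (h0 : g (some 0) = some 0) :
    g ∈ Cfsg.Spor.M11 :=
  ⟨⟨mem_M24_of_basis (fun _ => rfl) h, hs⟩, h0⟩

def eX : Cfsg.Spor.M11 := ⟨permX, mem_m11 (by decide +kernel) (by decide +kernel) (by decide +kernel)⟩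
def eY : Cfsg.Spor.M11 := ⟨permY, mem_m11 (by decide +kernel) (by decide +kernel) (by decide +kernel)⟩
def eA : Cfsg.Spor.M11 := ⟨permA, mem_m11 (by decide +kernel) (by decide +kernel) (by decide +kernel)⟩
def eB : Cfsg.Spor.M11 := ⟨permB, mem_m11 (by decide +kernel) (by decide +kernel) (by decide +kernel)⟩
def eG : Cfsg.Spor.M11 := ⟨permG, mem_m11 (by decide +kernel) (by decide +kernel) (by decide +kernel)⟩

theorem orderOf_eX : orderOf eX = 2 ^ 3 := by
  refine orderOf_eq_prime_pow (n := 2) ?_ ?_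
  · intro h
    have h' : permX ^ (2 ^ 2) = 1 := congrArg Subtype.val h
    revert h'
    decide +kernel
  · apply Subtype.ext
    show permX ^ (2 ^ (2 + 1)) = 1
    decide +kernel

theorem eY_sq : eY ^ 2 = 1 := by
  apply Subtype.ext
  show permY ^ 2 = 1
  decide +kernel

theorem eY_conj : eY * eX * eY⁻¹ = eX ^ 3 := by
  apply Subtype.ext
  show permY * permX * permY⁻¹ = permX ^ 3
  decide +kernel

theorem eX_two : ⁅eY, eX⁆ = eX ^ 2 := by
  apply Subtype.ext
  show permY * permX * permY⁻¹ * permX⁻¹ = permX ^ 2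
  decide +kernel

theorem eY_not_mem : ∀ k : Fin 8, eY ≠ eX ^ (k : ℕ) := by
  intro k h
  have h' : permY = permX ^ (k : ℕ) := congrArg Subtype.val h
  revert h' k
  decide +kernel

theorem eA_cube : eA ^ 3 = 1 := by
  apply Subtype.ext
  show permA ^ 3 = 1
  decide +kernel

theorem eB_cube : eB ^ 3 = 1 := by
  apply Subtype.ext
  show permB ^ 3 = 1
  decide +kernel

theorem eA_eB : eA * eB = eB * eA := by
  apply Subtype.ext
  show permA * permB = permB * permA
  decide +kernel

theorem eG_eA : eG * eA * eG⁻¹ = eA⁻¹ := by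
  apply Subtype.ext
  show permG * permA * permG⁻¹ = permA⁻¹
  decide +kernel

theorem eG_eB : eG * eB * eG⁻¹ = eB := by
  apply Subtype.ext
  show permG * permB * permG⁻¹ = permB
  decide +kernel

theorem eB_not_mem : ∀ k : Fin 3, eB ≠ eA ^ (k : ℕ) := by
  intro k h
  have h' : permB = permA ^ (k : ℕ) := congrArg Subtype.val h
  revert h' k
  decide +kernel

/-- A subgroup generated by two elements, the second normalising the first. -/
theorem isPGroup_closure_pair {G : Type u} [Group G] {p : ℕ} [Fact p.Prime] {x y : G} {i j : ℕ}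
    (hx : orderOf x ∣ p ^ i) (hy : orderOf y ∣ p ^ j) (hn : ∃ r : ℕ, y * x * y⁻¹ = x ^ r) :
    IsPGroup p (closure ({x, y} : Set G)) := by
  rw [Set.insert_eq, Subgroup.closure_union, ← zpowers_eq_closure, ← zpowers_eq_closure]
  have hpg : ∀ (z : G) (n : ℕ), orderOf z ∣ p ^ n → IsPGroup p (zpowers z) := fun z n hz => by
    obtain ⟨m, -, hm⟩ := (Nat.dvd_prime_pow Fact.out).1 hz
    exact IsPGroup.of_card (n := m) (by rw [Nat.card_zpowers, hm])
  refine IsPGroup.to_sup_of_normal_left' (hpg x i hx) (hpg y j hy) ?_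
  haveI : Finite (zpowers x) := finite_zpowers.2 (orderOf_pos_iff.1 (Nat.pos_of_ne_zero fun h => by
    rw [h, zero_dvd_iff] at hx
    exact (pow_ne_zero i (Nat.Prime.ne_zero Fact.out)) hx))
  rw [zpowers_le]
  refine mem_normalizer_fintype (S := (zpowers x : Set G)) fun n hn' => ?_
  obtain ⟨k, rfl⟩ := mem_zpowers_iff.mp hn'
  obtain ⟨r, hr⟩ := hn
  rw [← conj_zpow, hr]
  exact zpow_mem (pow_mem (mem_zpowers x) _) k

theorem card_not_prime {G : Type u} [Group G] [Finite G] {p : ℕ} [Fact p.Prime] {x y : G} {i : ℕ}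
    (hx : orderOf x = p ^ i) (hyn : y ∉ zpowers x) {H : Subgroup G} (hH : IsPGroup p H)
    (hxH : x ∈ H) (hyH : y ∈ H) : p ^ (i + 1) ∣ Nat.card H := by
  obtain ⟨m, hm⟩ := IsPGroup.iff_card.1 hH
  have hle : zpowers x ≤ H := zpowers_le.2 hxH
  have hlt : Nat.card (zpowers x) < Nat.card H := by
    refine lt_of_le_of_ne (Nat.card_le_card_of_injective _ (inclusion_injective hle)) fun h => hyn ?_
    rw [eq_of_le_of_card_ge hle h.ge]
    exact hyH
  rw [Nat.card_zpowers, hx, hm] at hlt
  rw [hm]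
  exact pow_dvd_pow _ ((Nat.pow_lt_pow_iff_right (Nat.Prime.one_lt Fact.out)).1 hlt)

theorem not_mem_zpowers {G : Type u} [Group G] {x y : G} {n : ℕ} (hn : 0 < n) (hx : x ^ n = 1)
    (h : ∀ k : Fin n, y ≠ x ^ (k : ℕ)) : y ∉ zpowers x := by
  rintro ⟨k, hk⟩
  have h0 : (0 : ℤ) ≤ k % n := Int.emod_nonneg _ (by exact_mod_cast hn.ne')
  refine h ⟨(k % n).toNat, ?_⟩ ?_
  · have := Int.emod_lt_of_pos k (by exact_mod_cast hn : (0 : ℤ) < n)
    omega
  · rw [← zpow_natCast, Int.toNat_of_nonneg h0]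
    change x ^ k = y at hk
    conv_lhs => rw [← hk, ← Int.emod_add_mul_ediv k n, zpow_add, zpow_mul, zpow_natCast, hx,
      one_zpow, mul_one]

/-- `M₁₁` has trivial multiplier. -/
theorem multiplier_trivial : Cfsg.HasCyclicSchurMultiplier ↥Cfsg.Spor.M11 1 := by
  classical
  have hcard := CfsgLib.Sporadic.M11Out.card_M11
  have : Finite Cfsg.Spor.M11 := Nat.finite_of_card_ne_zero (by rw [hcard]; norm_num)
  refine CfsgLib.Schur.Basic.hasCyclicSchurMultiplier_one_of fun X _ _ σ hσ => ?_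
  obtain ⟨hs, hk, hc⟩ := hσ
  rw [eq_bot_iff]
  intro z hz
  rw [Subgroup.mem_bot]
  refine CfsgLib.Schur.Bound.eq_one_of_pow_index z (Nat.card Cfsg.Spor.M11) Nat.card_pos.ne'
    (fun r hr hrd => ?_) (CfsgLib.Schur.Bound.pow_card_eq_one σ hs hk hz (hc hz))
  have := Fact.mk hr
  rw [hcard] at hrd
  by_cases hr2 : r = 2
  · subst hr2
    set T := closure ({eX, eY} : Set Cfsg.Spor.M11) with hT
    have hpT : IsPGroup 2 T := isPGroup_closure_pair (i := 3) (j := 1) orderOf_eX.dvd
      (orderOf_dvd_of_pow_eq_one (by rw [pow_one]; exact eY_sq)) ⟨3, eY_conj⟩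
    have hd : 2 ^ 4 ∣ Nat.card T := card_not_prime orderOf_eX
      (not_mem_zpowers (n := 8) (by norm_num)
        (by rw [show (8 : ℕ) = orderOf eX from orderOf_eX.symm, pow_orderOf_eq_one]) eY_not_mem)
      hpT (subset_closure (by simp)) (subset_closure (by simp))
    refine ⟨T.index, ?_, ?_⟩
    · intro h
      have h2 := Nat.mul_dvd_mul hd h
      rw [Subgroup.card_mul_index, hcard] at h2
      norm_num at h2
    have hmult : Cfsg.HasCyclicSchurMultiplier T 1 := by
      refine CfsgLib.Schur.Basic.hasCyclicSchurMultiplier_one_of fun Y _ _ τ hτ => ?_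
      let A : T := ⟨eX, subset_closure (by simp)⟩
      let B : T := ⟨eY, subset_closure (by simp)⟩
      have hgen : closure ({A, B} : Set T) = ⊤ := by
        rw [← (Subgroup.map_injective (subtype_injective T)).eq_iff, MonoidHom.map_closure,
          ← MonoidHom.range_eq_map, Subgroup.range_subtype, Set.image_insert_eq, Set.image_singleton]
        rfl
      have h := CfsgLib.Schur.Metacyclic.card_ker_mul_dvd τ hτ A B hgen 3 8 2 0
        (Subtype.ext eY_conj)
        (Subtype.ext (by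
          show eX ^ 8 = 1
          rw [show (8 : ℕ) = orderOf eX from orderOf_eX.symm, pow_orderOf_eq_one]))
        (Subtype.ext (by show eY ^ 2 = eX ^ 0; rw [pow_zero, eY_sq]))
      have hord : orderOf ⁅B, A⁆ = 4 := by
        have hBA : ((⁅B, A⁆ : T) : Cfsg.Spor.M11) = eX ^ 2 := by
          rw [← eX_two]; rfl
        rw [← Subgroup.orderOf_coe, hBA, orderOf_pow, orderOf_eX]
        norm_num
      rw [hord] at h
      have h' : Nat.card τ.ker * 4 ∣ 1 * 4 := by
        refine h.trans (dvd_of_eq ?_)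
        decide
      exact Subgroup.eq_bot_of_card_eq _
        (Nat.dvd_one.1 (Nat.dvd_of_mul_dvd_mul_right (by norm_num) h'))
    let f : T.comap σ →* T := (σ.comp (T.comap σ).subtype).codRestrict T fun x => x.2
    have hfs : Function.Surjective f := fun t => by
      obtain ⟨x, hx⟩ := hs t
      exact ⟨⟨x, by rw [Subgroup.mem_comap, hx]; exact t.2⟩, Subtype.ext hx⟩
    have hfk : f.ker ≤ center (T.comap σ) := fun x hx => mem_center_iff.mpr fun y => Subtype.ext
      (mem_center_iff.mp (hk (show σ x.1 = 1 from congrArg Subtype.val hx)) y.1)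
    obtain ⟨w, hw, hwz⟩ := CfsgLib.Schur.Bound.pow_index_mem σ hs T (hk hz) (hc hz)
    have hmem : w ∈ f.ker ⊓ commutator (T.comap σ) := ⟨Subtype.ext (by
      show σ w.1 = 1
      change w.1 = z ^ T.index at hwz
      rw [hwz, map_pow, MonoidHom.mem_ker.1 hz, one_pow]), hw⟩
    rw [CfsgLib.Schur.Basic.ker_inf_commutator_eq_bot hmult f hfs hfk, mem_bot] at hmem
    rw [← hwz, hmem, map_one]
  by_cases hr3 : r = 3
  · subst hr3
    set U := closure ({eA, eB} : Set Cfsg.Spor.M11) with hU
    have hA1 : eA ≠ 1 := fun h => by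
      have h' : permA = 1 := congrArg Subtype.val h
      revert h'
      decide +kernel
    have hoA : orderOf eA = 3 ^ 1 := orderOf_eq_prime eA_cube hA1
    have hpU : IsPGroup 3 U := isPGroup_closure_pair (i := 1) (j := 1) hoA.dvd
      (orderOf_dvd_of_pow_eq_one eB_cube) ⟨1, by rw [pow_one, ← eA_eB, mul_inv_cancel_right]⟩
    have hd : 3 ^ 2 ∣ Nat.card U := card_not_prime hoA
      (not_mem_zpowers (n := 3) (by norm_num) eA_cube eB_not_mem)
      hpU (subset_closure (by simp)) (subset_closure (by simp))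
    refine ⟨U.index, ?_, ?_⟩
    · intro h
      have h2 := Nat.mul_dvd_mul hd h
      rw [Subgroup.card_mul_index, hcard] at h2
      norm_num at h2
    obtain ⟨a, ha⟩ := hs eA
    obtain ⟨b, hb⟩ := hs eB
    obtain ⟨k, hk'⟩ := hs eG
    have hab : Commute a b := commute_of_inverting σ hk (k := k) (p := 3)
      (by rw [ha, hb]; exact eA_eB) (by decide) (by rw [ha]; exact eA_cube)
      (by rw [map_mul, map_mul, map_inv, hk', ha, eG_eA])
      (by rw [map_mul, map_mul, map_inv, hk', hb, eG_eB])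
    have hle : U.comap σ ≤ closure ({a, b} : Set X) ⊔ σ.ker := by
      intro x hx
      have hx' : σ x ∈ (closure ({a, b} : Set X)).map σ := by
        rw [MonoidHom.map_closure, Set.image_insert_eq, Set.image_singleton, ha, hb]; exact hx
      rwa [← Subgroup.comap_map_eq, Subgroup.mem_comap]
    have hcomm : ∀ x ∈ U.comap σ, ∀ y ∈ U.comap σ, x * y = y * x := by
      have : IsMulCommutative (closure ({a, b} ∪ (σ.ker : Set X))) := by
        refine Subgroup.isMulCommutative_closure ?_
        intro x hx y hy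
        rcases hx with hx | hx
        · rcases hy with hy | hy
          · rcases hx with rfl | rfl <;> rcases hy with rfl | rfl <;>
              first | rfl | exact hab.eq | exact hab.eq.symm
          · exact (Subgroup.mem_center_iff.1 (hk hy) x)
        · exact (Subgroup.mem_center_iff.1 (hk hx) y).symm
      intro x hx y hy
      have hmem : ∀ w ∈ U.comap σ, w ∈ closure (({a, b} : Set X) ∪ (σ.ker : Set X)) := fun w hw => by
        rw [Subgroup.closure_union, Subgroup.closure_eq]
        exact hle hw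
      exact congrArg Subtype.val (this.1.1 ⟨x, hmem x hx⟩ ⟨y, hmem y hy⟩)
    have h0 := CfsgLib.Schur.Bound.pow_index_mem σ hs U (hk hz) (hc hz)
    have hbot : commutator (U.comap σ) = ⊥ := by
      rw [eq_bot_iff, commutator_def, Subgroup.commutator_le]
      intro x _ y _
      rw [Subgroup.mem_bot, commutatorElement_eq_one_iff_mul_comm]
      exact Subtype.ext (hcomm x x.2 y y.2)
    rwa [hbot, Subgroup.map_bot, Subgroup.mem_bot] at h0
  obtain ⟨R⟩ : Nonempty (Sylow r Cfsg.Spor.M11) := inferInstance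
  have : IsCyclic (R : Subgroup Cfsg.Spor.M11) := by
    refine isCyclic_of_prime_card (p := r) ?_
    have hv : (7920 : ℕ).factorization r = 1 := by
      have key : r = 5 ∨ r = 11 := by
        have hle : r ≤ 11 := by
          rw [show (7920 : ℕ) = 2 ^ 4 * (3 ^ 2 * (5 * 11)) by norm_num] at hrd
          rcases hr.dvd_mul.1 hrd with h | h
          · exact (Nat.le_of_dvd (by norm_num) (hr.dvd_of_dvd_pow h)).trans (by norm_num)
          rcases hr.dvd_mul.1 h with h | h
          · exact (Nat.le_of_dvd (by norm_num) (hr.dvd_of_dvd_pow h)).trans (by norm_num)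
          rcases hr.dvd_mul.1 h with h | h
          · exact (Nat.le_of_dvd (by norm_num) h).trans (by norm_num)
          · exact Nat.le_of_dvd (by norm_num) h
        have := hr.two_le
        interval_cases r <;> first | omega | (revert hr hrd; norm_num)
      rw [← Nat.primeFactorsList_count_eq]
      rcases key with rfl | rfl <;> simp
    rw [R.card_eq_multiplicity, hcard, hv, pow_one]
  exact ⟨(R : Subgroup Cfsg.Spor.M11).index, R.not_dvd_index,
    CfsgLib.Schur.Bound.pow_index_eq_one_of_cyclic σ hs hk (R : Subgroup Cfsg.Spor.M11) hz (hc hz)⟩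

end CfsgLib.KnownA.M11Multiplier
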