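import Cfsg.Agent.Lib.KnownA.SteinbergCentral

set_option autoImplicit false

/-!
Simply laced tables: in every central extension the commutators of lifted root elements give lifts
satisfying Steinberg's relations, over any field.

If `r + s` is not a root, write `r = a + b` with `a + s`, `b + s` no roots; a lift of `x_r` is then a
commutator of elements commuting with a lift of `x_s` modulo the kernel.  If `r + s = w` is a root, the
commutator lies in the chosen lift of `X_w` by the identity obtained from conjugating `[x_a, x_c] = 1`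
by `x_b`, since any two decompositions of `w` differ by one such move.
-/

namespace CfsgLib.KnownA.SteinbergUniv

open CfsgLib.Chevalley CfsgLib.Chevalley.Tbl
open scoped commutatorElement

/-! ### Certificates -/

section Checks

variable (T : Tbl)

/-- Index of `r + s`. -/
def sumI (r s : ℕ) : ℕ := ((T.sum? r s).getD (0, 0)).1

/-- Chosen summand of a root. -/
def bl (r : ℕ) : ℕ :=
  ((List.range T.n).find? fun a => !(T.sum? r (T.neg a)).isNone).getD 0

def bd (r : ℕ) : ℕ := sumI T r (T.neg (bl T r))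

def bN (r : ℕ) : ℤ := ((T.sum? (bl T r) (bd T r)).getD (0, 0)).2

/-- `a + b = w` with structure constant `±1`. -/
def sumsTo (a b w : ℕ) : Bool :=
  match T.sum? a b with
  | some (u, N) => Nat.beq u w && Nat.beq N.natAbs 1
  | none => false

/-- `r + s` is neither a root nor zero. -/
def cenT (r s : ℕ) : Bool := (T.sum? r s).isNone && !(Nat.beq s (T.neg r))

def chkCen1 (r s a : ℕ) : Bool :=
  !(T.sum? r (T.neg a)).isNone && sumsTo T a (sumI T r (T.neg a)) r && cenT T a s &&
    cenT T (sumI T r (T.neg a)) s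

def chkCenPair (r s : ℕ) : Bool := !(cenT T r s) || (List.range T.n).any (chkCen1 T r s)

/-- From the decomposition `p + q` of `w` to `a + s`. -/
def chkMove (p q a s w : ℕ) : Bool :=
  !(T.sum? p (T.neg a)).isNone && sumsTo T a (sumI T p (T.neg a)) p &&
    sumsTo T (sumI T p (T.neg a)) q s && cenT T a q && cenT T p s && sumsTo T a s w

def chkBase (w : ℕ) : Bool :=
  Nat.blt (bl T w) T.n && Nat.blt (bd T w) T.n && sumsTo T (bl T w) (bd T w) w &&
    (List.range T.n).any fun a => !(T.sum? w (T.neg a)).isNone &&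
      chkMove T (bl T w) (bd T w) a (sumI T w (T.neg a)) w

def chkSum (r s : ℕ) : Bool :=
  match T.sum? r s with
  | none => true
  | some (w, N) =>
    Nat.beq N.natAbs 1 && decide (T.commT r s = [(w, N, 1, 1)]) && cenT T r w && cenT T s w &&
      ((Nat.beq r (bl T w) && Nat.beq s (bd T w)) || (Nat.beq r (bd T w) && Nat.beq s (bl T w)) ||
        chkMove T (bl T w) (bd T w) r s w || chkMove T (bd T w) (bl T w) r s w)

def chkRow (r : ℕ) : Bool := chkBase T r && allLt (fun s => chkCenPair T r s && chkSum T r s) T.n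

def chkLaced : Bool := allLt (chkRow T) T.n

end Checks

/-! ### Consequences of the certificates -/

section Facts

variable {T : Tbl}

theorem sumI_eq {a b w : ℕ} {N : ℤ} (h : T.sum? a b = some (w, N)) : sumI T a b = w := by
  simp [sumI, h]

theorem sumsTo_iff {a b w : ℕ} :
    sumsTo T a b w = true ↔ ∃ N : ℤ, T.sum? a b = some (w, N) ∧ N.natAbs = 1 := by
  unfold sumsTo
  cases h : T.sum? a b with
  | none => simp
  | some p =>
    obtain ⟨u, N⟩ := p
    simp

theorem cenT_iff {r s : ℕ} : cenT T r s = true ↔ T.sum? r s = none ∧ s ≠ T.neg r := by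
  simp only [cenT, Bool.and_eq_true, Option.isNone_iff_eq_none, Bool.not_eq_true',
    Bool.eq_false_iff, ne_eq, Nat.beq_eq]

variable (hL : chkLaced T = true)
include hL

theorem row {r : ℕ} (hr : r < T.n) :
    chkBase T r = true ∧ ∀ s < T.n, chkCenPair T r s = true ∧ chkSum T r s = true := by
  have h := allLt_iff.mp hL r hr
  simp only [chkRow, Bool.and_eq_true, allLt_iff] at h
  exact h

theorem base_facts {w : ℕ} (hw : w < T.n) :
    bl T w < T.n ∧ bd T w < T.n ∧ T.sum? (bl T w) (bd T w) = some (w, bN T w) ∧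
      (bN T w).natAbs = 1 ∧
      ∃ a s, a < T.n ∧ chkMove T (bl T w) (bd T w) a s w = true := by
  have h := (row hL hw).1
  simp only [chkBase, Bool.and_eq_true, List.any_eq_true, List.mem_range] at h
  obtain ⟨⟨⟨h1, h2⟩, h3⟩, a, ha, -, hmove⟩ := h
  obtain ⟨N, hN, hN1⟩ := sumsTo_iff.mp h3
  have hb : bN T w = N := by simp [bN, hN]
  exact ⟨Nat.le_of_ble_eq_true h1, Nat.le_of_ble_eq_true h2, hb ▸ hN, hb ▸ hN1, a, _, ha, hmove⟩

theorem sum_facts {r s w : ℕ} {N : ℤ} (hr : r < T.n) (hs : s < T.n)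
    (h : T.sum? r s = some (w, N)) :
    N.natAbs = 1 ∧ T.commT r s = [(w, N, 1, 1)] ∧ cenT T r w = true ∧ cenT T s w = true ∧
      ((r = bl T w ∧ s = bd T w) ∨ (r = bd T w ∧ s = bl T w) ∨
        chkMove T (bl T w) (bd T w) r s w = true ∨ chkMove T (bd T w) (bl T w) r s w = true) := by
  have h1 := ((row hL hr).2 s hs).2
  simp only [chkSum, h, Bool.and_eq_true, Bool.or_eq_true, decide_eq_true_eq, Nat.beq_eq] at h1
  obtain ⟨⟨⟨⟨a, b⟩, c⟩, d⟩, e⟩ := h1
  exact ⟨a, b, c, d, by tauto⟩

end Facts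

theorem cast_mul_self {F : Type*} [Field F] {N : ℤ} (h : N.natAbs = 1) : (N : F) * N = 1 := by
  rcases Int.natAbs_eq_iff.mp h with rfl | rfl <;> simp

theorem commutator_of_rel {G : Type*} [Group G] {a b z : G}
    (h : b⁻¹ * a⁻¹ = a⁻¹ * b⁻¹ * z) : ⁅a, b⁆ = z⁻¹ := by
  rw [commutatorElement_def, eq_inv_iff_mul_eq_one]
  calc a * b * a⁻¹ * b⁻¹ * z = a * b * (a⁻¹ * b⁻¹ * z) := by group
    _ = 1 := by rw [← h]; group

section Laced

universe u v

variable {T : Tbl} {F : Type u} [Field F] (hT : T.Valid) (hC : T.chkComm = true)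
  (hL : chkLaced T = true)

include hT hC hL

theorem commutator_xU {r s w : ℕ} {N : ℤ} (hr : r < T.n) (hs : s < T.n)
    (h : T.sum? r s = some (w, N)) (b a : F) :
    ⁅T.xU F r b, T.xU F s a⁆ = T.xU F w ((N : F) * b * a) := by
  have hne : s ≠ r := by rintro rfl; rw [sum?_self hT hs] at h; cases h
  have hneg : s ≠ T.neg r := by rintro rfl; rw [sum?_neg hT hr] at h; cases h
  have hrel := comm_xU (F := F) hT hC hr hs hne hneg (-b) (-a)
  rw [(sum_facts hL hr hs h).2.1] at hrel
  simp only [List.map_cons, List.map_nil, List.prod_cons, List.prod_nil, mul_one, pow_one,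
    _root_.neg_neg, ← xU_inv hT hr, ← xU_inv hT hs] at hrel
  rw [commutator_of_rel hrel, xU_inv hT (sum?_lt hT hr hs h), mul_neg, _root_.neg_neg]

omit hL in
theorem commute_xU {r s : ℕ} (hr : r < T.n) (hs : s < T.n) (h : cenT T r s = true) (t u : F) :
    Commute (T.xU F r t) (T.xU F s u) := by
  obtain ⟨h1, h2⟩ := cenT_iff.mp h
  by_cases hne : s = r
  · subst hne
    show _ * _ = _ * _
    rw [xU_add hT hr, xU_add hT hr, add_comm]
  · have := comm_xU (F := F) hT hC hr hs hne h2 t u
    rw [commT_eq_nil hT hr hs h1] at this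
    show _ * _ = _ * _
    simpa using this.symm

variable {E : Type v} [Group E] (c : Cov T F E)

omit hC hL in
theorem exists_lift' (r : ℕ) (t : F) : ∃ e : E, r < T.n → c.π e = T.xU F r t := by
  by_cases hr : r < T.n
  · obtain ⟨e, he⟩ := c.le_range (xU_mem_group hT hr t)
    exact ⟨e, fun _ => he⟩
  · exact ⟨1, fun h => absurd h hr⟩

/-- Some lift of `x_r(t)`. -/
noncomputable def lf (r : ℕ) (t : F) : E := (exists_lift' hT c r t).choose

omit hC hL in
theorem img_lf {r : ℕ} (hr : r < T.n) (t : F) : c.π (lf hT c r t) = T.xU F r t :=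
  (exists_lift' hT c r t).choose_spec hr

/-- The chosen lift. -/
noncomputable def yl (r : ℕ) (t : F) : E :=
  ⁅lf hT c (bl T r) ((bN T r : F) * t), lf hT c (bd T r) 1⁆

theorem img_yl {r : ℕ} (hr : r < T.n) (t : F) : c.π (yl hT c r t) = T.xU F r t := by
  obtain ⟨h1, h2, h3, h4, -⟩ := base_facts hL hr
  rw [yl, map_commutatorElement, img_lf hT c h1, img_lf hT c h2, commutator_xU hT hC hL h1 h2 h3,
    mul_one, ← mul_assoc, cast_mul_self h4, one_mul]

/-- Lifts of commuting root elements commute. -/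
theorem commute_lifts {r s : ℕ} (hr : r < T.n) (hs : s < T.n) (h : cenT T r s = true) {e e' : E}
    {t u : F} (he : c.π e = T.xU F r t) (he' : c.π e' = T.xU F s u) : Commute e e' := by
  have h1 := ((row hL hr).2 s hs).1
  simp only [chkCenPair, h, Bool.not_true, Bool.false_or, List.any_eq_true, List.mem_range,
    chkCen1, Bool.and_eq_true] at h1
  obtain ⟨a, ha, ⟨⟨⟨hsome, hsum⟩, hca⟩, hcb⟩⟩ := h1
  obtain ⟨N, hN, hN1⟩ := sumsTo_iff.mp hsum
  obtain ⟨⟨b, N'⟩, hb'⟩ := Option.isSome_iff_exists.mp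
    (show (T.sum? r (T.neg a)).isSome = true by simpa using hsome)
  have hb : sumI T r (T.neg a) < T.n := by
    rw [sumI_eq hb']; exact sum?_lt hT hr (neg_lt' ha) hb'
  set k := ⁅lf hT c a ((N : F) * t), lf hT c (sumI T r (T.neg a)) 1⁆ with hk
  have hkimg : c.π k = c.π e := by
    rw [hk, map_commutatorElement, img_lf hT c ha, img_lf hT c hb, commutator_xU hT hC hL ha hb hN,
      mul_one, ← mul_assoc, cast_mul_self hN1, one_mul, he]
  have hcomm : Commute e' k := by
    refine commute_commutator c.ker_le ?_ ?_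
    · rw [he', img_lf hT c ha]; exact (commute_xU hT hC ha hs hca _ _).symm
    · rw [he', img_lf hT c hb]; exact (commute_xU hT hC hb hs hcb _ _).symm
  have hz : c.π (k⁻¹ * e) = 1 := by rw [map_mul, map_inv, hkimg, inv_mul_cancel]
  have := hcomm.mul_right (ker_comm c.ker_le hz e' : Commute e' (k⁻¹ * e))
  rw [mul_inv_cancel_left] at this
  exact this.symm

theorem yl_add {r : ℕ} (hr : r < T.n) (t u : F) :
    yl hT c r t * yl hT c r u = yl hT c r (t + u) := by
  obtain ⟨h1, h2, h3, h4, -⟩ := base_facts hL hr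
  have hcen := (sum_facts hL h1 h2 h3).2.2.1
  unfold yl
  rw [commutator_congr c.ker_le
    (x := lf hT c (bl T r) ((bN T r : F) * (t + u)))
    (x' := lf hT c (bl T r) ((bN T r : F) * u) * lf hT c (bl T r) ((bN T r : F) * t))
    (y := lf hT c (bd T r) 1) (y' := lf hT c (bd T r) 1)
    (by rw [map_mul, img_lf hT c h1, img_lf hT c h1, img_lf hT c h1, xU_add hT h1]; congr 1; ring)
    rfl, commutator_mul_left (commute_lifts hT hC hL c h1 hr hcen (img_lf hT c h1 _)
      (img_yl hT hC hL c hr t))]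

/-- `e` lies in the chosen lift of `X_w`. -/
def InY (w : ℕ) (e : E) : Prop := ∃ z, e = yl hT c w z

theorem InY.inv {w : ℕ} (hw : w < T.n) {e : E} (h : InY hT c w e) : InY hT c w e⁻¹ := by
  obtain ⟨z, rfl⟩ := h
  refine ⟨-z, inv_eq_of_mul_eq_one_right ?_⟩
  rw [yl_add hT hC hL c hw, add_neg_cancel]
  have h := yl_add hT hC hL c hw (0 : F) 0
  rw [add_zero] at h
  exact mul_eq_left.mp h

/-- All commutators for the pair lie in the chosen lift. -/
def Good (r s w : ℕ) : Prop :=
  ∀ (b a : F) (e e' : E), c.π e = T.xU F r b → c.π e' = T.xU F s a → InY hT c w ⁅e, e'⁆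

theorem Good.symm {r s w : ℕ} (hw : w < T.n) (h : Good hT c r s w) : Good hT c s r w :=
  fun b a e e' he he' => by
    rw [← commutatorElement_inv]
    exact InY.inv hT hC hL c hw (h a b e' e he' he)

/-- The identity behind the moves. -/
theorem move_identity {a b q ab bc w : ℕ} {N₁ N₂ : ℤ} (ha : a < T.n) (hb : b < T.n) (hq : q < T.n)
    (h1 : T.sum? a b = some (ab, N₁)) (h2 : T.sum? b q = some (bc, N₂)) (haq : cenT T a q = true)
    (hps : cenT T ab bc = true) {N₃ N₄ : ℤ} (h3 : T.sum? ab q = some (w, N₃))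
    (h4 : T.sum? a bc = some (w, N₄)) (t u v : F) {A C A' C' : E}
    (hA : c.π A = T.xU F a t) (hC' : c.π C' = T.xU F bc ((N₂ : F) * u * v))
    (hA' : c.π A' = T.xU F ab (-((N₁ : F) * t * u))) (hCv : c.π C = T.xU F q v) :
    ⁅A, C'⁆ * ⁅A', C⁆ = 1 := by
  have hk := c.ker_le
  have hab := sum?_lt hT ha hb h1
  have hbc := sum?_lt hT hb hq h2
  have hw := sum?_lt hT hab hq h3
  obtain ⟨g, hg⟩ : ∃ g : E, c.π g = T.xU F b u := c.le_range (xU_mem_group hT hb u)
  have eA : c.π (g * A * g⁻¹) = c.π (A' * A) := by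
    have : ⁅T.xU F b u, T.xU F a t⁆ = T.xU F ab (-((N₁ : F) * t * u)) := by
      rw [← commutatorElement_inv, commutator_xU hT hC hL ha hb h1, xU_inv hT hab]
    rw [map_mul, map_mul, map_mul, map_inv, hA', ← this, hg, hA, commutatorElement_def,
      inv_mul_cancel_right]
  have eC : c.π (g * C * g⁻¹) = c.π (C' * C) := by
    rw [map_mul, map_mul, map_mul, map_inv, hC', ← commutator_xU hT hC hL hb hq h2, hg, hCv,
      commutatorElement_def, inv_mul_cancel_right]
  have hAC : ⁅A, C⁆ = 1 :=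
    commutatorElement_eq_one_iff_mul_comm.mpr (commute_lifts hT hC hL c ha hq haq hA hCv).eq
  have hA'C' : ⁅A', C'⁆ = 1 :=
    commutatorElement_eq_one_iff_mul_comm.mpr (commute_lifts hT hC hL c hab hbc hps hA' hC').eq
  have imgAC' : c.π ⁅A, C'⁆ = T.xU F w ((N₄ : F) * t * ((N₂ : F) * u * v)) := by
    rw [map_commutatorElement, hA, hC', commutator_xU hT hC hL ha hbc h4]
  have imgA'C : c.π ⁅A', C⁆ = T.xU F w ((N₃ : F) * -((N₁ : F) * t * u) * v) := by
    rw [map_commutatorElement, hA', hCv, commutator_xU hT hC hL hab hq h3]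
  have c1 := commute_lifts hT hC hL c hab hw (sum_facts hL hab hq h3).2.2.1 hA' imgAC'
  have c2 := commute_lifts hT hC hL c hbc hw (sum_facts hL ha hbc h4).2.2.2.1 hC' imgA'C
  have e1 : ⁅A, C' * C⁆ = ⁅A, C'⁆ := by
    rw [commutator_mul_right (by rw [hAC]; exact Commute.one_right _), hAC, mul_one]
  have e2 : ⁅A', C' * C⁆ = ⁅A', C⁆ := by
    rw [commutator_mul_right c2, hA'C', one_mul]
  calc ⁅A, C'⁆ * ⁅A', C⁆ = ⁅A' * A, C' * C⁆ := by
        rw [commutator_mul_left (by rw [e1]; exact c1), e1, e2]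
    _ = g * ⁅A, C⁆ * g⁻¹ := by
        rw [conj_commutatorElement]; exact commutator_congr hk eA.symm eC.symm
    _ = 1 := by rw [hAC, mul_one, mul_inv_cancel]

/-- A move forwards, from half of the information on `(p, q)`; and backwards. -/
theorem good_of_move {p q a s w : ℕ} (hp : p < T.n) (hq : q < T.n) (ha : a < T.n)
    {N₃ : ℤ} (h3 : T.sum? p q = some (w, N₃)) (hm : chkMove T p q a s w = true)
    (hhalf : ∀ (z : F) (e e' : E), c.π e = T.xU F p z → c.π e' = T.xU F q 1 →
      InY hT c w ⁅e, e'⁆) :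
    Good hT c a s w ∧ Good hT c p q w := by
  simp only [chkMove, Bool.and_eq_true] at hm
  obtain ⟨⟨⟨⟨⟨hsome, hab⟩, hbc⟩, haq⟩, hps⟩, hw4⟩ := hm
  obtain ⟨N₁, h1, hN1⟩ := sumsTo_iff.mp hab
  obtain ⟨N₂, h2, hN2⟩ := sumsTo_iff.mp hbc
  obtain ⟨N₄, h4, -⟩ := sumsTo_iff.mp hw4
  obtain ⟨⟨b, N'⟩, hb'⟩ := Option.isSome_iff_exists.mp
    (show (T.sum? p (T.neg a)).isSome = true by simpa using hsome)
  rw [sumI_eq hb'] at h1 h2
  have hb := sum?_lt hT hp (neg_lt' ha) hb'
  have hw := sum?_lt hT hp hq h3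
  have hs := sum?_lt hT hb hq h2
  have key := @move_identity T F _ hT hC hL E _ c a b q p s w N₁ N₂ ha hb hq h1 h2 haq hps N₃ N₄ h3 h4
  have hgood : Good hT c a s w := by
    intro b' a' e e' he he'
    obtain ⟨A', hA'⟩ := c.le_range (xU_mem_group (F := F) hT hp (-((N₁ : F) * b' * ((N₂ : F) * a'))))
    obtain ⟨C, hCv⟩ := c.le_range (xU_mem_group (F := F) hT hq 1)
    have h := key b' ((N₂ : F) * a') 1 he
      (by rw [mul_one, ← mul_assoc, cast_mul_self hN2, one_mul]; exact he') hA' hCv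
    rw [eq_inv_of_mul_eq_one_left h]
    exact InY.inv hT hC hL c hw (hhalf _ A' C hA' hCv)
  refine ⟨hgood, fun z v e e' he he' => ?_⟩
  obtain ⟨A, hA⟩ := c.le_range (xU_mem_group (F := F) hT ha (-((N₁ : F) * z)))
  obtain ⟨C', hC'⟩ := c.le_range (xU_mem_group (F := F) hT hs ((N₂ : F) * 1 * v))
  have h := key (-((N₁ : F) * z)) 1 v hA hC'
    (by rw [mul_one, mul_neg, _root_.neg_neg, ← mul_assoc, cast_mul_self hN1, one_mul]; exact he) he'
  rw [eq_inv_of_mul_eq_one_right h]
  exact InY.inv hT hC hL c hw (hgood _ _ A C' hA hC')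

theorem good_of_sum {r s w : ℕ} {N : ℤ} (hr : r < T.n) (hs : s < T.n)
    (h : T.sum? r s = some (w, N)) : Good hT c r s w := by
  have hw := sum?_lt hT hr hs h
  obtain ⟨hl, hd, hsum, hN1, a, s', ha, hmove⟩ := base_facts hL hw
  have hhalf : ∀ (z : F) (e e' : E), c.π e = T.xU F (bl T w) z → c.π e' = T.xU F (bd T w) 1 →
      InY hT c w ⁅e, e'⁆ := fun z e e' he he' => by
    refine ⟨(bN T w : F) * z, ?_⟩
    rw [yl, ← mul_assoc, cast_mul_self hN1, one_mul]
    exact commutator_congr c.ker_le (by rw [he, img_lf hT c hl]) (by rw [he', img_lf hT c hd])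
  have hbase := (good_of_move hT hC hL c hl hd ha hsum hmove hhalf).2
  rcases (sum_facts hL hr hs h).2.2.2.2 with ⟨rfl, rfl⟩ | ⟨rfl, rfl⟩ | hm | hm
  · exact hbase
  · exact hbase.symm hT hC hL c hw
  · exact (good_of_move hT hC hL c hl hd hr hsum hm hhalf).1
  · exact (good_of_move hT hC hL c hd hl hr (sum?_symm hT hl hd hsum) hm
      (fun z e e' he he' => hbase.symm hT hC hL c hw z 1 e e' he he')).1

/-- The lifts. -/
noncomputable def yLift : YLift c where
  y := yl hT c
  img r hr t := img_yl hT hC hL c hr t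
  add r hr t u := yl_add hT hC hL c hr t u
  rel r hr s hs hne hneg t u := by
    cases hsum : T.sum? r s with
    | none =>
      rw [commT_eq_nil hT hr hs hsum, List.map_nil, List.prod_nil, mul_one]
      exact ((commute_lifts hT hC hL c hr hs (cenT_iff.mpr ⟨hsum, hneg⟩)
        (img_yl hT hC hL c hr t) (img_yl hT hC hL c hs u)).symm).eq
    | some p =>
      obtain ⟨w, N⟩ := p
      rw [(sum_facts hL hr hs hsum).2.1]
      simp only [List.map_cons, List.map_nil, List.prod_cons, List.prod_nil, mul_one, pow_one]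
      have hw := sum?_lt hT hr hs hsum
      have hi : ∀ {r' : ℕ}, r' < T.n → ∀ t', c.π (yl hT c r' t')⁻¹ = T.xU F r' (-t') :=
        fun hr' t' => by rw [map_inv, img_yl hT hC hL c hr', xU_inv hT hr']
      obtain ⟨z, hz⟩ := (good_of_sum hT hC hL c hr hs hsum).symm hT hC hL c hw (-u) (-t) _ _
        (hi hs u) (hi hr t)
      have himg := congrArg c.π hz
      rw [map_commutatorElement, hi hs, hi hr, img_yl hT hC hL c hw, ← commutatorElement_inv,
        commutator_xU hT hC hL hr hs hsum, xU_inv hT hw] at himg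
      have hzv : z = (N : F) * -t * u := by rw [← xU_inj hT hw himg]; ring
      rw [← hzv, ← hz]
      simp [commutatorElement_def, mul_assoc]
  conj r hr e _ he t := by
    obtain ⟨h1, h2, h3, -, -⟩ := base_facts hL hr
    obtain ⟨w, -, hm⟩ := exists_mono hT he
    obtain ⟨k1, hk1⟩ := hm.conj ⟨bl T r, h1⟩
    obtain ⟨k2, hk2⟩ := hm.conj ⟨bd T r, h2⟩
    set γ := w ⟨bl T r, h1⟩ with hγ
    set δ := w ⟨bd T r, h2⟩ with hδ
    obtain ⟨e₁, he₁⟩ := c.le_range (xU_mem_group (F := F) hT γ.2 ((k1 : F) * ((bN T r : F) * t)))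
    obtain ⟨e₂, he₂⟩ := c.le_range (xU_mem_group (F := F) hT δ.2 ((k2 : F) * 1))
    have hconj : e * yl hT c r t * e⁻¹ = ⁅e₁, e₂⁆ := by
      refine conj_commutator_eq c.ker_le ?_ ?_
      · rw [img_lf hT c h1, he₁]
        exact mul_inv_eq_iff_eq_mul.mpr ((hk1 _).1)
      · rw [img_lf hT c h2, he₂]
        exact mul_inv_eq_iff_eq_mul.mpr ((hk2 _).1)
    cases hsum : T.sum? γ.val δ.val with
    | none =>
      refine ⟨r, hr, 0, ?_⟩
      have hneg : δ.val ≠ T.neg γ.val := by
        intro hd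
        have h' : δ = T.negF γ := Fin.ext hd
        rw [hδ, hγ, ← hm.negEq] at h'
        have h'' : bd T r = T.neg (bl T r) := congrArg Fin.val (w.injective h')
        rw [h'', sum?_neg hT h1] at h3
        cases h3
      have h0 := yl_add hT hC hL c hr (0 : F) 0
      rw [add_zero] at h0
      rw [hconj, mul_eq_left.mp h0, commutatorElement_eq_one_iff_mul_comm]
      exact (commute_lifts hT hC hL c γ.2 δ.2 (cenT_iff.mpr ⟨hsum, hneg⟩) he₁ he₂).eq
    | some p =>
      obtain ⟨u, N⟩ := p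
      obtain ⟨z, hz⟩ := good_of_sum hT hC hL c γ.2 δ.2 hsum _ _ e₁ e₂ he₁ he₂
      exact ⟨u, sum?_lt hT γ.2 δ.2 hsum, z, hconj.trans hz⟩

omit hC

/-- The presented group is perfect. -/
theorem sX_mem_commutator {r : ℕ} (hr : r < T.n) (t : F) :
    T.sX F r t ∈ commutator (T.datum.SteinbergGroup F) := by
  obtain ⟨h1, h2, h3, h4, -⟩ := base_facts hL hr
  have hne : bd T r ≠ bl T r := by
    intro e
    rw [e, sum?_self hT h1] at h3; cases h3
  have hneg : bd T r ≠ T.neg (bl T r) := by
    intro e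
    rw [e, sum?_neg hT h1] at h3; cases h3
  have hrel := scomm (F := F) hT h1 h2 hne hneg (-((bN T r : F) * t)) (-1)
  rw [(sum_facts hL h1 h2 h3).2.1] at hrel
  simp only [List.map_cons, List.map_nil, List.prod_cons, List.prod_nil, mul_one, pow_one,
    _root_.neg_neg, ← sX_inv hT h1, ← sX_inv hT h2] at hrel
  have h := commutator_of_rel hrel
  rw [sX_inv hT hr, mul_neg, mul_one, _root_.neg_neg, ← mul_assoc, cast_mul_self h4, one_mul] at h
  rw [← h, _root_.commutator_def]
  exact Subgroup.commutator_mem_commutator (Subgroup.mem_top _) (Subgroup.mem_top _)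

end Laced

end CfsgLib.KnownA.SteinbergUniv
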