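import Cfsg.Agent.Lib.KnownA.SteinbergTorusLift
import Cfsg.Agent.Lib.Chevalley.PosProduct

set_option autoImplicit false

/-!
Central extensions of a Chevalley group over a finite field whose kernel has exponent prime to the
characteristic: the lifts of order dividing `p` satisfy (R1), (R2).
-/

namespace CfsgLib.KnownA.SteinbergUniv

open CfsgLib.Chevalley CfsgLib.Chevalley.Tbl
open scoped commutatorElement

/-- Every pair of roots with a relation is moved to positive roots by one of the words. -/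
def chkWords (T : Tbl) (W : List (List ℕ)) : Bool :=
  allLt (fun r => allLt (fun s => (T.sum? r s).isNone || W.any fun l =>
    l.all (fun i => Nat.blt i T.rank) && Nat.ble T.half (T.actWord l r) &&
      Nat.ble T.half (T.actWord l s) &&
      (T.commT r s).all fun c => Nat.ble T.half (T.actWord l c.1)) T.n) T.n

universe u v

variable {T : Tbl} {F : Type u} [Field F] {E : Type v} [Group E] (c : Cov T F E)

/-- An element of the kernel of `p`-power order is trivial. -/
theorem ker_p_trivial {p m : ℕ} (hpm : Nat.Coprime p m)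
    (hker : ∀ z : E, c.π z = 1 → z ^ m = 1) {z : E} (hz : c.π z = 1) (k : ℕ) (hk : z ^ p ^ k = 1) :
    z = 1 := by
  have h : orderOf z ∣ Nat.gcd (p ^ k) m :=
    Nat.dvd_gcd (orderOf_dvd_of_pow_eq_one hk) (orderOf_dvd_of_pow_eq_one (hker z hz))
  rw [Nat.Coprime.pow_left k hpm] at h
  exact orderOf_eq_one_iff.mp (Nat.dvd_one.mp h)

theorem eq_of_p {p m : ℕ} (hpm : Nat.Coprime p m) (hker : ∀ z : E, c.π z = 1 → z ^ m = 1) {x y : E}
    (hxy : c.π x = c.π y) (hx : x ^ p = 1) (hy : y ^ p = 1) : x = y := by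
  have hz : c.π (x⁻¹ * y) = 1 := by rw [map_mul, map_inv, hxy, inv_mul_cancel]
  have hc : Commute x (x⁻¹ * y) := ker_comm c.ker_le hz x
  have h := ker_p_trivial c hpm hker hz 1 (by
    have h := hc.mul_pow p
    rw [mul_inv_cancel_left, hx, hy, one_mul] at h
    rw [pow_one]; exact h.symm)
  exact inv_mul_eq_one.mp h

theorem commute_of_p {p m : ℕ} (hpm : Nat.Coprime p m) (hker : ∀ z : E, c.π z = 1 → z ^ m = 1)
    {x y : E} (hxy : Commute (c.π x) (c.π y)) (hy : y ^ p = 1) : Commute x y := by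
  have h : x * y * x⁻¹ = y := eq_of_p c hpm hker
    (by rw [map_mul, map_mul, map_inv, hxy.eq, mul_inv_cancel_right])
    (by rw [_root_.conj_pow, hy]; group) hy
  exact mul_inv_eq_iff_eq_mul.mp h

theorem exists_p_lift {p m : ℕ} (hpm : Nat.Coprime p m) (hker : ∀ z : E, c.π z = 1 → z ^ m = 1)
    {g : GL T.I F} (hg : g ∈ T.datum.group F) (hgp : g ^ p = 1) : ∃ e : E, c.π e = g ∧ e ^ p = 1 := by
  obtain ⟨e, he⟩ := c.le_range hg
  have hz : c.π (e ^ p) = 1 := by rw [map_pow, he, hgp]
  set z := e ^ p with hzdef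
  obtain ⟨w, hw, hwp⟩ : ∃ w : E, c.π w = 1 ∧ w ^ p = z := by
    have hbez := Nat.gcd_eq_gcd_ab p m
    rw [hpm, Nat.cast_one] at hbez
    refine ⟨z ^ Nat.gcdA p m, by rw [map_zpow, hz, one_zpow], ?_⟩
    have hm : z ^ (m : ℤ) = 1 := by rw [zpow_natCast]; exact hker z hz
    calc (z ^ Nat.gcdA p m) ^ p = z ^ ((p : ℤ) * Nat.gcdA p m) := by
          rw [← zpow_natCast, ← zpow_mul, mul_comm]
      _ = z ^ (1 : ℤ) := by
          rw [hbez, zpow_add, zpow_mul z (m : ℤ), hm, one_zpow, mul_one]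
      _ = z := zpow_one z
  refine ⟨e * w⁻¹, by rw [map_mul, map_inv, hw, he, inv_one, mul_one], ?_⟩
  have hc : Commute e w⁻¹ := (show Commute e w from ker_comm c.ker_le hw e).inv_right
  rw [hc.mul_pow, inv_pow, hwp, ← hzdef, mul_inv_cancel]

variable (hT : T.Valid)
include hT

theorem xU_pow {r : ℕ} (hr : r < T.n) (t : F) (i : ℕ) : T.xU F r t ^ i = T.xU F r ((i : F) * t) := by
  induction i with
  | zero => rw [pow_zero, Nat.cast_zero, zero_mul, xU_zero hT hr]
  | succ i ih => rw [pow_succ, ih, xU_add hT hr, Nat.cast_succ, add_one_mul]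

variable {p m : ℕ} [Fact p.Prime] [CharP F p] (hpm : Nat.Coprime p m)
  (hker : ∀ z : E, c.π z = 1 → z ^ m = 1)
include hpm hker

theorem exists_yp (r : ℕ) (t : F) : ∃ e : E, r < T.n → c.π e = T.xU F r t ∧ e ^ p = 1 := by
  by_cases hr : r < T.n
  · obtain ⟨e, he⟩ := exists_p_lift c hpm hker (xU_mem_group hT hr t)
      (by rw [xU_pow hT hr, CharP.cast_eq_zero, zero_mul, xU_zero hT hr])
    exact ⟨e, fun _ => he⟩
  · exact ⟨1, fun h => absurd h hr⟩

/-- The lift of order dividing `p`. -/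
noncomputable def yp (r : ℕ) (t : F) : E := (exists_yp c hT hpm hker r t).choose

theorem yp_spec {r : ℕ} (hr : r < T.n) (t : F) :
    c.π (yp c hT hpm hker r t) = T.xU F r t ∧ yp c hT hpm hker r t ^ p = 1 :=
  (exists_yp c hT hpm hker r t).choose_spec hr

theorem yp_eq {r : ℕ} (hr : r < T.n) {t : F} {e : E} (he : c.π e = T.xU F r t) (hp : e ^ p = 1) :
    e = yp c hT hpm hker r t :=
  eq_of_p c hpm hker (he.trans (yp_spec c hT hpm hker hr t).1.symm) hp (yp_spec c hT hpm hker hr t).2

theorem yp_rel [Finite F] (hC : T.chkComm = true) {W : List (List ℕ)} (hW : chkWords T W = true)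
    {r s : ℕ} (hr : r < T.n) (hs : s < T.n) (hne : s ≠ r) (hneg : s ≠ T.neg r) (t u : F) :
    yp c hT hpm hker s u * yp c hT hpm hker r t = yp c hT hpm hker r t * yp c hT hpm hker s u *
      ((T.commT r s).map fun k =>
        yp c hT hpm hker k.1 ((k.2.1 : F) * (-t) ^ k.2.2.1 * u ^ k.2.2.2)).prod := by
  classical
  have := Fintype.ofFinite F
  set Y := fun (j : ℕ) (a : F) => yp c hT hpm hker j a with hY
  have hYs : ∀ {j : ℕ}, j < T.n → ∀ a, c.π (Y j a) = T.xU F j a ∧ Y j a ^ p = 1 :=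
    fun hj a => yp_spec c hT hpm hker hj a
  cases hsum : T.sum? r s with
  | none =>
    rw [commT_eq_nil hT hr hs hsum, List.map_nil, List.prod_nil, mul_one]
    refine (commute_of_p c hpm hker ?_ (hYs hr t).2).eq
    rw [(hYs hs u).1, (hYs hr t).1]
    exact (commute_xU' hT hC hr hs hsum hneg t u).symm
  | some q =>
    have hp1 := allLt_iff.mp (allLt_iff.mp hW r hr) s hs
    simp only [hsum, Option.isNone_some, Bool.false_or, List.any_eq_true, Bool.and_eq_true,
      List.all_eq_true, Nat.ble_eq, Nat.blt_eq] at hp1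
    obtain ⟨l, -, ⟨⟨hl, hlr⟩, hls⟩, hlc⟩ := hp1
    obtain ⟨l', rfl⟩ : ∃ l' : List (Fin T.rank), l'.map Fin.val = l :=
      ⟨l.pmap (fun i hi => (⟨i, hi⟩ : Fin T.rank)) hl, by simp [List.map_pmap]⟩
    obtain ⟨e, he⟩ := c.le_range (show T.nw F l' ∈ T.datum.group F from by
      refine list_prod_mem fun x hx => ?_
      obtain ⟨i, -, rfl⟩ := List.mem_map.mp hx
      exact nU_mem_group hT (simple_lt hT i.2) _)
    have hm : T.Mono (c.π e) (T.pw hT l') := he ▸ mono_nw hT l'
    -- the preimage of the positive unipotent subgroup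
    set U := T.rootGen F (fun j => T.half ≤ j) with hU
    let V : Subgroup E := U.comap c.π
    have hUg : U ≤ T.datum.group F := by
      rw [hU, rootGen, Subgroup.closure_le]
      rintro _ ⟨j, hj, -, a, rfl⟩
      exact xU_mem_group hT hj a
    have hmapV : (c.π.comp V.subtype).range = U := by
      rw [MonoidHom.range_comp, Subgroup.range_subtype]
      exact Subgroup.map_comap_eq_self (hUg.trans c.le_range)
    have hcard : Nat.card U = Fintype.card F ^ T.half := by
      rw [hU]; exact card_ge hT hC T.half T.half (Nat.two_mul _).symm le_rfl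
    have hKle : (c.π.comp V.subtype).ker ≤ Subgroup.center ↥V := fun z hz => by
      rw [Subgroup.mem_center_iff]
      intro w
      exact Subtype.ext (ker_comm c.ker_le (MonoidHom.mem_ker.mp hz) w.1)
    have hKidx : (c.π.comp V.subtype).ker.index = Fintype.card F ^ T.half := by
      rw [Subgroup.index_ker, hmapV, hcard]
    have hKfi : (c.π.comp V.subtype).ker.FiniteIndex :=
      ⟨by rw [hKidx]; exact pow_ne_zero _ Fintype.card_ne_zero⟩
    have : (Subgroup.center ↥V).FiniteIndex := Subgroup.finiteIndex_of_le hKle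
    obtain ⟨i, hi⟩ : ∃ i, (Subgroup.center ↥V).index = p ^ i := by
      obtain ⟨d, -, hd⟩ := FiniteField.card F p
      have h1 := Subgroup.index_dvd_of_le hKle
      rw [hKidx, hd, ← pow_mul] at h1
      obtain ⟨i, -, hi⟩ := (Nat.dvd_prime_pow (Fact.out : p.Prime)).mp h1
      exact ⟨i, hi⟩
    let H : ↥V →* Subgroup.center ↥V :=
      { toFun := fun v => MonoidHom.transferCenterPow ↥V v ^ p
        map_one' := by rw [map_one, one_pow]
        map_mul' := fun v w => by
          rw [map_mul]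
          exact (show Commute (MonoidHom.transferCenterPow ↥V v) (MonoidHom.transferCenterPow ↥V w) from
            Subtype.ext (Subgroup.mem_center_iff.mp (MonoidHom.transferCenterPow ↥V w).2 _)).mul_pow p }
    have hH : ∀ v : ↥V, ((H v).1 : ↥V) = v ^ p ^ (i + 1) := fun v => by
      show (((MonoidHom.transferCenterPow ↥V v) ^ p : Subgroup.center ↥V) : ↥V) = _
      rw [SubgroupClass.coe_pow, MonoidHom.transferCenterPow_apply, hi, ← pow_mul, ← pow_succ]
    -- conjugates of the lifts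
    have hmem : ∀ {j : ℕ}, j < T.n → T.half ≤ T.actWord (l'.map Fin.val) j → ∀ a,
        ∃ v : ↥V, (v : E) = e * Y j a * e⁻¹ ∧ H v = 1 := by
      intro j hj hpos a
      obtain ⟨k, hk⟩ := hm.conj ⟨j, hj⟩
      refine ⟨⟨e * Y j a * e⁻¹, ?_⟩, rfl, Subtype.ext (Subtype.ext ?_)⟩
      · show c.π (e * Y j a * e⁻¹) ∈ U
        rw [map_mul, map_mul, map_inv, (hYs hj a).1, (hk a).1, mul_inv_cancel_right]
        exact xU_mem_rootGen (P := fun j => T.half ≤ j) (T.pw hT l' ⟨j, hj⟩).2
          (by rw [pw_val hT]; exact hpos) _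
      · rw [hH, SubmonoidClass.coe_pow, Subgroup.coe_mk, _root_.conj_pow, pow_succ', pow_mul, (hYs hj a).2,
          one_pow]
        simp
    have hprod : ∀ (L : List (ℕ × ℤ × ℕ × ℕ)), (∀ k ∈ L, k.1 < T.n ∧ T.half ≤
          T.actWord (l'.map Fin.val) k.1) → ∀ a : ℕ × ℤ × ℕ × ℕ → F,
        ∃ v : ↥V, (v : E) = e * (L.map fun k => Y k.1 (a k)).prod * e⁻¹ ∧ H v = 1 := by
      intro L hL a
      induction L with
      | nil => exact ⟨1, by simp, map_one H⟩
      | cons k L ih =>
        obtain ⟨v1, e1, f1⟩ := hmem (hL k List.mem_cons_self).1 (hL k List.mem_cons_self).2 (a k)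
        obtain ⟨v2, e2, f2⟩ := ih fun k' hk' => hL k' (List.mem_cons_of_mem _ hk')
        exact ⟨v1 * v2, by rw [Subgroup.coe_mul, e1, e2, List.map_cons, List.prod_cons]; group,
          by rw [map_mul, f1, f2, one_mul]⟩
    obtain ⟨a1, b1, c1⟩ := hmem hs hls u
    obtain ⟨a2, b2, c2⟩ := hmem hr hlr t
    obtain ⟨a3, b3, c3⟩ := hprod (T.commT r s) (fun k hk => ⟨commT_lt hT hr hs k hk, hlc k hk⟩)
      fun k => (k.2.1 : F) * (-t) ^ k.2.2.1 * u ^ k.2.2.2
    set z := (a1 * a2)⁻¹ * (a2 * a1 * a3) with hz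
    have hπz : c.π (z : E) = 1 := by
      rw [hz]
      simp only [Subgroup.coe_mul, Subgroup.coe_inv, b1, b2, b3, map_mul, map_inv, map_list_prod,
        List.map_map, (hYs hr t).1, (hYs hs u).1]
      have hmap : (T.commT r s).map (c.π ∘ fun k => Y k.1 ((k.2.1 : F) * (-t) ^ k.2.2.1 * u ^ k.2.2.2)) =
          (T.commT r s).map fun k => T.xU F k.1 ((k.2.1 : F) * (-t) ^ k.2.2.1 * u ^ k.2.2.2) :=
        List.map_congr_left fun k hk => (hYs (commT_lt hT hr hs k hk) _).1
      rw [hmap]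
      have key : ∀ g x y P : GL T.I F, y * x = x * y * P →
          (g * y * g⁻¹ * (g * x * g⁻¹))⁻¹ * (g * x * g⁻¹ * (g * y * g⁻¹) * (g * P * g⁻¹)) = 1 := by
        intro g x y P h
        calc (g * y * g⁻¹ * (g * x * g⁻¹))⁻¹ * (g * x * g⁻¹ * (g * y * g⁻¹) * (g * P * g⁻¹))
            = g * ((y * x)⁻¹ * (x * y * P)) * g⁻¹ := by group
          _ = 1 := by rw [h, inv_mul_cancel, mul_one, mul_inv_cancel]
      exact key _ _ _ _ (comm_xU (F := F) hT hC hr hs hne hneg t u)
    have hHz : (z : E) ^ p ^ (i + 1) = 1 := by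
      have h1 : H z = 1 := by
        rw [hz, map_mul, map_inv, map_mul, map_mul, map_mul, c1, c2, c3]; simp
      have h2 := hH z
      rw [h1] at h2
      have h3 := congrArg Subtype.val h2
      rw [SubmonoidClass.coe_pow] at h3
      exact h3.symm
    have hone := ker_p_trivial c hpm hker hπz (i + 1) hHz
    simp only [hz, Subgroup.coe_mul, Subgroup.coe_inv, b1, b2, b3, inv_mul_eq_one] at hone
    have h4 : e * (Y s u * Y r t) * e⁻¹ = e * (Y r t * Y s u * ((T.commT r s).map fun k =>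
        Y k.1 ((k.2.1 : F) * (-t) ^ k.2.2.1 * u ^ k.2.2.2)).prod) * e⁻¹ := by
      simpa [mul_assoc] using hone
    exact mul_left_cancel (mul_right_cancel h4)

/-- The lifts of order dividing `p` form a lift of the root system. -/
noncomputable def yLiftP [Finite F] (hC : T.chkComm = true) {W : List (List ℕ)}
    (hW : chkWords T W = true) : YLift c where
  y := yp c hT hpm hker
  img r hr t := (yp_spec c hT hpm hker hr t).1
  add r hr t u := by
    obtain ⟨h1, h2⟩ := yp_spec c hT hpm hker hr t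
    obtain ⟨h3, h4⟩ := yp_spec c hT hpm hker hr u
    have hc : Commute (yp c hT hpm hker r t) (yp c hT hpm hker r u) :=
      commute_of_p c hpm hker (by rw [h1, h3]; show _ * _ = _ * _;
                                   rw [xU_add hT hr, xU_add hT hr, add_comm]) h4
    exact yp_eq c hT hpm hker hr (by rw [map_mul, h1, h3, xU_add hT hr])
      (by rw [hc.mul_pow, h2, h4, one_mul])
  rel r hr s hs hne hneg t u := yp_rel c hT hpm hker hC hW hr hs hne hneg t u
  conj r hr e hperm _ t := by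
    obtain ⟨w, hw⟩ := hperm
    obtain ⟨t', ht'⟩ := hw ⟨r, hr⟩ t
    obtain ⟨h1, h2⟩ := yp_spec c hT hpm hker hr t
    refine ⟨_, (w ⟨r, hr⟩).2, t', yp_eq c hT hpm hker (w ⟨r, hr⟩).2 ?_ ?_⟩
    · rw [map_mul, map_mul, map_inv, h1]; exact ht'
    · rw [_root_.conj_pow, h2]; group

end CfsgLib.KnownA.SteinbergUniv
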