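import Cfsg.Agent.Lib.KnownA.SteinbergCentral
import Cfsg.Agent.Lib.Chevalley.SteinbergTorus
import Cfsg.Agent.Lib.Schur.Basic

set_option autoImplicit false

/-!
When every central extension admits lifts of the root elements, the presented group is a covering
group and the multiplier of the Chevalley group is the centre of the presented group.
-/

namespace CfsgLib.KnownA.SteinbergUniv

open CfsgLib.Chevalley CfsgLib.Chevalley.Tbl
open scoped commutatorElement

universe u v

variable {T : Tbl} {F : Type u} [Field F]

theorem finite_steinbergGroup [Finite F] (hO : T.StOk) : Finite (T.datum.SteinbergGroup F) := by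
  classical
  have hker : Finite (hO.hom F).ker := by
    have hsub : (hO.hom F).ker ≤ (sTorus (F := F) hO).range :=
      (ker_le_sDiag hO).trans (sDiag_le_range hO)
    have : Finite (sTorus (F := F) hO).range :=
      Set.finite_coe_iff.2 (Set.finite_range (sTorus (F := F) hO))
    exact Finite.of_injective _ (Subgroup.inclusion_injective hsub)
  have : Finite (T.datum.SteinbergGroup F ⧸ (hO.hom F).ker) :=
    Finite.of_injective _ (QuotientGroup.kerLift_injective (hO.hom F))
  exact Finite.of_equiv _ (Subgroup.groupEquivQuotientProdSubgroup (s := (hO.hom F).ker)).symm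

/-- Generation of the commutator subgroup by root elements. -/
theorem commutator_eq_top_of_sX (h : ∀ r < T.n, ∀ t : F, T.sX F r t ∈ commutator (T.datum.SteinbergGroup F)) :
    commutator (T.datum.SteinbergGroup F) = ⊤ := by
  rw [eq_top_iff, ← PresentedGroup.closure_range_of, Subgroup.closure_le]
  rintro _ ⟨p, rfl⟩
  have e : (PresentedGroup.of p : T.datum.SteinbergGroup F) = T.sX F p.1.val p.2 := by
    rw [sX, Cfsg.Lie.ChevalleyDatum.stGen, Cfsg.Lie.ChevalleyDatum.stX, dif_pos p.1.2]
    rfl
  rw [SetLike.mem_coe, e]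
  exact h _ p.1.2 _

theorem hasSchurMultiplier_group [Finite F] (hO : T.StOk)
    (hK : ∀ r < T.n, T.isK r = true)
    (hperf : ∀ r < T.n, ∀ t : F, T.sX F r t ∈ commutator (T.datum.SteinbergGroup F))
    (hlift : ∀ (E : Type u) [Group E] (c : Cov T F E), Nonempty (YLift c))
    {A : Type v} [CommGroup A]
    (e : Subgroup.center (T.datum.SteinbergGroup F) ≃* A) :
    Cfsg.HasSchurMultiplier ↥(T.datum.group F) A := by
  have hT := hO.valid
  have := finite_steinbergGroup (F := F) hO
  have hperf' := commutator_eq_top_of_sX hperf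
  constructor
  · refine ⟨T.datum.SteinbergGroup F, inferInstance, inferInstance, stProj hO,
      ⟨stProj_surjective hO, (stProj_ker hO).le, by rw [hperf']; exact le_top⟩,
      ⟨(MulEquiv.subgroupCongr (stProj_ker hO)).trans e⟩⟩
  · intro Γ _ _ σ hσ
    let c : Cov T F Γ :=
      { π := (T.datum.group F).subtype.comp σ
        ker_le := fun z hz => hσ.2.1 (Subtype.ext hz)
        le_range := fun g hg => by
          obtain ⟨z, hz⟩ := hσ.1 ⟨g, hg⟩
          exact ⟨z, congrArg Subtype.val hz⟩ }
    obtain ⟨L⟩ := hlift Γ c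
    obtain ⟨φ, hφ, -⟩ := L.exists_stLift hT hO.comm hK
    have hcomp : σ.comp φ = stProj hO := MonoidHom.ext fun x => Subtype.ext (DFunLike.congr_fun hφ x)
    -- `φ` is onto
    have hsup := CfsgLib.Schur.Basic.range_sup_center_eq_top (stProj (F := F) hO)
      (stProj_surjective hO) σ hσ.2.1 φ hcomp
    have hk : σ.ker ≤ φ.range := fun z hz => by
      obtain ⟨a, -, ha⟩ := CfsgLib.Schur.Basic.commutator_le_map_of_sup_center φ hsup (hσ.2.2 hz)
      exact ⟨a, ha⟩
    have hker : ∀ z : Subgroup.center (T.datum.SteinbergGroup F), φ z ∈ σ.ker := fun z => by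
      have h1 : stProj (F := F) hO z = 1 := (stProj_ker hO).ge z.2
      rw [← hcomp] at h1
      exact h1
    let p : Subgroup.center (T.datum.SteinbergGroup F) →* σ.ker :=
      (φ.comp (Subgroup.center _).subtype).codRestrict _ hker
    refine ⟨p.comp e.symm.toMonoidHom, ?_⟩
    show Function.Surjective (⇑p ∘ ⇑e.symm)
    refine Function.Surjective.comp ?_ e.symm.surjective
    rintro ⟨z, hz⟩
    obtain ⟨a, ha⟩ := hk hz
    refine ⟨⟨a, (stProj_ker hO).le ?_⟩, Subtype.ext ha⟩
    rw [MonoidHom.mem_ker, ← hcomp, MonoidHom.comp_apply, ha]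
    exact hz

end CfsgLib.KnownA.SteinbergUniv
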