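import Cfsg.Agent.Lib.KnownA.SteinbergCoverUniv
import Cfsg.Agent.Lib.KnownA.SteinbergPLift
import Cfsg.Agent.Lib.KnownA.SteinbergCert.Univ

set_option autoImplicit false
set_option maxRecDepth 20000

/-!
Projective representations in the natural characteristic lift to the group presented by (R1), (R2).
-/

open scoped MatrixGroups

namespace CfsgLib.KnownA.SteinbergUniv

open CfsgLib.Chevalley CfsgLib.Chevalley.Tbl

universe u v

theorem g2_chkWords : chkWords Data.G2.tbl g2Cert.words = true := by decide +kernel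

theorem b2_chkWords : chkWords Data.B2.tbl b2Cert.words = true := by decide +kernel

theorem d4_chkWords : chkWords Data.D4.tbl d4Cert.words = true := by decide +kernel

theorem f4_chkWords : chkWords Data.F4.tbl f4Words = true := by decide +kernel

/-- Lifts exist in a central extension whose kernel has exponent prime to the characteristic. -/
def HasPLifts (T : Tbl) (K : Type u) [Field K] : Prop :=
  ∀ (Q : Type v) [Group Q] (c : Cov T K Q) (m : ℕ),
    (ringChar K ≠ 0 → Nat.Coprime (ringChar K) m) → (∀ z, c.π z = 1 → z ^ m = 1) → Nonempty (YLift c)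

/-- Torus lifts, or `p`-lifts over a small field. -/
theorem hasPLifts_of_certs {T : Tbl} {K : Type u} [Field K] (hT : T.Valid) (hC : T.chkComm = true)
    {W : List (List ℕ)} (hW : chkWords T W = true)
    (hbig : ∀ s : Finset K, 4 < s.card → ∀ (Q : Type v) [Group Q] (c : Cov T K Q), Nonempty (YLift c)) :
    HasPLifts.{u, v} T K := by
  intro Q _ c m hpm hker
  by_cases h5 : ∃ s : Finset K, 4 < s.card
  · obtain ⟨s, hs⟩ := h5
    exact hbig s hs Q c
  have hfin : Finite K := by
    by_contra hinf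
    rw [not_finite_iff_infinite] at hinf
    obtain ⟨s, hs⟩ := Infinite.exists_subset_card_eq K 5
    exact h5 ⟨s, by omega⟩
  have := Fintype.ofFinite K
  have hp : (ringChar K).Prime := CharP.char_is_prime K (ringChar K)
  have := Fact.mk hp
  exact ⟨yLiftP c hT (hpm hp.ne_zero) hker hC hW⟩

theorem exists_tbl_proj (K : Type u) [Field K] {D : Cfsg.Lie.ChevalleyDatum}
    (hD : D ∈ [Cfsg.Lie.chevG2, Cfsg.Lie.chevB2, Cfsg.Lie.chevD4, Cfsg.Lie.chevF4, Cfsg.Lie.chevE6,
      Cfsg.Lie.chevE7, Cfsg.Lie.chevE8]) :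
    ∃ T : Tbl, ∃ torus : Bool, T.StOk ∧ T.chkPerfect torus = true ∧ T.datum = D ∧
      (torus = true → D ∈ [Cfsg.Lie.chevB2, Cfsg.Lie.chevG2]) ∧ HasPLifts.{u, v} T K := by
  simp only [List.mem_cons, List.not_mem_nil, or_false] at hD
  rcases hD with rfl | rfl | rfl | rfl | rfl | rfl | rfl
  · refine ⟨_, _, ⟨Data.G2.valid, Data.G2.chkComm, Data.G2.chkSorted, Data.G2.chkSplit⟩,
      Data.G2.chkPerfect, Data.G2.datum_eq, fun _ => by simp,
      hasPLifts_of_certs Data.G2.valid Data.G2.chkComm g2_chkWords fun s hs Q _ c => ?_⟩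
    have p1 := exists_pow_ne_one_of_card (k := 1) one_pos s hs (by norm_num)
    have p2 := exists_pow_ne_one_of_card (k := 2) two_pos s hs (by norm_num)
    have p3 := exists_pow_ne_one_of_card (k := 3) three_pos s hs (by norm_num)
    exact ⟨yLiftT Data.G2.valid Data.G2.chkComm g2_chkTorus ⟨fun k hk => by
      simp [g2Cert] at hk; rcases hk with rfl | rfl | rfl <;> assumption,
      fun k hk => by simp [g2Cert] at hk, fun _ => exists_homoth_of_card s hs⟩ c⟩
  · refine ⟨_, _, ⟨Data.B2.valid, Data.B2.chkComm, Data.B2.chkSorted, Data.B2.chkSplit⟩,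
      Data.B2.chkPerfect, Data.B2.datum_eq, fun _ => by simp,
      hasPLifts_of_certs Data.B2.valid Data.B2.chkComm b2_chkWords fun s hs Q _ c => ?_⟩
    have p1 := exists_pow_ne_one_of_card (k := 1) one_pos s hs (by norm_num)
    have p2 := exists_pow_ne_one_of_card (k := 2) two_pos s hs (by norm_num)
    exact ⟨yLiftT Data.B2.valid Data.B2.chkComm b2_chkTorus ⟨fun k hk => by
      simp [b2Cert] at hk; rcases hk with rfl | rfl <;> assumption,
      fun k hk => by simp [b2Cert] at hk; simp [hk], fun _ => exists_homoth_of_card s hs⟩ c⟩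
  · refine ⟨_, _, ⟨Data.D4.valid, Data.D4.chkComm, Data.D4.chkSorted, Data.D4.chkSplit⟩,
      Data.D4.chkPerfect, Data.D4.datum_eq, fun h => by simp at h,
      hasPLifts_of_certs Data.D4.valid Data.D4.chkComm d4_chkWords fun s hs Q _ c => ?_⟩
    have p1 := exists_pow_ne_one_of_card (k := 1) one_pos s hs (by norm_num)
    have p2 := exists_pow_ne_one_of_card (k := 2) two_pos s hs (by norm_num)
    exact ⟨yLiftT Data.D4.valid Data.D4.chkComm d4_chkTorus ⟨fun k hk => by
      simp [d4Cert] at hk; rcases hk with rfl | rfl <;> assumption,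
      fun k hk => by simp [d4Cert] at hk; simp [hk], fun h => by simp [d4Cert] at h⟩ c⟩
  · refine ⟨_, _, ⟨Data.F4.valid, Data.F4.chkComm, Data.F4.chkSorted, Data.F4.chkSplit⟩,
      Data.F4.chkPerfect, Data.F4.datum_eq, fun h => by simp at h,
      hasPLifts_of_certs Data.F4.valid Data.F4.chkComm f4_chkWords fun s hs Q _ c => ?_⟩
    have p1 := exists_pow_ne_one_of_card (k := 1) one_pos s hs (by norm_num)
    have p2 := exists_pow_ne_one_of_card (k := 2) two_pos s hs (by norm_num)
    exact ⟨yLiftT Data.F4.valid Data.F4.chkComm f4_chkTorus_even ⟨fun k hk => by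
      simp [f4CertEven] at hk; rcases hk with rfl | rfl <;> assumption,
      fun k hk => by simp [f4CertEven] at hk; simp [hk], fun h => by simp [f4CertEven] at h⟩ c⟩
  · exact ⟨_, _, ⟨Data.E6.valid, Data.E6.chkComm, Data.E6.chkSorted, Data.E6.chkSplit⟩,
      Data.E6.chkPerfect, Data.E6.datum_eq, fun h => by simp at h,
      fun Q _ c _ _ _ => ⟨yLift Data.E6.valid Data.E6.chkComm e6_chkLaced c⟩⟩
  · exact ⟨_, _, ⟨Data.E7.valid, Data.E7.chkComm, Data.E7.chkSorted, Data.E7.chkSplit⟩,
      Data.E7.chkPerfect, Data.E7.datum_eq, fun h => by simp at h,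
      fun Q _ c _ _ _ => ⟨yLift Data.E7.valid Data.E7.chkComm e7_chkLaced c⟩⟩
  · exact ⟨_, _, ⟨Data.E8.valid, Data.E8.chkComm, Data.E8.chkSorted, Data.E8.chkSplit⟩,
      Data.E8.chkPerfect, Data.E8.datum_eq, fun h => by simp at h,
      fun Q _ c _ _ _ => ⟨yLift Data.E8.valid Data.E8.chkComm e8_chkLaced c⟩⟩

/-- A scalar of determinant one has exponent prime to the characteristic. -/
theorem exists_scalar_exponent {L : Type v} [Field L] (n : ℕ) :
    ∃ m : ℕ, (ringChar L ≠ 0 → Nat.Coprime (ringChar L) m) ∧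
      ∀ e : GL (Fin n) L, e ∈ Subgroup.center (GL (Fin n) L) →
        Matrix.GeneralLinearGroup.det e = 1 → e ^ m = 1 := by
  rcases Nat.eq_zero_or_pos n with rfl | hn
  · refine ⟨1, fun _ => Nat.coprime_one_right _, fun e _ _ => ?_⟩
    exact Units.ext (Matrix.ext fun i => i.elim0)
  have key : ∀ e : GL (Fin n) L, e ∈ Subgroup.center (GL (Fin n) L) →
      Matrix.GeneralLinearGroup.det e = 1 → ∃ a : L, e.val = Matrix.scalar (Fin n) a ∧ a ^ n = 1 := by
    intro e he hdet
    obtain ⟨a, ha⟩ := Matrix.GeneralLinearGroup.mem_center_iff_val_mem_range_scalar.mp he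
    refine ⟨a, ha.symm, ?_⟩
    have h : Matrix.det e.val = 1 := congrArg Units.val hdet
    rw [← ha] at h
    simpa using h
  have fin : ∀ (m : ℕ) (e : GL (Fin n) L) (a : L), e.val = Matrix.scalar (Fin n) a → a ^ m = 1 →
      e ^ m = 1 := by
    intro m e a ha hm
    refine Units.ext ?_
    rw [Units.val_pow_eq_pow_val, ha, ← map_pow, hm, map_one, Units.val_one]
  by_cases hp : ringChar L = 0
  · exact ⟨n, fun h => absurd hp h, fun e he hdet => by
      obtain ⟨a, ha, han⟩ := key e he hdet
      exact fin n e a ha han⟩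
  have hpp : (ringChar L).Prime := (CharP.char_is_prime_or_zero L (ringChar L)).resolve_right hp
  have := Fact.mk hpp
  obtain ⟨k, m, hm, hnm⟩ := Nat.exists_eq_pow_mul_and_not_dvd hn.ne' (ringChar L) hpp.ne_one
  refine ⟨m, fun _ => hpp.coprime_iff_not_dvd.mpr hm, fun e he hdet => ?_⟩
  obtain ⟨a, ha, han⟩ := key e he hdet
  refine fin m e a ha ?_
  have h : (a ^ m - 1) ^ ringChar L ^ k = 0 := by
    rw [sub_pow_char_pow, one_pow, ← pow_mul, mul_comm m, ← hnm, han, sub_self]
  exact sub_eq_zero.mp (pow_eq_zero_iff (pow_ne_zero k hpp.ne_zero) |>.mp h)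

/-- Projective representations in the natural characteristic lift uniquely. -/
theorem cover_projective_lift {T : Tbl} {K : Type u} [Field K] (hO : T.StOk)
    (hperf : commutator (T.datum.SteinbergCover K) = ⊤) {L : Type v} [Field L]
    (hL : ringChar L = ringChar K) (hlift : HasPLifts.{u, max u v} T K)
    (θ : T.datum.SteinbergCover K →* ↥(T.datum.group K))
    (hθ : ∀ (r : ℕ) (t : K), r < T.datum.nroots →
      ((θ (T.datum.scGen K r t) : GL T.datum.Idx K) : Matrix T.datum.Idx T.datum.Idx K) = T.datum.x K r t)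
    {n : ℕ} (φ : ↥(T.datum.group K) →* GL (Fin n) L ⧸ Subgroup.center (GL (Fin n) L)) :
    ∃! ψ : T.datum.SteinbergCover K →* GL (Fin n) L,
      (QuotientGroup.mk' (Subgroup.center (GL (Fin n) L))).comp ψ = φ.comp θ := by
  have hT := hO.valid
  have hθe : θ = covProj hO := PresentedGroup.ext fun p => Subtype.ext (Units.ext (by
    have h1 := hθ p.1.val p.2 p.1.2
    have h2 : (hO.chom K (T.cX K p.1.val p.2)).val = T.datum.x K p.1.val p.2 := by
      rw [chom_cX hO p.1.2, x_eq hT K p.1.2, xU_val hT p.1.2]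
    rw [coverGen_eq]
    exact h1.trans h2.symm))
  subst hθe
  let mk := QuotientGroup.mk' (Subgroup.center (GL (Fin n) L))
  let P : Subgroup (↥(T.datum.group K) × GL (Fin n) L) :=
    MonoidHom.eqLocus (φ.comp (MonoidHom.fst _ _)) (mk.comp (MonoidHom.snd _ _))
  let p : ↥P →* ↥(T.datum.group K) := (MonoidHom.fst _ _).comp P.subtype
  have hp : Function.Surjective p := fun g => by
    obtain ⟨e, he⟩ := QuotientGroup.mk'_surjective (Subgroup.center (GL (Fin n) L)) (φ g)
    exact ⟨⟨(g, e), he.symm⟩, rfl⟩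
  have hzc : ∀ z : ↥P, p z = 1 → z.1.2 ∈ Subgroup.center (GL (Fin n) L) := fun z hz => by
    have h : φ z.1.1 = mk z.1.2 := z.2
    rw [show z.1.1 = 1 from hz, map_one] at h
    exact (QuotientGroup.eq_one_iff z.1.2).mp h.symm
  -- the derived subgroup
  set Q := commutator ↥P with hQdef
  have hG : commutator ↥(T.datum.group K) = ⊤ := by
    rw [_root_.commutator_def, ← Subgroup.map_top_of_surjective _ (covProj_surjective (F := K) hO),
      ← Subgroup.map_commutator, ← _root_.commutator_def, hperf]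
  have hQs : Q.map p = ⊤ := by
    rw [hQdef, _root_.commutator_def, Subgroup.map_commutator, Subgroup.map_top_of_surjective p hp,
      ← _root_.commutator_def, hG]
  have hdet : Q ≤ (Matrix.GeneralLinearGroup.det.comp ((MonoidHom.snd _ _).comp P.subtype)).ker :=
    Abelianization.commutator_subset_ker _
  let c : Cov T K ↥Q :=
    { π := (T.datum.group K).subtype.comp (p.comp Q.subtype)
      ker_le := fun z hz => by
        have hz1 : p z.1 = 1 := Subtype.ext (MonoidHom.mem_ker.mp hz)
        rw [Subgroup.mem_center_iff]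
        exact fun w => Subtype.ext (Subtype.ext (Prod.ext (by simp [show z.1.1.1 = 1 from hz1])
          (Subgroup.mem_center_iff.mp (hzc z.1 hz1) w.1.1.2)))
      le_range := fun g hg => by
        obtain ⟨q, hq, hqx⟩ := (hQs.ge (Subgroup.mem_top ⟨g, hg⟩) : _ ∈ Q.map p)
        exact ⟨⟨q, hq⟩, congrArg Subtype.val hqx⟩ }
  obtain ⟨m, hm, hexp⟩ := exists_scalar_exponent (L := L) n
  obtain ⟨Y⟩ := hlift ↥Q c m (hL ▸ hm) (fun z hz => by
    have hz1 : p z.1 = 1 := Subtype.ext hz
    refine Subtype.ext (Subtype.ext (Prod.ext ?_ ?_))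
    · show (z.1.1.1) ^ m = 1
      rw [show z.1.1.1 = 1 from hz1, one_pow]
    · show z.1.1.2 ^ m = 1
      exact hexp _ (hzc z.1 hz1) (hdet z.2))
  obtain ⟨χ, hχ⟩ := exists_coverHom hO Y
  have hψ : mk.comp ((MonoidHom.snd _ _).comp (P.subtype.comp (Q.subtype.comp χ))) =
      φ.comp (covProj hO) := by
    refine MonoidHom.ext fun x => ?_
    have h : φ (χ x).1.1.1 = mk (χ x).1.1.2 := (χ x).1.2
    have hx : ((χ x).1.1.1 : GL T.I K) = hO.chom K x := DFunLike.congr_fun hχ x
    rw [show (χ x).1.1.1 = covProj hO x from Subtype.ext hx] at h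
    exact h.symm
  refine ⟨_, hψ, fun ψ' hψ' => hom_eq_of_central hperf _ _ fun x => ?_⟩
  rw [← QuotientGroup.eq]
  exact ((DFunLike.congr_fun hψ' x).trans (DFunLike.congr_fun hψ x).symm).symm

end CfsgLib.KnownA.SteinbergUniv
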