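import Mathlib

/-!
Burnside's Frattini argument for subgroups of an abelian Sylow subgroup, and lifting of
p-subgroups along surjections.
-/

set_option autoImplicit false

namespace CfsgLib.KnownA.AbelianSylow

open Subgroup

variable {G : Type*} [Group G]

/-- Elements of the normaliser of `Q` are products of elements of `N(Q) ∩ N(P)` and `C(Q)`. -/
theorem normalizer_le_sup [Finite G] {p : ℕ} [Fact p.Prime] (P : Sylow p G)
    (hP : IsMulCommutative (P : Subgroup G)) {Q : Subgroup G} (hQ : Q ≤ (P : Subgroup G))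
    {g : G} (hg : g ∈ normalizer (Q : Set G)) :
    ∃ c ∈ centralizer (Q : Set G), c * g ∈ normalizer (Q : Set G) ⊓ normalizer ((P : Subgroup G) : Set G) := by
  have hPC : (P : Subgroup G) ≤ centralizer (Q : Set G) := fun x hx q hq =>
    congrArg Subtype.val (hP.is_comm.comm ⟨q, hQ hq⟩ ⟨x, hx⟩)
  have hnorm : normalizer (Q : Set G) ≤ normalizer ((centralizer (Q : Set G)) : Set G) :=
    (Subgroup.normal_subgroupOf_iff_le_normalizer
      (Subgroup.centralizer_le_normalizer _)).1 inferInstance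
  have hgP : ((g • P : Sylow p G) : Subgroup G) ≤ centralizer (Q : Set G) := by
    intro x hx
    rw [Sylow.coe_subgroup_smul, Subgroup.mem_pointwise_smul_iff_inv_smul_mem] at hx
    have h2 := (mem_normalizer_iff.1 (hnorm hg) _).1 (hPC hx)
    simpa [mul_assoc] using h2
  obtain ⟨c, hc⟩ := MulAction.exists_smul_eq ↥(centralizer (Q : Set G))
    ((g • P).subtype hgP) (P.subtype hPC)
  simp_rw [Sylow.smul_subtype, Subgroup.smul_def] at hc
  have hc' : ((c : G) • (g • P) : Sylow p G) = P := Sylow.subtype_injective hc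
  refine ⟨c, c.2, ?_, ?_⟩
  · exact mul_mem (Subgroup.centralizer_le_normalizer _ c.2) hg
  · exact Sylow.smul_eq_iff_mem_normalizer.1 (by rw [mul_smul]; exact hc')

/-- A p-subgroup of a quotient is the image of a p-subgroup. -/
theorem exists_pgroup_map_eq {A B : Type*} [Group A] [Group B] [Finite A] {p : ℕ} [Fact p.Prime]
    {f : A →* B} (hf : Function.Surjective f) {U : Subgroup B} (hU : IsPGroup p ↥U) :
    ∃ S : Subgroup A, IsPGroup p ↥S ∧ S.map f = U := by
  haveI : Finite B := Finite.of_surjective f hf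
  obtain ⟨S⟩ : Nonempty (Sylow p ↥(U.comap f)) := inferInstance
  let f' : ↥(U.comap f) →* ↥U :=
    (f.comp (U.comap f).subtype).codRestrict U (fun x => x.2)
  have hf' : Function.Surjective f' := by
    rintro ⟨b, hb⟩
    obtain ⟨a, rfl⟩ := hf b
    exact ⟨⟨a, hb⟩, rfl⟩
  have htop : (S : Subgroup ↥(U.comap f)).map f' = ⊤ := by
    have h1 : IsPGroup p (⊤ : Subgroup ↥U) := hU.to_subgroup ⊤
    have h2 := (S.mapSurjective hf').is_maximal' h1 le_top
    rw [Sylow.coe_mapSurjective] at h2
    exact h2.symm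
  refine ⟨(S : Subgroup ↥(U.comap f)).map (U.comap f).subtype, S.2.map _, ?_⟩
  ext b
  constructor
  · rintro ⟨a, ⟨x, -, rfl⟩, rfl⟩
    exact x.2
  · intro hb
    obtain ⟨x, hx, hxb⟩ : (⟨b, hb⟩ : ↥U) ∈ (S : Subgroup ↥(U.comap f)).map f' := htop ▸ Subgroup.mem_top _
    exact ⟨x, ⟨x, hx, rfl⟩, congrArg Subtype.val hxb⟩

end CfsgLib.KnownA.AbelianSylow
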