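import Mathlib
import Cfsg.Prelude.Def_ChevAutomorphisms
import Cfsg.Agent.Lib.Chevalley.Tables
import Cfsg.Agent.Lib.Chevalley.Roots
import Cfsg.Agent.Lib.Chevalley.Datum

/-!
Generation of Chevalley groups by the elements of fundamental roots and their negatives, and
graph automorphisms on all root elements when all roots have the same length.
-/

set_option autoImplicit false

namespace CfsgLib.KnownA.ChevalleyGen

open CfsgLib.Chevalley CfsgLib.Chevalley.Tbl

variable {T : Tbl} {F : Type*} [Field F] (hT : T.Valid)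
include hT

lemma xU_mem {r : ℕ} (hr : r < T.n) (t : F) : T.xU F r t ∈ T.datum.group F := by
  rw [group_eq hT]; exact Subgroup.subset_closure ⟨r, hr, t, rfl⟩

/-- A subgroup with all root elements of fundamental roots and their negatives is everything. -/
theorem group_le (H : Subgroup (GL T.I F))
    (hH : ∀ i < T.rank, ∀ t, T.xU F (T.simple i) t ∈ H ∧ T.xU F (T.neg (T.simple i)) t ∈ H) :
    T.datum.group F ≤ H := by
  rw [group_eq hT, Subgroup.closure_le]
  rintro _ ⟨r, hr, t, rfl⟩
  obtain ⟨i, hi, g, e, hg, ⟨he, h1, -⟩, -⟩ := exists_carries hT (F := F) r hr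
  have hgH : g ∈ H := by
    refine Subgroup.closure_le (K := H) |>.2 ?_ hg
    rintro _ ⟨j, hj, rfl⟩
    exact mul_mem (mul_mem (hH j hj 1).1 (hH j hj _).2) (hH j hj 1).1
  have : T.xU F r t = g * T.xU F (T.simple i) (e * t) * g⁻¹ := by
    rw [h1, mul_inv_cancel_right]
    congr 1
    rcases he with rfl | rfl <;> ring
  rw [this]
  exact mul_mem (mul_mem hgH (hH i hi _).1) (inv_mem hgH)

theorem hom_ext {H : Type*} [Group H] (f g : ↥(T.datum.group F) →* H)
    (h : ∀ i < T.rank, ∀ t (u : ↥(T.datum.group F)),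
      ((u : GL T.I F) = T.xU F (T.simple i) t → f u = g u) ∧
      ((u : GL T.I F) = T.xU F (T.neg (T.simple i)) t → f u = g u)) : f = g := by
  refine MonoidHom.ext fun y => ?_
  have hle := group_le hT ((f.eqLocus g).map (T.datum.group F).subtype) fun i hi t =>
    ⟨⟨⟨_, xU_mem hT (simple_lt hT hi) t⟩, (h i hi t _).1 rfl, rfl⟩,
      ⟨⟨_, xU_mem hT (neg_lt' (simple_lt hT hi)) t⟩, (h i hi t _).2 rfl, rfl⟩⟩
  obtain ⟨z, hz, hzy⟩ := hle y.2
  obtain rfl : z = y := Subtype.ext hzy
  exact hz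

omit hT in
lemma pair_sum (r s : ℕ) : T.pair r s = ∑ k : Fin T.rank, T.cv r k * T.ca k s := pair_eq_sum r s

/-- A root is determined by its coefficients on the fundamental coroots. -/
theorem cv_inj : ∀ r < T.n, ∀ s < T.n, (∀ k < T.rank, T.cv s k = T.cv r k) → s = r := by
  refine root_induction hT (P := fun r => ∀ s < T.n, (∀ k < T.rank, T.cv s k = T.cv r k) → s = r) ?_ ?_
  · intro i hi s hs h
    by_contra hne
    have hci : T.cv s i = 1 := by rw [h i hi, cv_simple hT hi hi, if_pos rfl]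
    have hp : T.isPos s = true := by
      by_contra hp
      have := cv_nonpos hT hs (by simpa using hp) hi
      omega
    have hpair : T.pair s (T.simple i) = 2 := by
      rw [← pair_self hT (simple_lt hT hi), pair_sum, pair_sum]
      exact Finset.sum_congr rfl fun k _ => by rw [h k k.2]
    have h1 := cv_nonneg hT (refl_lt hT hi hs) (isPos_refl hT hi hs hp hne) hi
    rw [cv_refl hT hi hs hi, if_pos rfl, hci, hpair] at h1
    omega
  · intro i hi r hr ih s hs h
    have hr' := refl_lt hT hi hr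
    have hpair : T.pair s (T.simple i) = T.pair (T.refl i r) (T.simple i) := by
      rw [pair_sum, pair_sum]; exact Finset.sum_congr rfl fun k _ => by rw [h k k.2]
    have hk : ∀ k < T.rank, T.cv (T.refl i s) k = T.cv r k := fun k hk => by
      rw [cv_refl hT hi hs hk, h k hk, hpair, ← cv_refl hT hi hr' hk, refl_refl hT hi hr]
    have := ih _ (refl_lt hT hi hs) hk
    rw [← this, refl_refl hT hi hs]

/-- The image of a root under a symmetry of the diagram, with the action of a graph automorphism. -/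
theorem graph_roots (π : Equiv.Perm (Fin T.rank))
    (hπ : ∀ i j : Fin T.rank, T.ca (π i) (T.simple (π j)) = T.ca i (T.simple j))
    (Φ : ↥(T.datum.group F) →* GL T.I F)
    (hΦ : ∀ (u : ↥(T.datum.group F)) (i : Fin T.rank) (t : F),
      ((u : GL T.I F) = T.xU F (T.simple i) t → Φ u = T.xU F (T.simple (π i)) t) ∧
      ((u : GL T.I F) = T.xU F (T.neg (T.simple i)) t → Φ u = T.xU F (T.neg (T.simple (π i))) t)) :
    ∀ r < T.n, ∃ r', r' < T.n ∧ (∀ k : Fin T.rank, T.cv r' (π k) = T.cv r k) ∧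
      ∃ e : F, (e = 1 ∨ e = -1) ∧ ∀ (u : ↥(T.datum.group F)) (t : F),
        (u : GL T.I F) = T.xU F r t → Φ u = T.xU F r' (e * t) := by
  refine root_induction hT (P := fun r => ∃ r', r' < T.n ∧ (∀ k : Fin T.rank, T.cv r' (π k) = T.cv r k) ∧
      ∃ e : F, (e = 1 ∨ e = -1) ∧ ∀ (u : ↥(T.datum.group F)) (t : F),
        (u : GL T.I F) = T.xU F r t → Φ u = T.xU F r' (e * t)) ?_ ?_
  · intro i hi
    refine ⟨T.simple (π ⟨i, hi⟩), simple_lt hT (π ⟨i, hi⟩).2, fun k => ?_, 1, .inl rfl, fun u t hu => ?_⟩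
    · rw [cv_simple hT (π ⟨i, hi⟩).2 (π k).2, cv_simple hT hi k.2]
      refine if_congr ?_ rfl rfl
      rw [← Fin.ext_iff, π.injective.eq_iff, Fin.ext_iff]
    · rw [one_mul]; exact (hΦ u ⟨i, hi⟩ t).1 hu
  · rintro j hj s hs ⟨s', hs', hcv, e, he, hφ⟩
    obtain ⟨j', hj'⟩ : ∃ j' : Fin T.rank, j' = π ⟨j, hj⟩ := ⟨_, rfl⟩
    refine ⟨T.refl j' s', refl_lt hT j'.2 hs', fun k => ?_,
      (T.eta j' s' : F) * e * (T.eta j s : F), ?_, fun u t hu => ?_⟩
    · have hpair : T.pair s' (T.simple j') = T.pair s (T.simple j) := by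
        rw [pair_sum, pair_sum, ← Equiv.sum_comp π]
        exact Finset.sum_congr rfl fun m _ => by rw [hcv, hj', hπ m ⟨j, hj⟩]
      rw [cv_refl hT j'.2 hs' (π k).2, cv_refl hT hj hs k.2, hcv, hpair]
      congr 1
      refine if_congr ?_ rfl rfl
      rw [hj', ← Fin.ext_iff, π.injective.eq_iff, Fin.ext_iff]
    · rcases eta_sq hT hj hs with h | h <;> rcases eta_sq hT j'.2 hs' with h' | h' <;>
        rcases he with rfl | rfl <;> simp [h, h']
    · have hn : T.nU F (T.simple j) 1 ∈ T.datum.group F :=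
        mul_mem (mul_mem (xU_mem hT (simple_lt hT hj) 1) (xU_mem hT (neg_lt' (simple_lt hT hj)) _))
          (xU_mem hT (simple_lt hT hj) 1)
      have hΦn : Φ ⟨_, hn⟩ = T.nU F (T.simple j') 1 := by
        rw [show (⟨_, hn⟩ : ↥(T.datum.group F)) = ⟨_, xU_mem hT (simple_lt hT hj) 1⟩ *
          ⟨_, xU_mem hT (neg_lt' (simple_lt hT hj)) (-(1 : F)⁻¹)⟩ * ⟨_, xU_mem hT (simple_lt hT hj) 1⟩ from rfl,
          map_mul, map_mul, (hΦ _ ⟨j, hj⟩ 1).1 rfl, (hΦ _ ⟨j, hj⟩ (-(1 : F)⁻¹)).2 rfl, hj']
        rfl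
      have hu' : u = ⟨_, hn⟩ * ⟨_, xU_mem hT hs ((T.eta j s : F) * t)⟩ * (⟨_, hn⟩)⁻¹ := by
        refine Subtype.ext ?_
        rw [Subgroup.coe_mul, Subgroup.coe_mul, Subgroup.coe_inv, hu, nU_simple_xU hT hj hs,
          mul_inv_cancel_right]
        congr 1
        rcases eta_sq hT hj hs with h | h <;> rw [h] <;> push_cast <;> ring
      rw [hu', map_mul, map_mul, map_inv, hΦn, hφ _ _ rfl, nU_simple_xU hT j'.2 hs',
        mul_inv_cancel_right]
      congr 1
      ring

/-- `permRoot` computes the permuted root. -/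
theorem permRoot_eq (π : Equiv.Perm (Fin T.rank)) {r r' : ℕ} (hr : r < T.n) (hr' : r' < T.n)
    (h : ∀ k : Fin T.rank, T.cv r' (π k) = T.cv r k) : T.datum.permRoot π r = r' := by
  have hiff : ∀ s, s < T.n → (((List.finRange T.rank).all fun i =>
      (T.datum.coroot.getD s #[]).getD (π i).val 0 == (T.datum.coroot.getD r #[]).getD i.val 0) = true ↔
      s = r') := by
    intro s hs
    simp only [List.all_eq_true, List.mem_finRange, beq_iff_eq, forall_true_left]
    constructor
    · intro hall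
      refine cv_inj hT r' hr' s hs fun k hk => ?_
      have h1 := hall (π.symm ⟨k, hk⟩)
      rw [datum_coroot hs (π _).2, datum_coroot hr (π.symm ⟨k, hk⟩).2, ← h, Equiv.apply_symm_apply] at h1
      exact h1
    · rintro rfl i
      rw [datum_coroot hr' (π i).2, datum_coroot hr i.2, h]
  unfold Cfsg.Lie.ChevalleyDatum.permRoot
  rcases hf : (List.range T.datum.nroots).find? fun s => (List.finRange T.datum.rank).all fun i =>
      (T.datum.coroot.getD s #[]).getD (π i).val 0 == (T.datum.coroot.getD r #[]).getD i.val 0 with _ | s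
  · exact absurd ((hiff r' hr').2 rfl) (List.find?_eq_none.1 hf r' (List.mem_range.2 hr'))
  · exact (hiff s (List.mem_range.1 (List.mem_of_find?_eq_some hf))).1 (List.find?_some (p := fun s =>
      (List.finRange T.datum.rank).all fun i =>
      (T.datum.coroot.getD s #[]).getD (π i).val 0 == (T.datum.coroot.getD r #[]).getD i.val 0) hf)

end CfsgLib.KnownA.ChevalleyGen
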