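import Mathlib

/-!
The number of conjugacy classes of `GL_n(q)` is at most `q ^ n`.
-/

set_option autoImplicit false

namespace CfsgLib.ClassNumberGL

open Polynomial Finset

/-- Number of monic polynomials of degree `d` with non-zero constant coefficient. -/
def wt (q : ℕ) : ℕ → ℕ
  | 0 => 1
  | (d + 1) => (q - 1) * q ^ d

/-- Weighted count of tuples `(b_1, …, b_m)` with `∑ i * deg b_i = n`. -/
def F (q : ℕ) : ℕ → ℕ → ℕ
  | 0, n => if n = 0 then 1 else 0
  | (m + 1), n => ∑ d ∈ range (n / (m + 1) + 1), wt q d * F q m (n - (m + 1) * d)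

def H (q m k : ℕ) : ℕ := ∑ d ∈ range (k / (m + 1) + 1), q ^ d * F q m (k - (m + 1) * d)

theorem F_zero_right (q : ℕ) : ∀ m, F q m 0 = 1
  | 0 => by simp [F]
  | (m + 1) => by simp [F, wt, F_zero_right q m]

theorem F_succ_of_lt (q m n : ℕ) (h : n < m + 1) : F q (m + 1) n = F q m n := by
  simp [F, Nat.div_eq_of_lt h, wt]

theorem F_succ_of_le (q m n : ℕ) (h : m + 1 ≤ n) :
    F q (m + 1) n = F q m n + (q - 1) * H q m (n - (m + 1)) := by
  show ∑ d ∈ range (n / (m + 1) + 1), wt q d * F q m (n - (m + 1) * d) = _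
  rw [sum_range_succ', Nat.div_eq_sub_div (Nat.succ_pos m) h, H, mul_sum]
  rw [add_comm (F q m n)]
  congr 1
  · refine sum_congr rfl fun d _ => ?_
    rw [wt, mul_assoc]
    congr 3
    rw [Nat.mul_succ, Nat.sub_sub, add_comm]
  · simp [wt]

theorem H_of_le (q m k : ℕ) (h : m + 1 ≤ k) :
    H q m k = F q m k + q * H q m (k - (m + 1)) := by
  rw [H, sum_range_succ', Nat.div_eq_sub_div (Nat.succ_pos m) h, H, mul_sum, add_comm (F q m k)]
  congr 1
  · refine sum_congr rfl fun d _ => ?_
    rw [pow_succ', mul_assoc]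
    congr 3
    rw [Nat.mul_succ, Nat.sub_sub, add_comm]
  · simp

theorem F_bound (q : ℕ) (hq : 1 ≤ q) :
    ∀ m n, 0 < n → q ^ m * F q m n + q ^ n ≤ q ^ (m + n) := by
  intro m
  induction m with
  | zero => intro n hn; simp [F, hn.ne']
  | succ m ih =>
    intro n hn
    have hle : ∀ k, F q m k ≤ q ^ k := by
      intro k
      rcases Nat.eq_zero_or_pos k with rfl | hk
      · simp [F_zero_right]
      · have h1 := ih k hk
        rw [pow_add] at h1
        exact Nat.le_of_mul_le_mul_left ((Nat.le_add_right _ _).trans h1) (Nat.pow_pos hq)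
    have hH : ∀ k, H q m k ≤ q ^ k := by
      intro k
      induction k using Nat.strong_induction_on with
      | _ k ihk =>
        rcases Nat.lt_or_ge k (m + 1) with hk | hk
        · simp [H, Nat.div_eq_of_lt hk, hle k]
        · rw [H_of_le q m k hk]
          have h2 := Nat.mul_le_mul_left q (ihk (k - (m + 1)) (by omega))
          have h3 := ih k (by omega)
          have h4 : q ^ m * (q * q ^ (k - (m + 1))) = q ^ k := by
            rw [← mul_assoc, ← pow_succ, ← pow_add, Nat.add_sub_cancel' hk]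
          refine (Nat.mul_le_mul_left_iff (Nat.pow_pos hq (n := m))).mp ?_
          calc q ^ m * (F q m k + q * H q m (k - (m + 1)))
              ≤ q ^ m * (F q m k + q * q ^ (k - (m + 1))) :=
                Nat.mul_le_mul_left _ (Nat.add_le_add_left h2 _)
            _ = q ^ m * F q m k + q ^ k := by rw [mul_add, h4]
            _ ≤ q ^ (m + k) := h3
            _ = q ^ m * q ^ k := pow_add _ _ _
    have h1 := Nat.mul_le_mul_left q (ih n hn)
    rcases Nat.lt_or_ge n (m + 1) with hnm | hnm
    · rw [F_succ_of_lt q m n hnm]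
      rw [mul_add, ← mul_assoc, ← pow_succ'] at h1
      rw [show m + 1 + n = (m + n) + 1 by omega, pow_succ' q (m + n)]
      refine le_trans ?_ h1
      exact Nat.add_le_add_left (Nat.le_mul_of_pos_left _ hq) _
    · rw [F_succ_of_le q m n hnm]
      have h2 := Nat.mul_le_mul_left (q ^ (m + 1) * (q - 1)) (hH (n - (m + 1)))
      have h4 : q ^ (m + 1) * (q - 1) * q ^ (n - (m + 1)) + q ^ n = q * q ^ n := by
        rw [mul_comm (q ^ (m + 1)) (q - 1), mul_assoc, ← pow_add, Nat.add_sub_cancel' hnm]
        obtain ⟨r, rfl⟩ : ∃ r, q = r + 1 := ⟨q - 1, by omega⟩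
        rw [Nat.add_sub_cancel]; ring
      calc q ^ (m + 1) * (F q m n + (q - 1) * H q m (n - (m + 1))) + q ^ n
          = q * (q ^ m * F q m n) + (q ^ (m + 1) * (q - 1) * H q m (n - (m + 1))) + q ^ n := by ring
        _ ≤ q * (q ^ m * F q m n) + (q ^ (m + 1) * (q - 1) * q ^ (n - (m + 1))) + q ^ n :=
            Nat.add_le_add_right (Nat.add_le_add_left h2 _) _
        _ = q * (q ^ m * F q m n + q ^ n) := by rw [add_assoc, h4, mul_add]
        _ ≤ q * q ^ (m + n) := h1
        _ = q ^ (m + 1 + n) := by ring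

theorem F_self_le (q : ℕ) (hq : 1 ≤ q) (n : ℕ) : F q n n ≤ q ^ n := by
  rcases Nat.eq_zero_or_pos n with rfl | hn
  · simp [F]
  · have h := F_bound q hq n n hn
    rw [pow_add] at h
    exact Nat.le_of_mul_le_mul_left ((Nat.le_add_right _ _).trans h) (Nat.pow_pos hq)

variable {K : Type*} [Field K]

/-- Monic polynomials with non-zero constant coefficient of degree `d`. -/
abbrev Pol (K : Type*) [Field K] (d : ℕ) :=
  {P : K[X] // P.Monic ∧ P.natDegree = d ∧ P.coeff 0 ≠ 0}

/-- Tuples `(b_1, …, b_m)` of such polynomials with `∑ i * deg b_i = n`. -/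
abbrev Tup (K : Type*) [Field K] (m n : ℕ) :=
  {b : Fin m → K[X] //
    (∀ i, (b i).Monic ∧ (b i).coeff 0 ≠ 0) ∧ ∑ i : Fin m, ((i : ℕ) + 1) * (b i).natDegree = n}

theorem card_pol [Fintype K] (d : ℕ) :
    Finite (Pol K d) ∧ Nat.card (Pol K d) ≤ wt (Fintype.card K) d := by
  classical
  cases d with
  | zero =>
    have hs : Subsingleton (Pol K 0) := ⟨fun a b => Subtype.ext (by
      rw [eq_one_of_monic_natDegree_zero a.2.1 a.2.2.1, eq_one_of_monic_natDegree_zero b.2.1 b.2.2.1])⟩
    exact ⟨Finite.of_subsingleton, Finite.card_le_one_iff_subsingleton.mpr hs⟩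
  | succ k =>
    let e : {P : K[X] // P.Monic ∧ P.natDegree = k + 1} ≃ (Fin (k + 1) → K) :=
      (Polynomial.monicEquivDegreeLT (k + 1)).trans (Polynomial.degreeLTEquiv K (k + 1)).toEquiv
    let g : Pol K (k + 1) → {c : K // c ≠ 0} × (Fin k → K) := fun P =>
      (⟨(P : K[X]).coeff 0, P.2.2.2⟩, fun i => e ⟨P, P.2.1, P.2.2.1⟩ i.succ)
    have hg : Function.Injective g := by
      intro P Q h
      simp only [g, Prod.mk.injEq, Subtype.mk.injEq] at h
      have he : ∀ P, e P 0 = (P : K[X]).coeff 0 := by
        intro P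
        show (Polynomial.eraseLead (P : K[X])).coeff 0 = _
        rw [Polynomial.eraseLead_coeff_of_ne]
        rw [P.2.2]; exact (Nat.succ_pos k).ne
      have : e ⟨P, P.2.1, P.2.2.1⟩ = e ⟨Q, Q.2.1, Q.2.2.1⟩ := by
        refine _root_.funext fun i => ?_
        refine Fin.cases ?_ (fun j => congrFun h.2 j) i
        rw [he, he]; exact h.1
      exact Subtype.ext (congrArg (fun x : {P : K[X] // P.Monic ∧ P.natDegree = k + 1} => x.1)
        (e.injective this))
    refine ⟨Finite.of_injective g hg, (Nat.card_le_card_of_injective g hg).trans (le_of_eq ?_)⟩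
    rw [Nat.card_eq_fintype_card, Fintype.card_prod, Fintype.card_fun, Fintype.card_fin,
      Fintype.card_subtype_compl, Fintype.card_subtype_eq, wt]

theorem card_tup [Fintype K] (m : ℕ) :
    ∀ n, Finite (Tup K m n) ∧ Nat.card (Tup K m n) ≤ F (Fintype.card K) m n := by
  induction m with
  | zero =>
    intro n
    have hs : Subsingleton (Tup K 0 n) := ⟨fun a b => Subtype.ext (_root_.funext fun i => i.elim0)⟩
    refine ⟨Finite.of_subsingleton, ?_⟩
    rcases Nat.eq_zero_or_pos n with rfl | hn
    · simpa [F] using Finite.card_le_one_iff_subsingleton.mpr hs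
    · have : IsEmpty (Tup K 0 n) := ⟨fun a => by have := a.2.2; simp at this; omega⟩
      simp [Nat.card_of_isEmpty]
  | succ m ih =>
    intro n
    let S := Σ d : Fin (n / (m + 1) + 1), Pol K d × Tup K m (n - (m + 1) * d)
    have hsum : ∀ b : Tup K (m + 1) n, (∑ i : Fin m, ((i : ℕ) + 1) * (b.1 i.castSucc).natDegree) +
        (m + 1) * (b.1 (Fin.last m)).natDegree = n := fun b => by
      have h := b.2.2
      rwa [Fin.sum_univ_castSucc] at h
    let g : Tup K (m + 1) n → S := fun b =>
      ⟨⟨(b.1 (Fin.last m)).natDegree, by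
          rw [Nat.lt_succ_iff, Nat.le_div_iff_mul_le (Nat.succ_pos m)]
          rw [mul_comm, Nat.succ_eq_add_one]; have := hsum b; omega⟩,
        ⟨b.1 (Fin.last m), (b.2.1 _).1, rfl, (b.2.1 _).2⟩,
        ⟨fun i => b.1 i.castSucc, fun i => b.2.1 _, by have := hsum b; simp only []; omega⟩⟩
    have hg : Function.Injective g := by
      intro a b h
      have h1 : a.1 (Fin.last m) = b.1 (Fin.last m) := congrArg (fun x : S => x.2.1.1) h
      have h2 : (fun i : Fin m => a.1 i.castSucc) = fun i => b.1 i.castSucc :=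
        congrArg (fun x : S => x.2.2.1) h
      exact Subtype.ext (_root_.funext fun i => Fin.lastCases h1 (fun j => congrFun h2 j) i)
    have : ∀ d : Fin (n / (m + 1) + 1), Finite (Pol K d) := fun d => (card_pol _).1
    have : ∀ d : Fin (n / (m + 1) + 1), Finite (Tup K m (n - (m + 1) * d)) := fun d => (ih _).1
    refine ⟨Finite.of_injective g hg, (Nat.card_le_card_of_injective g hg).trans ?_⟩
    rw [Nat.card_sigma]
    show _ ≤ ∑ d ∈ range (n / (m + 1) + 1),
      wt (Fintype.card K) d * F (Fintype.card K) m (n - (m + 1) * d)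
    rw [← Fin.sum_univ_eq_sum_range]
    refine sum_le_sum fun d _ => ?_
    rw [Nat.card_prod]
    exact Nat.mul_le_mul (card_pol _).2 (ih _).2

/-- An elementary divisor decomposition of a matrix. -/
structure Decomp {n : ℕ} (A : Matrix (Fin n) (Fin n) K) where
  ι : Type
  fι : Fintype ι
  p : ι → K[X]
  e : ι → ℕ
  monic : ∀ i, (p i).Monic
  irr : ∀ i, Irreducible (p i)
  pos : ∀ i, 0 < e i
  equiv : Module.AEval' (Matrix.toLin' A) ≃ₗ[K[X]] ∀ i, K[X] ⧸ Ideal.span {p i ^ e i}

theorem exists_decomp {n : ℕ} (A : Matrix (Fin n) (Fin n) K) : Nonempty (Decomp A) := by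
  classical
  let φ := Matrix.toLin' A
  have htor : Module.IsTorsion K[X] (Module.AEval' φ) := by
    intro x
    refine ⟨⟨minpoly K φ, mem_nonZeroDivisors_of_ne_zero
      (minpoly.ne_zero (Algebra.IsIntegral.isIntegral _))⟩, ?_⟩
    apply (Module.AEval'.of φ).symm.injective
    show (Module.AEval'.of φ).symm (minpoly K φ • x) = _
    rw [Module.AEval.of_symm_smul, minpoly.aeval, zero_smul, map_zero]
  obtain ⟨ι, fι, p, hp, e, ⟨E⟩⟩ := Module.equiv_directSum_of_isTorsion htor
  let J := {i // e i ≠ 0}
  let s := Fintype.equivFin J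
  let r : (∀ i, K[X] ⧸ K[X] ∙ p i ^ e i) →ₗ[K[X]]
      ∀ j : Fin (Fintype.card J), K[X] ⧸ K[X] ∙ p (s.symm j).1 ^ e (s.symm j).1 :=
    LinearMap.pi fun j => LinearMap.proj (s.symm j).1
  have hr : Function.Bijective r := by
    constructor
    · intro a b h
      refine _root_.funext fun i => ?_
      by_cases hi : e i = 0
      · have : Subsingleton (K[X] ⧸ K[X] ∙ p i ^ e i) := by
          rw [Submodule.Quotient.subsingleton_iff, hi, pow_zero]
          exact Ideal.span_singleton_one
        exact Subsingleton.elim _ _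
      · have h' := congrFun h (s ⟨i, hi⟩)
        simp only [r, LinearMap.pi_apply, LinearMap.proj_apply] at h'
        rw [Equiv.symm_apply_apply] at h'
        exact h'
    · intro y
      obtain ⟨z, hz⟩ : ∃ z : ∀ j : J, K[X] ⧸ K[X] ∙ p j.1 ^ e j.1, ∀ j, z (s.symm j) = y j := by
        refine ⟨(Equiv.piCongrLeft (fun j : J => K[X] ⧸ K[X] ∙ p j.1 ^ e j.1) s.symm) y, fun j => ?_⟩
        exact Equiv.piCongrLeft_apply_apply _ _ _ _
      refine ⟨fun i => if hi : e i = 0 then 0 else z ⟨i, hi⟩, funext fun j => ?_⟩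
      simp only [r, LinearMap.pi_apply, LinearMap.proj_apply]
      rw [dif_neg (s.symm j).2]
      exact hz j
  have hspan : ∀ j, (K[X] ∙ p (s.symm j).1 ^ e (s.symm j).1) =
      Ideal.span {normalize (p (s.symm j).1) ^ e (s.symm j).1} := fun j => by
    rw [← Ideal.submodule_span_eq, Ideal.submodule_span_eq, Ideal.submodule_span_eq,
      Ideal.span_singleton_eq_span_singleton]
    exact (normalize_associated _).symm.pow_pow
  exact ⟨{
    ι := Fin (Fintype.card J)
    fι := inferInstance
    p := fun j => normalize (p (s.symm j).1)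
    e := fun j => e (s.symm j).1
    monic := fun j => Polynomial.monic_normalize (hp _).ne_zero
    irr := fun j => (normalize_associated _).symm.irreducible (hp _)
    pos := fun j => Nat.pos_of_ne_zero (s.symm j).2
    equiv := (E.trans (DirectSum.linearEquivFunOnFintype _ _ _)).trans
      ((LinearEquiv.ofBijective r hr).trans
        (LinearEquiv.piCongrRight fun j => Submodule.quotEquivOfEq _ _ (hspan j))) }⟩


attribute [local instance] Decomp.fι

theorem natCard_quot [Fintype K] {P : K[X]} (hP : P.Monic) :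
    Finite (K[X] ⧸ Ideal.span {P}) ∧
      Nat.card (K[X] ⧸ Ideal.span {P}) = Fintype.card K ^ P.natDegree := by
  have hf := hP.finite_adjoinRoot
  have hfin : Finite (AdjoinRoot P) := Module.finite_of_finite K
  refine ⟨hfin, ?_⟩
  show Nat.card (AdjoinRoot P) = _
  rw [Module.natCard_eq_pow_finrank (K := K), Nat.card_eq_fintype_card,
    (AdjoinRoot.powerBasis hP.ne_zero).finrank, AdjoinRoot.powerBasis_dim]

theorem decomp_degree [Fintype K] {n : ℕ} {A : Matrix (Fin n) (Fin n) K} (D : Decomp A) :
    ∑ i, D.e i * (D.p i).natDegree = n := by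
  have h := Nat.card_congr D.equiv.toEquiv
  rw [Nat.card_pi, Nat.card_congr (Module.AEval'.of (Matrix.toLin' A)).symm.toEquiv,
    Nat.card_eq_fintype_card, Fintype.card_fun, Fintype.card_fin] at h
  rw [Finset.prod_congr rfl (fun i _ => (natCard_quot ((D.monic i).pow (D.e i))).2),
    Finset.prod_pow_eq_pow_sum] at h
  have h' := Nat.pow_right_injective Fintype.one_lt_card h
  refine Eq.trans ?_ h'.symm
  exact Finset.sum_congr rfl fun i _ => ((D.monic i).natDegree_pow _).symm

theorem decomp_coeff_zero {n : ℕ} {A : Matrix (Fin n) (Fin n) K} (hA : IsUnit A) (D : Decomp A)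
    (i : D.ι) : (D.p i).coeff 0 ≠ 0 := by
  classical
  intro h0
  have hX : D.p i = X := by
    obtain ⟨r, hr⟩ := Polynomial.X_dvd_iff.mpr h0
    have hu := ((D.irr i).isUnit_or_isUnit hr).resolve_left Polynomial.not_isUnit_X
    have hr1 : r.Monic := by
      have := D.monic i
      rw [hr] at this
      exact Polynomial.monic_X.of_mul_monic_left this
    rw [hr, hr1.eq_one_of_isUnit hu, mul_one]
  obtain ⟨k, hk⟩ : ∃ k, D.e i = k + 1 := ⟨D.e i - 1, by have := D.pos i; omega⟩
  let x : ∀ j, K[X] ⧸ Ideal.span {D.p j ^ D.e j} :=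
    Pi.single i (Ideal.Quotient.mk _ (X ^ k))
  have hx : x ≠ 0 := by
    intro hc
    have := congrFun hc i
    simp only [x, Pi.single_eq_same, Pi.zero_apply, Ideal.Quotient.eq_zero_iff_mem,
      Ideal.mem_span_singleton, hX, hk] at this
    have := Polynomial.natDegree_le_of_dvd this (pow_ne_zero _ Polynomial.X_ne_zero)
    simp at this
  have hXx : (X : K[X]) • x = 0 := by
    refine _root_.funext fun j => ?_
    by_cases hj : j = i
    · subst hj
      simp only [x, Pi.smul_apply, Pi.single_eq_same, Pi.zero_apply]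
      rw [show (X : K[X]) • (Ideal.Quotient.mk (Ideal.span {D.p j ^ D.e j}) (X ^ k)) =
        Ideal.Quotient.mk _ (X * X ^ k) from rfl, Ideal.Quotient.eq_zero_iff_mem,
        Ideal.mem_span_singleton, hX, hk, pow_succ']
    · simp [x, Pi.single_eq_of_ne hj]
  let y := (Module.AEval'.of (Matrix.toLin' A)).symm (D.equiv.symm x)
  have hy : Matrix.toLin' A y = 0 := by
    have h1 := congrArg (Module.AEval'.of (Matrix.toLin' A)).symm
      ((D.equiv.symm.map_smul (X : K[X]) x).symm.trans (by rw [hXx, map_zero]))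
    rwa [Module.AEval'.of_symm_X_smul, map_zero] at h1
  have hy0 : y = 0 := Matrix.mulVec_injective_iff_isUnit.mpr hA (by
    rw [Matrix.mulVec_zero, ← Matrix.toLin'_apply]; exact hy)
  simp only [y, LinearEquiv.map_eq_zero_iff] at hy0
  exact hx hy0

open Classical in
/-- The tuple attached to a decomposition. -/
noncomputable def tup {n : ℕ} {A : Matrix (Fin n) (Fin n) K} (D : Decomp A) (i : Fin n) : K[X] :=
  ∏ j ∈ Finset.univ.filter (fun j => D.e j = (i : ℕ) + 1), D.p j

theorem tup_mem [Fintype K] {n : ℕ} {A : Matrix (Fin n) (Fin n) K} (hA : IsUnit A) (D : Decomp A) :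
    (∀ i, (tup D i).Monic ∧ (tup D i).coeff 0 ≠ 0) ∧
      ∑ i : Fin n, ((i : ℕ) + 1) * (tup D i).natDegree = n := by
  classical
  refine ⟨fun i => ⟨Polynomial.monic_prod_of_monic _ _ fun j _ => D.monic j, ?_⟩, ?_⟩
  · rw [tup, Polynomial.coeff_zero_prod, Finset.prod_ne_zero_iff]
    exact fun j _ => decomp_coeff_zero hA D j
  · have hlt : ∀ j, D.e j - 1 < n := fun j => by
      have h1 := Finset.single_le_sum (f := fun i => D.e i * (D.p i).natDegree)
        (fun _ _ => Nat.zero_le _) (Finset.mem_univ j)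
      rw [decomp_degree D] at h1
      have := Nat.le_mul_of_pos_right (D.e j) (D.irr j).natDegree_pos
      have := D.pos j
      omega
    conv_rhs => rw [← decomp_degree D]
    rw [← Finset.sum_fiberwise Finset.univ (fun j => (⟨D.e j - 1, hlt j⟩ : Fin n))]
    refine Finset.sum_congr rfl fun i _ => ?_
    rw [tup, Polynomial.natDegree_prod_of_monic _ _ fun j _ => D.monic j, Finset.mul_sum]
    refine Finset.sum_congr ?_ fun j hj => ?_
    · ext j
      simp only [Finset.mem_filter, Finset.mem_univ, true_and, Fin.ext_iff]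
      have := D.pos j; omega
    · simp only [Finset.mem_filter, Finset.mem_univ, true_and, Fin.ext_iff] at hj
      rw [← hj, Nat.sub_add_cancel (D.pos j)]

theorem intertwine_of_tup [Fintype K] {n : ℕ} {A B : Matrix (Fin n) (Fin n) K}
    (D : Decomp A) (E : Decomp B) (h : tup D = tup E) :
    ∃ e : (Fin n → K) ≃ₗ[K] (Fin n → K), ∀ x, e (Matrix.toLin' A x) = Matrix.toLin' B (e x) := by
  classical
  have key : ∀ c : ℕ × K[X], Fintype.card {j // (D.e j, D.p j) = c} =
      Fintype.card {j // (E.e j, E.p j) = c} := by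
    intro c
    have hcount : ∀ {C : Matrix (Fin n) (Fin n) K} (D : Decomp C),
        Fintype.card {j // (D.e j, D.p j) = c} =
          if hc : 0 < c.1 ∧ c.1 ≤ n then
            (UniqueFactorizationMonoid.normalizedFactors (tup D ⟨c.1 - 1, by omega⟩)).count c.2
          else 0 := by
      intro C D
      split_ifs with hc
      · rw [tup, Finset.prod_eq_multiset_prod, UniqueFactorizationMonoid.normalizedFactors_prod_eq _
          (by intro a ha; obtain ⟨j, _, rfl⟩ := Multiset.mem_map.mp ha; exact D.irr j),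
          Multiset.map_map, Multiset.count_map, Fintype.card_subtype]
        rw [← Finset.filter_val, Finset.filter_filter, ← Finset.card_def]
        refine congrArg Finset.card (Finset.filter_congr fun j _ => ?_)
        rw [Prod.ext_iff, Function.comp_apply, (D.monic j).normalize_eq_self]
        simp only [Nat.sub_add_cancel hc.1]
        exact and_congr_right fun _ => eq_comm
      · rw [Fintype.card_eq_zero_iff]
        refine ⟨fun ⟨j, hj⟩ => hc ?_⟩
        have h1 := Finset.single_le_sum (f := fun i => D.e i * (D.p i).natDegree)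
          (fun _ _ => Nat.zero_le _) (Finset.mem_univ j)
        rw [decomp_degree D] at h1
        have := Nat.le_mul_of_pos_right (D.e j) (D.irr j).natDegree_pos
        have := D.pos j
        have := congrArg Prod.fst hj
        simp only [] at h1 this
        omega
    rw [hcount D, hcount E, h]
  let σ : D.ι ≃ E.ι := Equiv.ofFiberEquiv fun c => Fintype.equivOfCardEq (key c)
  have hσ : ∀ j, (E.e (σ j), E.p (σ j)) = (D.e j, D.p j) := fun j =>
    Equiv.ofFiberEquiv_map (fun c => Fintype.equivOfCardEq (key c)) j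
  let T : (∀ j, K[X] ⧸ Ideal.span {D.p j ^ D.e j}) ≃ₗ[K[X]]
      ∀ j, K[X] ⧸ Ideal.span {E.p j ^ E.e j} :=
    (LinearEquiv.piCongrRight fun j => Submodule.quotEquivOfEq _ _ (by
      have h1 := hσ j
      rw [Prod.ext_iff] at h1
      rw [show E.p (σ j) = D.p j from h1.2, show E.e (σ j) = D.e j from h1.1])).trans
      (LinearEquiv.piCongrLeft K[X] (fun j => K[X] ⧸ Ideal.span {E.p j ^ E.e j}) σ)
  let M := (D.equiv.trans T).trans E.equiv.symm
  let MK : Module.AEval' (Matrix.toLin' A) ≃ₗ[K] Module.AEval' (Matrix.toLin' B) :=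
    { M.toAddEquiv with
      map_smul' := fun c x => by
        show M (c • x) = c • M x
        rw [← Module.AEval.C_smul, map_smul, Module.AEval.C_smul] }
  refine ⟨(Module.AEval'.of (Matrix.toLin' A)).trans
    (MK.trans (Module.AEval'.of (Matrix.toLin' B)).symm), fun x => ?_⟩
  show (Module.AEval'.of (Matrix.toLin' B)).symm (M (Module.AEval'.of (Matrix.toLin' A)
      (Matrix.toLin' A x))) = Matrix.toLin' B ((Module.AEval'.of (Matrix.toLin' B)).symm
      (M (Module.AEval'.of (Matrix.toLin' A) x)))
  rw [← Module.AEval'.X_smul_of, map_smul, Module.AEval'.of_symm_X_smul]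

theorem card_conjClasses_le [Fintype K] (n : ℕ) :
    Nat.card (ConjClasses (GL (Fin n) K)) ≤ Fintype.card K ^ n := by
  classical
  have : Finite (Tup K n n) := (card_tup n n).1
  let f : ConjClasses (GL (Fin n) K) → Tup K n n := fun c =>
    ⟨tup (exists_decomp (c.exists_rep.choose : Matrix (Fin n) (Fin n) K)).some,
      tup_mem c.exists_rep.choose.isUnit _⟩
  have hf : Function.Injective f := by
    intro c d h
    obtain ⟨e, he⟩ := intertwine_of_tup _ _ (congrArg Subtype.val h)
    have hu : IsUnit (LinearMap.toMatrix' e.toLinearMap) := by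
      refine ⟨⟨_, LinearMap.toMatrix' e.symm.toLinearMap, ?_, ?_⟩, rfl⟩ <;>
        rw [← LinearMap.toMatrix'_comp] <;> simp
    rw [← c.exists_rep.choose_spec, ← d.exists_rep.choose_spec, ConjClasses.mk_eq_mk_iff_isConj]
    refine isConj_iff.mpr ⟨hu.unit, ?_⟩
    have h1 : hu.unit * c.exists_rep.choose = d.exists_rep.choose * hu.unit := by
      apply Units.ext
      apply Matrix.toLin'.injective
      rw [Units.val_mul, Units.val_mul, IsUnit.unit_spec, Matrix.toLin'_mul, Matrix.toLin'_mul,
        Matrix.toLin'_toMatrix']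
      exact LinearMap.ext fun x => he x
    rw [h1, mul_inv_cancel_right]
  exact ((Nat.card_le_card_of_injective f hf).trans (card_tup n n).2).trans
    (F_self_le _ Fintype.card_pos n)

end CfsgLib.ClassNumberGL
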