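import Cfsg.Prelude.Def_ChevStructure
import Cfsg.Agent.Lib.Chevalley.Tables
import Cfsg.Agent.Lib.Chevalley.Coxeter
import Cfsg.Agent.Lib.Chevalley.Length
import Cfsg.Agent.Lib.Chevalley.Perfect
import Cfsg.Agent.Lib.Chevalley.Data.CoxCerts
import Cfsg.Agent.Lib.Chevalley.Data.Certs

/-!
Centre of the reflection group, and generation by the Coxeter element and few reflections.
-/

set_option autoImplicit false
set_option maxRecDepth 20000
set_option Elab.async false

namespace CfsgLib.KnownA.CoxeterGen

open CfsgLib.Chevalley CfsgLib.Chevalley.Tbl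

/-- The letters of the Coxeter element. -/
def coxW (T : Tbl) : List ℕ := List.range T.rank

/-- The word of a reflection. -/
def reflW (t : List ℕ × ℕ) : List ℕ := t.1 ++ [t.2] ++ t.1.reverse

/-- The word of a token: the Coxeter element, its inverse, or one of the reflections. -/
def tokW (T : Tbl) (R : List (List ℕ × ℕ)) (t : ℕ) : List ℕ :=
  match t with
  | 0 => coxW T
  | 1 => (coxW T).reverse
  | k + 2 => reflW (R.getD k ([], 0))

/-- Each fundamental reflection is the product of the given tokens; the reflections differ. -/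
def chkCoxGen (T : Tbl) (R : List (List ℕ × ℕ)) (ex : List (List ℕ)) : Bool :=
  R.all (fun t => Nat.blt t.2 T.rank && t.1.all fun i => Nat.blt i T.rank) &&
    allLt (fun a => allLt (fun b => Nat.beq a b ||
      (List.range T.n).any fun x =>
        !Nat.beq (T.actWord (reflW (R.getD a ([], 0))) x) (T.actWord (reflW (R.getD b ([], 0))) x))
      R.length) R.length &&
    allLt (fun i =>
      (ex.getD i []).all (fun t => Nat.blt t (R.length + 2)) &&
        let w := ((ex.getD i []).map (tokW T R)).flatten
        allLt (fun j => Nat.beq (T.refl i (T.simple j)) (T.actWord w (T.simple j))) T.rank) T.rank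

/-- Only the two fundamental roots are reversed by a fundamental reflection. -/
def chkFix (T : Tbl) : Bool :=
  allLt (fun i => allLt (fun x => !Nat.beq (T.refl i x) (T.neg x) || Nat.beq x (T.simple i) ||
    Nat.beq x (T.neg (T.simple i))) T.n) T.rank

/-- A power of the Coxeter element reverses all fundamental roots. -/
def chkMinus (T : Tbl) (k : ℕ) : Bool :=
  allLt (fun i => Nat.beq (T.iterWord (coxW T) k (T.simple i)) (T.neg (T.simple i))) T.rank

/-- The longest element does not reverse all fundamental roots. -/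
def chkNoMinus (T : Tbl) (l : List ℕ) : Bool :=
  l.all (fun i => Nat.blt i T.rank) &&
    allLt (fun i => Nat.blt (T.actWord l (T.simple i)) T.half) T.rank &&
    (List.range T.rank).any fun i => !Nat.beq (T.actWord l (T.simple i)) (T.neg (T.simple i))

variable {T : Tbl} (hT : T.Valid)

theorem pw_actWord (l : List (Fin T.rank)) (x : Fin T.n) :
    (T.pw hT l x).val = T.actWord (l.map Fin.val) x.val := by
  induction l with
  | nil => rfl
  | cons a l ih => rw [pw_cons, Equiv.Perm.mul_apply, refP_apply, ih]; rfl

/-- The Coxeter element among the permutations. -/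
theorem pw_cox (x : Fin T.n) :
    (T.pw hT (List.finRange T.rank) x).val = T.actWord (coxW T) x.val := by
  rw [pw_actWord hT, coxW, List.map_coe_finRange_eq_range]

/-- The sign of a central element on the fundamental roots is constant. -/
theorem central_pm (hfix : chkFix T = true) (hconn : T.chkConn = true) {z : Equiv.Perm (Fin T.n)}
    (hz : z ∈ T.WP hT) (hcomm : ∀ i, T.refP hT i * z = z * T.refP hT i) :
    z = 1 ∨ ∀ i, z (T.simpF hT i) = T.negF (T.simpF hT i) := by
  have hpm : ∀ i, z (T.simpF hT i) = T.simpF hT i ∨ z (T.simpF hT i) = T.negF (T.simpF hT i) := by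
    intro i
    have h1 : T.refP hT i (z (T.simpF hT i)) = T.negF (z (T.simpF hT i)) := by
      rw [← Equiv.Perm.mul_apply, hcomm i, Equiv.Perm.mul_apply, refP_simpF, WP_negF hT hz]
    have h := allLt_iff.mp (allLt_iff.mp hfix i i.2) _ (z (T.simpF hT i)).2
    have h2 : T.refl i.val (z (T.simpF hT i)).val = T.neg (z (T.simpF hT i)).val := congrArg Fin.val h1
    simp only [Bool.or_eq_true, Bool.not_eq_true', Bool.eq_false_iff, ne_eq, Nat.beq_eq, h2,
      not_true_eq_false, false_or] at h
    rcases h with h | h
    · exact Or.inl (Fin.ext h)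
    · exact Or.inr (Fin.ext h)
  by_cases hall : ∀ i, z (T.simpF hT i) = T.simpF hT i
  · exact Or.inl (eq_one_of_pos hT hz fun i => (hall i).symm ▸ half_le_simpF hT i)
  right
  push Not at hall
  obtain ⟨a, ha⟩ := hall
  by_contra hno
  push Not at hno
  obtain ⟨b, hb⟩ := hno
  obtain ⟨i, j, hne, hside⟩ := exists_edge hT hconn
    (fun i => z (T.simpF hT i) = T.negF (T.simpF hT i)) ((hpm a).resolve_left ha) hb
  have hij : i.val ≠ j.val := by
    intro e
    have e' : i = j := Fin.ext e
    subst e'
    rcases hside with ⟨h1, h2⟩ | ⟨h1, h2⟩ <;> exact h2 h1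
  -- the images under `z` of the reflection of `p_j`, in the coordinate `i`
  have h1 : z (T.refP hT i (T.simpF hT j)) = T.refP hT i (z (T.simpF hT j)) := by
    rw [← Equiv.Perm.mul_apply, ← hcomm i, Equiv.Perm.mul_apply]
  have hs : ∀ k : Fin T.rank, ∀ l : ℕ, l < T.rank →
      (z (T.simpF hT k) = T.simpF hT k → T.co (z (T.simpF hT k)).val l = if l = k.val then 1 else 0) ∧
      (z (T.simpF hT k) = T.negF (T.simpF hT k) →
        T.co (z (T.simpF hT k)).val l = -(if l = k.val then 1 else 0)) := fun k l hl =>
    ⟨fun e => by rw [e]; exact co_simple hT k.2 hl, fun e => by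
      rw [e]; show T.co (T.neg (T.simple k)) l = _; rw [co_neg hT (simple_lt hT k.2) hl, co_simple hT k.2 hl]⟩
  have h2 := congrArg (fun x : Fin T.n => T.co x.val i.val) h1
  change T.co (z _).val i.val = T.co (T.refP hT i _).val i.val at h2
  rw [WP_linear hT hz _ i.2] at h2
  have hco : ∀ k : Fin T.rank, T.co (T.refP hT i (T.simpF hT j)).val k.val =
      (if k.val = j.val then 1 else 0) - (if k.val = i.val then T.ca i (T.simple j) else 0) := by
    intro k
    show T.co (T.refl i (T.simple j)) k.val = _
    rw [co_refl hT i.2 (simple_lt hT j.2) k.2, co_simple hT j.2 k.2]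
  rw [Finset.sum_eq_single i (fun k _ hk => by
      have hki : ¬ i.val = k.val := fun e => hk (Fin.ext e.symm)
      rcases hpm k with e | e
      · rw [(hs k i i.2).1 e, if_neg hki, mul_zero]
      · rw [(hs k i i.2).2 e, if_neg hki, _root_.neg_zero, mul_zero]) (by simp), hco i, if_neg hij,
    if_pos rfl] at h2
  rw [show (T.refP hT i (z (T.simpF hT j))).val = T.refl i (z (T.simpF hT j)).val from rfl,
    co_refl hT i.2 (z (T.simpF hT j)).2 i.2, if_pos rfl] at h2
  rcases hside with ⟨hi', hj'⟩ | ⟨hj', hi'⟩
  · have ej := (hpm j).resolve_right hj'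
    rw [(hs i i i.2).2 hi', if_pos rfl, (hs j i i.2).1 ej, if_neg hij, ej] at h2
    have e3 : T.ca i.val (T.simple j.val) = -T.ca i.val (T.simple j.val) := by
      change _ = (0 : ℤ) - T.ca i.val (T.simple j.val) at h2
      linarith
    exact hne (by linarith)
  · have ei := (hpm i).resolve_right hi'
    rw [(hs i i i.2).1 ei, if_pos rfl, (hs j i i.2).2 hj', if_neg hij, hj'] at h2
    have e3 : (0 - T.ca i.val (T.simple j.val)) * 1 = -0 - T.ca i.val (T.neg (T.simple j.val)) := h2
    rw [ca_neg hT (simple_lt hT j.2) i.2] at e3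
    exact hne (by linarith)

include hT

theorem mulEquiv_center {G H : Type*} [Group G] [Group H] (e : G ≃* H) {z : H}
    (hz : z ∈ Subgroup.center H) : e.symm z ∈ Subgroup.center G := by
  rw [Subgroup.mem_center_iff]
  intro g
  apply e.injective
  rw [map_mul, map_mul, e.apply_symm_apply]
  exact Subgroup.mem_center_iff.mp hz (e g)

/-- The centre has order two and is in the powers of the Coxeter element. -/
theorem center_two (M : CoxeterMatrix (Fin T.rank))
    (hM : ∀ i j : Fin T.rank, T.chkOrd [i.val, j.val] (M i j) = true) (hfix : chkFix T = true)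
    (hconn : T.chkConn = true) {k : ℕ} (hk : chkMinus T k = true) :
    Nat.card (Subgroup.center M.Group) = 2 ∧
      Subgroup.center M.Group ≤ Subgroup.zpowers ((List.finRange T.rank).map M.simple).prod := by
  obtain ⟨e, he⟩ := exists_coxeter hT M hM
  set c := ((List.finRange T.rank).map (T.refW hT)).prod with hc
  have hec : ((List.finRange T.rank).map M.simple).prod = e c := by
    rw [hc, map_list_prod, List.map_map]
    congr 1
    exact List.map_congr_left fun i _ => (he i).symm
  set m : ↥(T.WP hT) := c ^ k with hm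
  have hm' : ∀ i, m.val (T.simpF hT i) = T.negF (T.simpF hT i) := fun i => by
    rw [hm, Subgroup.coe_pow, hc, refW_prod]
    refine Fin.ext ?_
    rw [iterWord_pw hT, List.map_coe_finRange_eq_range]
    exact Nat.eq_of_beq_eq_true (allLt_iff.mp hk i i.2)
  have hzc : ∀ z : ↥(T.WP hT), z ∈ Subgroup.center ↥(T.WP hT) → z = 1 ∨ z = m := fun z hz => by
    rcases central_pm hT hfix hconn z.2 (fun i =>
      congrArg Subtype.val (Subgroup.mem_center_iff.mp hz (T.refW hT i))) with h | h
    · exact Or.inl (Subtype.ext h)
    · exact Or.inr (Subtype.ext (WP_ext hT z.2 m.2 fun i j _ => by rw [h i, hm' i]))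
  -- the element reversing all roots is central
  have hneg : ∀ x : Fin T.n, ∀ j < T.rank, T.co (m.val x).val j = -T.co x.val j := by
    intro x j hj
    rw [WP_linear hT m.2 x hj, Finset.sum_eq_single ⟨j, hj⟩]
    · rw [hm']; show _ * T.co (T.neg (T.simple j)) j = _
      rw [co_neg hT (simple_lt hT hj) hj, co_simple hT hj hj, if_pos rfl, mul_neg, mul_one]
    · intro l _ hl
      rw [hm']; show _ * T.co (T.neg (T.simple l)) j = _
      rw [co_neg hT (simple_lt hT l.2) hj, co_simple hT l.2 hj,
        if_neg fun e => hl (Fin.ext e.symm), _root_.neg_zero, mul_zero]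
    · simp
  have hmc : m ∈ Subgroup.center ↥(T.WP hT) := by
    rw [Subgroup.mem_center_iff]
    intro g
    refine Subtype.ext (WP_ext hT (g * m).2 (m * g).2 fun i j hj => ?_)
    rw [Subgroup.coe_mul, Subgroup.coe_mul, Equiv.Perm.mul_apply, Equiv.Perm.mul_apply, hneg _ j hj,
      hm', WP_negF hT g.2]
    exact co_neg hT (g.val (T.simpF hT i)).2 hj
  have hm1 : m ≠ 1 := fun h => by
    have hr : 0 < T.rank := by
      simp only [chkConn, Bool.and_eq_true] at hconn
      have := Nat.le_of_ble_eq_true hconn.2; omega
    have h0 := hm' ⟨0, hr⟩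
    rw [h] at h0
    exact neg_ne (simple_lt hT hr) (congrArg Fin.val h0).symm
  constructor
  · have hset : ((Subgroup.center M.Group : Subgroup M.Group) : Set M.Group) = {1, e m} := by
      ext z
      constructor
      · intro hz
        rcases hzc _ (mulEquiv_center hT e hz) with h | h
        · exact Or.inl (by rw [← e.apply_symm_apply z, h, map_one])
        · exact Or.inr (by rw [Set.mem_singleton_iff, ← h, e.apply_symm_apply])
      · rintro (rfl | rfl)
        · exact one_mem _
        · exact mulEquiv_center hT e.symm hmc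
    rw [← SetLike.coe_sort_coe, Nat.card_coe_set_eq, hset,
      Set.ncard_pair fun h => hm1 (e.injective (by rw [map_one]; exact h.symm))]
  · intro z hz
    rcases hzc _ (mulEquiv_center hT e hz) with h | h
    · rw [← e.apply_symm_apply z, h, map_one]; exact one_mem _
    · rw [hec]
      refine ⟨k, ?_⟩
      show e c ^ (k : ℤ) = z
      rw [zpow_natCast, ← map_pow, ← hm, ← h, e.apply_symm_apply]

/-- The centre is trivial. -/
theorem center_one (M : CoxeterMatrix (Fin T.rank))
    (hM : ∀ i j : Fin T.rank, T.chkOrd [i.val, j.val] (M i j) = true) (hfix : chkFix T = true)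
    (hconn : T.chkConn = true) {l : List ℕ} (hl : chkNoMinus T l = true) :
    Nat.card (Subgroup.center M.Group) = 1 ∧
      Subgroup.center M.Group ≤ Subgroup.zpowers ((List.finRange T.rank).map M.simple).prod := by
  obtain ⟨e, -⟩ := exists_coxeter hT M hM
  have hbot : Subgroup.center M.Group = ⊥ := by
    rw [eq_bot_iff]
    intro z hz
    rcases central_pm hT hfix hconn (e.symm z).2 (fun i => congrArg Subtype.val
      (Subgroup.mem_center_iff.mp (mulEquiv_center hT e hz) (T.refW hT i))) with h | h
    · rw [Subgroup.mem_bot, ← e.apply_symm_apply z, show e.symm z = 1 from Subtype.ext h, map_one]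
    exfalso
    set y := (e.symm z).val with hy
    simp only [chkNoMinus, Bool.and_eq_true, List.all_eq_true, Nat.blt_eq, List.any_eq_true,
      List.mem_range, Bool.not_eq_true', allLt_iff] at hl
    obtain ⟨⟨hlr, hneg⟩, i, hi, hne⟩ := hl
    obtain ⟨l', rfl⟩ : ∃ l' : List (Fin T.rank), l'.map Fin.val = l :=
      ⟨l.pmap (fun i hi => (⟨i, hi⟩ : Fin T.rank)) hlr, by simp [List.map_pmap]⟩
    have h1 : T.pw hT l' * y = 1 := by
      refine eq_one_of_pos hT (mul_mem (pw_mem hT l') (e.symm z).2) fun j => ?_
      rw [Equiv.Perm.mul_apply, h j, WP_negF hT (pw_mem hT l')]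
      exact le_negF (by rw [pw_actWord hT]; exact hneg j j.2)
    have h2 := Equiv.congr_fun h1 (T.simpF hT ⟨i, hi⟩)
    rw [Equiv.Perm.mul_apply, h, WP_negF hT (pw_mem hT l')] at h2
    have h3 := congrArg T.negF h2
    rw [negF_negF] at h3
    have h4 := congrArg Fin.val h3
    rw [pw_actWord hT] at h4
    exact Bool.eq_false_iff.mp hne (Nat.beq_eq.mpr h4)
  rw [hbot]
  exact ⟨Subgroup.card_bot, bot_le⟩

/-- The Coxeter element and the given reflections generate. -/
theorem cox_gen (M : CoxeterMatrix (Fin T.rank))
    (hM : ∀ i j : Fin T.rank, T.chkOrd [i.val, j.val] (M i j) = true)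
    {R : List (List ℕ × ℕ)} {ex : List (List ℕ)} (h : chkCoxGen T R ex = true) :
    ∃ S : Finset M.Group, S.card = R.length ∧
      (∀ t ∈ S, ∃ (g : M.Group) (i : Fin T.rank), t = g * M.simple i * g⁻¹) ∧
      Subgroup.closure (({((List.finRange T.rank).map M.simple).prod} : Set M.Group) ∪ ↑S) = ⊤ := by
  classical
  obtain ⟨e, he⟩ := exists_coxeter hT M hM
  simp only [chkCoxGen, Bool.and_eq_true, List.all_eq_true, Nat.blt_eq, allLt_iff] at h
  obtain ⟨⟨hR, hdist⟩, hex⟩ := h
  -- words as group elements
  let W : List ℕ → ↥(T.WP hT) := fun w =>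
    (w.map fun i => if hi : i < T.rank then T.refW hT ⟨i, hi⟩ else 1).prod
  have hW : ∀ w : List ℕ, (∀ i ∈ w, i < T.rank) → ∀ x : Fin T.n,
      ((W w).val x).val = T.actWord w x.val := by
    intro w hw x
    induction w with
    | nil => rfl
    | cons i w ih =>
      have hi := hw i List.mem_cons_self
      simp only [W, List.map_cons, List.prod_cons, dif_pos hi, Subgroup.coe_mul, Equiv.Perm.mul_apply]
      show T.refl i _ = _
      rw [ih fun j hj => hw j (List.mem_cons_of_mem _ hj)]
      rfl
  have hWapp : ∀ u v : List ℕ, W (u ++ v) = W u * W v := fun u v => by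
    simp [W, List.map_append, List.prod_append]
  have hWrev : ∀ w : List ℕ, W w.reverse = (W w)⁻¹ := by
    intro w
    induction w with
    | nil => simp [W]
    | cons i w ih =>
      rw [List.reverse_cons, hWapp, ih, show i :: w = [i] ++ w from rfl, hWapp, _root_.mul_inv_rev]
      congr 1
      simp only [W, List.map_cons, List.map_nil, List.prod_cons, List.prod_nil, mul_one]
      split_ifs with hi
      · exact (inv_eq_of_mul_eq_one_right (Subtype.ext (refP_mul_self hT ⟨i, hi⟩))).symm
      · simp
  set c := ((List.finRange T.rank).map (T.refW hT)).prod with hc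
  have hcW : W (coxW T) = c := by
    simp only [W, coxW, hc, ← List.map_coe_finRange_eq_range, List.map_map]
    congr 1
    exact List.map_congr_left fun i _ => dif_pos i.2
  have hec : ((List.finRange T.rank).map M.simple).prod = e c := by
    rw [hc, map_list_prod, List.map_map]
    congr 1
    exact List.map_congr_left fun i _ => (he i).symm
  let f : Fin R.length → M.Group := fun a => e (W (reflW (R.getD a.val ([], 0))))
  have hmem : ∀ a : Fin R.length, R.getD a.val ([], 0) ∈ R := fun a => by
    rw [List.getD_eq_getElem _ _ a.2]; exact List.getElem_mem a.2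
  have hrng : ∀ a : Fin R.length, ∀ i ∈ reflW (R.getD a.val ([], 0)), i < T.rank := by
    intro a i hi
    obtain ⟨h1, h2⟩ := hR _ (hmem a)
    simp only [reflW, List.mem_append, List.mem_singleton, List.mem_reverse] at hi
    rcases hi with (hi | hi) | hi
    · exact h2 i hi
    · exact hi ▸ h1
    · exact h2 i hi
  have hinj : Function.Injective f := by
    intro a b hab
    by_contra hne
    have hd := hdist a.val a.2 b.val b.2
    simp only [Bool.or_eq_true, Nat.beq_eq, List.any_eq_true, List.mem_range, Bool.not_eq_true'] at hd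
    rcases hd with hd | ⟨x, hx, hd⟩
    · exact hne (Fin.ext hd)
    · refine Bool.eq_false_iff.mp hd (Nat.beq_eq.mpr ?_)
      rw [← hW _ (hrng a) ⟨x, hx⟩, ← hW _ (hrng b) ⟨x, hx⟩, e.injective hab]
  refine ⟨Finset.univ.image f, by rw [Finset.card_image_of_injective _ hinj]; simp, ?_, ?_⟩
  · intro t ht
    obtain ⟨a, -, rfl⟩ := Finset.mem_image.mp ht
    set r := R.getD a.val ([], 0) with hr
    refine ⟨e (W r.1), ⟨r.2, (hR _ (hmem a)).1⟩, ?_⟩
    simp only [f, ← hr, reflW]
    rw [hWapp, hWapp, hWrev, map_mul, map_mul, map_inv, ← he]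
    have hr2 : r.2 < T.rank := (hR _ (hmem a)).1
    simp only [W, List.map_cons, List.map_nil, List.prod_cons, List.prod_nil, mul_one, dif_pos hr2]
  set H := Subgroup.closure (({((List.finRange T.rank).map M.simple).prod} : Set M.Group) ∪
    ↑(Finset.univ.image f)) with hH
  have hcH : e c ∈ H := Subgroup.subset_closure (Or.inl hec.symm)
  have htok : ∀ t < R.length + 2, e (W (tokW T R t)) ∈ H := by
    intro t ht
    match t with
    | 0 => show e (W (coxW T)) ∈ H; rw [hcW]; exact hcH
    | 1 =>
      show e (W (coxW T).reverse) ∈ H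
      rw [hWrev, hcW, map_inv]; exact inv_mem hcH
    | k + 2 =>
      exact Subgroup.subset_closure (Or.inr (Finset.mem_coe.mpr (Finset.mem_image.mpr
        ⟨⟨k, by omega⟩, Finset.mem_univ _, rfl⟩)))
  have htokr : ∀ t < R.length + 2, ∀ i ∈ tokW T R t, i < T.rank := by
    intro t ht i hi
    match t with
    | 0 => exact List.mem_range.mp hi
    | 1 => exact List.mem_range.mp (List.mem_reverse.mp hi)
    | k + 2 => exact hrng ⟨k, by omega⟩ i hi
  have hsimple : ∀ i : Fin T.rank, M.simple i ∈ H := by
    intro i
    obtain ⟨h1, h2⟩ := hex i i.2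
    set L := ex.getD i.val [] with hL
    have e1 : T.refW hT i = W (L.map (tokW T R)).flatten := by
      refine Subtype.ext (WP_ext hT (T.refW hT i).2 (W _).2 fun j k _ => ?_)
      rw [show ((W (L.map (tokW T R)).flatten).val (T.simpF hT j)).val =
          T.actWord (L.map (tokW T R)).flatten (T.simple j) from hW _ (fun j hj => by
        obtain ⟨w, hw, hj⟩ := List.mem_flatten.mp hj
        obtain ⟨t, ht, rfl⟩ := List.mem_map.mp hw
        exact htokr t (h1 t ht) j hj) _]
      rw [← Nat.eq_of_beq_eq_true (h2 j.val j.2)]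
      rfl
    rw [← he, e1]
    have hflat : ∀ L' : List ℕ, (∀ t ∈ L', t < R.length + 2) →
        e (W (L'.map (tokW T R)).flatten) ∈ H := by
      intro L'
      induction L' with
      | nil => intro _; simp [W]
      | cons t L' ih =>
        intro hL'
        rw [List.map_cons, List.flatten_cons, hWapp, map_mul]
        exact mul_mem (htok t (hL' t List.mem_cons_self))
          (ih fun v hv => hL' v (List.mem_cons_of_mem _ hv))
    exact hflat L h1
  rw [eq_top_iff]
  intro g _
  obtain ⟨w, rfl⟩ : ∃ w : List (Fin T.rank), g = (w.map M.simple).prod :=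
    let ⟨w, hw⟩ := M.toCoxeterSystem.wordProd_surjective g
    ⟨w, hw.symm⟩
  exact list_prod_mem fun x hx => by
    obtain ⟨i, -, rfl⟩ := List.mem_map.mp hx
    exact hsimple i

end CfsgLib.KnownA.CoxeterGen
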