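import Cfsg.Agent.Lib.KnownA.CoxeterGen

/-!
The certificates for the seven types.
-/

set_option autoImplicit false
set_option maxRecDepth 20000
set_option Elab.async false

namespace CfsgLib.KnownA.CoxeterGen

open CfsgLib.Chevalley.Data

theorem B2_chkCoxGen : chkCoxGen B2.tbl [([], 0)]
    [[2], [2, 0]] = true := by decide +kernel

theorem B2_chkFix : chkFix B2.tbl = true := by decide +kernel

theorem B2_chkMinus : chkMinus B2.tbl 2 = true := by decide +kernel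

theorem G2_chkCoxGen : chkCoxGen G2.tbl [([], 0)]
    [[2], [2, 0]] = true := by decide +kernel

theorem G2_chkFix : chkFix G2.tbl = true := by decide +kernel

theorem G2_chkMinus : chkMinus G2.tbl 3 = true := by decide +kernel

theorem D4_chkCoxGen : chkCoxGen D4.tbl [([], 0), ([], 2)]
    [[2], [0, 2, 1], [3], [0, 2, 0, 3, 1, 2, 1]] = true := by decide +kernel

theorem D4_chkFix : chkFix D4.tbl = true := by decide +kernel

theorem D4_chkMinus : chkMinus D4.tbl 3 = true := by decide +kernel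

theorem F4_chkCoxGen : chkCoxGen F4.tbl [([], 0), ([], 2)]
    [[2], [0, 2, 1], [3], [0, 3, 1]] = true := by decide +kernel

theorem F4_chkFix : chkFix F4.tbl = true := by decide +kernel

theorem F4_chkMinus : chkMinus F4.tbl 6 = true := by decide +kernel

theorem E6_chkCoxGen : chkCoxGen E6.tbl [([], 0)]
    [[2], [1, 2, 1, 1, 1, 2, 0, 0, 0, 2, 0], [0, 2, 1], [0, 0, 0, 0, 0, 2, 1, 1, 1, 1, 1], [0, 0, 0, 0, 0, 0, 2, 1, 1, 1, 1, 1, 1], [1, 1, 1, 1, 1, 2, 0, 0, 0, 0, 0]] = true := by decide +kernel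

theorem E6_chkFix : chkFix E6.tbl = true := by decide +kernel

theorem E6_chkNoMinus : chkNoMinus E6.tbl [0, 1, 2, 0, 3, 1, 2, 0, 3, 2, 4, 3, 1, 2, 0, 3, 2, 4, 3, 1, 5, 4, 3, 1, 2, 0, 3, 2, 4, 3, 1, 5, 4, 3, 2, 0] = true := by decide +kernel

theorem E7_chkCoxGen : chkCoxGen E7.tbl [([], 1)]
    [[0, 0, 0, 2, 0, 0, 2, 1, 1, 2, 1, 1, 1], [2], [1, 1, 1, 2, 1, 1, 2, 0, 0, 2, 0, 0, 0], [2, 1, 1, 2, 1, 1, 2, 0, 0, 2, 0, 0, 2], [0, 2, 1, 1, 2, 1, 1, 2, 0, 0, 2, 0, 0, 2, 1], [0, 0, 2, 1, 1, 2, 1, 1, 2, 0, 0, 2, 0, 0, 2, 1, 1], [1, 2, 0, 0, 2, 0, 0, 2, 1, 1, 2, 1, 1, 2, 0]] = true := by decide +kernel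

theorem E7_chkFix : chkFix E7.tbl = true := by decide +kernel

theorem E7_chkMinus : chkMinus E7.tbl 9 = true := by decide +kernel

theorem E8_chkCoxGen : chkCoxGen E8.tbl [([], 0)]
    [[2], [1, 2, 1, 1, 2, 1, 1, 1, 2, 0, 0, 0, 2, 0, 0, 2, 0], [0, 2, 1], [0, 0, 0, 0, 2, 0, 0, 0, 2, 1, 1, 1, 2, 1, 1, 1, 1], [0, 0, 0, 0, 0, 2, 0, 0, 0, 2, 1, 1, 1, 2, 1, 1, 1, 1, 1], [1, 1, 1, 1, 1, 1, 2, 1, 1, 1, 2, 0, 0, 0, 2, 0, 0, 0, 0, 0, 0], [1, 1, 1, 1, 1, 2, 1, 1, 1, 2, 0, 0, 0, 2, 0, 0, 0, 0, 0], [1, 1, 1, 1, 2, 1, 1, 1, 2, 0, 0, 0, 2, 0, 0, 0, 0]] = true := by decide +kernel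

theorem E8_chkFix : chkFix E8.tbl = true := by decide +kernel

theorem E8_chkMinus : chkMinus E8.tbl 15 = true := by decide +kernel

end CfsgLib.KnownA.CoxeterGen
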