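import Cfsg.Agent.Lib.Chevalley.SteinbergKernel
import Cfsg.Agent.Lib.Chevalley.Basic
import Cfsg.Agent.Lib.Chevalley.PerfectCheck

set_option autoImplicit false

/-!
Central extensions of a Chevalley group.

`YLift` packages lifts of the root elements satisfying Steinberg's relations (R1), (R2) and stable under
conjugation by monomial elements.  For a finite field they satisfy (R3) as well, so they define a map from
the presented group.
-/

namespace CfsgLib.KnownA.SteinbergUniv

open CfsgLib.Chevalley CfsgLib.Chevalley.Tbl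
open scoped commutatorElement

/-! ### Commutators in a central extension -/

section Group

variable {E : Type*} [Group E] {M : Type*} [Group M] {π : E →* M}
  (hk : π.ker ≤ Subgroup.center E)
include hk

theorem ker_comm {z : E} (hz : π z = 1) (x : E) : x * z = z * x :=
  Subgroup.mem_center_iff.1 (hk hz) x

theorem commutator_congr {x x' y y' : E} (hx : π x = π x') (hy : π y = π y') :
    ⁅x, y⁆ = ⁅x', y'⁆ := by
  have left : ∀ {a a' : E}, π a = π a' → ∀ b : E, ⁅a, b⁆ = ⁅a', b⁆ := fun {a a'} ha b => by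
    have hz : π (a'⁻¹ * a) = 1 := by rw [map_mul, map_inv, ha, inv_mul_cancel]
    rw [show a = a' * (a'⁻¹ * a) by group]
    generalize a'⁻¹ * a = z at hz ⊢
    have h := ker_comm hk hz
    simp only [commutatorElement_def, mul_inv_rev]
    calc a' * z * b * (z⁻¹ * a'⁻¹) * b⁻¹ = a' * (z * b) * z⁻¹ * a'⁻¹ * b⁻¹ := by group
      _ = a' * (b * z) * z⁻¹ * a'⁻¹ * b⁻¹ := by rw [h]
      _ = _ := by group
  rw [left hx, ← commutatorElement_inv y x', left hy x', commutatorElement_inv]

omit hk in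
theorem conj_commutatorElement (g x y : E) :
    g * ⁅x, y⁆ * g⁻¹ = ⁅g * x * g⁻¹, g * y * g⁻¹⁆ := by
  simp [commutatorElement_def, mul_assoc]

theorem conj_commutator_eq {g x y x' y' : E} (hx : π g * π x * (π g)⁻¹ = π x')
    (hy : π g * π y * (π g)⁻¹ = π y') : g * ⁅x, y⁆ * g⁻¹ = ⁅x', y'⁆ := by
  rw [conj_commutatorElement]
  exact commutator_congr hk (by rw [map_mul, map_mul, map_inv, hx])
    (by rw [map_mul, map_mul, map_inv, hy])

/-- Lifts of commuting elements commute with a commutator whose entries are fixed modulo the kernel. -/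
theorem commute_commutator {g x y : E} (hx : Commute (π g) (π x)) (hy : Commute (π g) (π y)) :
    Commute g ⁅x, y⁆ := by
  have h := conj_commutator_eq hk (g := g) (x := x) (y := y) (x' := x) (y' := y)
    (by rw [hx.eq, mul_inv_cancel_right]) (by rw [hy.eq, mul_inv_cancel_right])
  exact mul_inv_eq_iff_eq_mul.1 h

omit hk in
theorem commutator_mul_right {x y y' : E} (h : Commute y ⁅x, y'⁆) :
    ⁅x, y * y'⁆ = ⁅x, y⁆ * ⁅x, y'⁆ := by
  calc ⁅x, y * y'⁆ = ⁅x, y⁆ * (y * ⁅x, y'⁆) * y⁻¹ := by simp [commutatorElement_def, mul_assoc]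
    _ = _ := by rw [h.eq, mul_assoc (⁅x, y⁆), mul_assoc, mul_inv_cancel, mul_one]

omit hk in
theorem commutator_mul_left {x x' y : E} (h : Commute x ⁅x', y⁆) :
    ⁅x * x', y⁆ = ⁅x', y⁆ * ⁅x, y⁆ := by
  calc ⁅x * x', y⁆ = x * ⁅x', y⁆ * (y * x⁻¹ * y⁻¹) := by
        simp [commutatorElement_def, mul_assoc]
    _ = _ := by rw [h.eq]; simp [commutatorElement_def, mul_assoc]

end Group

/-! ### Root subgroups meet trivially -/

section Disjoint

variable {T : Tbl} {F : Type*} [Field F] (hT : T.Valid)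
include hT

theorem xU_eq_one_iff {r : ℕ} (hr : r < T.n) (t : F) : T.xU F r t = 1 ↔ t = 0 := by
  refine ⟨fun h => xU_inj hT hr (h.trans (xU_zero hT hr).symm), fun h => h ▸ xU_zero hT hr⟩

theorem xU_eq_xU {a b : ℕ} (ha : a < T.n) (hb : b < T.n) {t u : F}
    (h : T.xU F a t = T.xU F b u) : (a = b ∧ t = u) ∨ (t = 0 ∧ u = 0) := by
  by_cases hab : a = b
  · exact Or.inl ⟨hab, xU_inj hT ha (by rw [h, hab])⟩
  right
  have hX : (X F a t : Matrix T.I T.I F) = X F b u := by
    rw [← xU_val hT ha, ← xU_val hT hb, h]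
  have hna : ¬ (T.neg a = T.neg b) := fun e => hab (by
    have := congrArg T.neg e
    rwa [neg_neg' ha, neg_neg' hb] at this)
  obtain ⟨i, hi, j, hj, hij⟩ := cv_coprime hT ha
  have key : ∀ k < T.rank, (T.cv a k : F) * t = 0 := by
    intro k hk
    have hx := congrFun (congrFun hX (Sum.inl ⟨k, hk⟩)) (Sum.inr ⟨T.neg a, neg_lt' ha⟩)
    rw [← x_eq hT F ha, ← x_eq hT F hb, Cfsg.Lie.ChevalleyDatum.x, Cfsg.Lie.ChevalleyDatum.x,
      dif_pos ha, dif_pos hb] at hx
    have e1 : ¬ (T.neg a = a) := neg_ne ha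
    have e2 := datum_negIdx_getD (T := T) ha
    have e3 := datum_negIdx_getD (T := T) hb
    simp only [Cfsg.Lie.ChevalleyDatum.xMat, Matrix.of_apply, Fin.ext_iff, e1, if_false, e2, e3,
      if_true, hna, datum_coroot ha hk] at hx
    simpa using hx
  have hbez := Int.gcd_eq_gcd_ab (T.cv a i) (T.cv a j)
  rw [hij] at hbez
  have ht : t = 0 := by
    have e := congrArg (fun z : ℤ => (z : F) * t) hbez
    simp only [Int.cast_natCast, Int.cast_add, Int.cast_mul] at e
    rw [add_mul, mul_right_comm, key i hi, mul_right_comm, key j hj] at e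
    simpa using e
  refine ⟨ht, (xU_eq_one_iff hT hb u).1 ?_⟩
  rw [← h, ht, xU_zero hT ha]

theorem co_inj (hS : T.chkSorted = true) {a b : ℕ} (ha : a < T.n) (hb : b < T.n)
    (h : ∀ k < T.rank, T.co a k = T.co b k) : a = b := by
  have hk : T.key a = T.key b := by
    rw [key_eq hT, key_eq hT]
    exact Finset.sum_congr rfl fun k _ => by rw [h k k.2]
  rcases Nat.lt_trichotomy a b with hlt | h' | hlt
  · have := key_mono hS (b - a - 1) a (by omega)
    rw [show a + (b - a - 1) + 1 = b by omega] at this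
    omega
  · exact h'
  · have := key_mono hS (a - b - 1) b (by omega)
    rw [show b + (a - b - 1) + 1 = a by omega] at this
    omega

end Disjoint

/-! ### Lifts of the root elements -/

universe u v

variable {T : Tbl} {F : Type u} [Field F] {E : Type v} [Group E]

/-- A central extension, given as a map into the general linear group. -/
structure Cov (T : Tbl) (F : Type u) [Field F] (E : Type v) [Group E] where
  π : E →* GL T.I F
  ker_le : π.ker ≤ Subgroup.center E
  le_range : T.datum.group F ≤ π.range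

/-- Lifts of the root elements. -/
structure YLift (c : Cov T F E) where
  y : ℕ → F → E
  img : ∀ r < T.n, ∀ t, c.π (y r t) = T.xU F r t
  add : ∀ r < T.n, ∀ t u, y r t * y r u = y r (t + u)
  rel : ∀ r < T.n, ∀ s < T.n, s ≠ r → s ≠ T.neg r → ∀ t u,
    y s u * y r t = y r t * y s u *
      ((T.commT r s).map fun k => y k.1 ((k.2.1 : F) * (-t) ^ k.2.2.1 * u ^ k.2.2.2)).prod
  conj : ∀ r < T.n, ∀ e : E, (∃ π : Equiv.Perm (Fin T.n), ∀ s : Fin T.n, ∀ t : F, ∃ t' : F,
      c.π e * T.xU F s t * (c.π e)⁻¹ = T.xU F (π s) t') →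
    c.π e ∈ T.datum.monomialSubgroup F → ∀ t, ∃ s < T.n, ∃ t', e * y r t * e⁻¹ = y s t'

namespace YLift

variable {c : Cov T F E} (L : YLift c) (hT : T.Valid)

include hT

theorem zero {r : ℕ} (hr : r < T.n) : L.y r 0 = 1 := by
  have h := L.add r hr 0 0
  rw [add_zero] at h
  exact mul_eq_left.mp h

theorem inv {r : ℕ} (hr : r < T.n) (t : F) : (L.y r t)⁻¹ = L.y r (-t) :=
  inv_eq_of_mul_eq_one_right (by rw [L.add r hr, add_neg_cancel, L.zero hT hr])

/-- An element of a lifted root subgroup is determined by its image. -/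
theorem eq_of_img {a b : ℕ} (ha : a < T.n) (hb : b < T.n) {t u : F}
    (h : T.xU F a t = T.xU F b u) : L.y a t = L.y b u := by
  rcases xU_eq_xU hT ha hb h with ⟨rfl, rfl⟩ | ⟨rfl, rfl⟩
  · rfl
  · rw [L.zero hT ha, L.zero hT hb]

theorem conj_eq {e : E} (he : c.π e ∈ T.datum.monomialSubgroup F) {r s : ℕ} (hr : r < T.n)
    (hs : s < T.n) {t t' : F} (h : c.π e * T.xU F r t * (c.π e)⁻¹ = T.xU F s t') :
    e * L.y r t * e⁻¹ = L.y s t' := by
  obtain ⟨w, -, hm⟩ := exists_mono hT he
  have hperm : ∀ x : Fin T.n, ∀ u : F, ∃ u' : F,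
      c.π e * T.xU F x u * (c.π e)⁻¹ = T.xU F (w x) u' := fun x u => by
    obtain ⟨k, hk⟩ := hm.conj x
    exact ⟨_, by rw [(hk u).1, mul_inv_cancel_right]⟩
  obtain ⟨s', hs', u', hu'⟩ := L.conj r hr e ⟨w, hperm⟩ he t
  have himg := congrArg c.π hu'
  rw [map_mul, map_mul, map_inv, L.img r hr, L.img s' hs', h] at himg
  rw [hu']
  exact (L.eq_of_img hT hs hs' himg).symm

omit hT

/-- `n̄_r(t)`. -/
def nb (r : ℕ) (t : F) : E := L.y r t * L.y (T.neg r) (-t⁻¹) * L.y r t

/-- `h̄_r(t)`. -/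
def hb (r : ℕ) (t : F) : E := L.nb r t * L.nb r (-1)

include hT

theorem img_nb {r : ℕ} (hr : r < T.n) (t : F) : c.π (L.nb r t) = T.nU F r t := by
  rw [nb, map_mul, map_mul, L.img r hr, L.img _ (neg_lt' hr)]; rfl

theorem img_hb {r : ℕ} (hr : r < T.n) (t : F) : c.π (L.hb r t) = T.hU F r t := by
  rw [hb, map_mul, L.img_nb hT hr, L.img_nb hT hr]; rfl

theorem nb_neg {r : ℕ} (hr : r < T.n) (t : F) : L.nb r (-t) = (L.nb r t)⁻¹ := by
  rw [nb, nb, mul_inv_rev, mul_inv_rev, L.inv hT hr, L.inv hT (neg_lt' hr), mul_assoc, inv_neg,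
    _root_.neg_neg]

theorem nU_mem_monomial {r : ℕ} (hr : r < T.n) (t : Fˣ) :
    T.nU F r (t : F) ∈ T.datum.monomialSubgroup F := by
  rw [nU_t hT hr]
  refine mul_mem (diag_le_N hT ?_) ?_
  · rw [diagonalSubgroup_eq hT]; exact Subgroup.subset_closure ⟨r, hr, t, rfl⟩
  · rw [monomialSubgroup_eq hT]
    exact Subgroup.mem_sup_right (Subgroup.subset_closure ⟨r, hr, rfl⟩)

theorem nU_conj_t {r : ℕ} (hr : r < T.n) (t : Fˣ) (u : F) :
    T.nU F r (t : F) * T.xU F r u * (T.nU F r (t : F))⁻¹ =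
      T.xU F (T.neg r) (-u / (t : F) ^ 2) := by
  rw [mul_inv_eq_iff_eq_mul, nU_t hT hr, mul_assoc, nU_conj hT hr, ← mul_assoc,
    dU_hCh_xU hT hr t (neg_lt' hr), mul_assoc]
  congr 2
  have h : T.pair r (T.neg r) = -2 := by
    rw [pair_eq_sum, ← pair_self hT hr, pair_eq_sum, ← Finset.sum_neg_distrib]
    exact Finset.sum_congr rfl fun i _ => by rw [ca_neg hT hr i.2, mul_neg]
  rw [h, zpow_neg, Units.val_inv_eq_inv_val, Units.val_zpow_eq_zpow_val, div_eq_inv_mul,
    zpow_ofNat]

theorem nb_conj_y {r : ℕ} (hr : r < T.n) {t : F} (ht : t ≠ 0) (u : F) :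
    L.nb r t * L.y r u * (L.nb r t)⁻¹ = L.y (T.neg r) (-u / t ^ 2) := by
  have h := nU_conj_t hT hr (Units.mk0 t ht) u
  refine L.conj_eq hT ?_ hr (neg_lt' hr) ?_
  · rw [L.img_nb hT hr]; exact nU_mem_monomial hT hr (Units.mk0 t ht)
  · rw [L.img_nb hT hr]; exact h

/-- The inverse form of `nb_conj_y`. -/
theorem nb_conj_y_neg {r : ℕ} (hr : r < T.n) {t : F} (ht : t ≠ 0) (u : F) :
    L.nb r t * L.y (T.neg r) u * (L.nb r t)⁻¹ = L.y r (-(u * t ^ 2)) := by
  have h := L.nb_conj_y hT hr (neg_ne_zero.2 ht) (-(u * t ^ 2))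
  rw [L.nb_neg hT hr, inv_inv, show -(-(u * t ^ 2)) / (-t) ^ 2 = u by field_simp] at h
  rw [← h]
  group

/-- `n̄_r(t)` through the negative root. -/
theorem nb_eq_neg {r : ℕ} (hr : r < T.n) {t : F} (ht : t ≠ 0) :
    L.nb r t = L.y (T.neg r) (-t⁻¹) * L.y r t * L.y (T.neg r) (-t⁻¹) := by
  conv_lhs => rw [show L.nb r t = L.nb r t * L.nb r t * (L.nb r t)⁻¹ by group]
  conv_lhs => enter [1, 2]; rw [nb]
  rw [show ∀ g a b : E, g * (a * b * a) * g⁻¹ = (g * a * g⁻¹) * (g * b * g⁻¹) * (g * a * g⁻¹) from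
    fun g a b => by group, L.nb_conj_y hT hr ht, L.nb_conj_y_neg hT hr ht]
  rw [show -t / t ^ 2 = -t⁻¹ by field_simp, show -(-t⁻¹ * t ^ 2) = t by field_simp]

theorem nb_conj_nb {r : ℕ} (hr : r < T.n) {t u : F} (ht : t ≠ 0) (hu : u ≠ 0) :
    L.nb r t * L.nb r u * (L.nb r t)⁻¹ = L.nb r (t ^ 2 / u) := by
  conv_lhs => enter [1, 2]; rw [nb]
  rw [show ∀ g a b : E, g * (a * b * a) * g⁻¹ = (g * a * g⁻¹) * (g * b * g⁻¹) * (g * a * g⁻¹) from
    fun g a b => by group, L.nb_conj_y hT hr ht, L.nb_conj_y_neg hT hr ht,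
    L.nb_eq_neg hT hr (div_ne_zero (pow_ne_zero 2 ht) hu)]
  congr 2 <;> first | rfl | (congr 1 <;> field_simp) | skip

/-- `c(t, -t) = 1`. -/
theorem hb_mul_neg {r : ℕ} (hr : r < T.n) {t : F} (ht : t ≠ 0) :
    L.hb r t * L.hb r (-t) = L.hb r (t * -t) := by
  have h := L.nb_conj_nb hT hr ht (neg_ne_zero.2 (one_ne_zero (α := F)))
  rw [← L.nb_neg hT hr, show t ^ 2 / (-1 : F) = t * -t by field_simp] at h
  rw [hb, hb, hb, ← h]
  group

/-- `c(t, 1 - t) = 1`. -/
theorem hb_mul_one_sub {r : ℕ} (hr : r < T.n) {t u : F} (ht : t ≠ 0) (hu : u ≠ 0)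
    (htu : t + u = 1) : L.hb r t * L.hb r u = L.hb r (t * u) := by
  have hn := neg_lt' hr
  set X := L.y r with hX
  set Y := L.y (T.neg r) with hY
  have hXa : ∀ a b, X a * X b = X (a + b) := L.add r hr
  have hYa : ∀ a b, Y a * Y b = Y (a + b) := L.add _ hn
  have hYn : ∀ a : F, a ≠ 0 → Y (-a⁻¹) = X (-a) * L.nb r a * X (-a) := fun a _ => by
    simp only [nb, ← hX, ← hY]
    rw [show ∀ p q w : E, p * (q * w * q) * p = (p * q) * w * (q * p) from fun p q w => by group,
      hXa, hXa, neg_add_cancel, add_neg_cancel, hX, L.zero hT hr, one_mul, mul_one]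
  have hone : X (-1) = L.nb r (-1) * X 1 * Y (-1) := by
    simp only [nb, ← hX, ← hY, inv_neg, inv_one, _root_.neg_neg]
    rw [mul_assoc (X (-1) * Y 1) (X (-1)), hXa, neg_add_cancel, show X 0 = 1 from L.zero hT hr,
      mul_one, mul_assoc, hYa, add_neg_cancel, show Y 0 = 1 from L.zero hT hn, mul_one]
  have e1 : L.nb r (t * u) = X (-t ^ 2) * L.nb r t * X (-1) * L.nb r u * X (-u ^ 2) := by
    rw [show L.nb r (t * u) = X (t * u) * Y (-(t * u)⁻¹) * X (t * u) from rfl,
      show -(t * u)⁻¹ = -t⁻¹ + -u⁻¹ by field_simp; linear_combination htu, ← hYa, hYn t ht, hYn u hu]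
    rw [show -t ^ 2 = t * u + -t by linear_combination -t * htu,
      show (-1 : F) = -t + -u by linear_combination htu,
      show -u ^ 2 = -u + t * u by linear_combination -u * htu, ← hXa, ← hXa, ← hXa]
    group
  have eY : Y (-1) * L.nb r u = L.nb r u * X (u ^ 2) := by
    have := L.nb_conj_y hT hr hu (u ^ 2)
    rw [show -(u ^ 2) / u ^ 2 = (-1 : F) by field_simp] at this
    rw [hY, ← this, hX]
    group
  have eX : X 1 * L.nb r u = L.nb r u * Y (-(u ^ 2)⁻¹) := by
    have := L.nb_conj_y_neg hT hr hu (-(u ^ 2)⁻¹)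
    rw [show -(-(u ^ 2)⁻¹ * u ^ 2) = (1 : F) by field_simp] at this
    rw [hX, ← this, hY]
    group
  set N := L.nb r t * L.nb r (-1) * L.nb r u with hN
  have e2 : L.nb r (t * u) = X (-t ^ 2) * N * Y (-(u ^ 2)⁻¹) := by
    rw [e1, hone, hN]
    simp only [mul_assoc]
    rw [← mul_assoc (Y (-1)) (L.nb r u), eY, mul_assoc (L.nb r u), hXa, add_neg_cancel,
      show X 0 = 1 from L.zero hT hr, mul_one, eX]
  have e3 : N * Y (-(u ^ 2)⁻¹) * N⁻¹ = X (t ^ 2) := by
    have h1 := L.nb_conj_y_neg hT hr hu (-(u ^ 2)⁻¹)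
    rw [show -(-(u ^ 2)⁻¹ * u ^ 2) = (1 : F) by field_simp] at h1
    have h2 := L.nb_conj_y hT hr (neg_ne_zero.2 (one_ne_zero (α := F))) 1
    rw [show -(1 : F) / (-1) ^ 2 = -1 by simp] at h2
    have h3 := L.nb_conj_y_neg hT hr ht (-1)
    rw [show -(-1 * t ^ 2) = t ^ 2 by ring] at h3
    rw [hN, hX, hY, ← h3, ← h2, ← h1]
    group
  have e4 : N * Y (-(u ^ 2)⁻¹) = X (t ^ 2) * N := mul_inv_eq_iff_eq_mul.1 e3
  rw [mul_assoc, e4, ← mul_assoc, hXa, neg_add_cancel,
    show X 0 = 1 from L.zero hT hr, one_mul] at e2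
  rw [hb, hb, hb, e2, hN]
  group

/-- Every lifted root system satisfies (R3) over a finite field. -/
theorem hb_mul [Finite F] {r : ℕ} (hr : r < T.n) (hK : T.isK r = true) (a b : Fˣ) :
    L.hb r (a : F) * L.hb r (b : F) = L.hb r ((a * b : Fˣ) : F) := by
  classical
  have := Fintype.ofFinite F
  have hk := c.ker_le
  -- the `h̄`'s commute
  obtain ⟨g, hg⟩ := IsCyclic.exists_generator (α := Fˣ)
  let η : Fˣ →* GL T.I F :=
    { toFun := fun x => T.hU F r (x : F)
      map_one' := by rw [hU_eq hT hr, hCh_one, dU_one]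
      map_mul' := fun x x' => (hU_mul hT hr x x').symm }
  have himg : ∀ x : Fˣ, c.π (L.hb r (x : F)) = η x := fun x => L.img_hb hT hr _
  have hcomm : ∀ x x' : Fˣ, Commute (L.hb r (x : F)) (L.hb r (x' : F)) := by
    have hpow : ∀ x : Fˣ, ∃ i : ℤ, ∃ z : E, (∀ e, e * z = z * e) ∧
        L.hb r (x : F) = L.hb r (g : F) ^ i * z := by
      intro x
      obtain ⟨i, hi⟩ := Subgroup.mem_zpowers_iff.1 (hg x)
      refine ⟨i, (L.hb r (g : F) ^ i)⁻¹ * L.hb r (x : F), fun e => ker_comm hk ?_ e, by group⟩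
      rw [map_mul, map_inv, map_zpow, himg, himg, ← map_zpow, hi, inv_mul_cancel]
    intro x x'
    obtain ⟨i, z, hz, hx⟩ := hpow x
    obtain ⟨j, w, hw, hx'⟩ := hpow x'
    rw [hx, hx']
    exact ((((Commute.refl _).zpow_zpow i j).mul_right (hw _)).mul_left
      ((hz _).symm : Commute z _))
  -- the cocycle
  set κ : Fˣ → Fˣ → E := fun x x' =>
    L.hb r ((x * x' : Fˣ) : F) * (L.hb r (x : F))⁻¹ * (L.hb r (x' : F))⁻¹ with hκ
  simp only [isK, List.any_eq_true, List.mem_range, decide_eq_true_eq] at hK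
  obtain ⟨s, hs, hpair⟩ := hK
  have hmult : ∀ x x' x'' : Fˣ, κ x (x' * x'') = κ x x' * κ x x'' := by
    intro x
    obtain ⟨cc, hcc⟩ : ∃ cc : Fˣ, cc ^ T.pair s r = x := by
      rcases Int.natAbs_eq_iff.mp hpair with h | h
      · exact ⟨x, by simp [h]⟩
      · exact ⟨x⁻¹, by simp [h]⟩
    have hd : T.dU (T.hCh s cc) ∈ T.datum.diagonalSubgroup F := by
      rw [diagonalSubgroup_eq hT]; exact Subgroup.subset_closure ⟨s, hs, cc, rfl⟩
    obtain ⟨d, hd'⟩ := c.le_range (diag_le_group hT hd)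
    have hdN : c.π d ∈ T.datum.monomialSubgroup F := by rw [hd']; exact diag_le_N hT hd
    have hy : ∀ u, d * L.y r u * d⁻¹ = L.y r ((x : F) * u) := fun u =>
      L.conj_eq hT hdN hr hr (by rw [hd', mul_inv_eq_iff_eq_mul, dU_hCh_xU hT hs cc hr, hcc])
    have hy' : ∀ u, d * L.y (T.neg r) u * d⁻¹ = L.y (T.neg r) ((x : F)⁻¹ * u) := fun u =>
      L.conj_eq hT hdN (neg_lt' hr) (neg_lt' hr) (by
        rw [hd', mul_inv_eq_iff_eq_mul, dU_conj_X hT (isChar_hCh hT s cc) (neg_lt' hr),
          (isChar_hCh hT s cc).neg r hr, show T.hCh s cc r = x from hcc,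
          Units.val_inv_eq_inv_val])
    have hn : ∀ u, d * L.nb r u * d⁻¹ = L.nb r ((x : F) * u) := fun u => by
      rw [nb, show ∀ p q : E, d * (p * q * p) * d⁻¹ = (d * p * d⁻¹) * (d * q * d⁻¹) * (d * p * d⁻¹)
        from fun p q => by group, hy, hy', nb]
      congr 2
      rw [mul_inv, mul_neg]
    have he : ∀ x' : Fˣ, κ x x' = ⁅d, L.hb r (x' : F)⁆ := by
      intro x'
      have h1 : d * L.hb r (x' : F) * d⁻¹ =
          L.hb r ((x * x' : Fˣ) : F) * (L.hb r (x : F))⁻¹ := by
        rw [hb, show ∀ p q : E, d * (p * q) * d⁻¹ = (d * p * d⁻¹) * (d * q * d⁻¹) from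
          fun p q => by group, hn, hn, mul_neg, mul_one, L.nb_neg hT hr (x : F), hb, hb,
          Units.val_mul]
        group
      rw [commutatorElement_def, h1]
    have hz : ∀ x' : Fˣ, ∀ e, Commute e ⁅d, L.hb r (x' : F)⁆ := fun x' e => by
      refine ker_comm hk ?_ e
      rw [map_commutatorElement, commutatorElement_eq_one_iff_mul_comm, hd', himg]
      show _ * T.hU F r (x' : F) = T.hU F r (x' : F) * _
      rw [hU_eq hT hr]
      exact dU_comm _ _
    intro x' x''
    rw [he, he, he, ← commutator_mul_right (hz x'' _)]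
    exact commutator_congr hk rfl (by rw [map_mul, himg, himg, himg, map_mul])
  have hsymm : ∀ x x', κ x x' = κ x' x := fun x x' => by
    simp only [hκ]
    rw [mul_comm x x', mul_assoc, mul_assoc, ← mul_inv_rev, ← mul_inv_rev, (hcomm x x').eq]
  have hone : ∀ x, κ x 1 = 1 := fun x => by
    have := hmult x 1 1
    rwa [one_mul, left_eq_mul] at this
  have hneg : ∀ x : Fˣ, κ x (-x) = 1 := fun x => by
    have h := (hcomm x (-x)).eq
    simp only [hκ, Units.val_mul, Units.val_neg] at h ⊢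
    rw [← L.hb_mul_neg hT hr x.ne_zero, h]
    group
  -- `κ g g` has order at most two, and an odd power of it is trivial
  have hgg : κ g g = 1 := by
    have hsq : κ g g * κ g g = 1 := by
      have h1 := hneg g
      rw [show -g = -1 * g by rw [neg_one_mul], hmult] at h1
      have h2 : κ g (-1) * κ g (-1) = 1 := by
        rw [← hmult, neg_one_mul, _root_.neg_neg, hone]
      rw [eq_inv_of_mul_eq_one_right h1, ← mul_inv_rev, h2, inv_one]
    have hp : ∀ i : ℕ, ∀ x, κ x (g ^ i) = κ x g ^ i := fun i x => by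
      induction i with
      | zero => simp [hone]
      | succ i ih => rw [pow_succ, hmult, ih, pow_succ]
    have hpp : ∀ i j : ℕ, κ (g ^ i) (g ^ j) = κ g g ^ (i * j) := fun i j => by
      rw [hp, hsymm, hp, ← pow_mul]
    rcases Nat.even_or_odd (Fintype.card Fˣ) with hev | hodd
    swap
    · have h1 : κ g g ^ Fintype.card Fˣ = 1 := by rw [← hp, pow_card_eq_one, hone]
      obtain ⟨k, hk'⟩ := hodd
      rwa [hk', pow_succ, pow_mul, pow_two, hsq, one_pow, one_mul] at h1
    · -- a non-square `t` with `1 - t` a non-square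
      obtain ⟨m, hm⟩ := hev
      let sq : Finset F := (Finset.univ.image fun x : Fˣ => ((x ^ 2 : Fˣ) : F))
      let nsq : Finset F := (Finset.univ.image fun x : Fˣ => ((g * x ^ 2 : Fˣ) : F))
      have hcard : nsq.card = sq.card := by
        have : nsq = sq.image fun z => (g : F) * z := by
          simp only [nsq, sq, Finset.image_image]
          rfl
        rw [this, Finset.card_image_of_injective _ (mul_right_injective₀ g.ne_zero)]
      obtain ⟨t, ht, hu⟩ : ∃ t ∈ nsq, 1 - t ∈ nsq := by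
        by_contra hall
        push Not at hall
        have hdich : ∀ z : Fˣ, (z : F) ∈ sq ∨ (z : F) ∈ nsq := by
          intro z
          obtain ⟨i, rfl⟩ := (Submonoid.mem_powers_iff _ _).1 (mem_powers_iff_mem_zpowers.2 (hg z))
          rcases Nat.even_or_odd' i with ⟨k, rfl | rfl⟩
          · exact Or.inl (Finset.mem_image.2 ⟨g ^ k, Finset.mem_univ _, by rw [← pow_mul, mul_comm]⟩)
          · exact Or.inr (Finset.mem_image.2 ⟨g ^ k, Finset.mem_univ _,
              by rw [← pow_mul, mul_comm k 2, ← pow_succ']⟩)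
        have h1sq : (1 : F) ∈ sq := Finset.mem_image.2 ⟨1, Finset.mem_univ _, by simp⟩
        have h1nsq : (1 : F) ∉ nsq := by
          intro h1
          obtain ⟨x, -, hx⟩ := Finset.mem_image.1 h1
          have hx' : g * x ^ 2 = 1 := Units.ext hx
          obtain ⟨i, rfl⟩ := (Submonoid.mem_powers_iff _ _).1 (mem_powers_iff_mem_zpowers.2 (hg x))
          rw [← pow_mul, ← pow_succ', ← orderOf_dvd_iff_pow_eq_one,
            orderOf_eq_card_of_forall_mem_zpowers hg, Nat.card_eq_fintype_card, hm] at hx'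
          obtain ⟨w, hw⟩ := hx'
          have : Even (i * 2 + 1) := ⟨m * w, by rw [hw]; ring⟩
          simp [parity_simps] at this
        have hsub : (nsq.image fun z => 1 - z) ⊆ sq.erase 1 := by
          intro z hz
          obtain ⟨t, ht, rfl⟩ := Finset.mem_image.1 hz
          have ht0 : t ≠ 0 := by
            obtain ⟨x, -, rfl⟩ := Finset.mem_image.1 ht
            exact Units.ne_zero _
          have h1t : 1 - t ≠ 0 := fun h => h1nsq (by rwa [← sub_eq_zero.1 h] at ht)
          refine Finset.mem_erase.2 ⟨fun h => ht0 (by linear_combination -h), ?_⟩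
          rcases hdich (Units.mk0 _ h1t) with h | h
          · exact h
          · exact absurd h (hall t ht)
        have := Finset.card_le_card hsub
        rw [Finset.card_image_of_injective _ sub_right_injective, hcard,
          Finset.card_erase_of_mem h1sq] at this
        have : 0 < sq.card := Finset.card_pos.2 ⟨1, h1sq⟩
        omega
      obtain ⟨x, -, rfl⟩ := Finset.mem_image.1 ht
      obtain ⟨x', -, hx'⟩ := Finset.mem_image.1 hu
      obtain ⟨i, rfl⟩ := (Submonoid.mem_powers_iff _ _).1 (mem_powers_iff_mem_zpowers.2 (hg x))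
      obtain ⟨j, rfl⟩ := (Submonoid.mem_powers_iff _ _).1 (mem_powers_iff_mem_zpowers.2 (hg x'))
      have h1 := L.hb_mul_one_sub hT hr (Units.ne_zero _) (Units.ne_zero (g * (g ^ j) ^ 2))
        (by rw [hx']; ring : ((g * (g ^ i) ^ 2 : Fˣ) : F) + ((g * (g ^ j) ^ 2 : Fˣ) : F) = 1)
      have h2 : κ (g * (g ^ i) ^ 2) (g * (g ^ j) ^ 2) = 1 := by
        simp only [hκ]
        rw [Units.val_mul, ← h1, (hcomm _ _).eq]
        group
      rw [← pow_mul, ← pow_mul, ← pow_succ', ← pow_succ', hpp,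
        show (i * 2 + 1) * (j * 2 + 1) = 2 * (i * j * 2 + i + j) + 1 by ring, pow_succ, pow_mul,
        pow_two, hsq, one_pow, one_mul] at h2
      exact h2
  have htriv : κ a b = 1 := by
    obtain ⟨i, rfl⟩ := (Submonoid.mem_powers_iff _ _).1 (mem_powers_iff_mem_zpowers.2 (hg a))
    obtain ⟨j, rfl⟩ := (Submonoid.mem_powers_iff _ _).1 (mem_powers_iff_mem_zpowers.2 (hg b))
    have hp : ∀ i : ℕ, ∀ x, κ x (g ^ i) = κ x g ^ i := fun i x => by
      induction i with
      | zero => simp [hone]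
      | succ i ih => rw [pow_succ, hmult, ih, pow_succ]
    rw [hp, hsymm, hp, hgg, one_pow, one_pow]
  simp only [hκ, mul_inv_eq_one] at htriv
  rw [(hcomm a b).eq, ← htriv, inv_mul_cancel_right]

/-- The lifts define a map from the presented group. -/
theorem exists_stLift [Finite F] (hC : T.chkComm = true) (hK : ∀ r < T.n, T.isK r = true) :
    ∃ φ : T.datum.SteinbergGroup F →* E, c.π.comp φ = stHom hT hC ∧
      ∀ r < T.n, ∀ t, φ (T.sX F r t) = L.y r t := by
  have hX : ∀ r < T.n, ∀ t : F,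
      FreeGroup.lift (fun p : Fin T.datum.nroots × F => L.y p.1.val p.2) (T.datum.stX r t) =
        L.y r t := by
    intro r hr t
    rw [Cfsg.Lie.ChevalleyDatum.stX, dif_pos hr, FreeGroup.lift_apply_of]
  have hW : ∀ w : List (ℕ × F), (∀ p ∈ w, p.1 < T.n) →
      FreeGroup.lift (fun p : Fin T.datum.nroots × F => L.y p.1.val p.2) (T.datum.stWord w) =
        (w.map fun p => L.y p.1 p.2).prod := by
    intro w hw
    rw [Cfsg.Lie.ChevalleyDatum.stWord, map_list_prod, List.map_map]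
    exact congrArg List.prod (List.map_congr_left fun p hp => hX p.1 (hw p hp) p.2)
  let φ : T.datum.SteinbergGroup F →* E :=
    PresentedGroup.toGroup (f := fun p : Fin T.datum.nroots × F => L.y p.1.val p.2) (by
      rintro g ((⟨r, t₁, t₂, hr, rfl⟩ | ⟨r, s, t, u, hr, hs, hrs, hneg, rfl⟩) |
        ⟨r, t₁, t₂, hr, h₁, h₂, rfl⟩)
      · have hr' : r < T.n := hr
        simp only [map_mul, map_inv, hX r hr', L.add r hr', mul_inv_cancel]
      · have hr' : r < T.n := hr
        have hs' : s < T.n := hs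
        rw [datum_neg hr'] at hneg
        simp only [map_mul, map_inv, hX r hr', hX s hs']
        rw [hW _ (by
          intro p hp
          simp only [Cfsg.Lie.ChevalleyDatum.commWord, datum_commTerms hT hr' hs', List.mem_map] at hp
          obtain ⟨k, hk, rfl⟩ := hp
          exact commT_lt hT hr' hs' k hk)]
        simp only [Cfsg.Lie.ChevalleyDatum.commWord, datum_commTerms hT hr' hs', List.map_map,
          Function.comp_def]
        rw [mul_assoc _ (L.y s u) (L.y r t), L.rel r hr' s hs' hrs hneg t u]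
        group
      · have hr' : r < T.n := hr
        have hh : ∀ k : F, FreeGroup.lift (fun p : Fin T.datum.nroots × F => L.y p.1.val p.2)
            (T.datum.stH r k) = L.hb r k := by
          intro k
          rw [Cfsg.Lie.ChevalleyDatum.stH, hW]
          · simp [Cfsg.Lie.ChevalleyDatum.hWord, Cfsg.Lie.ChevalleyDatum.nWord, datum_neg hr', hb,
              nb, mul_assoc]
          · have := neg_lt' hr'
            simp [Cfsg.Lie.ChevalleyDatum.hWord, Cfsg.Lie.ChevalleyDatum.nWord, datum_neg hr', hr',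
              this]
        simp only [map_mul, map_inv, hh]
        rw [show t₁ = ((Units.mk0 t₁ h₁ : Fˣ) : F) from rfl,
          show t₂ = ((Units.mk0 t₂ h₂ : Fˣ) : F) from rfl, L.hb_mul hT hr' (hK r hr'),
          ← Units.val_mul, mul_inv_cancel])
  have hφ : ∀ r < T.n, ∀ t, φ (T.sX F r t) = L.y r t := fun r hr t => by
    rw [sX, Cfsg.Lie.ChevalleyDatum.stGen, Cfsg.Lie.ChevalleyDatum.stX, dif_pos hr]
    exact PresentedGroup.toGroup.of _
  refine ⟨φ, PresentedGroup.ext fun p => ?_, hφ⟩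
  have e : (PresentedGroup.of p : T.datum.SteinbergGroup F) = T.sX F p.1.val p.2 := by
    rw [sX, Cfsg.Lie.ChevalleyDatum.stGen, Cfsg.Lie.ChevalleyDatum.stX, dif_pos p.1.2]
    rfl
  rw [MonoidHom.comp_apply, e, hφ _ p.1.2, L.img _ p.1.2, stHom_sX hT hC p.1.2]

end YLift

end CfsgLib.KnownA.SteinbergUniv
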