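import Cfsg.Agent.Lib.Chevalley.SteinbergTorus
import Cfsg.Agent.Lib.Chevalley.TorusCheck

set_option autoImplicit false

/-!
The centre of the presented group through an embedding of root systems: the torus of the smaller
presented group acts faithfully on the adjoint module of the larger type.
-/

namespace CfsgLib.KnownA.SteinbergUniv

open CfsgLib.Chevalley CfsgLib.Chevalley.Tbl

/-- `io` embeds the roots of `T` into those of `T'` with the same commutator formula. -/
def chkEmbRow (T T' : Tbl) (io : ℕ → ℕ) (r : ℕ) : Bool :=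
  Nat.blt (io r) T'.n && Nat.beq (io (T.neg r)) (T'.neg (io r)) &&
    allLt (fun s => (!(Nat.beq (io r) (io s)) || Nat.beq r s) &&
      decide (T'.commT (io r) (io s) = (T.commT r s).map fun c => (io c.1, c.2))) T.n

def chkEmb (T T' : Tbl) (io : ℕ → ℕ) : Bool :=
  allLt (chkEmbRow T T' io) T.n && Nat.ble T.rank T'.rank &&
    allLt (fun i => Nat.beq (io (T.simple i)) (T'.simple i)) T.rank

/-- `W` inverts the first rows of the Cartan matrix of `T'` on the right. -/
def chkLeft (T' : Tbl) (k : ℕ) (W : List (List ℤ)) : Bool :=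
  allLt (fun i => allLt (fun j =>
    decide (mMul T'.rank (fun a b => T'.ca a (T'.simple b)) (mEnt W) i j = if i = j then 1 else 0))
      k) k

variable {T T' : Tbl} {F : Type*} [Field F] {io : ℕ → ℕ}

theorem emb_facts (hE : chkEmb T T' io = true) :
    (∀ r < T.n, io r < T'.n ∧ io (T.neg r) = T'.neg (io r) ∧
      ∀ s < T.n, (io r = io s → r = s) ∧
        T'.commT (io r) (io s) = (T.commT r s).map fun c => (io c.1, c.2)) ∧
    T.rank ≤ T'.rank ∧ ∀ i < T.rank, io (T.simple i) = T'.simple i := by
  simp only [chkEmb, chkEmbRow, allLt_iff, Bool.and_eq_true, Nat.beq_eq, Bool.or_eq_true,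
    decide_eq_true_eq, Bool.not_eq_true', Nat.blt_eq, Nat.ble_eq] at hE
  obtain ⟨⟨h1, h2⟩, h3⟩ := hE
  refine ⟨fun r hr => ⟨(h1 r hr).1.1, (h1 r hr).1.2, fun s hs => ⟨fun h => ?_, ((h1 r hr).2 s hs).2⟩⟩,
    h2, h3⟩
  rcases ((h1 r hr).2 s hs).1 with h' | h'
  · rw [Bool.eq_false_iff, ne_eq, Nat.beq_eq] at h'
    exact absurd h h'
  · exact h'

/-- The map of the presented group into the larger Chevalley group. -/
theorem exists_embHom (hT : T.Valid) (hT' : T'.Valid) (hC' : T'.chkComm = true)
    (hE : chkEmb T T' io = true) :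
    ∃ ψ : T.datum.SteinbergGroup F →* GL T'.I F,
      ∀ r < T.n, ∀ t, ψ (T.sX F r t) = T'.xU F (io r) t := by
  obtain ⟨hrow, -, -⟩ := emb_facts hE
  have hX : ∀ r < T.n, ∀ t : F,
      FreeGroup.lift (fun p : Fin T.datum.nroots × F => T'.xU F (io p.1.val) p.2) (T.datum.stX r t) =
        T'.xU F (io r) t := by
    intro r hr t
    rw [Cfsg.Lie.ChevalleyDatum.stX, dif_pos hr, FreeGroup.lift_apply_of]
  have hW : ∀ w : List (ℕ × F), (∀ p ∈ w, p.1 < T.n) →
      FreeGroup.lift (fun p : Fin T.datum.nroots × F => T'.xU F (io p.1.val) p.2) (T.datum.stWord w) =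
        (w.map fun p => T'.xU F (io p.1) p.2).prod := by
    intro w hw
    rw [Cfsg.Lie.ChevalleyDatum.stWord, map_list_prod, List.map_map]
    exact congrArg List.prod (List.map_congr_left fun p hp => hX p.1 (hw p hp) p.2)
  refine ⟨PresentedGroup.toGroup (f := fun p : Fin T.datum.nroots × F => T'.xU F (io p.1.val) p.2) ?_,
    fun r hr t => ?_⟩
  · rintro g ((⟨r, t₁, t₂, hr, rfl⟩ | ⟨r, s, t, u, hr, hs, hrs, hneg, rfl⟩) |
      ⟨r, t₁, t₂, hr, h₁, h₂, rfl⟩)
    · have hr' : r < T.n := hr
      simp only [map_mul, map_inv, hX r hr', xU_add hT' (hrow r hr').1, mul_inv_cancel]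
    · have hr' : r < T.n := hr
      have hs' : s < T.n := hs
      rw [datum_neg hr'] at hneg
      simp only [map_mul, map_inv, hX r hr', hX s hs']
      rw [hW _ (by
        intro p hp
        simp only [Cfsg.Lie.ChevalleyDatum.commWord, datum_commTerms hT hr' hs', List.mem_map] at hp
        obtain ⟨c, hc, rfl⟩ := hp
        exact commT_lt hT hr' hs' c hc)]
      obtain ⟨hlt, hn, hp⟩ := hrow r hr'
      have hne : io s ≠ io r := fun h => hrs ((hp s hs').1 h.symm).symm
      have hne' : io s ≠ T'.neg (io r) := fun h => by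
        rw [← hn] at h
        exact hneg (((hrow _ (neg_lt' hr')).2.2 s hs').1 h.symm).symm
      simp only [Cfsg.Lie.ChevalleyDatum.commWord, datum_commTerms hT hr' hs', List.map_map,
        Function.comp_def]
      rw [mul_assoc _ (T'.xU F (io s) u) (T'.xU F (io r) t),
        comm_xU hT' hC' hlt (hrow s hs').1 hne hne' t u, (hp s hs').2, List.map_map]
      simp only [Function.comp_def]
      group
    · have hr' : r < T.n := hr
      obtain ⟨hlt, hn, -⟩ := hrow r hr'
      have hh : ∀ c : F, FreeGroup.lift (fun p : Fin T.datum.nroots × F => T'.xU F (io p.1.val) p.2)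
          (T.datum.stH r c) = T'.hU F (io r) c := by
        intro c
        rw [Cfsg.Lie.ChevalleyDatum.stH, hW]
        · simp [Cfsg.Lie.ChevalleyDatum.hWord, Cfsg.Lie.ChevalleyDatum.nWord, datum_neg hr', hU, nU,
            hn, mul_assoc]
        · have := neg_lt' hr'
          simp [Cfsg.Lie.ChevalleyDatum.hWord, Cfsg.Lie.ChevalleyDatum.nWord, datum_neg hr', hr', this]
      simp only [map_mul, map_inv, hh]
      rw [show t₁ = ((Units.mk0 t₁ h₁ : Fˣ) : F) from rfl,
        show t₂ = ((Units.mk0 t₂ h₂ : Fˣ) : F) from rfl, hU_mul hT' hlt, ← Units.val_mul,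
        mul_inv_cancel]
  · rw [sX, Cfsg.Lie.ChevalleyDatum.stGen, Cfsg.Lie.ChevalleyDatum.stX, dif_pos hr]
    exact PresentedGroup.toGroup.of _

/-- The torus of the presented group is the full torus of the simply connected group. -/
theorem sTorus_injective (hO : T.StOk) (hT' : T'.Valid) (hC' : T'.chkComm = true)
    (hE : chkEmb T T' io = true) {W : List (List ℤ)} (hW : chkLeft T' T.rank W = true) :
    Function.Injective (sTorus (F := F) hO) := by
  classical
  obtain ⟨hrow, hle, hsimp⟩ := emb_facts hE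
  obtain ⟨ψ, hψ⟩ := exists_embHom (F := F) hO.valid hT' hC' hE
  let ext : (Fin T.rank → Fˣ) →* (Fin T'.rank → Fˣ) :=
    { toFun := fun f j => if h : j.val < T.rank then f ⟨j.val, h⟩ else 1
      map_one' := by funext j; split <;> simp
      map_mul' := fun f g => by funext j; simp only [Pi.mul_apply]; split <;> simp }
  have hcomp : ψ.comp (sTorus hO) = (torusHom T' F).comp ext := by
    refine MonoidHom.pi_ext fun i c => ?_
    have hi := simple_lt hO.valid i.2
    show ψ (sTorus hO (Pi.mulSingle i c)) = torusHom T' F (ext (Pi.mulSingle i c))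
    rw [sTorus_single, sH, map_mul, sN, sN, map_mul, map_mul, map_mul, map_mul, hψ _ hi, hψ _ hi,
      hψ _ (neg_lt' hi), hψ _ (neg_lt' hi), (hrow _ hi).2.1, hsimp i i.2]
    show T'.hU F (T'.simple i) (c : F) = _
    have hi' : i.val < T'.rank := lt_of_lt_of_le i.2 hle
    rw [hU_eq hT' (simple_lt hT' hi')]
    refine dU_congr fun s _ => ?_
    rw [Finset.prod_eq_single (⟨i.val, hi'⟩ : Fin T'.rank)]
    · simp [ext, hCh, pair_simple hT' hi']
    · intro j _ hj
      have : j.val ≠ i.val := fun e => hj (Fin.ext e)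
      simp only [ext, MonoidHom.coe_mk, OneHom.coe_mk]
      split
      · rw [Pi.mulSingle_eq_of_ne (fun e => this (congrArg Fin.val e)), one_zpow]
      · rw [one_zpow]
    · simp
  rw [injective_iff_map_eq_one]
  intro f hf
  have h1 : torusHom T' F (ext f) = 1 := by
    have := DFunLike.congr_fun hcomp f
    simpa [hf] using this.symm
  have h2 := (torusHom_ker (F := F) hT').le (MonoidHom.mem_ker.mpr h1)
  rw [MonoidHom.mem_ker] at h2
  simp only [chkLeft, allLt_iff, decide_eq_true_eq] at hW
  funext k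
  have h3 := congrFun (congrArg (powMat T'.rank (mEnt W)) h2) ⟨k.val, lt_of_lt_of_le k.2 hle⟩
  rw [powMat_comp, map_one, Pi.one_apply] at h3
  rw [Pi.one_apply, ← h3]
  simp only [powMat, MonoidHom.coe_mk, OneHom.coe_mk]
  rw [Finset.prod_eq_single (⟨k.val, lt_of_lt_of_le k.2 hle⟩ : Fin T'.rank)]
  · rw [hW k k.2 k k.2, if_pos rfl, zpow_one]
    simp [ext]
  · intro j _ hj
    by_cases h : j.val < T.rank
    · rw [hW j h k k.2, if_neg fun e => hj (Fin.ext e), zpow_zero]
    · simp [ext, h]
  · simp

/-- The order of the centre of the presented group. -/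
theorem card_center [Fintype F] {q : ℕ} (hq : Fintype.card F = q) (hO : T.StOk)
    (hinj : Function.Injective (sTorus (F := F) hO)) {U U' V V' : List (List ℤ)} {d : List ℕ}
    (h : T.chkSmith U U' V V' d = true) :
    Nat.card (Subgroup.center (T.datum.SteinbergGroup F)) =
      ∏ i : Fin T.rank, Nat.gcd (q - 1) (d.getD i.val 0) := by
  classical
  have e : Nat.card (torusHom T F).ker = Nat.card (Subgroup.center (T.datum.SteinbergGroup F)) := by
    rw [← stProj_ker hO]
    refine Nat.card_eq_of_bijective (fun f => ⟨sTorus hO f.1, ?_⟩) ⟨fun a b hab => ?_, fun k => ?_⟩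
    · rw [MonoidHom.mem_ker]
      refine Subtype.ext ?_
      show hO.hom F (sTorus hO f.1) = 1
      rw [hom_sTorus]
      exact f.2
    · exact Subtype.ext (hinj (congrArg Subtype.val hab))
    · have hk1 : hO.hom F k.1 = 1 := congrArg Subtype.val k.2
      obtain ⟨f, hf⟩ := sDiag_le_range hO (ker_le_sDiag hO (MonoidHom.mem_ker.mpr hk1))
      refine ⟨⟨f, ?_⟩, Subtype.ext hf⟩
      rw [MonoidHom.mem_ker, ← hom_sTorus hO, hf, hk1]
  have h1 := card_diag hO.valid hq h
  have h2 := Subgroup.card_mul_index (torusHom T F).ker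
  rw [Subgroup.index_ker, torusHom_range hO.valid, e, Nat.card_fun, Nat.card_units, Nat.card_fin,
    Nat.card_eq_fintype_card (α := F), hq, ← h1] at h2
  exact Nat.eq_of_mul_eq_mul_right Nat.card_pos h2

/-- A group of order one or a prime is cyclic. -/
theorem center_mulEquiv {G : Type*} [Group G] {p k : ℕ} (hp : p.Prime)
    (h : Nat.card G = Nat.gcd p k) : Nonempty (G ≃* Multiplicative (ZMod (Nat.gcd p k))) := by
  have : IsCyclic G := by
    rcases (Nat.dvd_prime hp).1 (Nat.gcd_dvd_left p k) with h1 | h1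
    · rw [h1] at h
      have := (Nat.card_eq_one_iff_unique.1 h).1
      exact isCyclic_of_subsingleton
    · rw [h1] at h
      haveI := Fact.mk hp
      exact isCyclic_of_prime_card h
  exact ⟨(h ▸ zmodCyclicMulEquiv this).symm⟩

end CfsgLib.KnownA.SteinbergUniv
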