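import Mathlib

/-!
A common multiple of numbers `q ^ k + 1` (distinct `k`) and `q ^ k - 1` which is at most
`q ^ (sum + 1) / (q - 1)`.
-/

set_option autoImplicit false

namespace CfsgLib.KnownA.ExpBound

open Finset

lemma geom (q : ℕ) (hq : 1 ≤ q) (M : ℕ) :
    (∏ v ∈ range M, (q ^ 2 ^ v + 1)) * (q - 1) + 1 = q * ∏ v ∈ range M, q ^ 2 ^ v := by
  induction M with
  | zero => simp; omega
  | succ M ih =>
    rw [prod_range_succ, prod_range_succ]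
    have h : q * ∏ v ∈ range M, q ^ 2 ^ v = q ^ 2 ^ M := by
      rw [prod_pow_eq_pow_sum, ← pow_succ']
      congr 1
      rw [Nat.geomSum_eq (le_refl 2)]
      simp only [Nat.add_one_sub_one, Nat.div_one]
      exact Nat.sub_add_cancel Nat.one_le_two_pow
    rw [h] at ih
    rw [← mul_assoc q, h]
    generalize q ^ 2 ^ M = Q at *
    generalize (∏ v ∈ range M, (q ^ 2 ^ v + 1)) = P at *
    subst ih
    ring

lemma prod_classes_le (q : ℕ) (hq : 1 ≤ q) (V : Finset ℕ) :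
    (∏ v ∈ V, (q ^ 2 ^ v + 1)) * (q - 1) ≤ q * ∏ v ∈ V, q ^ 2 ^ v := by
  obtain ⟨M, hM⟩ : ∃ M, V ⊆ range M := ⟨V.sup id + 1, fun v hv => mem_range.2 (Nat.lt_succ_of_le (le_sup (f := id) hv))⟩
  have hg := geom q hq M
  rw [← prod_sdiff hM, ← prod_sdiff (f := fun v => q ^ 2 ^ v) hM] at hg
  have hle : ∏ v ∈ range M \ V, q ^ 2 ^ v ≤ ∏ v ∈ range M \ V, (q ^ 2 ^ v + 1) :=
    prod_le_prod' fun v _ => Nat.le_succ _
  have hpos : 0 < ∏ v ∈ range M \ V, q ^ 2 ^ v := prod_pos fun v _ => pow_pos hq _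
  generalize (∏ v ∈ range M \ V, q ^ 2 ^ v) = r at *
  generalize (∏ v ∈ range M \ V, (q ^ 2 ^ v + 1)) = r' at *
  generalize (∏ v ∈ V, (q ^ 2 ^ v + 1)) = A at *
  generalize (∏ v ∈ V, q ^ 2 ^ v) = B at *
  refine Nat.le_of_mul_le_mul_left ?_ hpos
  calc r * (A * (q - 1)) ≤ r' * (A * (q - 1)) := Nat.mul_le_mul_right _ hle
    _ ≤ r' * A * (q - 1) + 1 := by rw [mul_assoc]; omega
    _ = r * (q * B) := by rw [hg]; ring

theorem exists_multiple (q : ℕ) (hq : 2 ≤ q) (Kp Km : Finset ℕ) (hKp : ∀ k ∈ Kp, 1 ≤ k) (hKm : ∀ k ∈ Km, 1 ≤ k) :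
    ∃ L, 0 < L ∧ (∀ k ∈ Kp, q ^ k + 1 ∣ L) ∧ (∀ k ∈ Km, q ^ k - 1 ∣ L) ∧
      L * (q - 1) ≤ q ^ (∑ k ∈ Kp, k + ∑ k ∈ Km, k + 1) := by
  classical
  let v : ℕ → ℕ := padicValNat 2
  let Q : ℕ → ℕ := fun w => q ^ 2 ^ w
  let R : ℕ → ℕ := fun k => (q ^ k + 1) / (Q (v k) + 1)
  have hdvd : ∀ k ∈ Kp, Q (v k) + 1 ∣ q ^ k + 1 ∧ Q (v k) ≤ q ^ k := by
    intro k hk
    obtain ⟨l, hl⟩ := pow_padicValNat_dvd (p := 2) (n := k)
    have hk0 : k ≠ 0 := by have := hKp k hk; omega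
    have hodd : Odd l := by
      rw [← Nat.not_even_iff_odd]
      intro hev
      refine pow_succ_padicValNat_not_dvd (p := 2) hk0 ?_
      obtain ⟨i, rfl⟩ := hev
      exact ⟨i, by rw [pow_succ]; linarith [hl]⟩
    refine ⟨?_, ?_⟩
    · conv_rhs => rw [hl, pow_mul]
      have := hodd.nat_add_dvd_pow_add_pow (Q (v k)) 1
      rwa [one_pow] at this
    · exact Nat.pow_le_pow_right (by omega) (Nat.le_of_dvd (by omega) ⟨l, hl⟩)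
  have hR : ∀ k ∈ Kp, R k * (Q (v k) + 1) = q ^ k + 1 := fun k hk => Nat.div_mul_cancel (hdvd k hk).1
  have hRQ : ∀ k ∈ Kp, R k * Q (v k) ≤ q ^ k := by
    intro k hk
    have h1 := hR k hk
    have hpos : 0 < R k := Nat.pos_of_ne_zero (fun h => by rw [h, zero_mul] at h1; omega)
    rw [mul_add, mul_one] at h1
    omega
  let V := Kp.image v
  refine ⟨(∏ w ∈ V, (Q w + 1)) * (∏ k ∈ Kp, R k) * ∏ k ∈ Km, (q ^ k - 1), ?_, ?_, ?_, ?_⟩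
  · refine Nat.mul_pos (Nat.mul_pos (prod_pos fun _ _ => Nat.succ_pos _) (prod_pos fun k hk => ?_)) (prod_pos fun k hk => ?_)
    · exact Nat.pos_of_ne_zero (fun h => by have := hR k hk; rw [h, zero_mul] at this; omega)
    · have := Nat.one_lt_pow (show k ≠ 0 by have := hKm k hk; omega) (show 1 < q by omega)
      omega
  · intro k hk
    rw [← hR k hk, mul_comm (R k)]
    exact (mul_dvd_mul (dvd_prod_of_mem _ (mem_image_of_mem v hk)) (dvd_prod_of_mem _ hk)).trans (dvd_mul_right _ _)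
  · intro k hk
    exact (dvd_prod_of_mem (fun k => q ^ k - 1) hk).trans (dvd_mul_left _ _)
  have hclass : (∏ k ∈ Kp, R k) * ∏ w ∈ V, Q w ≤ q ^ ∑ k ∈ Kp, k := by
    have h1 : ∏ w ∈ V, Q w ≤ ∏ k ∈ Kp, Q (v k) :=
      Finset.prod_image_le_of_one_le fun w _ => Nat.one_le_pow _ _ (by omega)
    calc (∏ k ∈ Kp, R k) * ∏ w ∈ V, Q w ≤ (∏ k ∈ Kp, R k) * ∏ k ∈ Kp, Q (v k) := Nat.mul_le_mul_left _ h1
      _ = ∏ k ∈ Kp, R k * Q (v k) := prod_mul_distrib.symm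
      _ ≤ ∏ k ∈ Kp, q ^ k := prod_le_prod' hRQ
      _ = q ^ ∑ k ∈ Kp, k := prod_pow_eq_pow_sum Kp id q
  have hm : ∏ k ∈ Km, (q ^ k - 1) ≤ q ^ ∑ k ∈ Km, k := by
    rw [← prod_pow_eq_pow_sum]; exact prod_le_prod' fun k _ => Nat.sub_le _ _
  calc (∏ w ∈ V, (Q w + 1)) * (∏ k ∈ Kp, R k) * (∏ k ∈ Km, (q ^ k - 1)) * (q - 1)
      = ((∏ w ∈ V, (Q w + 1)) * (q - 1)) * (∏ k ∈ Kp, R k) * ∏ k ∈ Km, (q ^ k - 1) := by ring
    _ ≤ (q * ∏ w ∈ V, Q w) * (∏ k ∈ Kp, R k) * q ^ ∑ k ∈ Km, k :=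
        Nat.mul_le_mul (Nat.mul_le_mul_right _ (prod_classes_le q (by omega) V)) hm
    _ = q * ((∏ k ∈ Kp, R k) * ∏ w ∈ V, Q w) * q ^ ∑ k ∈ Km, k := by ring
    _ ≤ q * q ^ (∑ k ∈ Kp, k) * q ^ ∑ k ∈ Km, k := Nat.mul_le_mul_right _ (Nat.mul_le_mul_left _ hclass)
    _ = q ^ (∑ k ∈ Kp, k + ∑ k ∈ Km, k + 1) := by rw [pow_succ, pow_add]; ring

end CfsgLib.KnownA.ExpBound
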