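import Cfsg.Agent.Lib.Classical.SympMatrix
import Cfsg.Agent.Lib.Classical.SLOrders
import Mathlib

/-!
Sylow `r`-subgroups of `GL_n(q)`, `SL_n(q)` and `Sp_{2n}(q)` for primes `r > n`, `r ∤ q`: they are
homocyclic, realised inside tori.
-/

set_option autoImplicit false
set_option linter.unusedSectionVars false

namespace CfsgLib.TorusSylow

open Polynomial Module CfsgLib.Classical

/-! ### Generalities -/

theorem sylow_iso_of_hom {G : Type*} [Group G] [Finite G] {r : ℕ} [Fact r.Prime] (P : Sylow r G)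
    {a v : ℕ} (φ : (Fin a → Multiplicative (ZMod (r ^ v))) →* G) (hφ : Function.Injective φ)
    (hv : (Nat.card G).factorization r = a * v) :
    Nonempty (↥(P : Subgroup G) ≃* (Fin a → Multiplicative (ZMod (r ^ v)))) := by
  have hc : Nat.card φ.range = r ^ (Nat.card G).factorization r := by
    rw [← Nat.card_congr (MonoidHom.ofInjective hφ).toEquiv, Nat.card_fun,
      Nat.card_congr Multiplicative.toAdd, Nat.card_zmod, Nat.card_fin, hv, mul_comm, pow_mul]
  obtain ⟨g, hg⟩ := MulAction.exists_smul_eq G P (Sylow.ofCard φ.range hc)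
  have h1 : ((g • P : Sylow r G) : Subgroup G) = φ.range := by rw [hg, Sylow.coe_ofCard]
  exact ⟨((P.equivSMul g).trans (MulEquiv.subgroupCongr h1)).trans (MonoidHom.ofInjective hφ).symm⟩

theorem exists_zmod_hom {M : Type*} [Group M] {ζ : M} {m : ℕ} (h : orderOf ζ = m) :
    ∃ c : Multiplicative (ZMod m) →* M, Function.Injective c := by
  have h1 : m = Nat.card (Subgroup.zpowers ζ) := by rw [Nat.card_zpowers, h]
  rw [h1]
  let e := zmodCyclicMulEquiv (G := Subgroup.zpowers ζ) inferInstance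
  exact ⟨(Subgroup.zpowers ζ).subtype.comp e.toMonoidHom,
    Subtype.val_injective.comp e.injective⟩

theorem card_filter_range_succ (P : ℕ → Prop) [DecidablePred P] (n : ℕ) :
    ((Finset.range n).filter fun k => P (k + 1)).card = ((Finset.Icc 1 n).filter P).card := by
  refine Finset.card_nbij' (· + 1) (· - 1) ?_ ?_ ?_ ?_ <;> intro k <;>
    simp only [Finset.coe_filter, Set.mem_ofPred_eq, Finset.mem_range, Finset.mem_Icc]
  · exact fun h => ⟨⟨by omega, by omega⟩, h.2⟩
  · exact fun h => ⟨by omega, by rw [Nat.sub_add_cancel h.1.1]; exact h.2⟩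
  · exact fun _ => by omega
  · exact fun h => by omega

theorem card_filter_dvd (d n : ℕ) : ((Finset.Icc 1 n).filter fun i => d ∣ i).card = n / d := by
  rw [← Nat.Ioc_filter_dvd_card_eq_div n d]
  congr 1

/-! ### Valuations -/

section Val

variable {q r : ℕ} [hr : Fact r.Prime]

theorem q_coprime (hrq : ¬ r ∣ q) : ((q : ZMod r)) ≠ 0 := fun h =>
  hrq ((ZMod.natCast_eq_zero_iff _ _).mp h)

theorem order_pos (hrq : ¬ r ∣ q) : 0 < orderOf (q : ZMod r) := by
  rw [orderOf_pos_iff, isOfFinOrder_iff_pow_eq_one]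
  exact ⟨r - 1, by have := hr.out.two_le; omega, ZMod.pow_card_sub_one_eq_one (q_coprime hrq)⟩

theorem dvd_pow_sub_iff (hq : 1 ≤ q) (k : ℕ) : r ∣ q ^ k - 1 ↔ orderOf (q : ZMod r) ∣ k := by
  rw [orderOf_dvd_iff_pow_eq_one, ← ZMod.natCast_eq_zero_iff, Nat.cast_sub (Nat.one_le_pow _ _ hq),
    sub_eq_zero, Nat.cast_pow, Nat.cast_one]

theorem val_pow_sub (hq : 1 < q) (hrq : ¬ r ∣ q) (k : ℕ) (hk : 0 < k)
    (h : orderOf (q : ZMod r) ∣ k → ¬ r ∣ k / orderOf (q : ZMod r) ∧
      (r ≠ 2 ∨ k = orderOf (q : ZMod r))) :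
    padicValNat r (q ^ k - 1) =
      if orderOf (q : ZMod r) ∣ k then padicValNat r (q ^ orderOf (q : ZMod r) - 1) else 0 := by
  split_ifs with hd
  · obtain ⟨hnd, hor⟩ := h hd
    obtain ⟨j, rfl⟩ := hd
    rw [Nat.mul_div_cancel_left _ (order_pos hrq)] at hnd
    rcases hor with h2 | h1
    · have hj : j ≠ 0 := by rintro rfl; simp at hk
      have := padicValNat.pow_sub_pow (p := r) (x := q ^ orderOf (q : ZMod r)) (y := 1)
        (hr.out.odd_of_ne_two h2) (Nat.one_lt_pow (order_pos hrq).ne' hq)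
        ((dvd_pow_sub_iff hq.le _).mpr dvd_rfl) (fun hd => hrq (hr.out.dvd_of_dvd_pow hd)) hj
      rw [one_pow, ← pow_mul] at this
      rw [this, padicValNat.eq_zero_of_not_dvd hnd, add_zero]
    · rw [h1]
  · exact padicValNat.eq_zero_of_not_dvd fun hh => hd ((dvd_pow_sub_iff hq.le _).mp hh)

theorem val_cyclotomic (hq : 1 < q) (hrq : ¬ r ∣ q) :
    padicValNat r ((cyclotomic (orderOf (q : ZMod r)) ℤ).eval (q : ℤ)).natAbs =
      padicValNat r (q ^ orderOf (q : ZMod r) - 1) := by
  classical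
  set d := orderOf (q : ZMod r) with hd
  have hd0 : 0 < d := order_pos hrq
  have h := congrArg (fun p : ℤ[X] => (p.eval (q : ℤ)).natAbs)
    (prod_cyclotomic_eq_X_pow_sub_one hd0 ℤ)
  simp only [eval_prod, eval_sub, eval_pow, eval_X, eval_one] at h
  rw [← Finset.mul_prod_erase _ _ (Nat.mem_divisors_self d hd0.ne'), Int.natAbs_mul] at h
  have hcast : ((q : ℤ) ^ d - 1).natAbs = q ^ d - 1 := by
    rw [← Nat.cast_pow, ← Nat.cast_one, ← Nat.cast_sub (Nat.one_le_pow _ _ (by omega)),
      Int.natAbs_natCast]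
  rw [hcast] at h
  have hne : q ^ d - 1 ≠ 0 := Nat.sub_ne_zero_of_lt (Nat.one_lt_pow hd0.ne' hq)
  rw [← h] at hne ⊢
  rw [padicValNat.mul (left_ne_zero_of_mul hne) (right_ne_zero_of_mul hne)]
  have : ¬ r ∣ (∏ e ∈ d.divisors.erase d, (cyclotomic e ℤ).eval (q : ℤ)).natAbs := by
    intro hdiv
    have hdiv' : (r : ℤ) ∣ ∏ e ∈ d.divisors.erase d, (cyclotomic e ℤ).eval (q : ℤ) :=
      Int.natCast_dvd.mpr hdiv
    obtain ⟨e, he, hre⟩ :=
      (Nat.prime_iff_prime_int.mp hr.out).exists_mem_finset_dvd hdiv'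
    obtain ⟨hne', hdd⟩ := Finset.mem_erase.mp he
    have hed := Nat.dvd_of_mem_divisors hdd
    have h2 : (r : ℤ) ∣ (q : ℤ) ^ e - 1 := by
      refine hre.trans ?_
      have := Polynomial.eval_dvd (x := (q : ℤ)) (cyclotomic.dvd_X_pow_sub_one e ℤ)
      simpa using this
    have h3 : r ∣ q ^ e - 1 := by
      rw [← Int.natCast_dvd_natCast, Nat.cast_sub (Nat.one_le_pow _ _ (by omega))]
      simpa using h2
    exact hne' (Nat.dvd_antisymm hed ((dvd_pow_sub_iff hq.le e).mp h3))
  rw [padicValNat.eq_zero_of_not_dvd this, add_zero]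

theorem val_prod (hq : 1 < q) (hrq : ¬ r ∣ q) (N n : ℕ) (f : ℕ → ℕ) (hf : ∀ k < n, 0 < f k)
    (h : ∀ k < n, orderOf (q : ZMod r) ∣ f k → ¬ r ∣ f k / orderOf (q : ZMod r) ∧
      (r ≠ 2 ∨ f k = orderOf (q : ZMod r))) :
    (q ^ N * ∏ k ∈ Finset.range n, (q ^ f k - 1)).factorization r =
      ((Finset.range n).filter fun k => orderOf (q : ZMod r) ∣ f k).card *
        padicValNat r (q ^ orderOf (q : ZMod r) - 1) := by
  have hne : ∀ k ∈ Finset.range n, q ^ f k - 1 ≠ 0 := fun k hk =>
    Nat.sub_ne_zero_of_lt (Nat.one_lt_pow (hf k (Finset.mem_range.mp hk)).ne' hq)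
  rw [Nat.factorization_mul (pow_ne_zero _ (by omega)) (Finset.prod_ne_zero_iff.2 hne),
    Finsupp.add_apply, Nat.factorization_prod_apply hne, Nat.factorization_def _ hr.out,
    padicValNat.eq_zero_of_not_dvd (fun hd => hrq (hr.out.dvd_of_dvd_pow hd)), zero_add,
    ← smul_eq_mul, ← Finset.sum_const, Finset.sum_filter]
  refine Finset.sum_congr rfl fun k hk => ?_
  rw [Nat.factorization_def _ hr.out,
    val_pow_sub hq hrq _ (hf k (Finset.mem_range.mp hk)) (h k (Finset.mem_range.mp hk))]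

end Val

/-! ### Orders -/

section Orders

variable {F : Type*} [Field F] [Fintype F] {r : ℕ} [hr : Fact r.Prime]

local notation "dd" => orderOf (Fintype.card F : ZMod r)
local notation "vv" => padicValNat r (Fintype.card F ^ orderOf (Fintype.card F : ZMod r) - 1)

theorem val_gl (n : ℕ) (hrn : n < r) (hrq : ¬ r ∣ Fintype.card F) :
    (Nat.card (GL (Fin n) F)).factorization r = n / dd * vv := by
  set q := Fintype.card F
  have hq1 : 1 < q := Fintype.one_lt_card
  have h : Nat.card (GL (Fin n) F)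
      = q ^ (n * (n - 1) / 2) * ∏ k ∈ Finset.range n, (q ^ (k + 1) - 1) := by
    rw [Matrix.card_GL_field, ← Finset.prod_range_reflect (fun k => q ^ (k + 1) - 1) n,
      ← Finset.sum_range_id, ← Finset.prod_pow_eq_pow_sum, ← Finset.prod_mul_distrib,
      ← Fin.prod_univ_eq_prod_range]
    refine Finset.prod_congr rfl fun i _ => ?_
    rw [Nat.mul_sub, mul_one, ← pow_add]
    congr 2
    omega
  rw [h, val_prod hq1 hrq _ n (fun k => k + 1) (fun _ _ => Nat.succ_pos _),
    card_filter_range_succ (fun i => orderOf (q : ZMod r) ∣ i) n, card_filter_dvd]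
  intro k hk hd
  have hpos : 0 < orderOf (q : ZMod r) := order_pos hrq
  have h1 : (k + 1) / orderOf (q : ZMod r) ≤ k + 1 := Nat.div_le_self _ _
  refine ⟨fun hh => ?_, ?_⟩
  · have := Nat.le_of_dvd (Nat.div_pos (Nat.le_of_dvd (Nat.succ_pos _) hd) hpos) hh
    simp only [Nat.succ_eq_add_one] at this; omega
  · by_cases h2 : r = 2
    · right
      have hk0 : k + 1 = 1 := by omega
      rw [hk0] at hd ⊢
      exact (Nat.dvd_one.mp hd).symm
    · exact Or.inl h2

theorem val_sp (n : ℕ) (hr2 : r ≠ 2) (hrn : n < r) (hrq : ¬ r ∣ Fintype.card F) :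
    (Nat.card (Matrix.symplecticGroup (Fin n) F)).factorization r =
      ((Finset.Icc 1 n).filter fun i => dd ∣ 2 * i).card * vv := by
  set q := Fintype.card F
  have hq1 : 1 < q := Fintype.one_lt_card
  rw [card_symplecticGroup, val_prod hq1 hrq _ n (fun k => 2 * (k + 1)) (fun _ _ => by omega),
    card_filter_range_succ (fun i => orderOf (q : ZMod r) ∣ 2 * i) n]
  intro k hk hd
  refine ⟨fun hh => ?_, Or.inl hr2⟩
  obtain ⟨j, hj⟩ := hd
  rw [hj, Nat.mul_div_cancel_left _ (order_pos hrq)] at hh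
  have h1 : r ∣ 2 * (k + 1) := hj ▸ hh.mul_left _
  rcases hr.out.dvd_mul.mp h1 with h3 | h3
  · exact hr2 ((Nat.prime_dvd_prime_iff_eq hr.out Nat.prime_two).mp h3)
  · have := Nat.le_of_dvd (Nat.succ_pos k) h3
    omega

theorem val_sl (n : ℕ) (hn : 1 ≤ n) :
    (Nat.card (GL (Fin n) F)).factorization r =
      padicValNat r (Fintype.card F - 1) +
        (Nat.card (Matrix.SpecialLinearGroup (Fin n) F)).factorization r := by
  haveI : Nonempty (Fin n) := ⟨⟨0, hn⟩⟩
  rw [← card_units_mul_card_sl, Nat.factorization_mul Nat.card_pos.ne' Nat.card_pos.ne',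
    Finsupp.add_apply, Nat.card_units, Nat.card_eq_fintype_card, Nat.factorization_def _ hr.out]

end Orders

/-! ### Tori -/

section Tori

variable {F : Type*} [Field F]

/-- A tuple of units of an extension acting on `K^a × F^t`. -/
def scal {K : Type*} [Field K] [Algebra F K] (a t : ℕ) :
    (Fin a → Kˣ) →* Module.End F ((Fin a → K) × (Fin t → F)) where
  toFun x := (LinearMap.mulLeft F (fun i => (x i : K))).prodMap LinearMap.id
  map_one' := LinearMap.ext fun z => by
    refine Prod.ext (funext fun i => ?_) rfl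
    simp
  map_mul' x y := LinearMap.ext fun z => by
    refine Prod.ext (funext fun i => ?_) rfl
    simp [mul_assoc]

theorem scal_injective {K : Type*} [Field K] [Algebra F K] (a t : ℕ) :
    Function.Injective (scal (F := F) (K := K) a t) := fun x y h => funext fun i => Units.ext (by
  have := congrArg (fun z => z.1 i) (LinearMap.congr_fun h (1, 0))
  simpa [scal] using this)

theorem exists_gl_torus [Fintype F] (p : ℕ) [Fact p.Prime] [CharP F p] {d n m : ℕ} (hd : 0 < d)
    (hm : m ∣ Fintype.card F ^ d - 1) :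
    ∃ φ : (Fin (n / d) → Multiplicative (ZMod m)) →* GL (Fin n) F, Function.Injective φ := by
  classical
  haveI : NeZero d := ⟨by omega⟩
  let K := FiniteField.Extension F p d
  haveI : Fintype K := Fintype.ofFinite K
  have hK : finrank F K = d := FiniteField.finrank_extension F p d
  haveI : FiniteDimensional F K := Module.finite_of_finrank_pos (by omega)
  have hcardK : Nat.card Kˣ = Fintype.card F ^ d - 1 := by
    rw [Nat.card_units, Nat.card_eq_fintype_card, Module.card_eq_pow_finrank (K := F), hK]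
  obtain ⟨γ, hγ⟩ := IsCyclic.exists_ofOrder_eq_natCard (α := Kˣ)
  rw [hcardK] at hγ
  obtain ⟨t, ht⟩ := hm
  have hne : Fintype.card F ^ d - 1 ≠ 0 :=
    Nat.sub_ne_zero_of_lt (Nat.one_lt_pow (by omega) Fintype.one_lt_card)
  have hζ : orderOf (γ ^ t) = m := by
    rw [orderOf_pow_of_dvd (by rintro rfl; simp at ht; exact hne ht) (by rw [hγ, ht]; exact dvd_mul_left _ _),
      hγ, ht, Nat.mul_div_cancel]
    exact Nat.pos_of_ne_zero (by rintro rfl; simp at ht; exact hne ht)
  obtain ⟨c, hc⟩ := exists_zmod_hom hζ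
  have hfr : finrank F ((Fin (n / d) → K) × (Fin (n % d) → F)) = n := by
    rw [Module.finrank_prod, Module.finrank_pi_fintype, Module.finrank_fin_fun, Finset.sum_const,
      Finset.card_univ, Fintype.card_fin, hK, smul_eq_mul, mul_comm, Nat.div_add_mod]
  let b := Module.finBasisOfFinrankEq F _ hfr
  let ψ : (Fin (n / d) → Multiplicative (ZMod m)) →* Matrix (Fin n) (Fin n) F :=
    ((LinearMap.toMatrixAlgEquiv b).toAlgHom.toMonoidHom.comp (scal (n / d) (n % d))).comp
      (MonoidHom.compLeft c _)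
  refine ⟨ψ.toHomUnits, fun x y h => ?_⟩
  have h1 : ψ x = ψ y := congrArg Units.val h
  exact funext fun i => hc (congrFun (scal_injective _ _
    ((LinearMap.toMatrixAlgEquiv b).injective h1)) i)

/-- `A ↦ diag(A, A^{-T})`. -/
def glToSp (n : ℕ) : GL (Fin n) F →* Matrix.symplecticGroup (Fin n) F where
  toFun g := ⟨Matrix.fromBlocks (g : Matrix (Fin n) (Fin n) F) 0 0
      ((g⁻¹ : GL (Fin n) F) : Matrix (Fin n) (Fin n) F).transpose, by
    rw [SymplecticGroup.mem_iff, Matrix.J, Matrix.fromBlocks_transpose, Matrix.fromBlocks_multiply,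
      Matrix.fromBlocks_multiply]
    simp [← Matrix.transpose_mul]⟩
  map_one' := Subtype.ext (by simp)
  map_mul' g h := Subtype.ext (by
    simp [Matrix.fromBlocks_multiply, Matrix.transpose_mul])

theorem glToSp_injective (n : ℕ) : Function.Injective (glToSp (F := F) n) := fun g h e =>
  Units.ext (Matrix.fromBlocks_inj.mp (congrArg Subtype.val e)).1

theorem exists_sp_torus [Fintype F] (p : ℕ) [Fact p.Prime] [CharP F p] {e n m : ℕ} (he : 0 < e)
    (hm : m ∣ Fintype.card F ^ e + 1) :
    ∃ φ : (Fin (n / e) → Multiplicative (ZMod m)) →* Matrix.symplecticGroup (Fin n) F,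
      Function.Injective φ := by
  classical
  haveI : NeZero (2 * e) := ⟨by omega⟩
  let K := FiniteField.Extension F p (2 * e)
  haveI : Fintype K := Fintype.ofFinite K
  have hK : finrank F K = 2 * e := FiniteField.finrank_extension F p (2 * e)
  haveI : FiniteDimensional F K := Module.finite_of_finrank_pos (by omega)
  set q := Fintype.card F with hq
  have hq2 : 1 < q := Fintype.one_lt_card
  set Q := q ^ e with hQ
  have hQ2 : 1 < Q := Nat.one_lt_pow (by omega) hq2
  let σ : K ≃ₐ[F] K := (FiniteField.frobeniusAlgEquivOfAlgebraic F K) ^ e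
  have hσ : ∀ x, σ x = x ^ Q := fun x => by
    show ((FiniteField.frobeniusAlgEquivOfAlgebraic F K) ^ e) x = _
    rw [AlgEquiv.coe_pow, FiniteField.coe_frobeniusAlgEquivOfAlgebraic, pow_iterate]
  have hcardK : Fintype.card K = Q * Q := by
    rw [Module.card_eq_pow_finrank (K := F), hK, two_mul, pow_add]
  have hσσ : ∀ x, σ (σ x) = x := fun x => by
    rw [hσ, hσ, ← pow_mul, ← hcardK, FiniteField.pow_card]
  obtain ⟨γ, hγ⟩ := IsCyclic.exists_ofOrder_eq_natCard (α := Kˣ)
  rw [Nat.card_units, Nat.card_eq_fintype_card, hcardK] at hγ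
  have hQQ : Q * Q - 1 = (Q + 1) * (Q - 1) := by
    rw [← Nat.mul_self_sub_mul_self_eq, mul_one]
  obtain ⟨t, ht⟩ := hm
  let s := t * (Q - 1)
  have hs : s ≠ 0 := Nat.mul_ne_zero (by rintro rfl; omega) (by omega)
  have hord : Q * Q - 1 = m * s := by rw [hQQ, ht, mul_assoc]
  have hζ : orderOf (γ ^ s) = m := by
    rw [orderOf_pow_of_dvd hs (by rw [hγ, hord]; exact dvd_mul_left _ _), hγ, hord,
      Nat.mul_div_cancel _ (Nat.pos_of_ne_zero hs)]
  -- the subgroup of norm one elements
  let H : Subgroup Kˣ :=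
    { carrier := {x | (x : K) * σ x = 1}
      one_mem' := by simp
      mul_mem' := fun {x y} hx hy => by
        simp only [Set.mem_ofPred_eq, Units.val_mul, map_mul σ] at *
        calc (x : K) * y * (σ x * σ y) = ((x : K) * σ x) * ((y : K) * σ y) := by ring
          _ = 1 := by rw [hx, hy, one_mul]
      inv_mem' := fun {x} hx => by
        simp only [Set.mem_ofPred_eq, Units.val_inv_eq_inv_val, map_inv₀ σ] at *
        rw [← mul_inv, hx, inv_one] }
  have hmem : γ ^ s ∈ H := by
    show ((γ ^ s : Kˣ) : K) * σ ((γ ^ s : Kˣ) : K) = 1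
    rw [hσ, ← pow_succ', ← Units.val_pow_eq_pow_val, ← pow_mul, Units.val_eq_one,
      ← orderOf_dvd_iff_pow_eq_one, hγ, hQQ]
    exact ⟨t, by simp only [s]; ring⟩
  obtain ⟨c, hc⟩ := exists_zmod_hom (ζ := (⟨γ ^ s, hmem⟩ : H)) ((Subgroup.orderOf_mk _ _).trans hζ)
  -- the form
  let β : K := (γ : K) - σ γ
  have hβ : β ≠ 0 := by
    intro h
    have h1 : γ ^ (Q - 1) = 1 := by
      apply mul_right_cancel (b := γ)
      apply Units.ext
      rw [← pow_succ, Nat.sub_add_cancel hQ2.le, one_mul, Units.val_pow_eq_pow_val, ← hσ]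
      exact (sub_eq_zero.mp h).symm
    have h2 := Nat.le_of_dvd (by omega) (orderOf_dvd_of_pow_eq_one h1)
    rw [hγ, hQQ] at h2
    have h3 := Nat.mul_le_mul_right (Q - 1) (show 2 ≤ Q + 1 by omega)
    omega
  let b : K →ₗ[F] K →ₗ[F] F :=
    (Algebra.traceForm F K).compl₁₂ (LinearMap.mulLeft F β) σ.toLinearMap
  have hb : ∀ x y, b x y = Algebra.trace F K (β * x * σ y) := fun x y => rfl
  have hbalt : ∀ x, b x x = 0 := fun x => by
    rw [hb]
    have h1 : Algebra.trace F K (σ ((γ : K) * (x * σ x))) = Algebra.trace F K ((γ : K) * (x * σ x)) :=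
      Algebra.trace_eq_of_algEquiv σ _
    rw [map_mul σ, map_mul σ, hσσ, mul_comm (σ x) x] at h1
    rw [show β * x * σ x = (γ : K) * (x * σ x) - σ γ * (x * σ x) by ring, map_sub, h1, sub_self]
  let a := n / e
  let B : (Fin a → K) × (Fin (n % e) ⊕ Fin (n % e) → F) →ₗ[F]
      (Fin a → K) × (Fin (n % e) ⊕ Fin (n % e) → F) →ₗ[F] F :=
    LinearMap.mk₂ F (fun x y => (∑ i, b (x.1 i) (y.1 i)) + sympBil F (n % e) x.2 y.2)
      (fun x y z => by simp [Finset.sum_add_distrib]; ring)
      (fun c x y => by simp [Finset.mul_sum, mul_add])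
      (fun x y z => by simp [Finset.sum_add_distrib]; ring)
      (fun c x y => by simp [Finset.mul_sum, mul_add])
  have hBa : B.IsAlt := fun x => by
    show (∑ i, b (x.1 i) (x.1 i)) + sympBil F (n % e) x.2 x.2 = 0
    rw [Finset.sum_eq_zero fun i _ => hbalt _, sympBil_isAlt (F := F) (n % e) x.2, add_zero]
  have hBn : B.Nondegenerate := by
    have h : B.SeparatingLeft := by
      intro v hv
      refine Prod.ext (funext fun i => ?_) ?_
      · have h4 : β * v.1 i = 0 := (traceForm_nondegenerate F K).1 _ fun y => by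
          have h5 := hv (Pi.single i (σ y), 0)
          rw [Algebra.traceForm_apply]
          show Algebra.trace F K (β * v.1 i * y) = 0
          have h6 : (∑ j, b (v.1 j) ((Pi.single i (σ y) : Fin a → K) j)) +
              sympBil F (n % e) v.2 0 = 0 := h5
          rw [Finset.sum_eq_single i (fun j _ hj => by rw [Pi.single_eq_of_ne hj, map_zero])
            (fun h => absurd (Finset.mem_univ i) h), Pi.single_eq_same, hb, hσσ, map_zero,
            add_zero] at h6
          exact h6
        exact (mul_eq_zero.1 h4).resolve_left hβ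
      · refine (sympBil_nondegenerate (F := F) (n % e)).1 _ fun y => ?_
        have h6 : (∑ j, b (v.1 j) ((0 : Fin a → K) j)) + sympBil F (n % e) v.2 y = 0 := hv (0, y)
        simpa using h6
    exact ⟨h, fun x hx => h x fun y => hBa.isRefl _ _ (hx y)⟩
  -- the action
  let lin : (Fin a → Kˣ) → (((Fin a → K) × (Fin (n % e) ⊕ Fin (n % e) → F)) ≃ₗ[F]
      ((Fin a → K) × (Fin (n % e) ⊕ Fin (n % e) → F))) := fun x =>
    { toFun := fun z => (fun i => (x i : K) * z.1 i, z.2)
      invFun := fun z => (fun i => ((x i)⁻¹ : Kˣ) * z.1 i, z.2)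
      map_add' := fun z w => Prod.ext (funext fun i => mul_add _ _ _) rfl
      map_smul' := fun c z => Prod.ext (funext fun i => by simp [mul_smul_comm]) rfl
      left_inv := fun z => Prod.ext (funext fun i => Units.inv_mul_cancel_left _ _) rfl
      right_inv := fun z => Prod.ext (funext fun i => Units.mul_inv_cancel_left _ _) rfl }
  have hlin : ∀ x : Fin a → H, lin (fun i => (x i : Kˣ)) ∈ isomGroup B := by
    intro x z w
    show (∑ i, b ((x i : Kˣ) * z.1 i) ((x i : Kˣ) * w.1 i)) + sympBil F (n % e) z.2 w.2 = _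
    refine congrArg (· + sympBil F (n % e) z.2 w.2) (Finset.sum_congr rfl fun i _ => ?_)
    rw [hb, hb, map_mul σ, show β * (((x i : Kˣ) : K) * z.1 i) * (σ ((x i : Kˣ) : K) * σ (w.1 i)) =
      (((x i : Kˣ) : K) * σ ((x i : Kˣ) : K)) * (β * z.1 i * σ (w.1 i)) by ring,
      show ((x i : Kˣ) : K) * σ ((x i : Kˣ) : K) = 1 from (x i).2, one_mul]
  let θ : (Fin a → H) →* isomGroup B :=
    { toFun := fun x => ⟨_, hlin x⟩
      map_one' := Subtype.ext (LinearEquiv.ext fun z => Prod.ext (funext fun i => by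
        show ((1 : Kˣ) : K) * z.1 i = z.1 i
        simp) rfl)
      map_mul' := fun x y => Subtype.ext (LinearEquiv.ext fun z => Prod.ext (funext fun i => by
        show (((x i : Kˣ) * (y i : Kˣ) : Kˣ) : K) * z.1 i = (x i : Kˣ) * ((y i : Kˣ) * z.1 i)
        rw [Units.val_mul, mul_assoc]) rfl) }
  have hθ : Function.Injective θ := fun x y h => funext fun i => Subtype.ext (Units.ext (by
    have := congrArg (fun g : isomGroup B => (g.1 ((fun _ => 1), 0)).1 i) h
    simpa [θ, lin] using this))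
  obtain ⟨m₁, b₁, hb₁⟩ := exists_sympBasis hBa hBn
  obtain ⟨m₂, b₂, hb₂⟩ := exists_sympBasis (sympBil_isAlt (F := F) n) (sympBil_nondegenerate n)
  have e1 := Module.finrank_eq_card_basis b₁
  have e2 := Module.finrank_eq_card_basis b₂
  simp [Module.finrank_prod, Module.finrank_pi_fintype, hK] at e1 e2
  have hae := Nat.div_add_mod n e
  obtain rfl : m₁ = n := by
    have : a * (2 * e) = 2 * (e * (n / e)) := by simp only [a]; ring
    omega
  obtain rfl : m₂ = m₁ := by omega
  let ι : Matrix.symplecticGroup (Fin m₂) F ≃* isomGroup B :=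
    (spEquiv m₂).trans (isomGroupCongr (b₂.equiv b₁ (Equiv.refl _))
      (IsSympFamily.basisEquiv_mem (sympBil_isAlt _) hBa b₂ b₁ hb₂ hb₁))
  exact ⟨ι.symm.toMonoidHom.comp (θ.comp (MonoidHom.compLeft c _)),
    ι.symm.injective.comp (hθ.comp fun x y h => funext fun i => hc (congrFun h i))⟩

end Tori

end CfsgLib.TorusSylow
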