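import Cfsg.Agent.Lib.KnownB.SuzukiStructure
import Cfsg.Agent.Lib.Schur.Bound

set_option autoImplicit false

/-!
The Schur multiplier of `Sz(q)`, `q > 8`, is trivial.

Odd primes: the Sylow subgroups are cyclic.  The prime two: in a central extension the preimage
`U'` of a Sylow 2-subgroup has commutator subgroup meeting the kernel trivially.  The three
commutator pairings `Z × Z`, `U/Z × Z`, `U/Z × U/Z` (the last one after subtracting the
torus-equivariant lift `ζ` of `Z`) are biadditive and invariant under the torus, hence zero.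
-/

namespace CfsgLib.KnownA.SuzukiMultiplier

open Cfsg.Lie CfsgLib.KnownB.SzElem CfsgLib.KnownB.Suzuki
open scoped commutatorElement

/-! ### Invariant pairings on a field of characteristic two -/

section Pairing

variable {F : Type*} [Field F] {M : Type*} [Group M]

/-- An alternating biadditive map invariant under all homotheties is trivial. -/
theorem alt_pairing_trivial (h2 : (2 : F) = 0) (c : F → F → M)
    (hl : ∀ x y z, c (x + y) z = c x z * c y z) (hr : ∀ x y z, c x (y + z) = c x y * c x z)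
    (halt : ∀ x, c x x = 1) (hinv : ∀ l : F, l ≠ 0 → ∀ x y, c (l * x) (l * y) = c x y)
    {u : F} (hu0 : u ≠ 0) (hu1 : u + 1 ≠ 0) (hu2 : u * u + u + 1 ≠ 0) (x y : F) :
    c x y = 1 := by
  have hadd : ∀ w : F, w + w = 0 := fun w => by linear_combination w * h2
  have h0l : ∀ z, c 0 z = 1 := fun z => by
    have h := hl 0 0 z
    rwa [add_zero, left_eq_mul] at h
  have h0r : ∀ z, c z 0 = 1 := fun z => by
    have h := hr z 0 0
    rwa [add_zero, left_eq_mul] at h
  have hsq : ∀ x y, c x y * c x y = 1 := fun x y => by rw [← hr, hadd, h0r]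
  have hsymm : ∀ x y, c y x = c x y := fun x y => by
    have h := halt (x + y)
    rw [hl, hr, hr, halt, halt, one_mul, mul_one] at h
    exact (eq_inv_of_mul_eq_one_right h).trans (inv_eq_of_mul_eq_one_right (hsq x y))
  have hp : ∀ p : F, p ≠ 0 → c p 1 = c 1 p⁻¹ := fun p hp => by
    conv_rhs => rw [← hinv p hp 1 p⁻¹, mul_one, mul_inv_cancel₀ hp]
  have hkey : ∀ p r : F, p ≠ 0 → r ≠ 0 → p + r ≠ 0 →
      c 1 ((p + r)⁻¹ + (p⁻¹ + r⁻¹)) = 1 := by
    intro p r hp0 hr0 hpr
    rw [hr, hr 1 p⁻¹ r⁻¹, ← hp _ hpr, ← hp p hp0, ← hp r hr0, hl, mul_assoc]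
    rw [show c r 1 * (c p 1 * c r 1) = c p 1 from ?_, hsq]
    rw [← mul_assoc, show c r 1 * c p 1 = c p 1 * c r 1 from ?_, mul_assoc, hsq, mul_one]
    rw [← hl, ← hl, add_comm]
  have hf : ∀ z : F, c 1 z = 1 := by
    intro z
    rcases eq_or_ne z 0 with rfl | hz
    · exact h0r 1
    let D : F := (1 + u)⁻¹ + (1 + u⁻¹)
    have h1u : (1 : F) + u ≠ 0 := by rwa [add_comm]
    have hD : D ≠ 0 := by
      intro hD
      apply hu2
      have h3 := congrArg (fun w => w * (u * (1 + u))) hD
      simp only [D] at h3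
      field_simp at h3
      linear_combination h3 - u * h2
    have hk : D * z⁻¹ ≠ 0 := mul_ne_zero hD (inv_ne_zero hz)
    have h := hkey (D * z⁻¹) (D * z⁻¹ * u) hk (mul_ne_zero hk hu0)
      (by rw [← mul_one_add]; exact mul_ne_zero hk h1u)
    convert h using 2
    simp only [← mul_one_add, mul_inv, inv_inv]
    have hD' : D⁻¹ * D = 1 := inv_mul_cancel₀ hD
    calc z = z * (D⁻¹ * D) := by rw [hD', mul_one]
      _ = _ := by simp only [D]; ring
  rcases eq_or_ne x 0 with rfl | hx
  · exact h0l y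
  · rw [← hinv x⁻¹ (inv_ne_zero hx), inv_mul_cancel₀ hx, hf]

/-- A biadditive map with weights `(1, e + 1)` is trivial. -/
theorem weight_pairing_trivial (h2 : (2 : F) = 0) {e : ℕ} (d : F → F → M)
    (hl : ∀ x y z, d (x + y) z = d x z * d y z) (hr : ∀ x y z, d x (y + z) = d x y * d x z)
    (hinv : ∀ l : F, l ≠ 0 → ∀ x y, d (l * x) (l ^ (e + 1) * y) = d x y)
    {u : F} (hu0 : u ≠ 0) (hu1 : u + 1 ≠ 0)
    (hu2 : ((u + 1) ^ (e + 1))⁻¹ + ((u ^ (e + 1))⁻¹ + 1) ≠ 0) (x y : F) : d x y = 1 := by
  have hadd : ∀ w : F, w + w = 0 := fun w => by linear_combination w * h2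
  have h0l : ∀ z, d 0 z = 1 := fun z => by
    have h := hl 0 0 z
    rwa [add_zero, left_eq_mul] at h
  have h0r : ∀ z, d z 0 = 1 := fun z => by
    have h := hr z 0 0
    rwa [add_zero, left_eq_mul] at h
  have hg : ∀ p : F, p ≠ 0 → ∀ b, d p b = d 1 ((p ^ (e + 1))⁻¹ * b) := fun p hp b => by
    conv_rhs => rw [← hinv p hp, mul_one, mul_inv_cancel_left₀ (pow_ne_zero _ hp)]
  have hf : ∀ z : F, d 1 z = 1 := by
    intro z
    obtain ⟨b, rfl⟩ : ∃ b, z = (((u + 1) ^ (e + 1))⁻¹ + ((u ^ (e + 1))⁻¹ + 1)) * b :=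
      ⟨_, (mul_inv_cancel_left₀ hu2 z).symm⟩
    rw [add_mul, add_mul, one_mul, hr, hr, ← hg _ hu1, ← hg _ hu0, hl u 1 b, ← hl, ← hl,
      hadd, h0l]
  rcases eq_or_ne x 0 with rfl | hx
  · exact h0l y
  · rw [hg x hx, hf]

end Pairing

/-! ### Numerical facts -/

section Numbers

open Polynomial

variable {F : Type*} [Field F] {e : ℕ}

theorem exists_good [Fintype F] (h2 : (2 : F) = 0) (he : 2 * e + 6 < Fintype.card F) :
    ∃ u : F, u ≠ 0 ∧ u + 1 ≠ 0 ∧ u * u + u + 1 ≠ 0 ∧
      (u ^ (e + 1) + (u + 1) ^ (e + 1) + u ^ (e + 1) * (u + 1) ^ (e + 1)) ≠ 0 := by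
  classical
  let p : F[X] := X * (X + 1) * (X * X + X + 1) *
    (X ^ (e + 1) + (X + 1) ^ (e + 1) + X ^ (e + 1) * (X + 1) ^ (e + 1))
  have hdeg : p.natDegree ≤ 2 * e + 6 := by
    simp only [p]
    compute_degree
    all_goals omega
  have hp : p ≠ 0 := by
    simp only [p]
    refine mul_ne_zero (mul_ne_zero (mul_ne_zero X_ne_zero ?_) ?_) ?_ <;>
      · intro h
        simpa using congrArg (Polynomial.eval 0) h
  have hroots : p.roots.toFinset.card < Fintype.card F :=
    ((Multiset.toFinset_card_le _).trans (p.card_roots'.trans hdeg)).trans_lt he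
  obtain ⟨u, hu⟩ : ∃ u : F, u ∉ p.roots.toFinset := by
    by_contra h
    push_neg at h
    rw [Finset.eq_univ_of_forall h] at hroots
    simp at hroots
  rw [Multiset.mem_toFinset, mem_roots hp, IsRoot] at hu
  simp only [p, eval_mul, eval_add, eval_pow, eval_X, eval_one, mul_ne_zero_iff] at hu
  obtain ⟨⟨⟨h0, h1⟩, h3⟩, h4⟩ := hu
  exact ⟨u, h0, h1, h3, h4⟩

theorem pow_e_surjective [Finite F] (he : Twist F e) :
    Function.Surjective fun x : F => x ^ e :=
  Finite.surjective_of_injective (theta he).injective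

theorem eq_one_of_pow_succ (he : Twist F e) {x : F} (h : x ^ (e + 1) = 1) : x = 1 := by
  have h1 : x ^ e = x⁻¹ := eq_inv_of_mul_eq_one_left (by rw [← pow_succ, h])
  have h3 := he.pow_pow x
  rw [h1, inv_pow, h1, inv_inv] at h3
  have hx : x ≠ 0 := by
    rintro rfl
    simp at h
  exact (mul_left_cancel₀ hx (by linear_combination -h3) : x = 1)

theorem eq_one_of_pow_add_two (he : Twist F e) {x : F} (h : x ^ (e + 2) = 1) : x = 1 := by
  have h1 : (x ^ e) ^ (e + 1) = 1 := by
    rw [pow_succ, he.pow_pow, ← pow_add, add_comm]; exact h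
  exact (theta he).injective (show x ^ e = (1 : F) ^ e by rw [one_pow, eq_one_of_pow_succ he h1])

theorem pow_add_two_surjective [Finite F] (he : Twist F e) :
    Function.Surjective fun t : Fˣ => t ^ (e + 2) := by
  refine Finite.surjective_of_injective fun s t h => ?_
  have h' : (s * t⁻¹) ^ (e + 2) = 1 := by
    rw [mul_pow, inv_pow, show s ^ (e + 2) = t ^ (e + 2) from h, mul_inv_cancel]
  exact mul_inv_eq_one.1 (Units.ext (eq_one_of_pow_add_two he
    (by rw [← Units.val_pow_eq_pow_val, h', Units.val_one])))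

end Numbers

/-! ### Commutators in a central extension -/

section Central

variable {Q : Type*} [Group Q] {E : Type*} [Group E] (π : E →* Q)

/-- Commutator of lifts. -/
noncomputable def gam (hπ : Function.Surjective π) (u v : Q) : E :=
  ⁅Function.surjInv hπ u, Function.surjInv hπ v⁆

variable {π} (hπ : Function.Surjective π)

theorem map_gam (u v : Q) : π (gam π hπ u v) = ⁅u, v⁆ := by
  rw [gam, map_commutatorElement, Function.surjInv_eq hπ, Function.surjInv_eq hπ]

variable (hk : π.ker ≤ Subgroup.center E)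
include hk

theorem comm_of_ker {z : E} (hz : π z = 1) (x : E) : x * z = z * x :=
  Subgroup.mem_center_iff.1 (hk hz) x

theorem commutator_congr_left {x x' : E} (hx : π x = π x') (y : E) : ⁅x, y⁆ = ⁅x', y⁆ := by
  have hz : π (x'⁻¹ * x) = 1 := by rw [map_mul, map_inv, hx, inv_mul_cancel]
  rw [show x = x' * (x'⁻¹ * x) by group]
  generalize x'⁻¹ * x = z at hz ⊢
  have h := comm_of_ker hk hz
  simp only [commutatorElement_def, mul_inv_rev]
  calc x' * z * y * (z⁻¹ * x'⁻¹) * y⁻¹ = x' * (z * y) * z⁻¹ * x'⁻¹ * y⁻¹ := by group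
    _ = x' * (y * z) * z⁻¹ * x'⁻¹ * y⁻¹ := by rw [h]
    _ = _ := by group

theorem commutator_eq_gam (x y : E) : ⁅x, y⁆ = gam π hπ (π x) (π y) := by
  rw [gam, commutator_congr_left hk (Function.surjInv_eq hπ (π x)),
    ← commutatorElement_inv y x, ← commutatorElement_inv (Function.surjInv hπ (π y)) x,
    commutator_congr_left hk (Function.surjInv_eq hπ (π y)) x]

theorem gam_self (u : Q) : gam π hπ u u = 1 := by simp [gam]

theorem conj_gam (g : E) (u v : Q) :
    g * gam π hπ u v * g⁻¹ = gam π hπ (π g * u * (π g)⁻¹) (π g * v * (π g)⁻¹) := by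
  rw [show g * gam π hπ u v * g⁻¹ =
    ⁅g * Function.surjInv hπ u * g⁻¹, g * Function.surjInv hπ v * g⁻¹⁆ by
      simp [gam, commutatorElement_def, mul_assoc]]
  rw [commutator_eq_gam hπ hk]
  simp only [map_mul, map_inv, Function.surjInv_eq hπ]

theorem gam_mul_right (u v v' : Q) (h : Commute (Function.surjInv hπ v) (gam π hπ u v')) :
    gam π hπ u (v * v') = gam π hπ u v * gam π hπ u v' := by
  rw [show gam π hπ u (v * v') = ⁅Function.surjInv hπ u,
      Function.surjInv hπ v * Function.surjInv hπ v'⁆ by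
    rw [commutator_eq_gam hπ hk]; simp only [map_mul, Function.surjInv_eq hπ]]
  unfold gam at h ⊢
  generalize Function.surjInv hπ u = x at h ⊢
  generalize Function.surjInv hπ v = y at h ⊢
  generalize Function.surjInv hπ v' = y' at h ⊢
  calc ⁅x, y * y'⁆ = ⁅x, y⁆ * (y * ⁅x, y'⁆) * y⁻¹ := by
        simp [commutatorElement_def, mul_assoc]
    _ = _ := by rw [h.eq, mul_assoc (⁅x, y⁆), mul_assoc, mul_inv_cancel, mul_one]

theorem gam_mul_left (u u' v : Q) (h : Commute (Function.surjInv hπ u) (gam π hπ u' v)) :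
    gam π hπ (u * u') v = gam π hπ u' v * gam π hπ u v := by
  rw [show gam π hπ (u * u') v = ⁅Function.surjInv hπ u * Function.surjInv hπ u',
      Function.surjInv hπ v⁆ by
    rw [commutator_eq_gam hπ hk]; simp only [map_mul, Function.surjInv_eq hπ]]
  unfold gam at h ⊢
  generalize Function.surjInv hπ v = y at h ⊢
  generalize Function.surjInv hπ u = x at h ⊢
  generalize Function.surjInv hπ u' = x' at h ⊢
  calc ⁅x * x', y⁆ = x * ⁅x', y⁆ * (y * x⁻¹ * y⁻¹) := by
        simp [commutatorElement_def, mul_assoc]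
    _ = _ := by rw [h.eq]; simp [commutatorElement_def, mul_assoc]

theorem gam_central {u v : Q} (h : Commute u v) (x : E) : Commute x (gam π hπ u v) :=
  comm_of_ker hk (by rw [map_gam, commutatorElement_eq_one_iff_mul_comm]; exact h.eq) x

end Central

/-! ### The prime two -/

section Two

variable {F : Type*} [Field F] [Fintype F] {e : ℕ} (he : Twist F e)
variable {E : Type*} [Group E] {π : E →* Sz F e} (hπ : Function.Surjective π)
  (hk : π.ker ≤ Subgroup.center E)

theorem commute_P0 (a b c : F) : Commute (P he a b) (P he 0 c) := by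
  show P he a b * P he 0 c = P he 0 c * P he a b
  rw [P_mul, P_mul, zero_pow (Nat.ne_zero_of_lt he.one_lt), mul_zero, zero_mul]
  congr 1 <;> ring

theorem P_split (a b : F) : P he a b = P he a 0 * P he 0 b := by
  rw [P_mul]; congr 1 <;> simp

theorem P_commutator (a c : F) :
    ⁅P he a 0, P he c 0⁆ = P he 0 (a ^ e * c + c ^ e * a) := by
  have h2 := he.two
  rw [commutatorElement_def, P_inv, P_inv, P_mul, P_mul, P_mul]
  congr 1 <;> grind [he.add_pow]

theorem H_comm (s t : Fˣ) : H e he s * H e he t * (H e he s)⁻¹ = H e he t := by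
  rw [H_inv, H_mul, H_mul, mul_comm s t, mul_inv_cancel_right]

include hπ hk in
/-- The commutator subgroup of the preimage of the Sylow 2-subgroup meets the kernel trivially. -/
theorem eq_one_of_mem_commutator (hcard : 2 * e + 6 < Fintype.card F) {z : E} (hz : π z = 1)
    (hd : z ∈ (commutator ((uGroup he).comap π)).map ((uGroup he).comap π).subtype) :
    z = 1 := by
  have h2 := he.two
  have h0 : (0 : F) ^ e = 0 := zero_pow (Nat.ne_zero_of_lt he.one_lt)
  have hadd : ∀ w : F, w + w = 0 := fun w => by linear_combination w * h2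
  obtain ⟨u, hu0, hu1, hu2, hu3⟩ := exists_good h2 hcard
  have hu3' : ((u + 1) ^ (e + 1))⁻¹ + ((u ^ (e + 1))⁻¹ + 1) ≠ 0 := by
    intro h
    apply hu3
    field_simp at h
    linear_combination h
  set g := gam π hπ with hg
  set s := Function.surjInv hπ with hs
  have hfix : ∀ (x : E) {w : E}, π w = 1 → x * w * x⁻¹ = w := fun x w hw => by
    rw [comm_of_ker hk hw, mul_inv_cancel_right]
  have hgc : ∀ {u v : Sz F e}, Commute u v → π (g u v) = 1 := fun {u v} h => by
    rw [hg, map_gam, commutatorElement_eq_one_iff_mul_comm]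
    exact h.eq
  have hconjP : ∀ (t : Fˣ) (a b : F), H e he t * P he a b * (H e he t)⁻¹ =
      P he ((t : F) ^ e * a) ((t : F) ^ (e + 2) * b) := H_conj_P he
  -- step 1: the preimage of the centre is abelian
  have step1 : ∀ b b', g (P he 0 b) (P he 0 b') = 1 := by
    refine alt_pairing_trivial h2 (fun b b' => g (P he 0 b) (P he 0 b')) ?_ ?_ ?_ ?_ hu0 hu1 hu2
    · intro x y w
      show g (P he 0 (x + y)) _ = _
      rw [add_comm x y, show P he 0 (y + x) = P he 0 y * P he 0 x by
        rw [P_mul]; congr 1 <;> simp [h0]]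
      exact gam_mul_left hπ hk _ _ _ (gam_central hπ hk (commute_P0 he 0 _ _) _)
    · intro x y w
      show g _ (P he 0 (y + w)) = _
      rw [show P he 0 (y + w) = P he 0 y * P he 0 w by rw [P_mul]; congr 1 <;> simp [h0]]
      exact gam_mul_right hπ hk _ _ _ (gam_central hπ hk (commute_P0 he 0 _ _) _)
    · exact fun x => gam_self hπ hk _
    · intro l hl x y
      obtain ⟨t, ht⟩ := pow_add_two_surjective he (Units.mk0 l hl)
      have ht' : (t : F) ^ (e + 2) = l := by
        simpa using congrArg Units.val ht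
      have h := conj_gam hπ hk (s (H e he t)) (P he 0 x) (P he 0 y)
      rw [hfix _ (hgc (commute_P0 he 0 x y)), Function.surjInv_eq hπ, hconjP, hconjP, mul_zero,
        ht'] at h
      exact h.symm
  have hZ : ∀ {x y : E} {b b' : F}, π x = P he 0 b → π y = P he 0 b' → Commute x y :=
    fun {x y b b'} hx hy => commutatorElement_eq_one_iff_mul_comm.1
      (by rw [commutator_eq_gam hπ hk, hx, hy]; exact step1 b b')
  -- step 2: the preimage of the centre is central
  have step2 : ∀ a c, g (P he a 0) (P he 0 c) = 1 := by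
    refine weight_pairing_trivial (e := e) h2 (fun a c => g (P he a 0) (P he 0 c)) ?_ ?_ ?_
      hu0 hu1 hu3'
    · intro x y w
      show g (P he (x + y) 0) _ = _
      rw [show P he (x + y) 0 = (P he y 0 * P he x 0) * P he 0 (y ^ e * x) by
        rw [P_mul, P_mul]; congr 1 <;> grind]
      rw [hg, gam_mul_left hπ hk _ _ _ (gam_central hπ hk (commute_P0 he 0 _ _) _),
        gam_mul_left hπ hk _ _ _ (gam_central hπ hk (commute_P0 he _ _ _) _)]
      rw [← hg, step1, one_mul]
    · intro x y w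
      show g _ (P he 0 (y + w)) = _
      rw [show P he 0 (y + w) = P he 0 y * P he 0 w by rw [P_mul]; congr 1 <;> simp [h0]]
      exact gam_mul_right hπ hk _ _ _ (gam_central hπ hk (commute_P0 he _ _ _) _)
    · intro l hl x y
      obtain ⟨t, ht⟩ := pow_e_surjective he l
      have ht' : (t : F) ^ e = l := ht
      have ht0 : t ≠ 0 := by
        rintro rfl
        exact hl (by rw [← ht', h0])
      have h := conj_gam hπ hk (s (H e he (Units.mk0 t ht0))) (P he x 0) (P he 0 y)
      rw [hfix _ (hgc (commute_P0 he x 0 y)), Function.surjInv_eq hπ, hconjP, hconjP,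
        Units.val_mk0] at h
      have hpow : t ^ (e + 2) = l ^ (e + 1) := by
        rw [← ht', pow_succ (t ^ e), he.pow_pow]; ring
      rw [hpow, ht', mul_zero, mul_zero] at h
      exact h.symm
  have hcentral : ∀ {x y : E} {a b c : F}, π x = P he a b → π y = P he 0 c → Commute x y :=
    fun {x y a b c} hx hy => commutatorElement_eq_one_iff_mul_comm.1 (by
      rw [commutator_eq_gam hπ hk, hx, hy, P_split, gam_mul_left hπ hk _ _ _
        (gam_central hπ hk (commute_P0 he 0 _ _) _), ← hg, step1, step2, one_mul])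
  -- the torus-equivariant lift of the centre
  obtain ⟨l₀, hl₀ : l₀ ^ e = u⟩ := pow_e_surjective he u
  have hl₀0 : l₀ ≠ 0 := by
    rintro rfl
    exact hu0 (by rw [← hl₀, h0])
  set t₀ : Fˣ := Units.mk0 l₀ hl₀0
  set k : F := (t₀ : F) ^ (e + 2) + 1 with hkdef
  have hk0 : k ≠ 0 := by
    intro h
    have h1 : l₀ ^ (e + 2) = 1 := by
      rw [hkdef, Units.val_mk0] at h
      linear_combination h - h2
    have := eq_one_of_pow_add_two he h1
    apply hu1
    rw [← hl₀, this]
    simp [hadd]
  set ζ : F → E := fun b => g (H e he t₀) (P he 0 (k⁻¹ * b)) with hζdef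
  have hmapζ : ∀ b, π (ζ b) = P he 0 b := by
    intro b
    rw [hζdef, hg, map_gam, commutatorElement_def, hconjP, P_inv, P_mul, mul_zero]
    congr 1
    · exact add_zero 0
    · rw [h0, zero_mul, add_zero, add_zero]
      calc _ = (k * k⁻¹) * b := by rw [hkdef]; ring
        _ = b := by rw [mul_inv_cancel₀ hk0, one_mul]
  have hζadd : ∀ b b', ζ (b + b') = ζ b * ζ b' := by
    intro b b'
    simp only [hζdef]
    rw [mul_add, show P he 0 (k⁻¹ * b + k⁻¹ * b') = P he 0 (k⁻¹ * b) * P he 0 (k⁻¹ * b') by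
      rw [P_mul]; congr 1 <;> simp [h0]]
    exact gam_mul_right hπ hk _ _ _ (hZ (Function.surjInv_eq hπ _) (hmapζ b'))
  have hζ0 : ζ 0 = 1 := by
    have h := hζadd 0 0
    rwa [add_zero, left_eq_mul] at h
  have hζconj : ∀ (t : Fˣ) (b : F),
      s (H e he t) * ζ b * (s (H e he t))⁻¹ = ζ ((t : F) ^ (e + 2) * b) := by
    intro t b
    simp only [hζdef, hg]
    rw [conj_gam hπ hk, Function.surjInv_eq hπ, H_comm, hconjP, mul_zero, mul_left_comm]
  -- step 3: commutators lie in the lift
  set w : F → F → F := fun a c => a ^ e * c + c ^ e * a with hwdef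
  set r : F → F → E := fun a c => g (P he a 0) (P he c 0) * (ζ (w a c))⁻¹ with hrdef
  have hmapr : ∀ a c, π (r a c) = 1 := fun a c => by
    simp only [hrdef, hg]
    rw [map_mul, map_inv, map_gam, hmapζ, P_commutator, mul_inv_cancel]
  have hgZ : ∀ a c, π (g (P he a 0) (P he c 0)) = P he 0 (w a c) := fun a c => by
    rw [hg, map_gam, P_commutator]
  have step3 : ∀ a c, r a c = 1 := by
    refine alt_pairing_trivial h2 r ?_ ?_ ?_ ?_ hu0 hu1 hu2
    · intro x y c
      simp only [hrdef]
      rw [show P he (x + y) 0 = (P he y 0 * P he x 0) * P he 0 (y ^ e * x) by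
        rw [P_mul, P_mul]; congr 1 <;> grind]
      rw [hg, gam_mul_left hπ hk _ _ _ (gam_central hπ hk (commute_P0 he _ _ _).symm _),
        gam_mul_left hπ hk _ _ _ (hcentral (Function.surjInv_eq hπ _) (hgZ x c)), ← hg]
      have h1 : g (P he 0 (y ^ e * x)) (P he c 0) = 1 := by
        have h := commutatorElement_eq_one_iff_mul_comm.2
          (hcentral (Function.surjInv_eq hπ (P he c 0))
            (Function.surjInv_eq hπ (P he 0 (y ^ e * x)))).symm.eq
        exact h
      rw [h1, one_mul, show w (x + y) c = w y c + w x c by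
        simp only [hwdef, he.add_pow]; ring, hζadd, mul_inv_rev]
      simp only [mul_assoc]
      congr 1
      rw [← mul_assoc, (hZ (hgZ y c) (show π (ζ (w x c))⁻¹ = P he 0 _ by
        rw [map_inv, hmapζ, P_inv])).eq, mul_assoc]
    · intro x y c
      simp only [hrdef]
      rw [show P he (y + c) 0 = (P he y 0 * P he c 0) * P he 0 (y ^ e * c) by
        rw [P_mul, P_mul]; congr 1 <;> grind]
      rw [hg, gam_mul_right hπ hk _ _ _ (gam_central hπ hk (commute_P0 he _ _ _) _),
        gam_mul_right hπ hk _ _ _ (hcentral (Function.surjInv_eq hπ _) (hgZ x c)), ← hg]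
      rw [step2, mul_one, show w x (y + c) = w x c + w x y by
        simp only [hwdef, he.add_pow]; ring, hζadd, mul_inv_rev]
      simp only [mul_assoc]
      congr 1
      rw [← mul_assoc, (hZ (hgZ x c) (show π (ζ (w x y))⁻¹ = P he 0 _ by
        rw [map_inv, hmapζ, P_inv])).eq, mul_assoc]
    · intro x
      simp only [hrdef, hg, hwdef]
      rw [gam_self hπ hk, hadd, hζ0, inv_one, one_mul]
    · intro l hl x y
      obtain ⟨t, ht⟩ := pow_e_surjective he l
      have ht' : (t : F) ^ e = l := ht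
      have ht0 : t ≠ 0 := by
        rintro rfl
        exact hl (by rw [← ht', h0])
      have h := hfix (s (H e he (Units.mk0 t ht0))) (hmapr x y)
      simp only [hrdef] at h ⊢
      rw [show ∀ p a b : E, p * (a * b⁻¹) * p⁻¹ = (p * a * p⁻¹) * (p * b * p⁻¹)⁻¹ from
        fun p a b => by group, hζconj, hg, conj_gam hπ hk, Function.surjInv_eq hπ, hconjP,
        hconjP, Units.val_mk0, ht', mul_zero] at h
      rw [← h, hg]
      congr 3
      simp only [hwdef, mul_pow]
      rw [show l ^ e = t ^ 2 by rw [← ht', he.pow_pow]]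
      linear_combination -(x ^ e * y + y ^ e * x) * t ^ 2 * ht'
  -- conclusion
  let S : Subgroup E :=
    { carrier := Set.range ζ
      one_mem' := ⟨0, hζ0⟩
      mul_mem' := by
        rintro _ _ ⟨a, rfl⟩ ⟨b, rfl⟩
        exact ⟨a + b, hζadd a b⟩
      inv_mem' := by
        rintro _ ⟨a, rfl⟩
        exact ⟨a, (inv_eq_of_mul_eq_one_right (by rw [← hζadd, hadd, hζ0])).symm⟩ }
  have hle : (commutator ((uGroup he).comap π)).map ((uGroup he).comap π).subtype ≤ S := by
    rw [Subgroup.map_le_iff_le_comap, _root_.commutator_def, Subgroup.commutator_le]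
    rintro ⟨x, hx⟩ - ⟨y, hy⟩ -
    obtain ⟨⟨a, b⟩, hab : P he a b = π x⟩ := hx
    obtain ⟨⟨c, d⟩, hcd : P he c d = π y⟩ := hy
    show ⁅x, y⁆ ∈ S
    refine ⟨w a c, ?_⟩
    have h3 := step3 a c
    simp only [hrdef] at h3
    have hb : Commute (s (P he a 0)) (g (P he 0 b) (π y)) :=
      gam_central hπ hk (hcd ▸ (commute_P0 he c d b).symm) _
    have hd' : ∀ a, g (P he a 0) (P he c d) = g (P he a 0) (P he c 0) := fun a => by
      rw [P_split he c d, hg, gam_mul_right hπ hk _ _ _
        (gam_central hπ hk (commute_P0 he a 0 d) _), ← hg, step2, mul_one]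
    rw [commutator_eq_gam hπ hk, ← hab, P_split he a b, gam_mul_left hπ hk _ _ _ hb, ← hcd,
      ← hg, hd', show g (P he 0 b) (P he c d) = 1 from commutatorElement_eq_one_iff_mul_comm.2
        (hcentral (Function.surjInv_eq hπ (P he c d))
          (Function.surjInv_eq hπ (P he 0 b))).symm.eq, one_mul]
    exact (mul_inv_eq_one.1 h3).symm
  obtain ⟨b, rfl⟩ := hle hd
  rw [hmapζ, ← P_zero he] at hz
  rw [(P_injective he hz).2, hζ0]

end Two

/-! ### Odd primes and the conclusion -/

theorem isCyclic_sylow {F : Type*} [Field F] [Fintype F] {e : ℕ} (hp : Params F e)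
    {p : ℕ} [Fact p.Prime] (hp2 : p ≠ 2) (R : Sylow p (Sz F e)) :
    IsCyclic (R : Subgroup (Sz F e)) := by
  by_cases hR : (R : Subgroup (Sz F e)) = ⊥
  · rw [hR]; infer_instance
  haveI : Nontrivial (R : Subgroup (Sz F e)) := (Subgroup.nontrivial_iff_ne_bot _).2 hR
  haveI := R.isPGroup'.center_nontrivial
  obtain ⟨⟨z, hzc⟩, hz1⟩ := exists_ne (1 : Subgroup.center (R : Subgroup (Sz F e)))
  have hz : (z : Sz F e) ≠ 1 := fun h => hz1 (Subtype.ext (Subtype.ext h))
  have hle : (R : Subgroup (Sz F e)) ≤ Subgroup.centralizer {(z : Sz F e)} := by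
    intro y hy
    rw [Subgroup.mem_centralizer_singleton_iff]
    exact congrArg Subtype.val (Subgroup.mem_center_iff.1 hzc ⟨y, hy⟩)
  rcases (szPartition hp).cases _ hz with h | ⟨h, -, -⟩
  · exfalso
    have h1 := h.to_le hle
    obtain ⟨i, hi⟩ := IsPGroup.iff_card.1 R.isPGroup'
    obtain ⟨j, hj⟩ := IsPGroup.iff_card.1 h1
    have hlt : 1 < Nat.card (R : Subgroup (Sz F e)) := Finite.one_lt_card
    have hi0 : i ≠ 0 := by rintro rfl; rw [pow_zero] at hi; omega
    have hj0 : j ≠ 0 := by rintro rfl; rw [pow_zero] at hj; omega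
    exact hp2 ((Nat.prime_dvd_prime_iff_eq Fact.out Nat.prime_two).1
      ((Fact.out : p.Prime).dvd_of_dvd_pow (hj ▸ hi ▸ dvd_pow_self p hi0)))
  · haveI := h
    exact isCyclic_of_injective _ (Subgroup.inclusion_injective hle)

theorem hasCyclicSchurMultiplier_one {F : Type*} [Field F] [Fintype F] {e : ℕ}
    (hp : Params F e) (hcard : 2 * e + 6 < Fintype.card F) :
    Cfsg.HasCyclicSchurMultiplier (Sz F e) 1 := by
  refine CfsgLib.Schur.Basic.hasCyclicSchurMultiplier_one_of fun Γ _ _ σ hσ => ?_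
  obtain ⟨hsurj, hk, hd⟩ := hσ
  rw [eq_bot_iff]
  intro z hz
  rw [Subgroup.mem_bot]
  refine CfsgLib.Schur.Bound.eq_one_of_pow_index z _ Nat.card_pos.ne' (fun p hpp _ => ?_)
    (CfsgLib.Schur.Bound.pow_card_eq_one σ hsurj hk hz (hd hz))
  haveI := Fact.mk hpp
  rcases eq_or_ne p 2 with rfl | hp2
  · refine ⟨(uGroup hp.twist).index, not_two_dvd_index hp.twist, ?_⟩
    exact eq_one_of_mem_commutator hp.twist hsurj hk hcard
      (by rw [map_pow, show σ z = 1 from hz, one_pow])
      (CfsgLib.Schur.Bound.pow_index_mem σ hsurj _ (hk hz) (hd hz))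
  · obtain ⟨R⟩ : Nonempty (Sylow p (Sz F e)) := inferInstance
    haveI := isCyclic_sylow hp hp2 R
    exact ⟨(R : Subgroup (Sz F e)).index, R.not_dvd_index,
      CfsgLib.Schur.Bound.pow_index_eq_one_of_cyclic σ hsurj hk _ hz (hd hz)⟩

end CfsgLib.KnownA.SuzukiMultiplier
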