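import Cfsg.Prelude.Def_G2
import Mathlib

/-!
The split octonion algebra as the double of the two by two matrices, and the centraliser of the
involution which negates the second half.
-/

set_option autoImplicit false
set_option linter.unusedSectionVars false

namespace CfsgLib.KnownA.G2CayleyDickson

open Matrix
open scoped MatrixGroups

variable {F : Type*} [Field F]

local notation "M2" => Matrix (Fin 2) (Fin 2) F

/-- Pairs of matrices as coordinate vectors. -/
def Φ : (M2 × M2) ≃ₗ[F] (Fin 8 → F) where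
  toFun z := ![z.1 0 0, z.1 0 1, z.2 0 0, -z.2 1 0, z.1 1 0, z.2 1 1, z.2 0 1, z.1 1 1]
  invFun v := (!![v 0, v 1; v 4, v 7], !![v 2, v 6; -v 3, v 5])
  left_inv z := by
    obtain ⟨x, y⟩ := z
    refine Prod.ext ?_ ?_ <;> ext i j <;> fin_cases i <;> fin_cases j <;> simp
  right_inv v := by
    funext i
    fin_cases i <;> simp
  map_add' z w := by
    funext i
    fin_cases i <;> simp [add_comm]
  map_smul' r z := by
    funext i
    fin_cases i <;> simp

/-- The product of the double. -/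
theorem zornMul_Φ (x y u v : M2) :
    Cfsg.Lie.zornMul (Φ (x, y)) (Φ (u, v)) = Φ (x * u + v.adjugate * y, v * x + y * u.adjugate) := by
  funext i
  fin_cases i <;>
    simp [Φ, Cfsg.Lie.zornMul, Cfsg.Lie.zA, Cfsg.Lie.zB, Cfsg.Lie.dot3, Cfsg.Lie.cross3, Matrix.mul_apply,
      Fin.sum_univ_two, Matrix.adjugate_fin_two, Matrix.vecMul, dotProduct] <;> ring

theorem adjugate_adjugate_two (y : M2) : y.adjugate.adjugate = y := by
  ext i j
  fin_cases i <;> fin_cases j <;> simp [Matrix.adjugate_fin_two]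

/-- The linear map attached to `(c, p)`. -/
def act (c : GL (Fin 2) F) (p : SL(2, F)) : (M2 × M2) →ₗ[F] (M2 × M2) where
  toFun z := ((c : M2) * z.1 * ((c⁻¹ : GL (Fin 2) F) : M2),
    (p : M2) * ((c : M2) * z.2 * ((c⁻¹ : GL (Fin 2) F) : M2)))
  map_add' z w := by simp [mul_add, add_mul]
  map_smul' r z := by simp

/-- Its matrix. -/
noncomputable def actMat (c : GL (Fin 2) F) (p : SL(2, F)) : Matrix (Fin 8) (Fin 8) F :=
  LinearMap.toMatrix' (Φ.toLinearMap ∘ₗ act c p ∘ₗ Φ.symm.toLinearMap)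

theorem actMat_mulVec (c : GL (Fin 2) F) (p : SL(2, F)) (x y : M2) :
    actMat c p *ᵥ Φ (x, y) = Φ ((c : M2) * x * ((c⁻¹ : GL (Fin 2) F) : M2),
      (p : M2) * ((c : M2) * y * ((c⁻¹ : GL (Fin 2) F) : M2))) := by
  rw [actMat, LinearMap.toMatrix'_mulVec]
  simp [act]

theorem ext_Φ {A B : Matrix (Fin 8) (Fin 8) F} (h : ∀ x y : M2, A *ᵥ Φ (x, y) = B *ᵥ Φ (x, y)) : A = B := by
  refine Matrix.toLin'.injective (LinearMap.ext fun v => ?_)
  have := h (Φ.symm v).1 (Φ.symm v).2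
  rwa [Prod.mk.eta, Φ.apply_symm_apply] at this

/-- Inner automorphisms of the quaternion part. -/
noncomputable def psiHom : GL (Fin 2) F →* Matrix (Fin 8) (Fin 8) F where
  toFun c := actMat c 1
  map_one' := ext_Φ fun x y => by rw [actMat_mulVec, Matrix.one_mulVec]; simp
  map_mul' c d := ext_Φ fun x y => by
    rw [← Matrix.mulVec_mulVec, actMat_mulVec, actMat_mulVec, actMat_mulVec]
    simp [mul_assoc]

/-- Left multiplication of the second half. -/
noncomputable def iotaHom : SL(2, F) →* Matrix (Fin 8) (Fin 8) F where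
  toFun p := actMat 1 p
  map_one' := ext_Φ fun x y => by rw [actMat_mulVec, Matrix.one_mulVec]; simp
  map_mul' p q := ext_Φ fun x y => by
    rw [← Matrix.mulVec_mulVec, actMat_mulVec, actMat_mulVec, actMat_mulVec]
    simp [mul_assoc]

theorem mem_of_pair {g : GL (Fin 8) F} (h : ∀ x y u v : M2,
    (g : Matrix (Fin 8) (Fin 8) F) *ᵥ Cfsg.Lie.zornMul (Φ (x, y)) (Φ (u, v)) =
      Cfsg.Lie.zornMul ((g : Matrix (Fin 8) (Fin 8) F) *ᵥ Φ (x, y)) ((g : Matrix (Fin 8) (Fin 8) F) *ᵥ Φ (u, v))) :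
    g ∈ Cfsg.Lie.G2 F := by
  intro a b
  obtain ⟨⟨x, y⟩, rfl⟩ := Φ.surjective a
  obtain ⟨⟨u, v⟩, rfl⟩ := Φ.surjective b
  exact h x y u v

theorem mulVec_mul (g : Cfsg.Lie.G2 F) (a b : Fin 8 → F) :
    ((g : GL (Fin 8) F) : Matrix (Fin 8) (Fin 8) F) *ᵥ Cfsg.Lie.zornMul a b =
      Cfsg.Lie.zornMul (((g : GL (Fin 8) F) : Matrix (Fin 8) (Fin 8) F) *ᵥ a)
        (((g : GL (Fin 8) F) : Matrix (Fin 8) (Fin 8) F) *ᵥ b) := g.2 a b

theorem conj_adjugate (c : GL (Fin 2) F) (v : M2) :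
    ((c : M2) * v * ((c⁻¹ : GL (Fin 2) F) : M2)).adjugate = (c : M2) * v.adjugate * ((c⁻¹ : GL (Fin 2) F) : M2) := by
  rw [Matrix.adjugate_mul_distrib, Matrix.adjugate_mul_distrib]
  have h1 : (c : M2).adjugate = (c : M2).det • ((c⁻¹ : GL (Fin 2) F) : M2) := by
    have h := Matrix.adjugate_mul (c : M2)
    calc (c : M2).adjugate = (c : M2).adjugate * ((c : M2) * ((c⁻¹ : GL (Fin 2) F) : M2)) := by simp
      _ = _ := by rw [← mul_assoc, h, Matrix.smul_mul, one_mul]
  have h2 : (((c⁻¹ : GL (Fin 2) F) : M2)).adjugate = ((c⁻¹ : GL (Fin 2) F) : M2).det • (c : M2) := by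
    have h := Matrix.adjugate_mul (((c⁻¹ : GL (Fin 2) F) : M2))
    calc ((c⁻¹ : GL (Fin 2) F) : M2).adjugate
        = ((c⁻¹ : GL (Fin 2) F) : M2).adjugate * (((c⁻¹ : GL (Fin 2) F) : M2) * (c : M2)) := by simp
      _ = _ := by rw [← mul_assoc, h, Matrix.smul_mul, one_mul]
  rw [h1, h2, Matrix.smul_mul, Matrix.mul_smul, Matrix.mul_smul, smul_smul, ← Matrix.det_mul,
    ← Units.val_mul, inv_mul_cancel, Units.val_one, Matrix.det_one, one_smul, mul_assoc]

/-- Inner automorphisms as elements of `G₂`. -/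
noncomputable def Ψ : GL (Fin 2) F →* Cfsg.Lie.G2 F :=
  psiHom.toHomUnits.codRestrict _ fun c => mem_of_pair fun x y u v => by
    show actMat c 1 *ᵥ _ = Cfsg.Lie.zornMul (actMat c 1 *ᵥ _) (actMat c 1 *ᵥ _)
    rw [zornMul_Φ, actMat_mulVec, actMat_mulVec, actMat_mulVec, zornMul_Φ]
    simp only [Matrix.SpecialLinearGroup.coe_one, one_mul, conj_adjugate]
    simp [mul_add, add_mul, mul_assoc]

/-- Left multiplications as elements of `G₂`. -/
noncomputable def ι : SL(2, F) →* Cfsg.Lie.G2 F :=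
  iotaHom.toHomUnits.codRestrict _ fun p => mem_of_pair fun x y u v => by
    show actMat 1 p *ᵥ _ = Cfsg.Lie.zornMul (actMat 1 p *ᵥ _) (actMat 1 p *ᵥ _)
    rw [zornMul_Φ, actMat_mulVec, actMat_mulVec, actMat_mulVec, zornMul_Φ]
    have hp : (p : M2).adjugate * (p : M2) = 1 := by rw [Matrix.adjugate_mul, p.2, one_smul]
    simp only [Units.val_one, one_mul, inv_one, mul_one, Matrix.adjugate_mul_distrib, mul_add]
    congr 2
    · rw [mul_assoc v.adjugate, ← mul_assoc (p : M2).adjugate, hp, one_mul]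
    · simp only [mul_assoc]

/-- The value of `Ψ c * ι p`. -/
theorem apply_mul (c : GL (Fin 2) F) (p : SL(2, F)) (x y : M2) :
    (((Ψ c * ι p : Cfsg.Lie.G2 F) : GL (Fin 8) F) : Matrix (Fin 8) (Fin 8) F) *ᵥ Φ (x, y) =
      Φ ((c : M2) * x * ((c⁻¹ : GL (Fin 2) F) : M2), (c : M2) * ((p : M2) * y) * ((c⁻¹ : GL (Fin 2) F) : M2)) := by
  show (actMat c 1 * actMat 1 p) *ᵥ _ = _
  rw [← Matrix.mulVec_mulVec, actMat_mulVec, actMat_mulVec]
  simp

theorem apply_iota (p : SL(2, F)) (x y : M2) :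
    (((ι p : Cfsg.Lie.G2 F) : GL (Fin 8) F) : Matrix (Fin 8) (Fin 8) F) *ᵥ Φ (x, y) = Φ (x, (p : M2) * y) := by
  show actMat 1 p *ᵥ _ = _
  rw [actMat_mulVec]
  simp

theorem apply_psi (c : GL (Fin 2) F) (x y : M2) :
    (((Ψ c : Cfsg.Lie.G2 F) : GL (Fin 8) F) : Matrix (Fin 8) (Fin 8) F) *ᵥ Φ (x, y) =
      Φ ((c : M2) * x * ((c⁻¹ : GL (Fin 2) F) : M2), (c : M2) * y * ((c⁻¹ : GL (Fin 2) F) : M2)) := by
  show actMat c 1 *ᵥ _ = _
  rw [actMat_mulVec]
  simp

theorem ext_G2 {g h : Cfsg.Lie.G2 F} (e : ∀ x y : M2,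
    ((g : GL (Fin 8) F) : Matrix (Fin 8) (Fin 8) F) *ᵥ Φ (x, y) =
      ((h : GL (Fin 8) F) : Matrix (Fin 8) (Fin 8) F) *ᵥ Φ (x, y)) : g = h :=
  Subtype.ext (Units.ext (ext_Φ e))

theorem iota_psi (c : GL (Fin 2) F) (p q : SL(2, F)) (h : (c : M2) * (p : M2) = (q : M2) * (c : M2)) :
    ι q * Ψ c = Ψ c * ι p := ext_G2 fun x y => by
  rw [apply_mul]
  show (((ι q : Cfsg.Lie.G2 F) : GL (Fin 8) F) * ((Ψ c : Cfsg.Lie.G2 F) : GL (Fin 8) F) : GL (Fin 8) F).1 *ᵥ _ = _
  rw [Units.val_mul, ← Matrix.mulVec_mulVec, apply_psi, apply_iota]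
  congr 2
  simp only [← mul_assoc, h]

theorem psi_mul_iota_eq_one {c : GL (Fin 2) F} {p : SL(2, F)} (h : Ψ c * ι p = 1) :
    (∀ x : M2, (c : M2) * x = x * (c : M2)) ∧ p = 1 := by
  have e : ∀ x y : M2, Φ ((c : M2) * x * ((c⁻¹ : GL (Fin 2) F) : M2),
      (c : M2) * ((p : M2) * y) * ((c⁻¹ : GL (Fin 2) F) : M2)) = Φ (x, y) := fun x y => by
    rw [← apply_mul, h]
    show (1 : Matrix (Fin 8) (Fin 8) F) *ᵥ _ = _
    rw [Matrix.one_mulVec]
  refine ⟨fun x => ?_, ?_⟩
  · have := congrArg Prod.fst (Φ.injective (e x 0))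
    calc (c : M2) * x = (c : M2) * x * (((c⁻¹ : GL (Fin 2) F) : M2) * (c : M2)) := by simp
      _ = x * (c : M2) := by rw [← mul_assoc, show (c : M2) * x * ((c⁻¹ : GL (Fin 2) F) : M2) = x from this]
  · have := congrArg Prod.snd (Φ.injective (e 0 1))
    refine Subtype.ext ?_
    simp only [mul_one] at this
    calc (p : M2) = ((c⁻¹ : GL (Fin 2) F) : M2) * ((c : M2) * (p : M2) * ((c⁻¹ : GL (Fin 2) F) : M2)) * (c : M2) := by
          simp [mul_assoc]
      _ = _ := by rw [this]; simp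

/-- An injective multiplicative linear map of two by two matrices is a conjugation. -/
theorem exists_conj (φ : M2 →ₗ[F] M2) (hinj : Function.Injective φ) (hm : ∀ x y, φ (x * y) = φ x * φ y) :
    ∃ c : GL (Fin 2) F, ∀ x, φ x = (c : M2) * x * ((c⁻¹ : GL (Fin 2) F) : M2) := by
  let E : Fin 2 → Fin 2 → M2 := fun i j => φ (Matrix.single i j 1)
  have hE : ∀ i j k l, E i j * E k l = if j = k then E i l else 0 := fun i j k l => by
    simp only [E, ← hm]
    by_cases h : j = k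
    · subst h; simp
    · rw [if_neg h, Matrix.single_mul_single_of_ne _ _ _ _ h]; simp
  have hE0 : E 0 0 ≠ 0 := fun h => by
    have := congrFun (congrFun (hinj (h.trans (map_zero φ).symm)) 0) 0
    simp at this
  obtain ⟨v, hv⟩ : ∃ v : Fin 2 → F, E 0 0 *ᵥ v ≠ 0 := by
    by_contra h
    push Not at h
    exact hE0 (Matrix.ext_of_mulVec_single fun j => by rw [h, Matrix.zero_mulVec])
  let u : Fin 2 → Fin 2 → F := fun k => E k 0 *ᵥ v
  have hu : ∀ i j k, E i j *ᵥ u k = if j = k then u i else 0 := fun i j k => by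
    simp only [u, Matrix.mulVec_mulVec, hE]
    by_cases h : j = k <;> simp [h]
  let C : M2 := Matrix.of fun a k => u k a
  have hC : ∀ x : M2, φ x * C = C * x := by
    intro x
    have hcol : ∀ (M : M2) a k, (M * C) a k = (M *ᵥ u k) a := fun M a k => rfl
    have hx : φ x = ∑ i, ∑ j, x i j • E i j := by
      conv_lhs => rw [Matrix.matrix_eq_sum_single x]
      simp only [map_sum, E, ← map_smul, Matrix.smul_single, smul_eq_mul, mul_one]
    ext a k
    rw [hcol, hx]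
    simp only [Matrix.sum_mulVec, Matrix.smul_mulVec, hu, smul_ite, smul_zero, Finset.sum_ite_eq',
      Finset.mem_univ, if_true, Finset.sum_apply, Pi.smul_apply, smul_eq_mul, Matrix.mul_apply, C, Matrix.of_apply]
    exact Finset.sum_congr rfl fun i _ => mul_comm _ _
  have hli : LinearIndependent F C.col := by
    rw [Fintype.linearIndependent_iff]
    intro g hg k
    have hg' : ∑ l, g l • u l = 0 := hg
    have := congrArg (fun w => E 0 k *ᵥ w) hg'
    simp only [Matrix.mulVec_sum, Matrix.mulVec_smul, hu, smul_ite, smul_zero, Finset.sum_ite_eq,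
      Finset.mem_univ, if_true, Matrix.mulVec_zero] at this
    exact (smul_eq_zero.1 this).resolve_right hv
  obtain ⟨c, hc⟩ := Matrix.linearIndependent_cols_iff_isUnit.1 hli
  refine ⟨c, fun x => ?_⟩
  calc φ x = φ x * ((c : M2) * ((c⁻¹ : GL (Fin 2) F) : M2)) := by simp
    _ = _ := by rw [← mul_assoc, hc, hC]

/-- The centraliser of `ι (-1)`. -/
theorem exists_decomp (h2 : (2 : F) ≠ 0) {g : Cfsg.Lie.G2 F} (hg : g * ι (-1) = ι (-1) * g) :
    ∃ (c : GL (Fin 2) F) (p : SL(2, F)), g = Ψ c * ι p := by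
  set G : Matrix (Fin 8) (Fin 8) F := ((g : GL (Fin 8) F) : Matrix (Fin 8) (Fin 8) F) with hG
  have hGinj : Function.Injective fun v => G *ᵥ v := Matrix.mulVec_injective_iff_isUnit.2 ⟨(g : GL (Fin 8) F), rfl⟩
  have hcomm : G * actMat 1 (-1) = actMat 1 (-1) * G :=
    congrArg (fun h : Cfsg.Lie.G2 F => ((h : GL (Fin 8) F) : Matrix (Fin 8) (Fin 8) F)) hg
  have hfix : ∀ v, ∀ x y, G *ᵥ v = Φ (x, y) → G *ᵥ (actMat 1 (-1) *ᵥ v) = Φ (x, -y) := by
    intro v x y hxy
    rw [Matrix.mulVec_mulVec, hcomm, ← Matrix.mulVec_mulVec, hxy, actMat_mulVec]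
    simp
  have hneg : ∀ y : M2, -y = y → y = 0 := fun y h => by
    have : (2 : F) • y = 0 := by rw [two_smul]; nth_rw 1 [← h]; exact neg_add_cancel y
    exact (smul_eq_zero.1 this).resolve_left h2
  have hH : ∀ x, ∃ x', G *ᵥ Φ (x, 0) = Φ (x', 0) := fun x => by
    obtain ⟨⟨x', y'⟩, he⟩ := Φ.surjective (G *ᵥ Φ (x, 0))
    have h := hfix _ _ _ he.symm
    rw [actMat_mulVec] at h
    simp only [Units.val_one, inv_one, one_mul, mul_one, mul_zero] at h
    rw [← he] at h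
    exact ⟨x', by rw [← he, hneg y' (congrArg Prod.snd (Φ.injective h)).symm]⟩
  choose φ hφ using hH
  let φl : M2 →ₗ[F] M2 :=
    { toFun := φ
      map_add' := fun a b => by
        have h := hφ (a + b)
        rw [show ((a + b, 0) : M2 × M2) = (a, 0) + (b, 0) by simp, map_add, Matrix.mulVec_add, hφ a, hφ b,
          ← map_add] at h
        simpa using (congrArg Prod.fst (Φ.injective h)).symm
      map_smul' := fun r a => by
        have h := hφ (r • a)
        rw [show ((r • a, 0) : M2 × M2) = r • (a, 0) by simp, map_smul, Matrix.mulVec_smul, hφ a,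
          ← map_smul] at h
        simpa using (congrArg Prod.fst (Φ.injective h)).symm }
  have hφinj : Function.Injective φl := fun a b h => by
    have : G *ᵥ Φ (a, 0) = G *ᵥ Φ (b, 0) := by rw [hφ a, hφ b, show φ a = φ b from h]
    exact congrArg Prod.fst (Φ.injective (hGinj this))
  have hφmul : ∀ a b, φl (a * b) = φl a * φl b := fun a b => by
    have h := mulVec_mul g (Φ (a, 0)) (Φ (b, 0))
    rw [zornMul_Φ] at h
    simp only [Matrix.adjugate_zero, mul_zero, add_zero, zero_mul, zero_add] at h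
    rw [← hG, hφ, hφ a, hφ b, zornMul_Φ] at h
    simp only [Matrix.adjugate_zero, mul_zero, add_zero, zero_mul, zero_add] at h
    exact congrArg Prod.fst (Φ.injective h)
  obtain ⟨c, hc⟩ := exists_conj φl hφinj hφmul
  set g' : Cfsg.Lie.G2 F := (Ψ c)⁻¹ * g with hg'
  set G' : Matrix (Fin 8) (Fin 8) F := ((g' : GL (Fin 8) F) : Matrix (Fin 8) (Fin 8) F) with hG'
  have hmulG : ∀ v, G' *ᵥ v = (((Ψ c⁻¹ : Cfsg.Lie.G2 F) : GL (Fin 8) F) : Matrix (Fin 8) (Fin 8) F) *ᵥ (G *ᵥ v) := by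
    intro v
    rw [hG', hg', ← map_inv, Subgroup.coe_mul, Units.val_mul, ← Matrix.mulVec_mulVec]
  have hfix' : ∀ x, G' *ᵥ Φ (x, 0) = Φ (x, 0) := fun x => by
    rw [hmulG, hφ, show φ x = φl x from rfl, hc, apply_psi]
    simp [mul_assoc]
  obtain ⟨⟨a, P⟩, hP⟩ := Φ.surjective (G' *ᵥ Φ (0, 1))
  have ha : a = 0 := by
    obtain ⟨⟨x1, y1⟩, he⟩ := Φ.surjective (G *ᵥ Φ (0, 1))
    have h := hfix _ _ _ he.symm
    rw [actMat_mulVec] at h
    simp only [Units.val_one, inv_one, one_mul, mul_one, mul_zero, Matrix.SpecialLinearGroup.coe_neg,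
      Matrix.SpecialLinearGroup.coe_one] at h
    rw [show ((0, -1) : M2 × M2) = -(0, 1) by simp, map_neg, Matrix.mulVec_neg, ← he, ← map_neg] at h
    have hx1 : x1 = 0 := hneg x1 (congrArg Prod.fst (Φ.injective h))
    have := hmulG (Φ (0, 1))
    rw [← hP, ← he, hx1, apply_psi] at this
    simpa using congrArg Prod.fst (Φ.injective this)
  subst ha
  have hPdet : P.adjugate * P = 1 := by
    have h := mulVec_mul g' (Φ (0, 1)) (Φ (0, 1))
    rw [zornMul_Φ] at h
    simp only [Matrix.adjugate_one, mul_zero, zero_add, one_mul, Matrix.adjugate_zero, zero_mul] at h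
    rw [← hG', hfix', ← hP, zornMul_Φ] at h
    simpa using (congrArg Prod.fst (Φ.injective h)).symm
  have hdet : P.det = 1 := by
    rw [Matrix.adjugate_mul] at hPdet
    have := congrFun (congrFun hPdet 0) 0
    simpa using this
  set Q : SL(2, F) := ⟨P, hdet⟩ with hQ
  refine ⟨c, Q, ?_⟩
  rw [← mul_inv_cancel_left (Ψ c) g, ← hg']
  congr 1
  refine ext_G2 fun x y => ?_
  rw [apply_iota, ← hG', show (Q : M2) = P from rfl]
  have h := mulVec_mul g' (Φ (0, 1)) (Φ (y.adjugate, 0))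
  rw [zornMul_Φ] at h
  simp only [Matrix.adjugate_zero, zero_mul, mul_zero, add_zero, one_mul, adjugate_adjugate_two, zero_add] at h
  rw [← hG', hfix', ← hP, zornMul_Φ] at h
  simp only [Matrix.adjugate_zero, zero_mul, mul_zero, add_zero, adjugate_adjugate_two, zero_add] at h
  calc G' *ᵥ Φ (x, y) = G' *ᵥ (Φ (x, 0) + Φ (0, y)) := by rw [← map_add]; simp
    _ = Φ (x, 0) + Φ (0, P * y) := by rw [Matrix.mulVec_add, hfix', h]
    _ = _ := by rw [← map_add]; simp

end CfsgLib.KnownA.G2CayleyDickson
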