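import Cfsg.Agent.Lib.KnownA.G2ShortRoot
import Cfsg.Agent.Lib.KnownB.FieldAut.Involutory

/-!
The two classes of involutions of the groups of type `G₂` in characteristic two.
-/

set_option autoImplicit false
set_option maxRecDepth 20000

namespace CfsgLib.KnownA.G2Involutions

open CfsgLib.Chevalley CfsgLib.Chevalley.Tbl CfsgLib.KnownA.G2ShortRoot

variable {F : Type*} [Field F]

local notation "xx" => T.xU F

/-- A product in the fixed order. -/
noncomputable def nf (a b c d e f : F) : GL T.I F :=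
  xx 6 a * xx 7 b * xx 8 c * xx 9 d * xx 10 e * xx 11 f

theorem x_add {r : ℕ} (h : r < 12) (u v : F) : xx r u * xx r v = xx r (u + v) := xU_add hT (lt12 h) u v

theorem x_comm {r s : ℕ} (hr : r < 12) (hs : s < 12) (h1 : s ≠ r) (h2 : s ≠ T.neg r)
    (h : T.commT r s = []) (t u : F) : xx s u * xx r t = xx r t * xx s u := by
  rw [comm_xU hT hC (lt12 hr) (lt12 hs) h1 h2, h]
  simp

theorem nf_inj {a b c d e f a' b' c' d' e' f' : F} (h : nf a b c d e f = nf a' b' c' d' e' f') :
    a = a' ∧ b = b' ∧ c = c' ∧ d = d' ∧ e = e' ∧ f = f' := by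
  have hm : ∀ {k r : ℕ}, k ≤ r → r < 12 → ∀ u : F, xx r u ∈ Ge F k := fun hk hr u =>
    xm (P := fun s => _ ≤ s) _ hr hk u
  simp only [nf, mul_assoc] at h
  have g11 : ∀ u : F, xx 11 u ∈ Ge F 11 := fun u => hm le_rfl (by norm_num) u
  have g10 : ∀ u v : F, xx 10 u * xx 11 v ∈ Ge F 10 := fun u v =>
    mul_mem (hm le_rfl (by norm_num) u) (ge_mono (by norm_num) (g11 v))
  have g9 : ∀ t u v : F, xx 9 t * (xx 10 u * xx 11 v) ∈ Ge F 9 := fun t u v =>
    mul_mem (hm le_rfl (by norm_num) t) (ge_mono (by norm_num) (g10 u v))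
  have g8 : ∀ s t u v : F, xx 8 s * (xx 9 t * (xx 10 u * xx 11 v)) ∈ Ge F 8 := fun s t u v =>
    mul_mem (hm le_rfl (by norm_num) s) (ge_mono (by norm_num) (g9 t u v))
  have g7 : ∀ r s t u v : F, xx 7 r * (xx 8 s * (xx 9 t * (xx 10 u * xx 11 v))) ∈ Ge F 7 :=
    fun r s t u v => mul_mem (hm le_rfl (by norm_num) r) (ge_mono (by norm_num) (g8 s t u v))
  obtain ⟨h6, h⟩ := ge_inj le_rfl (by norm_num) (g7 b c d e f) (g7 b' c' d' e' f') h
  obtain ⟨h7, h⟩ := ge_inj (by norm_num) (by norm_num) (g8 c d e f) (g8 c' d' e' f') h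
  obtain ⟨h8, h⟩ := ge_inj (by norm_num) (by norm_num) (g9 d e f) (g9 d' e' f') h
  obtain ⟨h9, h⟩ := ge_inj (by norm_num) (by norm_num) (g10 e f) (g10 e' f') h
  obtain ⟨h10, h⟩ := ge_inj (by norm_num) (by norm_num) (g11 f) (g11 f') h
  exact ⟨h6, h7, h8, h9, h10, xU_inj hT (lt12 (by norm_num)) h⟩

theorem exists_nf {u : GL T.I F} (hu : u ∈ Ge F 6) : ∃ a b c d e f, u = nf a b c d e f := by
  obtain ⟨a, u1, h1, rfl⟩ := ge_split le_rfl (by norm_num) hu
  obtain ⟨b, u2, h2, rfl⟩ := ge_split (by norm_num) (by norm_num) h1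
  obtain ⟨c, u3, h3, rfl⟩ := ge_split (by norm_num) (by norm_num) h2
  obtain ⟨d, u4, h4, rfl⟩ := ge_split (by norm_num) (by norm_num) h3
  obtain ⟨e, u5, h5, rfl⟩ := ge_split (by norm_num) (by norm_num) h4
  obtain ⟨f, u6, h6, rfl⟩ := ge_split (by norm_num) (by norm_num) h5
  have : u6 = 1 := by
    have hb : Ge F 12 = ⊥ := by
      show T.rootGen F (fun r => 12 ≤ r) = ⊥
      rw [← n_eq]; exact ge_n_eq_bot hT
    rw [← Subgroup.mem_bot, ← hb]
    exact h6
  subst this
  exact ⟨a, b, c, d, e, f, by simp only [nf, mul_one, mul_assoc]⟩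

theorem mul11 (a b c d e f g : F) : nf a b c d e f * xx 11 g = nf a b c d e (f + g) := by
  simp only [nf, mul_assoc]
  rw [x_add (by norm_num)]

theorem mul10 (a b c d e f g : F) : nf a b c d e f * xx 10 g = nf a b c d (e + g) f := by
  simp only [nf, mul_assoc]
  rw [x_comm (r := 10) (s := 11) (by norm_num) (by norm_num) (by norm_num) (by decide +kernel)
    (by decide +kernel), ← mul_assoc (xx 10 e), x_add (by norm_num)]

theorem mul9 (a b c d e f g : F) : nf a b c d e f * xx 9 g = nf a b c (d + g) e f := by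
  simp only [nf, mul_assoc]
  rw [x_comm (r := 9) (s := 11) (by norm_num) (by norm_num) (by norm_num) (by decide +kernel)
    (by decide +kernel), ← mul_assoc (xx 10 e), x_comm (r := 9) (s := 10) (by norm_num) (by norm_num)
    (by norm_num) (by decide +kernel) (by decide +kernel), mul_assoc, ← mul_assoc (xx 9 d),
    x_add (by norm_num)]

variable [CharP F 2]

theorem neg_eq' (x : F) : -x = x := CharTwo.neg_eq x

theorem three' : (3 : F) = 1 := by
  have h2 : (2 : F) = 0 := CharTwo.two_eq_zero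
  linear_combination h2

theorem two' : (2 : F) = 0 := CharTwo.two_eq_zero

theorem push98 (t u : F) : xx 9 t * xx 8 u = xx 8 u * xx 9 t * xx 11 (t * u) := by
  rw [comm_xU hT hC (lt12 (by norm_num)) (lt12 (by norm_num)) (by norm_num) (by decide +kernel),
    show T.commT 8 9 = [(11, 3, 1, 1)] by decide +kernel]
  simp [neg_eq', three', mul_comm]

theorem mul8 (a b c d e f g : F) : nf a b c d e f * xx 8 g = nf a b (c + g) d e (f + d * g) := by
  simp only [nf, mul_assoc]
  rw [x_comm (r := 8) (s := 11) (by norm_num) (by norm_num) (by norm_num) (by decide +kernel)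
    (by decide +kernel), ← mul_assoc (xx 10 e), x_comm (r := 8) (s := 10) (by norm_num) (by norm_num)
    (by norm_num) (by decide +kernel) (by decide +kernel), ← x_add (by norm_num : 8 < 12),
    show f + d * g = d * g + f from add_comm _ _, ← x_add (by norm_num : 11 < 12)]
  simp only [← mul_assoc]
  rw [mul_assoc _ (xx 9 d) (xx 8 g), push98]
  simp only [mul_assoc]
  rw [← mul_assoc (xx 11 (d * g)), ← mul_assoc (xx 10 e),
    x_comm (r := 10) (s := 11) (by norm_num) (by norm_num) (by norm_num) (by decide +kernel)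
      (by decide +kernel)]

theorem mul7 (a b c d e f g : F) : nf a b c d e f * xx 7 g =
    nf a (b + g) c d (e + d * g + g ^ 2 * c) (f + g * c ^ 2) := by
  have p97 : xx 9 d * xx 7 g = xx 7 g * xx 9 d * xx 10 (d * g) := by
    rw [comm_xU hT hC (lt12 (by norm_num)) (lt12 (by norm_num)) (by norm_num) (by decide +kernel),
      show T.commT 7 9 = [(10, 3, 1, 1)] by decide +kernel]
    simp [neg_eq', three', mul_comm]
  have p87 : xx 8 c * xx 7 g = xx 7 g * xx 8 c * (xx 10 (g ^ 2 * c) * xx 11 (g * c ^ 2)) := by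
    rw [comm_xU hT hC (lt12 (by norm_num)) (lt12 (by norm_num)) (by norm_num) (by decide +kernel),
      show T.commT 7 8 = [(9, -2, 1, 1), (10, -3, 2, 1), (11, 3, 1, 2)] by decide +kernel]
    simp [neg_eq', three', two', x_zero]
  have e1 : nf a b c d e f * xx 7 g =
      xx 6 a * (xx 7 b * xx 7 g) * xx 8 c * (xx 10 (g ^ 2 * c) * xx 11 (g * c ^ 2)) * xx 9 d *
        xx 10 (d * g) * xx 10 e * xx 11 f := by
    simp only [nf, mul_assoc]
    rw [x_comm (r := 7) (s := 11) (by norm_num) (by norm_num) (by norm_num) (by decide +kernel)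
      (by decide +kernel), ← mul_assoc (xx 10 e), x_comm (r := 7) (s := 10) (by norm_num) (by norm_num)
      (by norm_num) (by decide +kernel) (by decide +kernel)]
    simp only [← mul_assoc]
    rw [mul_assoc _ (xx 9 d) (xx 7 g), p97]
    simp only [← mul_assoc]
    rw [mul_assoc _ (xx 8 c) (xx 7 g), p87]
    simp only [← mul_assoc]
  rw [e1, x_add (by norm_num)]
  calc _ = nf a (b + g) c 0 0 0 * xx 10 (g ^ 2 * c) * xx 11 (g * c ^ 2) * xx 9 d * xx 10 (d * g) *
        xx 10 e * xx 11 f := by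
          simp only [nf, x_zero, Nat.reduceLT, mul_one, mul_assoc]
    _ = _ := by
      rw [mul10, mul11, mul9, mul10, mul10, mul11]
      congr 1 <;> ring

theorem mul6 (a b c d e f g : F) : nf a b c d e f * xx 6 g =
    nf (a + g) b (c + g * b) (d + g * b ^ 2) (e + g * b ^ 3) (f + e * g + g * b ^ 2 * c) := by
  have p106 : xx 10 e * xx 6 g = xx 6 g * xx 10 e * xx 11 (g * e) := by
    rw [comm_xU hT hC (lt12 (by norm_num)) (lt12 (by norm_num)) (by norm_num) (by decide +kernel),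
      show T.commT 6 10 = [(11, 1, 1, 1)] by decide +kernel]
    simp [neg_eq']
  have p76 : xx 7 b * xx 6 g = xx 6 g * xx 7 b *
      (xx 8 (g * b) * xx 9 (g * b ^ 2) * xx 10 (g * b ^ 3)) := by
    rw [comm_xU hT hC (lt12 (by norm_num)) (lt12 (by norm_num)) (by norm_num) (by decide +kernel),
      show T.commT 6 7 = [(8, 1, 1, 1), (9, 1, 1, 2), (10, -1, 1, 3), (11, -2, 2, 3)] by decide +kernel]
    simp [neg_eq', two', x_zero, mul_assoc]
  have e1 : nf a b c d e f * xx 6 g = nf (a + g) b 0 0 0 0 * xx 8 (g * b) * xx 9 (g * b ^ 2) *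
      xx 10 (g * b ^ 3) * xx 8 c * xx 9 d * xx 10 e * xx 11 (g * e) * xx 11 f := by
    simp only [nf, x_zero, Nat.reduceLT, mul_one, ← x_add (by norm_num : 6 < 12), mul_assoc]
    rw [x_comm (r := 6) (s := 11) (by norm_num) (by norm_num) (by norm_num) (by decide +kernel)
      (by decide +kernel), ← mul_assoc (xx 10 e), p106]
    simp only [mul_assoc]
    rw [← mul_assoc (xx 9 d) (xx 6 g), x_comm (r := 6) (s := 9) (by norm_num) (by norm_num)
      (by norm_num) (by decide +kernel) (by decide +kernel)]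
    simp only [mul_assoc]
    rw [← mul_assoc (xx 8 c) (xx 6 g), x_comm (r := 6) (s := 8) (by norm_num) (by norm_num)
      (by norm_num) (by decide +kernel) (by decide +kernel)]
    simp only [mul_assoc]
    rw [← mul_assoc (xx 7 b) (xx 6 g), p76]
    simp only [mul_assoc]
  rw [e1, mul8, mul9, mul10, mul8, mul9, mul10, mul11, mul11]
  congr 1 <;> ring

theorem single6 (s : F) : xx 6 s = nf s 0 0 0 0 0 := by simp [nf, x_zero]
theorem single7 (s : F) : xx 7 s = nf 0 s 0 0 0 0 := by simp [nf, x_zero]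
theorem single8 (s : F) : xx 8 s = nf 0 0 s 0 0 0 := by simp [nf, x_zero]
theorem single9 (s : F) : xx 9 s = nf 0 0 0 s 0 0 := by simp [nf, x_zero]
theorem single10 (s : F) : xx 10 s = nf 0 0 0 0 s 0 := by simp [nf, x_zero]
theorem single11 (s : F) : xx 11 s = nf 0 0 0 0 0 s := by simp [nf, x_zero]

/-- Multiplication on the right by a whole product. -/
theorem mul_nf (x : GL T.I F) (a b c d e f : F) :
    x * nf a b c d e f = x * xx 6 a * xx 7 b * xx 8 c * xx 9 d * xx 10 e * xx 11 f := by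
  simp only [nf, mul_assoc]

/-- Multiplication on the left by one factor. -/
theorem lmul (x : GL T.I F) (a b c d e f : F) : x * nf a b c d e f =
    nf 0 0 0 0 0 0 * x * xx 6 a * xx 7 b * xx 8 c * xx 9 d * xx 10 e * xx 11 f := by
  simp [nf, x_zero, mul_assoc]

theorem nf_one : (1 : GL T.I F) = nf 0 0 0 0 0 0 := by simp [nf, x_zero]

/-- The conditions on an involution. -/
theorem sq_eq {a b c d e f : F} (h : nf a b c d e f * nf a b c d e f = 1) :
    a * b = 0 ∧ b * d + b ^ 2 * c = 0 ∧ e * a + b * c ^ 2 + c * d = 0 := by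
  rw [mul_nf, mul6, mul7, mul8, mul9, mul10, mul11, nf_one] at h
  obtain ⟨-, -, h3, -, h5, h6⟩ := nf_inj h
  have h2 := two' (F := F)
  have hab : a * b = 0 := by linear_combination h3 - c * h2
  refine ⟨hab, ?_, ?_⟩
  · linear_combination h5 - e * h2 - (3 * b ^ 2) * hab
  · linear_combination h6 - f * h2 - (4 * b * c + a * b ^ 2) * hab

theorem inv_x {r : ℕ} (h : r < 12) (u : F) : (xx r u)⁻¹ = xx r u := by
  rw [xU_inv hT (lt12 h), neg_eq']

/-- Conjugation inside the group. -/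
def Cj (F : Type*) [Field F] (u v : GL T.I F) : Prop := ∃ h ∈ T.datum.group F, h * u * h⁻¹ = v

omit [CharP F 2] in
theorem Cj.trans {u v w : GL T.I F} (h1 : Cj F u v) (h2 : Cj F v w) : Cj F u w := by
  obtain ⟨a, ha, rfl⟩ := h1
  obtain ⟨b, hb, rfl⟩ := h2
  exact ⟨b * a, mul_mem hb ha, by group⟩

omit [CharP F 2] in
theorem Cj.refl (u : GL T.I F) : Cj F u u := ⟨1, one_mem _, by simp⟩

theorem cj_x {r : ℕ} (hr : r < 12) (s : F) {u v : GL T.I F} (h : xx r s * u * xx r s = v) : Cj F u v :=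
  ⟨xx r s, xU_mem_group hT (lt12 hr) s, by rw [inv_x hr, h]⟩

theorem sq_cj {u v : GL T.I F} (h : Cj F u v) (hu : u * u = 1) : v * v = 1 := by
  obtain ⟨g, -, rfl⟩ := h
  calc g * u * g⁻¹ * (g * u * g⁻¹) = g * (u * u) * g⁻¹ := by group
    _ = 1 := by rw [hu]; group

variable [Fintype F]

omit [CharP F 2] in
theorem exists_sqrt [CharP F 2] (x : F) : ∃ s, s ^ 2 = x := by
  obtain ⟨s, hs⟩ := FiniteField.isSquare_of_char_two (ringChar.eq F 2) x
  exact ⟨s, by rw [pow_two, hs]⟩

set_option maxHeartbeats 1600000 in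
/-- Every involution of `U` is conjugate to a root element. -/
theorem cj_root {a b c d e f : F} (h : nf a b c d e f * nf a b c d e f = 1) :
    ∃ k, 6 ≤ k ∧ k < 12 ∧ ∃ t, Cj F (nf a b c d e f) (xx k t) := by
  have h2 := two' (F := F)
  obtain ⟨hab, hbd, hea⟩ := sq_eq h
  -- the part without `6`, `7`, `8`
  have case10 : ∀ d e f : F, ∃ k, 6 ≤ k ∧ k < 12 ∧ ∃ t, Cj F (nf 0 0 0 d e f) (xx k t) := by
    intro d e f
    by_cases hd : d = 0
    · subst hd
      by_cases he : e = 0
      · subst he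
        exact ⟨11, by norm_num, by norm_num, f, single11 f ▸ Cj.refl _⟩
      · refine ⟨10, by norm_num, by norm_num, e, cj_x (r := 6) (by norm_num) (f / e) ?_⟩
        rw [lmul, mul6, mul6, mul7, mul8, mul9, mul10, mul11, mul6, single10]
        congr 1 <;> (try field_simp) <;> grind
    · have s1 : Cj F (nf 0 0 0 d e f) (nf 0 0 0 d 0 f) := cj_x (r := 7) (by norm_num) (e / d) (by
        rw [lmul, mul7, mul6, mul7, mul8, mul9, mul10, mul11, mul7]
        congr 1 <;> (try field_simp) <;> grind)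
      refine ⟨9, by norm_num, by norm_num, d, s1.trans (cj_x (r := 8) (by norm_num) (f / d) ?_)⟩
      rw [lmul, mul8, mul6, mul7, mul8, mul9, mul10, mul11, mul8, single9]
      congr 1 <;> (try field_simp) <;> grind
  -- the part without `6`, `7`
  have case8 : ∀ c d e f : F, c * d = 0 → ∃ k, 6 ≤ k ∧ k < 12 ∧ ∃ t, Cj F (nf 0 0 c d e f) (xx k t) := by
    intro c d e f hcd
    by_cases hc : c = 0
    · subst hc; exact case10 d e f
    · obtain rfl : d = 0 := (mul_eq_zero.1 hcd).resolve_left hc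
      obtain ⟨s, hs⟩ := exists_sqrt (e / c)
      have s1 : Cj F (nf 0 0 c 0 e f) (nf 0 0 c 0 0 (f + s * c ^ 2)) := cj_x (r := 7) (by norm_num) s (by
        rw [lmul, mul7, mul6, mul7, mul8, mul9, mul10, mul11, mul7]
        rw [eq_div_iff hc] at hs
        congr 1 <;> grind)
      refine ⟨8, by norm_num, by norm_num, c, s1.trans (cj_x (r := 9) (by norm_num)
        ((f + s * c ^ 2) / c) ?_)⟩
      rw [lmul, mul9, mul6, mul7, mul8, mul9, mul10, mul11, mul9, single8]
      congr 1 <;> (try field_simp) <;> grind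
  by_cases hb : b = 0
  · subst hb
    by_cases ha : a = 0
    · subst ha
      exact case8 c d e f (by linear_combination hea)
    · have s1 : Cj F (nf a 0 c d e f) (nf a 0 0 (d + a * (c / a) ^ 2)
          (e + (d + a * (c / a) ^ 2) * (c / a) + a * (c / a) ^ 3) (f + a * (c / a) ^ 2 * c)) := cj_x (r := 7) (by norm_num) (c / a) (by
        rw [lmul, mul7, mul6, mul7, mul8, mul9, mul10, mul11, mul7]
        congr 1 <;> (try field_simp) <;> grind)
      generalize d + a * (c / a) ^ 2 = d1 at s1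
      generalize e + d1 * (c / a) + a * (c / a) ^ 3 = e1 at s1
      generalize f + a * (c / a) ^ 2 * c = f1 at s1
      obtain ⟨-, -, h3⟩ := sq_eq (sq_cj s1 h)
      obtain rfl : e1 = 0 := (mul_eq_zero.1 (by linear_combination h3 : e1 * a = 0)).resolve_right ha
      have s2 : Cj F (nf a 0 0 d1 0 f1) (nf a 0 0 d1 0 0) := cj_x (r := 10) (by norm_num) (f1 / a) (by
        rw [lmul, mul10, mul6, mul7, mul8, mul9, mul10, mul11, mul10]
        congr 1 <;> (try field_simp) <;> grind)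
      by_cases hd : d1 = 0
      · subst hd
        exact ⟨6, le_rfl, by norm_num, a, single6 a ▸ s1.trans s2⟩
      obtain ⟨s, hs⟩ := exists_sqrt (a / d1)
      have s3 : Cj F (nf a 0 0 d1 0 0) (nf 0 0 0 d1 0 (d1 ^ 2 * s)) := cj_x (r := 4) (by norm_num) s (by
        have p94 : xx 4 s * xx 9 d1 =
            xx 9 d1 * xx 4 s * (xx 11 (d1 ^ 2 * s) * xx 6 (d1 * s ^ 2)) := by
          rw [comm_xU hT hC (lt12 (by norm_num)) (lt12 (by norm_num)) (by norm_num) (by decide +kernel),
            show T.commT 9 4 = [(8, 2, 1, 1), (11, -3, 2, 1), (6, 3, 1, 2)] by decide +kernel]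
          simp [neg_eq', three', two', x_zero]
        have c46 : xx 4 s * xx 6 a = xx 6 a * xx 4 s :=
          x_comm (by norm_num) (by norm_num) (by norm_num) (by decide +kernel) (by decide +kernel) _ _
        have c411 : xx 11 (d1 ^ 2 * s) * xx 4 s = xx 4 s * xx 11 (d1 ^ 2 * s) :=
          x_comm (by norm_num) (by norm_num) (by norm_num) (by decide +kernel) (by decide +kernel) _ _
        have c64 : xx 6 (d1 * s ^ 2) * xx 4 s = xx 4 s * xx 6 (d1 * s ^ 2) :=
          x_comm (by norm_num) (by norm_num) (by norm_num) (by decide +kernel) (by decide +kernel) _ _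
        calc xx 4 s * nf a 0 0 d1 0 0 * xx 4 s
            = (xx 4 s * xx 6 a) * xx 9 d1 * xx 4 s := by simp [nf, x_zero, mul_assoc]
          _ = xx 6 a * (xx 4 s * xx 9 d1) * xx 4 s := by rw [c46, mul_assoc (xx 6 a)]
          _ = xx 6 a * xx 9 d1 * (xx 4 s * xx 4 s) * (xx 11 (d1 ^ 2 * s) * xx 6 (d1 * s ^ 2)) := by
            rw [p94]
            simp only [mul_assoc]
            rw [c64, ← mul_assoc (xx 11 (d1 ^ 2 * s)), c411, mul_assoc]
          _ = xx 6 a * xx 9 d1 * xx 11 (d1 ^ 2 * s) * xx 6 (d1 * s ^ 2) := by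
            rw [x_add (by norm_num), show s + s = 0 by linear_combination s * h2, x_zero (by norm_num),
              mul_one, ← mul_assoc]
          _ = _ := by
            rw [single6 a, mul9, mul11, mul6]
            rw [eq_div_iff hd] at hs
            congr 1 <;> grind)
      obtain ⟨k, hk, hk', t, ht⟩ := case10 d1 0 (d1 ^ 2 * s)
      exact ⟨k, hk, hk', t, s1.trans (s2.trans (s3.trans ht))⟩
  · obtain rfl : a = 0 := (mul_eq_zero.1 hab).resolve_right hb
    have hd : d = b * c := by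
      have : b * (d + b * c) = 0 := by linear_combination hbd
      have := (mul_eq_zero.1 this).resolve_left hb
      linear_combination this - (b * c) * h2
    subst hd
    have s1 : Cj F (nf 0 b c (b * c) e f)
        (nf 0 b 0 0 (e + c * b ^ 2) (f + e * (c / b) + b * c ^ 2)) := cj_x (r := 6) (by norm_num) (c / b) (by
      rw [lmul, mul6, mul6, mul7, mul8, mul9, mul10, mul11, mul6]
      congr 1 <;> (try field_simp) <;> grind)
    generalize e + c * b ^ 2 = e1 at s1
    generalize f + e * (c / b) + b * c ^ 2 = f1 at s1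
    obtain ⟨s, hs⟩ := exists_sqrt (f1 / b)
    have s2 : Cj F (nf 0 b 0 0 e1 f1) (nf 0 b 0 0 (e1 + b ^ 2 * s) 0) := cj_x (r := 8) (by norm_num) s (by
      rw [lmul, mul8, mul6, mul7, mul8, mul9, mul10, mul11, mul8]
      rw [eq_div_iff hb] at hs
      congr 1 <;> grind)
    refine ⟨7, by norm_num, by norm_num, b, s1.trans (s2.trans (cj_x (r := 9) (by norm_num)
      ((e1 + b ^ 2 * s) / b) ?_))⟩
    rw [lmul, mul9, mul6, mul7, mul8, mul9, mul10, mul11, mul9, single7]
    congr 1 <;> (try field_simp) <;> grind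

omit [Fintype F] [CharP F 2] in
/-- A fundamental reflection moves root elements. -/
theorem cj_refl (i : Fin T.rank) {r r' : ℕ} (hr : r < 12) (h : T.refl i.val r = r') (t : F) :
    ∃ c : Fˣ, Cj F (xx r t) (xx r' ((c : F) * t)) := by
  subst h
  obtain ⟨c, hc⟩ := (mono_nU_simple hT (F := F) i).conj ⟨r, lt12 hr⟩
  refine ⟨c, T.nU F (T.simple i) 1, mul_mem (mul_mem (xU_mem_group hT (simple_lt hT i.2) _)
    (xU_mem_group hT (neg_lt' (simple_lt hT i.2)) _)) (xU_mem_group hT (simple_lt hT i.2) _), ?_⟩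
  rw [mul_inv_eq_iff_eq_mul, (hc t).1, refP_apply]

omit [Fintype F] [CharP F 2] in
/-- The torus scales. -/
theorem cj_torus (i : Fin T.rank) {r : ℕ} (hr : r < 12) (hi : T.ca i.val r = 1) {t : F} (ht : t ≠ 0) :
    Cj F (xx r t) (xx r 1) := by
  let u : Fˣ := (Units.mk0 t ht)⁻¹
  have hs := simple_lt hT i.2
  refine ⟨T.hU F (T.simple i) u, ?_, ?_⟩
  · have hn : ∀ w : F, T.nU F (T.simple i) w ∈ T.datum.group F := fun w =>
      mul_mem (mul_mem (xU_mem_group hT hs _) (xU_mem_group hT (neg_lt' hs) _)) (xU_mem_group hT hs _)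
    exact mul_mem (hn _) (hn _)
  · rw [hU_eq hT hs u, mul_inv_eq_iff_eq_mul, dU_conj_X hT (isChar_hCh hT _ u) (lt12 hr)]
    simp [hCh, pair_simple hT i.2, hi, u, ht]

theorem orbit_facts : T.refl 0 6 = 10 ∧ T.refl 1 10 = 11 ∧ T.refl 1 7 = 8 ∧ T.refl 0 8 = 9 ∧
    T.ca 1 11 = 1 ∧ T.ca 0 9 = 1 ∧ T.rank = 2 := by decide +kernel

omit [Fintype F] [CharP F 2] in
/-- Root elements are conjugate to one of two. -/
theorem cj_std {k : ℕ} (hk : 6 ≤ k) (hk' : k < 12) {t : F} (ht : t ≠ 0) :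
    Cj F (xx k t) (xx 11 1) ∨ Cj F (xx k t) (xx 9 1) := by
  obtain ⟨r1, r2, r3, r4, c1, c2, hrank⟩ := orbit_facts
  let i0 : Fin T.rank := ⟨0, by omega⟩
  let i1 : Fin T.rank := ⟨1, by omega⟩
  have e11 : ∀ {t : F}, t ≠ 0 → Cj F (xx 11 t) (xx 11 1) := fun ht => cj_torus i1 (by norm_num) c1 ht
  have e9 : ∀ {t : F}, t ≠ 0 → Cj F (xx 9 t) (xx 9 1) := fun ht => cj_torus i0 (by norm_num) c2 ht
  have e10 : ∀ {t : F}, t ≠ 0 → Cj F (xx 10 t) (xx 11 1) := fun {t} ht => by
    obtain ⟨c, hc⟩ := cj_refl i1 (by norm_num) r2 t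
    exact hc.trans (e11 (mul_ne_zero c.ne_zero ht))
  have e8 : ∀ {t : F}, t ≠ 0 → Cj F (xx 8 t) (xx 9 1) := fun {t} ht => by
    obtain ⟨c, hc⟩ := cj_refl i0 (by norm_num) r4 t
    exact hc.trans (e9 (mul_ne_zero c.ne_zero ht))
  interval_cases k
  · obtain ⟨c, hc⟩ := cj_refl i0 (by norm_num) r1 t
    exact Or.inl (hc.trans (e10 (mul_ne_zero c.ne_zero ht)))
  · obtain ⟨c, hc⟩ := cj_refl i1 (by norm_num) r3 t
    exact Or.inr (hc.trans (e8 (mul_ne_zero c.ne_zero ht)))
  · exact Or.inr (e8 ht)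
  · exact Or.inr (e9 ht)
  · exact Or.inl (e10 ht)
  · exact Or.inl (e11 ht)

/-- Every involution is conjugate to one of two. -/
theorem cj_involution {g : GL T.I F} (hg : g ∈ T.datum.group F) (h2 : orderOf g = 2) :
    Cj F g (xx 11 1) ∨ Cj F g (xx 9 1) := by
  classical
  have hle : T.datum.posUnipotent F ≤ T.datum.group F := le_sup_left.trans (borel_le_group hT)
  set U := (T.datum.posUnipotent F).subgroupOf (T.datum.group F) with hU
  have hodd := CfsgLib.KnownB.FieldAut.odd_index_pos (F := F) hT hC (U := U) rfl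
  have : Fact (Nat.Prime 2) := ⟨Nat.prime_two⟩
  have hUp : IsPGroup 2 U := by
    obtain ⟨n, -, hn⟩ := FiniteField.card F 2
    refine IsPGroup.of_card (n := (n : ℕ) * (T.datum.nroots / 2)) ?_
    rw [Nat.card_congr (Subgroup.subgroupOfEquivOfLe hle).toEquiv, card_posUnipotent hT hC, hn, pow_mul]
  let P : Sylow 2 (T.datum.group F) := hUp.toSylow fun hd => by
    obtain ⟨k, hk⟩ := hodd
    omega
  let x : T.datum.group F := ⟨g, hg⟩
  have hx2 : orderOf x = 2 := by rw [← Subgroup.orderOf_coe]; exact h2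
  have hxp : IsPGroup 2 (Subgroup.zpowers x) :=
    IsPGroup.of_card (n := 1) (by rw [Nat.card_zpowers, hx2, pow_one])
  obtain ⟨Q, hQ⟩ := hxp.exists_le_sylow
  obtain ⟨k, hk⟩ := MulAction.exists_smul_eq (T.datum.group F) Q P
  have hmem : k * x * k⁻¹ ∈ U := by
    have h1 : (k • Q : Sylow 2 (T.datum.group F)).toSubgroup = U := by rw [hk]; rfl
    rw [← h1, Sylow.coe_subgroup_smul]
    exact Subgroup.smul_mem_pointwise_smul _ _ _ (hQ (Subgroup.mem_zpowers x))
  have hc : Cj F g ((k : GL T.I F) * g * (k : GL T.I F)⁻¹) := ⟨k, k.2, rfl⟩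
  have hu : ((k : GL T.I F) * g * (k : GL T.I F)⁻¹) ∈ Ge F 6 := by
    have : ((k * x * k⁻¹ : T.datum.group F) : GL T.I F) ∈ T.datum.posUnipotent F := hmem
    rwa [posUnipotent_rootGen hT, half_eq] at this
  obtain ⟨a, b, c, d, e, f, hnf⟩ := exists_nf hu
  rw [hnf] at hc
  have hg2 : g * g = 1 := by rw [← pow_two, ← h2, pow_orderOf_eq_one]
  obtain ⟨r, hr, hr', t, ht⟩ := cj_root (sq_cj hc hg2)
  have ht0 : t ≠ 0 := by
    rintro rfl
    obtain ⟨w, -, hw⟩ := hc.trans ht
    rw [x_zero hr'] at hw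
    have : g = 1 := by rwa [conj_eq_one_iff] at hw
    rw [this, orderOf_one] at h2
    exact absurd h2 (by norm_num)
  rcases cj_std hr hr' ht0 with h | h
  · exact Or.inl ((hc.trans ht).trans h)
  · exact Or.inr ((hc.trans ht).trans h)

omit [Fintype F] in
theorem not_cj : ¬ Cj F (xx 11 1) (xx 9 1) := by
  rintro ⟨g, hg, he⟩
  obtain ⟨b, hb, n, hn, w, hw, hm, u', hu', rfl⟩ := exists_canonical hT hC hg
  obtain ⟨u, hu, h, hh, rfl⟩ := (mem_borel_iff hT).mp hb
  have hu6 : u ∈ Ge F 6 := by rw [posUnipotent_rootGen hT, half_eq] at hu; exact hu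
  have hu' : u' ∈ Ge F 6 := by
    refine rootGen_mono (fun r _ hr => ?_) hu'
    obtain ⟨_, h, _⟩ := hr
    rwa [half_eq] at h
  have hc11 : u' * xx 11 1 = xx 11 1 * u' := by
    obtain ⟨a, b, c, d, e, f, rfl⟩ := exists_nf hu'
    rw [mul11, mul_nf, single11, mul6, mul7, mul8, mul9, mul10, mul11]
    congr 1 <;> ring
  have hm' : T.Mono (h * n) w := by simpa using (mono_diag hT hh).mul hm
  obtain ⟨c, hc⟩ := hm'.conj ⟨11, lt12 (by norm_num)⟩
  have hl := (long_image hw ⟨11, lt12 (by norm_num)⟩).mp (by simp [longRoots])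
  generalize hk : (w ⟨11, lt12 (by norm_num)⟩).val = k at hc hl
  have hk' : k < 12 := by rw [← n_eq, ← hk]; exact Fin.isLt _
  obtain ⟨p, y, hy, rfl⟩ := ge_split le_rfl (by norm_num) hu6
  obtain ⟨s, r, -, -, -, e'⟩ := conj_nine (inv_mem hy)
  have key : xx k ((c : F) * 1) = xx 9 1 * xx 10 s * xx 11 r := by
    rw [← e', inv_inv]
    have h1 : (h * n) * xx 11 1 * (h * n)⁻¹ = xx k ((c : F) * 1) := mul_inv_eq_iff_eq_mul.mpr (hc 1).1
    have h6 : xx 6 p * xx 9 1 = xx 9 1 * xx 6 p :=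
      K_commute (xm (P := (· ∈ KRoots)) 6 (by norm_num) (by simp [KRoots]) p)
    rw [← h1]
    calc h * n * xx 11 1 * (h * n)⁻¹
        = (xx 6 p * y)⁻¹ * ((xx 6 p * y * h * n * u') * xx 11 1 * (xx 6 p * y * h * n * u')⁻¹) *
          (xx 6 p * y) := by
          rw [mul_assoc (xx 6 p * y * h * n) u', hc11]; group
      _ = (xx 6 p * y)⁻¹ * xx 9 1 * (xx 6 p * y) := by rw [he]
      _ = y⁻¹ * ((xx 6 p)⁻¹ * (xx 9 1 * xx 6 p)) * y := by group
      _ = y⁻¹ * xx 9 1 * y := by rw [← h6, inv_mul_cancel_left]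
  rw [single9, mul10, mul11] at key
  simp only [longRoots, List.mem_cons, List.not_mem_nil, or_false] at hl
  by_cases h6 : 6 ≤ k
  · rcases hl with rfl | rfl | rfl | rfl | rfl | rfl <;> try omega
    · rw [single6] at key
      exact one_ne_zero (α := F) (nf_inj key).2.2.2.1.symm
    · rw [single10] at key
      exact one_ne_zero (α := F) (nf_inj key).2.2.2.1.symm
    · rw [single11] at key
      exact one_ne_zero (α := F) (nf_inj key).2.2.2.1.symm
  · have hV : xx k ((c : F) * 1) ∈ T.datum.negUnipotent F := by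
      rw [negUnipotent_rootGen hT, half_eq]
      exact xm (P := fun r => r < 6) _ hk' (not_le.mp h6) _
    have hB : xx k ((c : F) * 1) ∈ T.datum.borelSubgroup F := by
      rw [key, mem_borel_iff hT]
      refine ⟨_, ?_, 1, one_mem _, (mul_one _).symm⟩
      rw [posUnipotent_rootGen hT, half_eq]
      simp only [nf]
      repeat' apply mul_mem
      all_goals exact xm (P := fun r => 6 ≤ r) _ (by norm_num) (by norm_num) _
    have h1 : xx k ((c : F) * 1) = 1 := by
      rw [← Subgroup.mem_bot, ← borel_inf_neg (T := T) (F := F) hT]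
      exact ⟨hB, hV⟩
    rw [h1, nf_one] at key
    exact one_ne_zero (α := F) (nf_inj key).2.2.2.1.symm

omit [Fintype F] in
theorem orderOf_x {r : ℕ} (hr : r < 12) : orderOf (xx r (1 : F)) = 2 := by
  refine orderOf_eq_prime ?_ fun h => ?_
  · rw [pow_two, x_add hr, show (1 : F) + 1 = 0 by linear_combination two' (F := F), x_zero hr]
  · rw [← x_zero (F := F) hr] at h
    exact one_ne_zero (xU_inj hT (lt12 hr) h)

/-- The classification. -/
theorem involution_classes :
    (∀ y : GL T.datum.Idx F, (y : Matrix T.datum.Idx T.datum.Idx F) ∈ [T.datum.x F 11 1, T.datum.x F 9 1] →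
      y ∈ T.datum.group F ∧ orderOf y = 2) ∧
    (∀ g ∈ T.datum.group F, orderOf g = 2 → ∃ y ∈ T.datum.group F,
      (y : Matrix T.datum.Idx T.datum.Idx F) ∈ [T.datum.x F 11 1, T.datum.x F 9 1] ∧
        ∃ h ∈ T.datum.group F, h * g * h⁻¹ = y) ∧
    (∀ y₁ ∈ T.datum.group F, ∀ y₂ ∈ T.datum.group F,
      (y₁ : Matrix T.datum.Idx T.datum.Idx F) ∈ [T.datum.x F 11 1, T.datum.x F 9 1] →
      (y₂ : Matrix T.datum.Idx T.datum.Idx F) ∈ [T.datum.x F 11 1, T.datum.x F 9 1] →
      (∃ h ∈ T.datum.group F, h * y₁ * h⁻¹ = y₂) →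
        (y₁ : Matrix T.datum.Idx T.datum.Idx F) = (y₂ : Matrix T.datum.Idx T.datum.Idx F)) := by
  have h11 : 11 < T.n := lt12 (by norm_num)
  have h9 : 9 < T.n := lt12 (by norm_num)
  have hm : ∀ y : GL T.datum.Idx F,
      (y : Matrix T.datum.Idx T.datum.Idx F) ∈ [T.datum.x F 11 1, T.datum.x F 9 1] →
      y = xx 11 1 ∨ y = xx 9 1 := by
    intro y hy
    simp only [List.mem_cons, List.not_mem_nil, or_false] at hy
    exact hy.imp (eq_x_iff hT h11 1 y).mp (eq_x_iff hT h9 1 y).mp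
  refine ⟨fun y hy => ?_, fun g hg h2 => ?_, fun y₁ _ y₂ _ h1 h2 hc => ?_⟩
  · rcases hm y hy with rfl | rfl
    · exact ⟨xU_mem_group hT h11 1, orderOf_x (by norm_num)⟩
    · exact ⟨xU_mem_group hT h9 1, orderOf_x (by norm_num)⟩
  · rcases cj_involution hg h2 with h | h
    · exact ⟨_, xU_mem_group hT h11 1,
        List.mem_cons.mpr (Or.inl ((eq_x_iff hT h11 1 _).mpr rfl)), h⟩
    · exact ⟨_, xU_mem_group hT h9 1,
        List.mem_cons.mpr (Or.inr (List.mem_singleton.mpr ((eq_x_iff hT h9 1 _).mpr rfl))), h⟩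
  · rcases hm y₁ h1 with rfl | rfl <;> rcases hm y₂ h2 with rfl | rfl
    · rfl
    · exact absurd hc not_cj
    · obtain ⟨h, hh, e⟩ := hc
      exact absurd ⟨h⁻¹, inv_mem hh, by rw [← e]; group⟩ not_cj
    · rfl

end CfsgLib.KnownA.G2Involutions
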