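import Cfsg.Agent.Lib.KnownB.RootCentralizer.Apply
import Cfsg.Agent.Lib.Chevalley.Tables

/-!
The centralizer of the highest short root involution in the groups of type `G₂` in characteristic two.
-/

set_option autoImplicit false
set_option maxRecDepth 20000

namespace CfsgLib.KnownA.G2ShortRoot

open CfsgLib.Chevalley CfsgLib.Chevalley.Tbl CfsgLib.KnownB.Steinberg CfsgLib.KnownB.RootCentralizer

/-- The table. -/
abbrev T : Tbl := Data.G2.tbl

theorem hT : T.Valid := Data.G2.valid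
theorem hC : T.chkComm = true := Data.G2.chkComm

/-- The roots of the centralizer. -/
def KRoots : List ℕ := [5, 6, 9, 10, 11]

/-- The long roots. -/
def longRoots : List ℕ := [0, 1, 5, 6, 10, 11]

theorem half_eq : T.half = 6 := by decide +kernel

theorem n_eq : T.n = 12 := by decide +kernel

theorem K_comm : KRoots.all (fun s => decide (s = 9) || (decide (s ≠ T.neg 9) && (T.commT 9 s).isEmpty)) = true := by
  decide +kernel

theorem K_norm : KRoots.all (fun r => (List.range' 7 5).all fun s =>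
    decide (s = r) || (decide (s ≠ T.neg r) && (T.commT r s).all fun c => decide (7 ≤ c.1))) = true := by
  decide +kernel

theorem long_refl : ((List.range T.rank).all fun i => longRoots.all fun r =>
    longRoots.contains (T.refl i r)) = true := by decide +kernel

theorem orth_nine : orthSimple T [9] = {1} := by decide +kernel

theorem ca_nine : T.ca 0 9 = 1 ∧ T.ca 1 9 = 0 ∧ T.rank = 2 ∧ T.simple 1 = 6 ∧ T.neg 6 = 5 := by
  decide +kernel

theorem dom_nine : ((List.range T.rank).all fun i => decide (0 ≤ T.ca i 9)) = true := by decide +kernel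

theorem comm_facts : T.commT 9 8 = [(11, -3, 1, 1)] ∧ T.commT 9 7 = [(10, -3, 1, 1)] ∧
    T.commT 11 7 = [] ∧ T.commT 11 8 = [] ∧ (T.neg 9 = 2 ∧ T.neg 11 = 0) := by decide +kernel

variable {F : Type*} [Field F]

local notation "xx" => T.xU F

theorem xm {P : ℕ → Prop} (r : ℕ) (hr : r < 12) (hP : P r) (t : F) : xx r t ∈ T.rootGen F P :=
  xU_mem_rootGen (by rw [n_eq]; exact hr) hP t

theorem lt12 {r : ℕ} (h : r < 12) : r < T.n := by rw [n_eq]; exact h

/-- Elements with the roots `≥ k`. -/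
abbrev Ge (F : Type*) [Field F] (k : ℕ) : Subgroup (GL T.I F) := T.rootGen F (fun r => k ≤ r)

theorem ge_mono {k l : ℕ} (h : k ≤ l) : Ge F l ≤ Ge F k := rootGen_mono fun _ _ h' => h.trans h'

theorem ge_conj {k : ℕ} (hk : 6 ≤ k) {y n : GL T.I F} (hy : y ∈ Ge F 6) (hn : n ∈ Ge F k) :
    y * n * y⁻¹ ∈ Ge F k := by
  have := pos_le_normalizer_ge hT hC (k := k) (by rw [half_eq]; exact hk)
    (show y ∈ T.rootGen F (fun r => T.half ≤ r) by rw [half_eq]; exact hy)
  exact (Subgroup.mem_normalizer_iff.mp this n).mp hn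

theorem ge_split {k : ℕ} (hk : 6 ≤ k) (hk' : k < 12) {g : GL T.I F} (hg : g ∈ Ge F k) :
    ∃ t, ∃ g' ∈ Ge F (k + 1), g = xx k t * g' :=
  (mem_ge_iff hT hC (by rw [half_eq]; exact hk) (lt12 hk')).mp hg

theorem ge_inj {k : ℕ} (hk : 6 ≤ k) (hk' : k < 12) {g g' : GL T.I F} (hg : g ∈ Ge F (k + 1))
    (hg' : g' ∈ Ge F (k + 1)) {t t' : F} (h : xx k t * g = xx k t' * g') : t = t' ∧ g = g' :=
  xU_mul_inj hT hC (by rw [half_eq]; exact hk) (lt12 hk') hg hg' h

theorem x_zero {r : ℕ} (h : r < 12) : xx r (0 : F) = 1 := xU_zero hT (lt12 h)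

theorem ge_coef_zero {k : ℕ} (hk : 6 ≤ k) (hk' : k < 12) {g g' : GL T.I F} (hg : g ∈ Ge F (k + 1))
    (hg' : g' ∈ Ge F (k + 1)) {t : F} (h : xx k t * g = g') : t = 0 ∧ g = g' :=
  ge_inj hk hk' hg hg' (t' := 0) (by rw [x_zero hk', one_mul]; exact h)

variable [CharP F 2]

theorem K_commute {k : GL T.I F} (hk : k ∈ T.rootGen F (· ∈ KRoots)) : k * xx 9 1 = xx 9 1 * k := by
  induction hk using Subgroup.closure_induction with
  | mem x hx =>
    obtain ⟨s, hs, hsK, u, rfl⟩ := hx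
    have h := List.all_eq_true.mp K_comm s hsK
    simp only [Bool.or_eq_true, Bool.and_eq_true, decide_eq_true_eq, List.isEmpty_iff] at h
    rcases h with rfl | ⟨hne, he⟩
    · rw [xU_add hT hs, xU_add hT hs, add_comm]
    · by_cases hs9 : s = 9
      · subst hs9; rw [xU_add hT hs, xU_add hT hs, add_comm]
      rw [comm_xU hT hC (lt12 (by norm_num)) hs hs9 hne, he]
      simp
  | one => simp
  | mul x y _ _ hx hy => rw [mul_assoc, hy, ← mul_assoc, hx, mul_assoc]
  | inv x _ hx => rw [inv_mul_eq_iff_eq_mul, ← mul_assoc, hx, mul_inv_cancel_right]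

omit [CharP F 2] in
theorem K_conj {k n : GL T.I F} (hk : k ∈ T.rootGen F (· ∈ KRoots)) (hn : n ∈ Ge F 7) :
    k * n * k⁻¹ ∈ Ge F 7 := by
  suffices h : ∀ k ∈ T.rootGen F (· ∈ KRoots), k ∈ Subgroup.normalizer (Ge F 7 : Set (GL T.I F)) from
    (Subgroup.mem_normalizer_iff.mp (h k hk) n).mp hn
  refine fun k hk => rootGen_le (fun r hr hrK u => ?_) hk
  have hconj : ∀ v : F, ∀ n ∈ Ge F 7, xx r v * n * (xx r v)⁻¹ ∈ Ge F 7 := by
    intro v
    suffices h : Ge F 7 ≤ (Ge F 7).comap (MulAut.conj (xx r v)).toMonoidHom from fun n hn => h hn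
    refine rootGen_le fun s hs hs7 t => ?_
    show xx r v * xx s t * (xx r v)⁻¹ ∈ Ge F 7
    have h := List.all_eq_true.mp K_norm r hrK
    have h := List.all_eq_true.mp h s (List.mem_range'_1.mpr ⟨hs7, by rw [n_eq] at hs; omega⟩)
    simp only [Bool.or_eq_true, Bool.and_eq_true, decide_eq_true_eq, List.all_eq_true] at h
    rcases h with rfl | ⟨hne, he⟩
    · rw [xU_add hT hs, xU_inv hT hs, xU_add hT hs]
      exact xU_mem_rootGen hs hs7 _
    · by_cases hsr : s = r
      · subst hsr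
        rw [xU_add hT hs, xU_inv hT hs, xU_add hT hs]
        exact xU_mem_rootGen hs hs7 _
      have e := comm_xU hT hC hr hs hsr hne (-v) t (F := F)
      rw [show xx r v * xx s t * (xx r v)⁻¹ =
        xx r v * (xx s t * xx r (-v)) by rw [xU_inv hT hr, mul_assoc], e, ← mul_assoc, ← mul_assoc,
        xU_add hT hr, add_neg_cancel, xU_zero hT hr, one_mul]
      refine mul_mem (xU_mem_rootGen hs hs7 t) (list_prod_mem fun y hy => ?_)
      obtain ⟨c, hc, rfl⟩ := List.mem_map.mp hy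
      exact xU_mem_rootGen (commT_lt hT hr hs c hc) (he c hc) _
  rw [Subgroup.mem_normalizer_iff]
  refine fun n => ⟨hconj u n, fun h => ?_⟩
  have := hconj (-u) _ h
  rwa [← xU_inv hT hr, inv_inv, ← mul_assoc, ← mul_assoc, inv_mul_cancel, one_mul,
    inv_mul_cancel_right] at this

/-- The conjugates of the involution under the unipotent radical. -/
theorem conj_nine {y : GL T.I F} (hy : y ∈ Ge F 7) : ∃ s r : F, ∃ n ∈ Ge F 9,
    y = xx 7 s * xx 8 r * n ∧ y * xx 9 1 * y⁻¹ = xx 9 1 * xx 10 s * xx 11 r := by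
  obtain ⟨s, y1, hy1, rfl⟩ := ge_split (by norm_num) (by norm_num) hy
  obtain ⟨r, n, hn, rfl⟩ := ge_split (by norm_num) (by norm_num) hy1
  obtain ⟨c8, c7, h117, -, hn9, -⟩ := comm_facts
  refine ⟨s, r, n, hn, (mul_assoc _ _ _).symm, ?_⟩
  have hn' : n * xx 9 1 = xx 9 1 * n := K_commute (rootGen_mono (fun q hq h => by
    rw [n_eq] at hq; interval_cases q <;> simp [KRoots]) hn)
  have h2 : (2 : F) = 0 := CharTwo.two_eq_zero
  have hneg : ∀ x : F, -x = x := fun x => by linear_combination (-x) * h2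
  have h3 : (3 : F) = 1 := by linear_combination h2
  have e8 : xx 8 r * xx 9 1 = xx 9 1 * xx 8 r * xx 11 r := by
    rw [comm_xU hT hC (lt12 (by norm_num)) (lt12 (by norm_num)) (by norm_num) (by rw [hn9]; norm_num),
      c8]
    simp [h3, hneg]
  have e7 : xx 7 s * xx 9 1 = xx 9 1 * xx 7 s * xx 10 s := by
    rw [comm_xU hT hC (lt12 (by norm_num)) (lt12 (by norm_num)) (by norm_num) (by rw [hn9]; norm_num),
      c7]
    simp [h3, hneg]
  have e117 : xx 7 s * xx 11 r = xx 11 r * xx 7 s := by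
    rw [comm_xU hT hC (lt12 (by norm_num)) (lt12 (by norm_num)) (by norm_num)
      (by rw [comm_facts.2.2.2.2.2]; norm_num), h117]
    simp
  have e118 : xx 8 r * xx 11 r = xx 11 r * xx 8 r := by
    rw [comm_xU hT hC (lt12 (by norm_num)) (lt12 (by norm_num)) (by norm_num)
      (by rw [comm_facts.2.2.2.2.2]; norm_num), comm_facts.2.2.2.1]
    simp
  rw [mul_inv_eq_iff_eq_mul]
  calc xx 7 s * (xx 8 r * n) * xx 9 1
      = xx 7 s * (xx 8 r * xx 9 1) * n := by rw [mul_assoc, mul_assoc, hn']; group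
    _ = (xx 7 s * xx 9 1) * (xx 8 r * xx 11 r) * n := by rw [e8]; group
    _ = xx 9 1 * xx 7 s * xx 10 s * (xx 11 r * xx 8 r) * n := by rw [e7, e118]
    _ = _ := by
      have e107 : xx 7 s * xx 10 s = xx 10 s * xx 7 s := by
        rw [comm_xU hT hC (lt12 (by norm_num)) (lt12 (by norm_num)) (by norm_num)
          (by decide +kernel), show T.commT 10 7 = [] by decide +kernel]
        simp
      rw [show xx 9 1 * xx 7 s * xx 10 s = xx 9 1 * xx 10 s * xx 7 s by
        rw [mul_assoc, e107, ← mul_assoc]]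
      simp only [← mul_assoc]
      rw [mul_assoc (xx 9 1 * xx 10 s) (xx 7 s) (xx 11 r), e117, ← mul_assoc]

omit [CharP F 2] in
theorem long_image {w : Equiv.Perm (Fin T.n)} (hw : w ∈ T.WP hT) :
    ∀ r : Fin T.n, r.val ∈ longRoots ↔ (w r).val ∈ longRoots := by
  have h := long_refl
  simp only [List.all_eq_true, List.mem_range, List.contains_iff_mem] at h
  induction hw using Subgroup.closure_induction with
  | mem x hx =>
    obtain ⟨i, rfl⟩ := hx
    intro r
    refine ⟨fun hr => by rw [refP_apply]; exact h i i.2 r hr, fun hr => ?_⟩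
    have := h i i.2 _ hr
    rw [← refP_apply hT i (T.refP hT i r), ← Equiv.Perm.mul_apply, refP_mul_self] at this
    exact this
  | one => simp
  | mul x y _ _ hx hy => exact fun r => (hy r).trans (hx (y r))
  | inv x _ hx =>
    intro r
    rw [hx (x⁻¹ r)]
    simp

omit [CharP F 2] in
/-- An element of the long positive root groups. -/
theorem long_split {g : GL T.I F} (hg : g ∈ T.rootGen F (fun r => r = 6 ∨ 10 ≤ r)) :
    ∃ d, ∃ n ∈ Ge F 10, g = xx 6 d * n := by
  induction hg using Subgroup.closure_induction with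
  | mem x hx =>
    obtain ⟨r, hr, h, u, rfl⟩ := hx
    rcases h with rfl | h
    · exact ⟨u, 1, one_mem _, (mul_one _).symm⟩
    · exact ⟨0, _, xU_mem_rootGen hr h u, by rw [x_zero (by norm_num), one_mul]⟩
  | one => exact ⟨0, 1, one_mem _, by rw [x_zero (by norm_num), mul_one]⟩
  | mul x y _ _ hx hy =>
    obtain ⟨d, n, hn, rfl⟩ := hx
    obtain ⟨e, k, hk, rfl⟩ := hy
    refine ⟨d + e, (xx 6 e)⁻¹ * n * xx 6 e * k, mul_mem ?_ hk, ?_⟩
    · have := ge_conj (F := F) (k := 10) (by norm_num)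
        (inv_mem (xm (P := fun r => 6 ≤ r) 6 (by norm_num) le_rfl e)) hn
      rwa [inv_inv] at this
    · rw [← xU_add hT (lt12 (by norm_num))]; group
  | inv x _ hx =>
    obtain ⟨d, n, hn, rfl⟩ := hx
    refine ⟨-d, xx 6 d * n⁻¹ * (xx 6 d)⁻¹, ge_conj (by norm_num)
      (xm (P := fun r => 6 ≤ r) 6 (by norm_num) le_rfl d) (inv_mem hn), ?_⟩
    rw [← xU_inv hT (lt12 (by norm_num))]; group

omit [CharP F 2] in
/-- The image of the short root is the short root. -/
theorem short_fixed {m : GL T.I F} {w : Equiv.Perm (Fin T.n)} (hw : w ∈ T.WP hT) (hm : T.Mono m w)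
    {a b a' b' : F}
    (h : m * (xx 9 1 * xx 10 a * xx 11 b) * m⁻¹ = xx 9 1 * xx 10 a' * xx 11 b') :
    (w ⟨9, lt12 (by norm_num)⟩).val = 9 ∧ m * xx 9 1 = xx 9 1 * m := by
  obtain ⟨c, hc⟩ := hm.conj ⟨9, lt12 (by norm_num)⟩
  obtain ⟨c1, hc1⟩ := hm.conj ⟨10, lt12 (by norm_num)⟩
  obtain ⟨c2, hc2⟩ := hm.conj ⟨11, lt12 (by norm_num)⟩
  have l1 := (long_image hw ⟨10, lt12 (by norm_num)⟩).mp (by simp [longRoots])
  have l2 := (long_image hw ⟨11, lt12 (by norm_num)⟩).mp (by simp [longRoots])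
  have l9 : (w ⟨9, lt12 (by norm_num)⟩).val ∉ longRoots := fun hh =>
    absurd ((long_image hw ⟨9, lt12 (by norm_num)⟩).mpr hh) (by simp [longRoots])
  generalize hi : (w ⟨9, lt12 (by norm_num)⟩).val = i at hc l9
  generalize hj : (w ⟨10, lt12 (by norm_num)⟩).val = j at hc1 l1
  generalize hk : (w ⟨11, lt12 (by norm_num)⟩).val = k at hc2 l2
  have hi' : i < 12 := by rw [← n_eq, ← hi]; exact Fin.isLt _
  have hj' : j < 12 := by rw [← n_eq, ← hj]; exact Fin.isLt _
  have hk' : k < 12 := by rw [← n_eq, ← hk]; exact Fin.isLt _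
  set A := xx i ((c : F) * 1) with hA
  set B := xx j ((c1 : F) * a) with hB
  set C := xx k ((c2 : F) * b) with hCdef
  have eA : m * xx 9 1 * m⁻¹ = A := mul_inv_eq_iff_eq_mul.mpr (hc 1).1
  have eB : m * xx 10 a * m⁻¹ = B := mul_inv_eq_iff_eq_mul.mpr (hc1 a).1
  have eC : m * xx 11 b * m⁻¹ = C := mul_inv_eq_iff_eq_mul.mpr (hc2 b).1
  have hLHS : A * B * C = xx 9 1 * xx 10 a' * xx 11 b' := by
    rw [← h, ← eA, ← eB, ← eC]; group
  have hcomm : ∀ p q : ℕ, p < 12 → q < 12 → q ≠ p → q ≠ T.neg p → T.commT p q = [] →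
      ∀ u v : F, Commute (xx q v) (xx p u) := fun p q hp hq h1 h2 h3 u v => by
    show _ * _ = _ * _
    rw [comm_xU hT hC (lt12 hp) (lt12 hq) h1 h2, h3]
    simp
  have cAB : Commute A B := by
    rw [← eA, ← eB]
    exact (hcomm 10 9 (by norm_num) (by norm_num) (by norm_num) (by decide +kernel) (by decide +kernel) a 1).map
      (MulAut.conj m)
  have cAC : Commute A C := by
    rw [← eA, ← eC]
    exact (hcomm 11 9 (by norm_num) (by norm_num) (by norm_num) (by decide +kernel) (by decide +kernel) b 1).map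
      (MulAut.conj m)
  have cBC : Commute B C := by
    rw [← eB, ← eC]
    exact (hcomm 11 10 (by norm_num) (by norm_num) (by norm_num) (by decide +kernel) (by decide +kernel) b a).map
      (MulAut.conj m)
  have hU : ∀ {r : ℕ}, r < 12 → 6 ≤ r → ∀ u : F, xx r u ∈ Ge F 6 := fun hr h6 u =>
    xm (P := fun r => 6 ≤ r) _ hr h6 u
  have hV : ∀ {r : ℕ}, r < 12 → r < 6 → ∀ u : F, xx r u ∈ T.datum.negUnipotent F := fun hr h6 u => by
    rw [negUnipotent_rootGen hT, half_eq]
    exact xm (P := fun r => r < 6) _ hr h6 u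
  let P3 (r : ℕ) (x : GL T.I F) : GL T.I F := if 6 ≤ r then x else 1
  let N3 (r : ℕ) (x : GL T.I F) : GL T.I F := if 6 ≤ r then 1 else x
  have hPN : A * B * C = (P3 i A * (P3 j B * P3 k C)) * (N3 i A * N3 j B * N3 k C) := by
    have h1 := cAB.eq
    have h2 := cAC.eq
    have h3 := cBC.eq
    simp only [P3, N3]
    split_ifs <;> simp only [mul_one, one_mul, ← mul_assoc]
    · rw [mul_assoc A C B, ← h3, ← mul_assoc]
    · rw [h1, mul_assoc B A C, h2, ← mul_assoc]
    · rw [h1]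
    · rw [mul_assoc A B C, h3, ← mul_assoc, h2]
  have hPU : P3 i A * (P3 j B * P3 k C) ∈ Ge F 6 := by
    simp only [P3]
    refine mul_mem ?_ (mul_mem ?_ ?_) <;> split_ifs with h6 <;>
      first | exact one_mem _ | exact hU (by assumption) h6 _
  have hNV : N3 i A * N3 j B * N3 k C ∈ T.datum.negUnipotent F := by
    simp only [N3]
    refine mul_mem (mul_mem ?_ ?_) ?_ <;> split_ifs with h6 <;>
      first | exact one_mem _ | exact hV (by assumption) (not_le.mp h6) _
  have hR : xx 9 1 * xx 10 a' * xx 11 b' ∈ Ge F 6 :=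
    mul_mem (mul_mem (hU (by norm_num) (by norm_num) _) (hU (by norm_num) (by norm_num) _))
      (hU (by norm_num) (by norm_num) _)
  have hN1 : N3 i A * N3 j B * N3 k C = 1 := by
    rw [← Subgroup.mem_bot, ← borel_inf_neg (T := T) (F := F) hT]
    refine ⟨?_, hNV⟩
    have : N3 i A * N3 j B * N3 k C =
        (P3 i A * (P3 j B * P3 k C))⁻¹ * (xx 9 1 * xx 10 a' * xx 11 b') := by
      rw [← hLHS, hPN, inv_mul_cancel_left]
    rw [this]
    refine (mem_borel_iff hT).mpr ?_
    refine ⟨_, ?_, 1, one_mem _, (mul_one _).symm⟩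
    rw [posUnipotent_rootGen hT, half_eq]
    exact mul_mem (inv_mem hPU) hR
  rw [hPN, hN1, mul_one] at hLHS
  have hBC : P3 j B * P3 k C ∈ T.rootGen F (fun r => r = 6 ∨ 10 ≤ r) := by
    simp only [P3]
    refine mul_mem ?_ ?_ <;> split_ifs with h6
    · exact xm (P := fun r => r = 6 ∨ 10 ≤ r) j hj' (by simp [longRoots] at l1; omega) _
    · exact one_mem _
    · exact xm (P := fun r => r = 6 ∨ 10 ≤ r) k hk' (by simp [longRoots] at l2; omega) _
    · exact one_mem _
  obtain ⟨d, n, hn, hdn⟩ := long_split hBC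
  rw [hdn] at hLHS
  have hn7 : n ∈ Ge F 7 := ge_mono (by norm_num) hn
  have hR7 : xx 9 1 * xx 10 a' * xx 11 b' ∈ Ge F 7 :=
    mul_mem (mul_mem (xm (P := fun r => 7 ≤ r) 9 (by norm_num) (by norm_num) _)
      (xm (P := fun r => 7 ≤ r) 10 (by norm_num) (by norm_num) _))
      (xm (P := fun r => 7 ≤ r) 11 (by norm_num) (by norm_num) _)
  have hR10 : xx 10 a' * xx 11 b' ∈ Ge F 10 :=
    mul_mem (xm (P := fun r => 10 ≤ r) 10 (by norm_num) (by norm_num) _)
      (xm (P := fun r => 10 ≤ r) 11 (by norm_num) (by norm_num) _)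
  by_cases h6 : 6 ≤ i
  · simp only [P3, if_pos h6] at hLHS
    have hi7 : 7 ≤ i ∧ i ≤ 9 := by simp [longRoots] at l9; omega
    have hA7 : A ∈ Ge F 7 := xm (P := fun r => 7 ≤ r) i hi' hi7.1 _
    have hA7' : (xx 6 d)⁻¹ * A * xx 6 d ∈ Ge F 7 := by
      have := ge_conj (F := F) (k := 7) (by norm_num) (inv_mem (hU (r := 6) (by norm_num) le_rfl d)) hA7
      rwa [inv_inv] at this
    obtain ⟨hd0, -⟩ := ge_coef_zero (k := 6) le_rfl (by norm_num) (mul_mem hA7' hn7) hR7
      (t := d) (g' := xx 9 1 * xx 10 a' * xx 11 b') (by rw [← hLHS]; group)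
    rw [hd0, x_zero (by norm_num), one_mul] at hLHS
    rcases Nat.lt_or_ge i 9 with hi9 | hi9
    · exfalso
      have := ge_coef_zero (k := i) h6 hi' (ge_mono (by omega) hn)
        (mul_mem (mul_mem (xm (P := fun r => i + 1 ≤ r) 9 (by norm_num) (by omega) _)
          (xm (P := fun r => i + 1 ≤ r) 10 (by norm_num) (by omega) _))
          (xm (P := fun r => i + 1 ≤ r) 11 (by norm_num) (by omega) _)) hLHS
      exact mul_ne_zero c.ne_zero one_ne_zero this.1
    · obtain rfl : i = 9 := by omega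
      rw [mul_assoc (xx 9 1)] at hLHS
      obtain ⟨hc9, -⟩ := ge_inj (k := 9) (by norm_num) (by norm_num) hn hR10 hLHS
      refine ⟨rfl, ?_⟩
      rw [(hc 1).1, hc9]
  · exfalso
    simp only [P3, if_neg h6, one_mul] at hLHS
    obtain ⟨-, hn9⟩ := ge_coef_zero (k := 6) le_rfl (by norm_num) hn7 hR7 hLHS
    rw [mul_assoc (xx 9 1)] at hn9
    exact one_ne_zero (α := F) (ge_coef_zero (k := 9) (by norm_num) (by norm_num) hR10 hn hn9.symm).1

omit [CharP F 2] in
theorem nU_mem_K (t : F) : T.nU F 6 t ∈ T.rootGen F (· ∈ KRoots) := by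
  refine mul_mem (mul_mem (xm (P := (· ∈ KRoots)) 6 (by norm_num) (by simp [KRoots]) _) ?_)
    (xm (P := (· ∈ KRoots)) 6 (by norm_num) (by simp [KRoots]) _)
  rw [ca_nine.2.2.2.2]
  exact xm (P := (· ∈ KRoots)) 5 (by norm_num) (by simp [KRoots]) _

omit [CharP F 2] in
theorem diag_mem_K {h : GL T.I F} (hh : h ∈ T.datum.diagonalSubgroup F)
    (hfix : h * xx 9 1 = xx 9 1 * h) : h ∈ T.rootGen F (· ∈ KRoots) := by
  obtain ⟨f, rfl⟩ := (mem_diag_iff hT).mp hh
  obtain ⟨h0, h1, hr, hs, -⟩ := ca_nine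
  have hi : ∀ i : Fin T.rank, i.val = 0 ∨ i.val = 1 := fun i => by have := i.2; omega
  have e := hfix
  rw [dU_conj_X hT (isChar_prod hT f) (lt12 (by norm_num)), mul_left_inj] at e
  have e1 := xU_inj hT (lt12 (by norm_num)) e
  rw [mul_one, Units.val_eq_one, Finset.prod_eq_single ⟨0, by omega⟩] at e1
  · simp only [h0, zpow_one] at e1
    have hkey : (T.dU fun s => ∏ i, f i ^ T.ca i s : GL T.I F) =
        T.dU (T.hCh (T.simple 1) (f ⟨1, by omega⟩)) := dU_congr fun s _ => by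
      rw [Finset.prod_eq_single ⟨1, by omega⟩]
      · simp [hCh, pair_simple hT (show 1 < T.rank by omega)]
      · intro b _ hb
        rcases hi b with hb0 | hb1
        · rw [show b = ⟨0, by omega⟩ from Fin.ext hb0, e1, one_zpow]
        · exact absurd (Fin.ext hb1) hb
      · simp
    rw [hkey, ← hU_eq hT (simple_lt hT (by omega)) (f ⟨1, by omega⟩), hs]
    exact mul_mem (nU_mem_K _) (nU_mem_K _)
  · intro b _ hb
    rcases hi b with hb0 | hb1
    · exact absurd (Fin.ext hb0) hb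
    · rw [hb1, h1, zpow_zero]
  · simp

theorem monomial_mem_K {m : GL T.I F} (hm : m ∈ T.datum.monomialSubgroup F)
    {w : Equiv.Perm (Fin T.n)} (hw : w ∈ T.WP hT) (hmw : T.Mono m w)
    (h9 : (w ⟨9, lt12 (by norm_num)⟩).val = 9) (hfix : m * xx 9 1 = xx 9 1 * m) :
    m ∈ T.rootGen F (· ∈ KRoots) := by
  have hdom : ∀ r ∈ ([9] : List ℕ), r < T.n ∧ Dominant T r := fun r hr => by
    rw [List.mem_singleton] at hr
    subst hr
    exact ⟨lt12 (by norm_num), fun i hi =>
      of_decide_eq_true (List.all_eq_true.mp dom_nine i (List.mem_range.mpr hi))⟩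
  have hwJ := (dominant_le hT hdom w hw).2 fun r hr j _ => by
    rw [List.mem_singleton] at hr
    subst hr
    rw [h9]
  rw [orth_nine] at hwJ
  have hex : ∃ a ∈ T.rootGen F (· ∈ KRoots), a ∈ T.datum.monomialSubgroup F ∧ T.Mono a w := by
    clear hmw h9 hw
    induction hwJ using Subgroup.closure_induction with
    | mem x hx =>
      obtain ⟨i, hi, rfl⟩ := hx
      rw [Finset.mem_singleton] at hi
      refine ⟨_, ?_, nU_simple_mem_N hT i, mono_nU_simple hT i⟩
      rw [hi, ca_nine.2.2.2.1]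
      exact nU_mem_K 1
    | one => exact ⟨1, one_mem _, one_mem _, Mono.one⟩
    | mul x y _ _ hx hy =>
      obtain ⟨a, a1, a2, a3⟩ := hx
      obtain ⟨b, b1, b2, b3⟩ := hy
      exact ⟨a * b, mul_mem a1 b1, mul_mem a2 b2, a3.mul b3⟩
    | inv x _ hx =>
      obtain ⟨a, a1, a2, a3⟩ := hx
      exact ⟨a⁻¹, inv_mem a1, inv_mem a2, a3.inv⟩
  obtain ⟨a, ha, haN, haM⟩ := hex
  have hd : m * a⁻¹ ∈ T.datum.diagonalSubgroup F := by
    refine mem_diag_of_mono_one hT (mul_mem hm (inv_mem haN)) ?_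
    have := hmw.mul haM.inv
    rwa [mul_inv_cancel] at this
  have hd' := diag_mem_K hd (by rw [mul_assoc, K_commute (inv_mem ha), ← mul_assoc, hfix, mul_assoc])
  have := mul_mem hd' ha
  rwa [inv_mul_cancel_right] at this

/-- The centralizer of the highest short root involution. -/
theorem centralizer_short {g : GL T.I F} :
    (g ∈ T.datum.group F ∧ g * xx 9 1 = xx 9 1 * g) ↔ g ∈ T.rootGen F (· ∈ KRoots) := by
  refine ⟨fun ⟨hg, hfix⟩ => ?_, fun hg => ⟨rootGen_le (fun _ hr _ t => xU_mem_group hT hr t) hg,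
    K_commute hg⟩⟩
  obtain ⟨b, hb, n, hn, w, hw, hm, u', hu', e⟩ := exists_canonical hT hC hg
  obtain ⟨u, hu, h, hh, rfl⟩ := (mem_borel_iff hT).mp hb
  have hu6 : u ∈ Ge F 6 := by
    rw [posUnipotent_rootGen hT, half_eq] at hu; exact hu
  have hu6' : u' ∈ Ge F 6 := by
    refine rootGen_mono (fun r _ hr => ?_) hu'
    obtain ⟨_, h, _⟩ := hr
    rwa [half_eq] at h
  obtain ⟨p, y, hy, rfl⟩ := ge_split le_rfl (by norm_num) hu6
  obtain ⟨p', y', hy', hyp⟩ := ge_split le_rfl (by norm_num) (inv_mem hu6')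
  have hx6 : ∀ v : F, xx 6 v ∈ T.rootGen F (· ∈ KRoots) := fun v =>
    xm (P := (· ∈ KRoots)) 6 (by norm_num) (by simp [KRoots]) v
  set m := h * n with hmdef
  have hmmono : T.Mono m w := by simpa using (mono_diag hT hh).mul hm
  -- strip the factors of the centralizer
  set g' := (xx 6 p)⁻¹ * g * xx 6 p' with hg'def
  have hg' : g' = y * m * y'⁻¹ := by
    have hu'e : u' = y'⁻¹ * (xx 6 p')⁻¹ := by rw [← mul_inv_rev, ← hyp, inv_inv]
    rw [hg'def, e, hu'e, hmdef]; group
  have hfix' : g' * xx 9 1 = xx 9 1 * g' := by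
    rw [hg'def, mul_assoc, K_commute (hx6 p'), ← mul_assoc, mul_assoc (xx 6 p)⁻¹ g, hfix, ← mul_assoc,
      K_commute (inv_mem (hx6 p))]
    group
  have key : m * (y'⁻¹ * xx 9 1 * (y'⁻¹)⁻¹) * m⁻¹ = y⁻¹ * xx 9 1 * (y⁻¹)⁻¹ := by
    rw [hg', ← eq_mul_inv_iff_mul_eq] at hfix'
    rw [inv_inv, inv_inv]
    calc m * (y'⁻¹ * xx 9 1 * y') * m⁻¹ = y⁻¹ * ((y * m * y'⁻¹) * xx 9 1 * (y * m * y'⁻¹)⁻¹) * y := by
          group
      _ = y⁻¹ * xx 9 1 * y := by
          rw [show (y * m * y'⁻¹) * xx 9 1 = xx 9 1 * (y * m * y'⁻¹) from by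
            rw [eq_mul_inv_iff_mul_eq] at hfix'; exact hfix', mul_inv_cancel_right]
  obtain ⟨a', b', -, -, -, e'⟩ := conj_nine (inv_mem hy')
  obtain ⟨a, b, -, -, -, e''⟩ := conj_nine (inv_mem hy)
  rw [e', e''] at key
  obtain ⟨h9, hmfix⟩ := short_fixed hw hmmono key
  have hmK := monomial_mem_K (mul_mem (diag_le_N hT hh) hn) hw hmmono h9 hmfix
  set z := y * (m * y'⁻¹ * m⁻¹) with hz
  have hz7 : z ∈ Ge F 7 := mul_mem hy (K_conj hmK (inv_mem hy'))
  have hgz : g' = z * m := by rw [hg', hz]; group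
  obtain ⟨s, r, n', hn', ez, econj⟩ := conj_nine hz7
  have hzfix : z * xx 9 1 * z⁻¹ = xx 9 1 := by
    have hc : Commute z (xx 9 1) := by
      rw [show z = g' * m⁻¹ by rw [hgz, mul_inv_cancel_right]]
      exact Commute.mul_left hfix' (K_commute (inv_mem hmK))
    rw [hc.eq, mul_inv_cancel_right]
  rw [hzfix, mul_assoc] at econj
  have h1011 : xx 10 s * xx 11 r = 1 := mul_left_cancel (a := xx 9 1) (by rw [← econj, mul_one])
  obtain ⟨hs, h11⟩ := ge_coef_zero (k := 10) (by norm_num) (by norm_num)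
    (xm (P := fun r => 11 ≤ r) 11 (by norm_num) le_rfl r) (one_mem _) h1011
  rw [← x_zero (F := F) (show 11 < 12 by norm_num)] at h11
  have hr := xU_inj hT (lt12 (by norm_num)) h11
  rw [hs, hr, x_zero (by norm_num), x_zero (by norm_num), one_mul, one_mul] at ez
  have hzK : z ∈ T.rootGen F (· ∈ KRoots) := by
    rw [ez]
    exact rootGen_mono (fun q hq h => by rw [n_eq] at hq; interval_cases q <;> simp [KRoots]) hn'
  have hgK : g' ∈ T.rootGen F (· ∈ KRoots) := by rw [hgz]; exact mul_mem hzK hmK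
  have : g = xx 6 p * g' * (xx 6 p')⁻¹ := by rw [hg'def]; group
  rw [this]
  exact mul_mem (mul_mem (hx6 p) hgK) (inv_mem (hx6 p'))

theorem long_cond : chkCentral T [11] = true := by decide +kernel

theorem long_gen : ((List.range T.n).all fun s => decide (s ∈ [4] ↔
    ∃ j ∈ orthSimple T [11], s = T.neg (T.simple j))) = true := by decide +kernel

/-- Both centralizers. -/
theorem centralizers (z t : GL T.I F) (hz : (z : Matrix T.I T.I F) = T.datum.x F 11 1)
    (ht : (t : Matrix T.I T.I F) = T.datum.x F 9 1) :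
    T.datum.group F ⊓ Subgroup.centralizer {z} = T.datum.posUnipotent F ⊔ T.datum.rootSubgroup F 4 ∧
      T.datum.group F ⊓ Subgroup.centralizer {t} = T.datum.rootSubgroup F 9 ⊔
        T.datum.rootSubgroup F 10 ⊔ T.datum.rootSubgroup F 11 ⊔ T.datum.rootSubgroup F 6 ⊔
        T.datum.rootSubgroup F 5 := by
  constructor
  · rw [centralizer_root hT hC (centralCond_of_chk long_cond) hz,
      rootGen_list hT (M := [4]) (fun s hs =>
        of_decide_eq_true (List.all_eq_true.mp long_gen s (List.mem_range.mpr hs))),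
      ← rootGen_eq_singleton hT (lt12 (show 4 < 12 by norm_num))]
    simp only [List.mem_singleton]
  · rw [(eq_x_iff hT (lt12 (show 9 < 12 by norm_num)) 1 t).mp ht,
      ← rootGen_eq_singleton hT (lt12 (show 9 < 12 by norm_num)),
      sup_rootSubgroup hT _ (lt12 (show 10 < 12 by norm_num)),
      sup_rootSubgroup hT _ (lt12 (show 11 < 12 by norm_num)),
      sup_rootSubgroup hT _ (lt12 (show 6 < 12 by norm_num)),
      sup_rootSubgroup hT _ (lt12 (show 5 < 12 by norm_num))]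
    rw [rootGen_congr (P := fun s => (((s = 9 ∨ s = 10) ∨ s = 11) ∨ s = 6) ∨ s = 5)
      (Q := (· ∈ KRoots)) (fun r _ => by simp [KRoots]; tauto)]
    ext g
    rw [Subgroup.mem_inf, Subgroup.mem_centralizer_singleton_iff]
    exact centralizer_short

end CfsgLib.KnownA.G2ShortRoot
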