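import Cfsg.Agent.Lib.KnownA.G2CayleyDickson
import Cfsg.Agent.Lib.Classical.LinearTwoSylow
import Cfsg.Agent.Lib.Involution.GL2SylowTwo

/-!
A Sylow two-subgroup of `G₂(q)`, `q` odd, inside the centraliser of an involution.
-/

set_option autoImplicit false
set_option linter.unusedSectionVars false

namespace CfsgLib.KnownA.G2Sylow

open Matrix CfsgLib.KnownA.G2CayleyDickson
open CfsgLib.Classical CfsgLib.Classical.WreathGL
open CfsgLib.Involution.GL2SylowTwo
open scoped MatrixGroups commutatorElement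

variable {F : Type*} [Field F] [Fintype F]

local notation "M2" => Matrix (Fin 2) (Fin 2) F

/-- Only the scalars commute with two non-commuting matrices of size two. -/
theorem scalar_of_commute {A B C : M2} (hAB : A * B ≠ B * A) (hA : C * A = A * C) (hB : C * B = B * C) :
    ∀ X : M2, C * X = X * C := by
  have eA := fun i j => congrFun (congrFun hA i) j
  have eB := fun i j => congrFun (congrFun hB i) j
  simp only [Matrix.mul_apply, Fin.sum_univ_two] at eA eB
  have a00 := eA 0 0; have a01 := eA 0 1; have a10 := eA 1 0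
  have b00 := eB 0 0; have b01 := eB 0 1; have b10 := eB 1 0
  have key : ∀ i j, (A * B - B * A) i j ≠ 0 →
      C 0 1 = 0 ∧ C 1 0 = 0 ∧ C 0 0 = C 1 1 := by
    intro i j hne
    simp only [Matrix.sub_apply, Matrix.mul_apply, Fin.sum_univ_two] at hne
    refine ⟨?_, ?_, sub_eq_zero.1 ?_⟩ <;> refine (mul_eq_zero.1 ?_).resolve_right hne <;>
      fin_cases i <;> fin_cases j <;> dsimp <;> grind
  obtain ⟨i, j, hne⟩ : ∃ i j, (A * B - B * A) i j ≠ 0 := by
    by_contra h
    push Not at h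
    exact hAB (sub_eq_zero.1 (Matrix.ext fun i j => h i j))
  obtain ⟨h1, h2, h3⟩ := key i j hne
  intro X
  ext k l
  fin_cases k <;> fin_cases l <;> simp [Matrix.mul_apply, Fin.sum_univ_two, h1, h2, h3] <;> ring

/-- Scalars, as a subgroup. -/
abbrev scalars : Subgroup (GL (Fin 2) F) := Subgroup.center (GL (Fin 2) F)

theorem mem_scalars {c : GL (Fin 2) F} (h : ∀ x : M2, (c : M2) * x = x * (c : M2)) : c ∈ scalars (F := F) :=
  Subgroup.mem_center_iff.2 fun g => Units.ext (h g).symm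

theorem commute_scalars {c : GL (Fin 2) F} (hc : c ∈ scalars (F := F)) : ∀ x : M2, (c : M2) * x = x * (c : M2) := by
  rw [scalars, Matrix.GeneralLinearGroup.center_eq_range_scalar] at hc
  obtain ⟨r, rfl⟩ := hc
  intro x
  ext i j
  simp [Matrix.GeneralLinearGroup.scalar, Matrix.diagonal_mul, Matrix.mul_diagonal, mul_comm]

theorem psi_scalar {c : GL (Fin 2) F} (hc : c ∈ scalars (F := F)) : Ψ c = 1 :=
  ext_G2 fun x y => by
    rw [apply_psi]
    show _ = (1 : Matrix (Fin 8) (Fin 8) F) *ᵥ _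
    rw [Matrix.one_mulVec, commute_scalars hc x, commute_scalars hc y]
    simp [mul_assoc]

theorem apply_comp (a b : Cfsg.Lie.G2 F) (v : Fin 8 → F) :
    (((a * b : Cfsg.Lie.G2 F) : GL (Fin 8) F) : Matrix (Fin 8) (Fin 8) F) *ᵥ v =
      ((a : GL (Fin 8) F) : Matrix (Fin 8) (Fin 8) F) *ᵥ (((b : GL (Fin 8) F) : Matrix (Fin 8) (Fin 8) F) *ᵥ v) :=
  (Matrix.mulVec_mulVec v _ _).symm

theorem iota_injective : Function.Injective (ι (F := F)) := by
  rw [injective_iff_map_eq_one]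
  intro p hp
  exact (psi_mul_iota_eq_one (c := 1) (by rw [map_one, one_mul, hp])).2

/-- A Sylow subgroup of `GL₂` containing a given monomial group meets `SL₂` in a Sylow subgroup. -/
theorem exists_sylow_pair (hF : Odd (Fintype.card F)) :
    ∃ (S : Sylow 2 (GL (Fin 2) F)) (T : Sylow 2 SL(2, F)) (z : Fˣ),
      (T : Subgroup SL(2, F)) = (S : Subgroup (GL (Fin 2) F)).comap SpecialLinearGroup.toGL ∧
      sw ∈ (S : Subgroup (GL (Fin 2) F)) ∧ dg (z, (1 : Fˣ)) ∈ (S : Subgroup (GL (Fin 2) F)) ∧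
      dg (z, z) ∈ (S : Subgroup (GL (Fin 2) F)) ∧
      ∀ g ∈ (S : Subgroup (GL (Fin 2) F)), GeneralLinearGroup.det g ∈ Subgroup.zpowers z := by
  classical
  haveI : Fact (Nat.Prime 2) := ⟨Nat.prime_two⟩
  obtain ⟨A⟩ := (inferInstance : Nonempty (Sylow 2 Fˣ))
  obtain ⟨z, hzgen⟩ : ∃ z : Fˣ, Subgroup.zpowers z = (A : Subgroup Fˣ) :=
    (Subgroup.isCyclic_iff_exists_zpowers_eq_top (A : Subgroup Fˣ)).1 inferInstance
  let W : Subgroup (GL (Fin 2) F) :=
    { carrier := {g | ∃ a ∈ (A : Subgroup Fˣ), ∃ b ∈ (A : Subgroup Fˣ), g = dg (a, b) ∨ g = dg (a, b) * sw}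
      one_mem' := ⟨1, one_mem _, 1, one_mem _, Or.inl (by rw [← map_one dg]; rfl)⟩
      mul_mem' := by
        rintro _ _ ⟨a, ha, b, hb, h | h⟩ ⟨a', ha', b', hb', h' | h'⟩ <;> subst h <;> subst h'
        · exact ⟨_, mul_mem ha ha', _, mul_mem hb hb', Or.inl (by rw [← map_mul]; rfl)⟩
        · exact ⟨_, mul_mem ha ha', _, mul_mem hb hb', Or.inr (by rw [← mul_assoc, ← map_mul]; rfl)⟩
        · refine ⟨_, mul_mem ha hb', _, mul_mem hb ha', Or.inr ?_⟩
          calc dg (a, b) * sw * dg (a', b') = dg (a, b) * (sw * dg (a', b') * sw⁻¹) * sw := by group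
            _ = _ := by rw [sw_conj, ← map_mul]; rfl
        · refine ⟨_, mul_mem ha hb', _, mul_mem hb ha', Or.inl ?_⟩
          have hsw : (sw : GL (Fin 2) F) * sw = 1 := by
            have := pow_orderOf_eq_one (sw : GL (Fin 2) F)
            rwa [orderOf_sw, pow_two] at this
          calc dg (a, b) * sw * (dg (a', b') * sw) = dg (a, b) * (sw * dg (a', b') * sw⁻¹) * (sw * sw) := by group
            _ = _ := by rw [sw_conj, hsw, mul_one, ← map_mul]; rfl
      inv_mem' := by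
        rintro _ ⟨a, ha, b, hb, h | h⟩ <;> subst h
        · exact ⟨_, inv_mem ha, _, inv_mem hb, Or.inl (by rw [← map_inv]; rfl)⟩
        · refine ⟨_, inv_mem hb, _, inv_mem ha, Or.inr ?_⟩
          have hsw : (sw : GL (Fin 2) F)⁻¹ = sw := by
            have := pow_orderOf_eq_one (sw : GL (Fin 2) F)
            rw [orderOf_sw, pow_two] at this
            exact inv_eq_of_mul_eq_one_right this
          rw [_root_.mul_inv_rev, ← map_inv]
          rw [hsw, show ((a, b) : Fˣ × Fˣ)⁻¹ = (a⁻¹, b⁻¹) from rfl]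
          exact mul_inv_eq_iff_eq_mul.1 (sw_conj a⁻¹ b⁻¹) }
  have hW : IsPGroup 2 W := by
    intro g
    obtain ⟨a, ha, b, hb, h⟩ := g.2
    have hd : ∀ u ∈ (A : Subgroup Fˣ), ∀ v ∈ (A : Subgroup Fˣ), ∃ k, (dg (u, v)) ^ 2 ^ k = 1 := by
      intro u hu v hv
      obtain ⟨k, hk⟩ := A.isPGroup' ⟨u, hu⟩
      obtain ⟨l, hl⟩ := A.isPGroup' ⟨v, hv⟩
      refine ⟨k + l, ?_⟩
      rw [← map_pow, ← map_one dg]
      congr 1
      refine Prod.ext ?_ ?_
      · show u ^ 2 ^ (k + l) = 1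
        rw [pow_add, pow_mul, show u ^ 2 ^ k = 1 from congrArg Subtype.val hk, one_pow]
      · show v ^ 2 ^ (k + l) = 1
        rw [pow_add, mul_comm, pow_mul, show v ^ 2 ^ l = 1 from congrArg Subtype.val hl, one_pow]
    rcases h with h | h
    · obtain ⟨k, hk⟩ := hd a ha b hb
      exact ⟨k, Subtype.ext (by rw [Subgroup.coe_pow, h, hk]; rfl)⟩
    · obtain ⟨k, hk⟩ := hd (a * b) (mul_mem ha hb) (b * a) (mul_mem hb ha)
      refine ⟨k + 1, Subtype.ext ?_⟩
      have hsw : (sw : GL (Fin 2) F) * sw = 1 := by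
        have := pow_orderOf_eq_one (sw : GL (Fin 2) F)
        rwa [orderOf_sw, pow_two] at this
      rw [Subgroup.coe_pow, h, pow_succ', pow_mul, pow_two]
      have e : dg (a, b) * sw * (dg (a, b) * sw) = dg (a * b, b * a) := by
        calc dg (a, b) * sw * (dg (a, b) * sw) = dg (a, b) * (sw * dg (a, b) * sw⁻¹) * (sw * sw) := by group
          _ = _ := by rw [sw_conj, hsw, mul_one, ← map_mul]; rfl
      rw [e, hk]; rfl
  obtain ⟨S, hS⟩ := hW.exists_le_sylow
  have hzA : z ∈ (A : Subgroup Fˣ) := hzgen ▸ Subgroup.mem_zpowers z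
  have hT₀ : IsPGroup 2 ((S : Subgroup (GL (Fin 2) F)).comap SpecialLinearGroup.toGL) :=
    S.isPGroup'.comap_of_injective _ toGL_inj
  obtain ⟨T, hT⟩ := hT₀.exists_le_sylow
  have hTeq : (S : Subgroup (GL (Fin 2) F)).comap SpecialLinearGroup.toGL = T := by
    refine Subgroup.eq_of_le_of_card_ge hT ?_
    obtain ⟨S', hS'⟩ := ((T.isPGroup').map SpecialLinearGroup.toGL).exists_le_sylow
    obtain ⟨u, hu⟩ := MulAction.exists_smul_eq (GL (Fin 2) F) S S'
    have hmem : ∀ x : T, ∃ y, y ∈ (S : Subgroup (GL (Fin 2) F)).comap SpecialLinearGroup.toGL ∧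
        SpecialLinearGroup.toGL y = u⁻¹ * SpecialLinearGroup.toGL (x : SL(2, F)) * u := by
      intro x
      have hx : SpecialLinearGroup.toGL (x : SL(2, F)) ∈ (S' : Subgroup (GL (Fin 2) F)) :=
        hS' (Subgroup.mem_map_of_mem _ x.2)
      rw [← hu, Sylow.coe_subgroup_smul, Subgroup.mem_pointwise_smul_iff_inv_smul_mem] at hx
      have hx' : u⁻¹ * SpecialLinearGroup.toGL (x : SL(2, F)) * u ∈ (S : Subgroup (GL (Fin 2) F)) := by
        simpa [MulAut.smul_def] using hx
      have hk : u⁻¹ * SpecialLinearGroup.toGL (x : SL(2, F)) * u ∈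
          (GeneralLinearGroup.det : GL (Fin 2) F →* Fˣ).ker := by
        rw [MonoidHom.mem_ker, map_mul, map_mul, map_inv, mul_comm, ← mul_assoc, mul_inv_cancel, one_mul]
        exact Units.ext (x : SL(2, F)).2
      rw [ker_glDet_eq_range_toGL] at hk
      obtain ⟨y, hy⟩ := hk
      exact ⟨y, by rw [Subgroup.mem_comap, hy]; exact hx', hy⟩
    choose f hf1 hf2 using hmem
    refine Nat.card_le_card_of_injective (fun x => (⟨f x, hf1 x⟩ :
      (S : Subgroup (GL (Fin 2) F)).comap SpecialLinearGroup.toGL)) fun x y h => ?_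
    have := congrArg (fun w : (S : Subgroup (GL (Fin 2) F)).comap SpecialLinearGroup.toGL =>
      SpecialLinearGroup.toGL (w : SL(2, F))) h
    simp only [hf2] at this
    exact Subtype.ext (toGL_inj (mul_left_cancel (mul_right_cancel this)))
  refine ⟨S, T, z, hTeq.symm, hS ⟨1, one_mem _, 1, one_mem _, Or.inr (by rw [show dg ((1 : Fˣ), (1 : Fˣ)) = 1 from map_one dg, one_mul])⟩,
    hS ⟨z, hzA, 1, one_mem _, Or.inl rfl⟩, hS ⟨z, hzA, z, hzA, Or.inl rfl⟩, fun g hg => ?_⟩
  rw [hzgen]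
  have hp : IsPGroup 2 ((S : Subgroup (GL (Fin 2) F)).map (GeneralLinearGroup.det : GL (Fin 2) F →* Fˣ)) :=
    S.isPGroup'.map _
  obtain ⟨A', hA'⟩ := hp.exists_le_sylow
  haveI := (Sylow.unique_of_normal A inferInstance)
  rw [show A = A' from Subsingleton.elim _ _]
  exact hA' (Subgroup.mem_map_of_mem _ hg)

variable [Finite (Cfsg.Lie.G2 F)]

theorem sylow_sq (hF : Odd (Fintype.card F)) (h2 : (2 : F) ≠ 0) (P : Sylow 2 (Cfsg.Lie.G2 F))
    (x : (P : Subgroup (Cfsg.Lie.G2 F))) : x ^ 2 ∈ commutator (P : Subgroup (Cfsg.Lie.G2 F)) := by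
  classical
  haveI : Fact (Nat.Prime 2) := ⟨Nat.prime_two⟩
  obtain ⟨S, T, z, hTS, hsw, hdd, hzz, hdet⟩ := exists_sylow_pair hF
  set toGL : SL(2, F) →* GL (Fin 2) F := SpecialLinearGroup.toGL
  set T₁ : Subgroup (Cfsg.Lie.G2 F) := (T : Subgroup SL(2, F)).map ι
  set D : Subgroup (Cfsg.Lie.G2 F) := (S : Subgroup (GL (Fin 2) F)).map Ψ
  have hTmem : ∀ q ∈ (T : Subgroup SL(2, F)), toGL q ∈ (S : Subgroup (GL (Fin 2) F)) := fun q hq => by
    rw [hTS] at hq; exact hq
  -- `D` normalises `T₁`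
  have hconjT : ∀ c ∈ (S : Subgroup (GL (Fin 2) F)), ∀ q ∈ (T : Subgroup SL(2, F)),
      ∃ q' ∈ (T : Subgroup SL(2, F)), toGL q' = c * toGL q * c⁻¹ ∧ ι q' * Ψ c = Ψ c * ι q := by
    intro c hc q hq
    have hk : c * toGL q * c⁻¹ ∈ (GeneralLinearGroup.det : GL (Fin 2) F →* Fˣ).ker := by
      rw [MonoidHom.mem_ker, map_mul, map_mul, map_inv, mul_comm, ← mul_assoc, inv_mul_cancel, one_mul]
      exact Units.ext q.2
    rw [ker_glDet_eq_range_toGL] at hk
    obtain ⟨q', hq'⟩ := hk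
    have hqT : q' ∈ (T : Subgroup SL(2, F)) := by
      rw [hTS, Subgroup.mem_comap, hq']
      exact mul_mem (mul_mem hc (hTmem q hq)) (inv_mem hc)
    refine ⟨q', hqT, hq', iota_psi c q q' ?_⟩
    have e : toGL q' * c = c * toGL q := by
      rw [show toGL q' = c * toGL q * c⁻¹ from hq', inv_mul_cancel_right]
    exact (congrArg Units.val e).symm
  have hnorm : D ≤ Subgroup.normalizer (T₁ : Set (Cfsg.Lie.G2 F)) := by
    have hone : ∀ c ∈ (S : Subgroup (GL (Fin 2) F)), ∀ w ∈ T₁, Ψ c * w * (Ψ c)⁻¹ ∈ T₁ := by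
      rintro c hc _ ⟨q, hq, rfl⟩
      obtain ⟨q', hq', -, h⟩ := hconjT c hc q hq
      rw [← h, mul_inv_cancel_right]
      exact Subgroup.mem_map_of_mem _ hq'
    rintro _ ⟨c, hc, rfl⟩
    rw [Subgroup.mem_normalizer_iff]
    refine fun w => ⟨fun hw => hone c hc w hw, fun hw => ?_⟩
    have := hone c⁻¹ (inv_mem hc) _ hw
    rwa [map_inv, inv_inv, ← mul_assoc, ← mul_assoc, inv_mul_cancel, one_mul, inv_mul_cancel_right] at this
  set P₀ : Subgroup (Cfsg.Lie.G2 F) := T₁ ⊔ D with hP₀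
  have hP₀p : IsPGroup 2 P₀ :=
    IsPGroup.to_sup_of_normal_left' (T.isPGroup'.map ι) (S.isPGroup'.map Ψ) hnorm
  have hιmem : ∀ q ∈ (T : Subgroup SL(2, F)), ι q ∈ P₀ := fun q hq =>
    Subgroup.mem_sup_left (Subgroup.mem_map_of_mem _ hq)
  have hΨmem : ∀ c ∈ (S : Subgroup (GL (Fin 2) F)), Ψ c ∈ P₀ := fun c hc =>
    Subgroup.mem_sup_right (Subgroup.mem_map_of_mem _ hc)
  -- two non-commuting elements
  obtain ⟨qa, hqa, qb, hqb, hab⟩ : ∃ qa ∈ (T : Subgroup SL(2, F)), ∃ qb ∈ (T : Subgroup SL(2, F)),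
      (qa : M2) * (qb : M2) ≠ (qb : M2) * (qa : M2) := by
    obtain ⟨k, hk, -, ⟨e⟩⟩ := sl2_sylow_two hF T
    refine ⟨_, (e.symm (QuaternionGroup.a 1)).2, _, (e.symm (QuaternionGroup.xa 0)).2, fun h => ?_⟩
    have h' : e.symm (QuaternionGroup.a 1) * e.symm (QuaternionGroup.xa 0) =
        e.symm (QuaternionGroup.xa 0) * e.symm (QuaternionGroup.a 1) := Subtype.ext (Subtype.ext h)
    rw [← map_mul, ← map_mul, QuaternionGroup.a_mul_xa, QuaternionGroup.xa_mul_a] at h'
    have h1 := e.symm.injective h'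
    simp only [QuaternionGroup.xa.injEq, zero_add] at h1
    have h4 : (2 : ℕ) < 2 * 2 ^ k := by
      have := Nat.pow_le_pow_right (show 0 < 2 by norm_num) hk
      omega
    have h5 : ((2 : ℕ) : ZMod (2 * 2 ^ k)) = 0 := by push_cast; linear_combination -h1
    exact absurd (Nat.le_of_dvd (by norm_num) ((ZMod.natCast_eq_zero_iff _ _).1 h5)) (by omega)
  set t : Cfsg.Lie.G2 F := ι (-1)
  have hneg : ∀ p : SL(2, F), p * (-1) = -1 * p := fun p => Subtype.ext (by simp)
  have hnegT : (-1 : SL(2, F)) ∈ (T : Subgroup SL(2, F)) := by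
    have hp : IsPGroup 2 (Subgroup.zpowers (-1 : SL(2, F))) := by
      rintro ⟨w, k, rfl⟩
      refine ⟨1, Subtype.ext ?_⟩
      show ((-1 : SL(2, F)) ^ k) ^ 2 ^ 1 = 1
      rw [pow_one, ← zpow_natCast, ← _root_.zpow_mul, mul_comm, _root_.zpow_mul, zpow_natCast,
        show (-1 : SL(2, F)) ^ 2 = 1 from Subtype.ext (by simp [pow_two]), _root_.one_zpow]
    haveI : (Subgroup.zpowers (-1 : SL(2, F))).Normal := ⟨fun w hw g => by
      obtain ⟨k, rfl⟩ := hw
      have : Commute g ((-1 : SL(2, F)) ^ k) := Commute.zpow_right (hneg g) k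
      show g * (-1 : SL(2, F)) ^ k * g⁻¹ ∈ _
      rw [this.eq, mul_inv_cancel_right]
      exact ⟨k, rfl⟩⟩
    exact (T.is_maximal' (IsPGroup.to_sup_of_normal_left hp T.isPGroup') le_sup_right) ▸
      Subgroup.mem_sup_left (Subgroup.mem_zpowers _)
  have htP₀ : t ∈ P₀ := hιmem _ hnegT
  have hform : ∀ (c : GL (Fin 2) F) (p : SL(2, F)), (Ψ c * ι p) * t = t * (Ψ c * ι p) := fun c p => by
    have e1 : ι (-1) * Ψ c = Ψ c * ι (-1 : SL(2, F)) := iota_psi c (-1) (-1) (by simp)
    rw [mul_assoc, ← map_mul, hneg, map_mul, ← mul_assoc, ← mul_assoc, show t = ι (-1) from rfl, e1]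
  -- two-subgroups of the centraliser of `t`
  have hmax : ∀ R : Subgroup (Cfsg.Lie.G2 F), IsPGroup 2 R → P₀ ≤ R →
      (∀ r ∈ R, r * t = t * r) → R ≤ P₀ := by
    intro R hR hle hRt r hr
    let K : Subgroup (GL (Fin 2) F) :=
      { carrier := {c | ∃ p, Ψ c * ι p ∈ R}
        one_mem' := ⟨1, by simp⟩
        mul_mem' := by
          rintro c d ⟨p, hp⟩ ⟨q, hq⟩
          have hk : d⁻¹ * toGL p * d ∈ (GeneralLinearGroup.det : GL (Fin 2) F →* Fˣ).ker := by
            rw [MonoidHom.mem_ker, map_mul, map_mul, map_inv, mul_comm, ← mul_assoc, mul_inv_cancel, one_mul]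
            exact Units.ext p.2
          rw [ker_glDet_eq_range_toGL] at hk
          obtain ⟨p', hp'⟩ := hk
          have e : ι p * Ψ d = Ψ d * ι p' := iota_psi d p' p (by
            have e' : d * toGL p' = toGL p * d := by
              rw [show toGL p' = d⁻¹ * toGL p * d from hp', ← mul_assoc, ← mul_assoc, mul_inv_cancel, one_mul]
            exact congrArg Units.val e')
          refine ⟨p' * q, ?_⟩
          have : Ψ c * ι p * (Ψ d * ι q) = Ψ (c * d) * ι (p' * q) := by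
            rw [mul_assoc (Ψ c), ← mul_assoc (ι p), e, map_mul, map_mul]
            simp only [mul_assoc]
          exact this ▸ mul_mem hp hq
        inv_mem' := by
          rintro c ⟨p, hp⟩
          have hk : c * toGL p⁻¹ * c⁻¹ ∈ (GeneralLinearGroup.det : GL (Fin 2) F →* Fˣ).ker := by
            rw [MonoidHom.mem_ker, map_mul, map_mul, map_inv (GeneralLinearGroup.det : GL (Fin 2) F →* Fˣ) c, mul_comm, ← mul_assoc, inv_mul_cancel, one_mul]
            exact Units.ext p⁻¹.2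
          rw [ker_glDet_eq_range_toGL] at hk
          obtain ⟨p', hp'⟩ := hk
          refine ⟨p', ?_⟩
          have e : ι p⁻¹ * Ψ c⁻¹ = Ψ c⁻¹ * ι p' := iota_psi c⁻¹ p' p⁻¹ (by
            have e' : c⁻¹ * toGL p' = toGL p⁻¹ * c⁻¹ := by
              rw [show toGL p' = c * toGL p⁻¹ * c⁻¹ from hp', ← mul_assoc, ← mul_assoc, inv_mul_cancel, one_mul]
            exact congrArg Units.val e')
          rw [← e, map_inv, map_inv, ← _root_.mul_inv_rev]
          exact inv_mem hp }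
    have hSK : (S : Subgroup (GL (Fin 2) F)) ≤ K := fun c hc => ⟨1, by
      rw [map_one, mul_one]; exact hle (hΨmem c hc)⟩
    have hZK : scalars ≤ K := fun c hc => ⟨1, by rw [psi_scalar hc, map_one, one_mul]; exact one_mem _⟩
    set X : Subgroup (GL (Fin 2) F) := (S : Subgroup (GL (Fin 2) F)) ⊔ scalars with hX
    have hXK : X ≤ K := sup_le hSK hZK
    have hKX : K ≤ X := by
      rw [← Subgroup.relIndex_eq_one]
      have hodd : ¬ 2 ∣ X.relIndex K := fun h => S.not_dvd_index (by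
        have h1 : X.relIndex K ∣ (S : Subgroup (GL (Fin 2) F)).relIndex K :=
          Subgroup.relIndex_dvd_of_le_left K le_sup_left
        exact (h.trans h1).trans (Subgroup.relIndex_mul_index hSK ▸ dvd_mul_right _ _))
      have hpow : ∃ n, (scalars (F := F)).relIndex K = 2 ^ n := by
        have hp : IsPGroup 2 (K ⧸ (scalars (F := F)).subgroupOf K) := by
          intro w
          induction w using QuotientGroup.induction_on with
          | _ c =>
            obtain ⟨p, hp⟩ := c.2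
            obtain ⟨n, hn⟩ := hR ⟨_, hp⟩
            refine ⟨n, ?_⟩
            rw [← QuotientGroup.mk_pow, QuotientGroup.eq_one_iff, Subgroup.mem_subgroupOf, Subgroup.coe_pow]
            have hn' : (Ψ (c : GL (Fin 2) F) * ι p) ^ 2 ^ n = 1 := congrArg Subtype.val hn
            have hgen : ∀ m : ℕ, ∃ p' : SL(2, F),
                (Ψ (c : GL (Fin 2) F) * ι p) ^ m = Ψ ((c : GL (Fin 2) F) ^ m) * ι p' := by
              intro m
              induction m with
              | zero => exact ⟨1, by simp⟩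
              | succ m ih =>
                obtain ⟨p', hp'⟩ := ih
                have hk : (c : GL (Fin 2) F)⁻¹ * toGL p' * c ∈
                    (GeneralLinearGroup.det : GL (Fin 2) F →* Fˣ).ker := by
                  rw [MonoidHom.mem_ker, map_mul, map_mul, map_inv, mul_comm, ← mul_assoc, mul_inv_cancel, one_mul]
                  exact Units.ext p'.2
                rw [ker_glDet_eq_range_toGL] at hk
                obtain ⟨p'', hp''⟩ := hk
                have e : ι p' * Ψ (c : GL (Fin 2) F) = Ψ (c : GL (Fin 2) F) * ι p'' := iota_psi _ p'' p' (by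
                  have e' : (c : GL (Fin 2) F) * toGL p'' = toGL p' * c := by
                    rw [show toGL p'' = (c : GL (Fin 2) F)⁻¹ * toGL p' * c from hp'', ← mul_assoc, ← mul_assoc,
                      mul_inv_cancel, one_mul]
                  exact congrArg Units.val e')
                refine ⟨p'' * p, ?_⟩
                rw [pow_succ, hp', mul_assoc (Ψ _), ← mul_assoc (ι p'), e, pow_succ, map_mul, map_mul]
                simp only [mul_assoc]
            obtain ⟨p', hp'⟩ := hgen (2 ^ n)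
            exact mem_scalars (psi_mul_iota_eq_one (hp'.symm.trans hn')).1
        obtain ⟨n, hn⟩ := hp.exists_card_eq
        exact ⟨n, hn⟩
      obtain ⟨n, hn⟩ := hpow
      have hdvd : X.relIndex K ∣ 2 ^ n := hn ▸ Subgroup.relIndex_dvd_of_le_left K le_sup_right
      obtain ⟨m, -, hm⟩ := (Nat.dvd_prime_pow Nat.prime_two).1 hdvd
      rcases Nat.eq_zero_or_pos m with h0 | h0
      · rw [hm, h0, pow_zero]
      · exact absurd (hm ▸ dvd_pow_self 2 h0.ne') hodd
    obtain ⟨c, p, rfl⟩ := exists_decomp h2 (hRt r hr)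
    obtain ⟨s, hs, w, hw, rfl⟩ : ∃ s ∈ (S : Subgroup (GL (Fin 2) F)), ∃ w ∈ scalars (F := F), s * w = c := by
      have := hKX ⟨p, hr⟩
      rw [hX] at this
      exact Subgroup.mem_sup_of_normal_right.1 this
    rw [map_mul, psi_scalar hw, mul_one] at hr ⊢
    have hp : ι p ∈ R := by simpa using mul_mem (inv_mem (hle (hΨmem s hs))) hr
    have hpT : R.comap ι = (T : Subgroup SL(2, F)) :=
      T.is_maximal' (hR.comap_of_injective _ iota_injective) fun q hq => hle (hιmem q hq)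
    exact mul_mem (hΨmem s hs) (hιmem p (hpT ▸ hp))
  -- the centre of `P₀`
  have hcen : ∀ g ∈ P₀, (∀ h ∈ P₀, g * h = h * g) → g = 1 ∨ g = t := by
    intro g hg hgc
    obtain ⟨c, p, rfl⟩ := exists_decomp h2 (hgc t htP₀)
    have hcp : ∀ q ∈ (T : Subgroup SL(2, F)), (c : M2) * (p : M2) * (q : M2) = (q : M2) * ((c : M2) * (p : M2)) := by
      intro q hq
      have h := hgc _ (hιmem q hq)
      have e : (((Ψ c * ι p * ι q : Cfsg.Lie.G2 F) : GL (Fin 8) F) : Matrix (Fin 8) (Fin 8) F) *ᵥ Φ ((0 : M2), (1 : M2)) =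
          (((ι q * (Ψ c * ι p) : Cfsg.Lie.G2 F) : GL (Fin 8) F) : Matrix (Fin 8) (Fin 8) F) *ᵥ Φ ((0 : M2), (1 : M2)) := by
        rw [h]
      rw [mul_assoc, ← map_mul, apply_mul, apply_comp, apply_mul, apply_iota] at e
      have e2 := congrArg Prod.snd (Φ.injective e)
      simp only [mul_one, Matrix.SpecialLinearGroup.coe_mul] at e2
      calc (c : M2) * (p : M2) * (q : M2) = (c : M2) * ((p : M2) * (q : M2)) * ((c⁻¹ : GL (Fin 2) F) : M2) * (c : M2) := by
            simp [mul_assoc]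
        _ = _ := by rw [e2]; simp [mul_assoc]
    have hscal := scalar_of_commute hab (hcp qa hqa) (hcp qb hqb)
    -- `c * p` is scalar
    have hcs : c * toGL p ∈ scalars (F := F) := mem_scalars fun y => hscal y
    have hpc : ∀ q ∈ (T : Subgroup SL(2, F)), (p : M2) * (q : M2) = (q : M2) * (p : M2) := by
      intro q hq
      have h := hgc _ (hΨmem _ (hTmem q hq))
      have e : (((Ψ c * ι p * Ψ (toGL q) : Cfsg.Lie.G2 F) : GL (Fin 8) F) : Matrix (Fin 8) (Fin 8) F) *ᵥ Φ ((0 : M2), (1 : M2)) =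
          (((Ψ (toGL q) * (Ψ c * ι p) : Cfsg.Lie.G2 F) : GL (Fin 8) F) : Matrix (Fin 8) (Fin 8) F) *ᵥ Φ ((0 : M2), (1 : M2)) := by
        rw [h]
      rw [apply_comp (Ψ c * ι p), apply_psi, apply_mul, apply_comp, apply_mul, apply_psi] at e
      have e2 := congrArg Prod.snd (Φ.injective e)
      simp only [mul_one, Units.mul_inv] at e2
      have e3 : (c : M2) * (p : M2) * ((c⁻¹ : GL (Fin 2) F) : M2) * (toGL q : GL (Fin 2) F).1 =
          (toGL q : GL (Fin 2) F).1 * ((c : M2) * (p : M2) * ((c⁻¹ : GL (Fin 2) F) : M2)) := by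
        conv_lhs => rw [e2]
        simp [mul_assoc]
      have e4 : (c : M2) * (p : M2) * ((c⁻¹ : GL (Fin 2) F) : M2) = (p : M2) := by
        have := hscal ((c⁻¹ : GL (Fin 2) F) : M2)
        rw [this]; simp
      rw [e4] at e3
      exact e3
    have hps := scalar_of_commute hab (hpc qa hqa) (hpc qb hqb)
    have hpscal : toGL p ∈ scalars (F := F) := mem_scalars fun y => hps y
    have hc1 : c ∈ scalars (F := F) := by
      have := mul_mem hcs (inv_mem hpscal)
      rwa [mul_inv_cancel_right] at this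
    rw [psi_scalar hc1, one_mul]
    have h01 : (p : M2) 0 1 = 0 ∧ (p : M2) 1 0 = 0 ∧ (p : M2) 0 0 = (p : M2) 1 1 := by
      have e1 := congrFun (congrFun (hps !![1, 0; 0, 0]) 0) 1
      have e2 := congrFun (congrFun (hps !![1, 0; 0, 0]) 1) 0
      have e3 := congrFun (congrFun (hps !![0, 1; 0, 0]) 0) 1
      simp [Matrix.mul_apply, Fin.sum_univ_two] at e1 e2 e3
      exact ⟨e1.symm, e2, e3⟩
    have hd := p.2
    rw [Matrix.det_fin_two, h01.1, h01.2.1, h01.2.2, mul_zero, sub_zero] at hd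
    rcases mul_self_eq_one_iff.1 hd with h | h
    · left
      rw [show p = 1 from Subtype.ext (Matrix.ext fun i j => by
        fin_cases i <;> fin_cases j <;> simp [h01.1, h01.2.1, h01.2.2, h]), map_one]
    · right
      rw [show p = -1 from Subtype.ext (Matrix.ext fun i j => by
        fin_cases i <;> fin_cases j <;> simp [h01.1, h01.2.1, h01.2.2, h])]
  -- `P₀` is a Sylow subgroup
  obtain ⟨P₁, hP₁⟩ := hP₀p.exists_le_sylow
  have hP₀C : ∀ r ∈ P₀, r * t = t * r := by
    have hle : P₀ ≤ Subgroup.centralizer ({t} : Set (Cfsg.Lie.G2 F)) := sup_le (by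
        rintro _ ⟨q, -, rfl⟩
        rw [Subgroup.mem_centralizer_singleton_iff]
        have := hform 1 q
        rwa [map_one, one_mul] at this) (by
        rintro _ ⟨c, -, rfl⟩
        rw [Subgroup.mem_centralizer_singleton_iff]
        have := hform c 1
        rwa [map_one, mul_one] at this)
    exact fun r hr => Subgroup.mem_centralizer_singleton_iff.1 (hle hr)
  have ht1 : t ≠ 1 := fun h => by
    have := congrArg (fun p : SL(2, F) => (p : M2) 0 0) (iota_injective (h.trans (map_one ι).symm))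
    simp at this
    exact h2 (by linear_combination -this)
  have hP₁C : ∀ r ∈ (P₁ : Subgroup (Cfsg.Lie.G2 F)), r * t = t * r := by
    haveI : Nontrivial (P₁ : Subgroup (Cfsg.Lie.G2 F)) :=
      ⟨⟨⟨t, hP₁ htP₀⟩, 1, fun h => ht1 (congrArg Subtype.val h)⟩⟩
    obtain ⟨⟨w, hwc⟩, hw1⟩ :=
      Subgroup.ne_bot_iff_exists_ne_one.1 (((Subgroup.nontrivial_iff_ne_bot _).1 P₁.isPGroup'.center_nontrivial))
    have hwne : (w : Cfsg.Lie.G2 F) ≠ 1 := fun h => hw1 (Subtype.ext (Subtype.ext h))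
    have hwc' : ∀ r ∈ (P₁ : Subgroup (Cfsg.Lie.G2 F)), r * (w : Cfsg.Lie.G2 F) = w * r := fun r hr =>
      congrArg Subtype.val (Subgroup.mem_center_iff.1 hwc ⟨r, hr⟩)
    set R : Subgroup (Cfsg.Lie.G2 F) := (P₁ : Subgroup (Cfsg.Lie.G2 F)) ⊓ Subgroup.centralizer ({t} : Set _)
    have hwR : (w : Cfsg.Lie.G2 F) ∈ R :=
      ⟨w.2, Subgroup.mem_centralizer_singleton_iff.2 (hwc' t (hP₁ htP₀)).symm⟩
    have hRle := hmax R (P₁.isPGroup'.to_le inf_le_left)
      (le_inf hP₁ fun r hr => Subgroup.mem_centralizer_singleton_iff.2 (hP₀C r hr))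
      (fun r hr => Subgroup.mem_centralizer_singleton_iff.1 hr.2)
    have := (hcen _ (hRle hwR) fun h hh => (hwc' h (hP₁ hh)).symm).resolve_left hwne
    rw [this] at hwc'
    exact hwc'
  have hP₁eq : (P₁ : Subgroup (Cfsg.Lie.G2 F)) = P₀ :=
    le_antisymm (hmax _ P₁.isPGroup' hP₁ hP₁C) hP₁
  -- squares
  have hgen : P₀ ≤ (sqComm P₀).map P₀.subtype := by
    have hι : ∀ q ∈ (T : Subgroup SL(2, F)), ι q ∈ (sqComm P₀).map P₀.subtype := by
      intro q hq
      let f : (T : Subgroup SL(2, F)) →* P₀ :=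
        (ι.comp (T : Subgroup SL(2, F)).subtype).codRestrict P₀ fun y => hιmem _ y.2
      exact ⟨f ⟨q, hq⟩, map_sqComm f (by rw [LinearTwoSylow.sl2_sylow_sq hF T]; exact Subgroup.mem_top _), rfl⟩
    have hΨT : ∀ q ∈ (T : Subgroup SL(2, F)), Ψ (toGL q) ∈ (sqComm P₀).map P₀.subtype := by
      intro q hq
      let f : (T : Subgroup SL(2, F)) →* P₀ :=
        ((Ψ.comp toGL).comp (T : Subgroup SL(2, F)).subtype).codRestrict P₀ fun y => hΨmem _ (hTmem _ y.2)
      exact ⟨f ⟨q, hq⟩, map_sqComm f (by rw [LinearTwoSylow.sl2_sylow_sq hF T]; exact Subgroup.mem_top _), rfl⟩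
    set d : GL (Fin 2) F := dg (z, (1 : Fˣ)) with hd
    have hzs : dg (z, z) ∈ scalars (F := F) := by
      refine mem_scalars fun y => ?_
      ext i j
      fin_cases i <;> fin_cases j <;> simp [dg, Matrix.mul_apply, Fin.sum_univ_two, mul_comm]
    have hdW : Ψ d ∈ (sqComm P₀).map P₀.subtype := by
      refine ⟨⟨Ψ d, hΨmem d hdd⟩, mem_sqComm.2 ?_, rfl⟩
      have hc : ⁅(⟨Ψ d, hΨmem d hdd⟩ : P₀), ⟨Ψ sw, hΨmem sw hsw⟩⁆ ∈ commutator P₀ :=
        Subgroup.commutator_mem_commutator (Subgroup.mem_top _) (Subgroup.mem_top _)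
      have e : ⁅(⟨Ψ d, hΨmem d hdd⟩ : P₀), ⟨Ψ sw, hΨmem sw hsw⟩⁆ = (⟨Ψ d, hΨmem d hdd⟩ : P₀) ^ 2 := by
        refine Subtype.ext ?_
        show Ψ d * Ψ sw * (Ψ d)⁻¹ * (Ψ sw)⁻¹ = Ψ d ^ 2
        rw [← map_inv Ψ d, ← map_inv Ψ sw, ← map_mul, ← map_mul, ← map_mul, ← map_pow, pow_two]
        have h1 : d * sw * d⁻¹ * sw⁻¹ = d * (sw * d⁻¹ * sw⁻¹) := by group
        have h3 : d * d = dg (z, z) * (d * (sw * d⁻¹ * sw⁻¹)) := by
          rw [hd, ← map_inv, show ((z, (1 : Fˣ))⁻¹ : Fˣ × Fˣ) = (z⁻¹, (1 : Fˣ)⁻¹) from rfl, sw_conj, ← map_mul,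
            ← map_mul, ← map_mul]
          congr 1
          ext <;> simp
        rw [h1, h3, map_mul Ψ (dg (z, z)), psi_scalar hzs, one_mul]
      rw [← e]
      exact hc
    refine sup_le ?_ ?_
    · rintro _ ⟨q, hq, rfl⟩
      exact hι q hq
    · rintro _ ⟨g, hg, rfl⟩
      obtain ⟨j, hj⟩ := hdet g hg
      have hdd' : GeneralLinearGroup.det d = z := Units.ext (by simp [hd, dg, Matrix.det_fin_two])
      have hk : g * (d ^ j)⁻¹ ∈ (GeneralLinearGroup.det : GL (Fin 2) F →* Fˣ).ker := by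
        rw [MonoidHom.mem_ker, map_mul, map_inv, map_zpow, hdd', ← hj, mul_inv_cancel]
      rw [ker_glDet_eq_range_toGL] at hk
      obtain ⟨q, hq⟩ := hk
      have hqT : q ∈ (T : Subgroup SL(2, F)) := by
        rw [hTS, Subgroup.mem_comap, hq]
        exact mul_mem hg (inv_mem (zpow_mem hdd j))
      have : Ψ g = Ψ (toGL q) * Ψ d ^ j := by
        rw [← map_zpow, ← map_mul, show toGL q = g * (d ^ j)⁻¹ from hq, inv_mul_cancel_right]
      rw [this]
      exact mul_mem (hΨT q hqT) (zpow_mem hdW j)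
  have hsq : sqComm P₀ = ⊤ := by
    rw [eq_top_iff]
    intro y _
    obtain ⟨y', hy', he⟩ := hgen y.2
    rwa [show y' = y from Subtype.ext he] at hy'
  refine LinearTwoSylow.sq_mem_of_hom (K := P₀) P₀.subtype Subtype.val_injective ?_ hsq P x
  rw [← hP₁eq]
  exact P₁.card_eq_multiplicity

end CfsgLib.KnownA.G2Sylow
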