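import Mathlib
import Cfsg.Agent.Lib.Classical.SympBasic

/-!
Non-degenerate symmetric and Hermitian forms over perfect fields of characteristic two.
-/

set_option autoImplicit false

namespace CfsgLib.KnownA.HermitianForms

open Module

/-- A `σ`-Hermitian form: linear in the first variable. -/
structure HForm (F V : Type*) [Field F] [AddCommGroup V] [Module F V] (σ : F →+* F) where
  /-- The underlying function. -/
  B : V → V → F
  add_left : ∀ x y z, B (x + y) z = B x z + B y z
  smul_left : ∀ (c : F) x z, B (c • x) z = c * B x z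
  symm : ∀ x y, B y x = σ (B x y)

variable {F V : Type*} [Field F] [AddCommGroup V] [Module F V] {σ : F →+* F} (f : HForm F V σ)

/-- The form as a linear functional in the first variable. -/
def HForm.lin (y : V) : V →ₗ[F] F where
  toFun x := f.B x y
  map_add' a b := f.add_left a b y
  map_smul' c x := by simp [f.smul_left]

@[simp] lemma HForm.lin_apply (y x : V) : f.lin y x = f.B x y := rfl

lemma HForm.add_right (x y z : V) : f.B x (y + z) = f.B x y + f.B x z := by
  rw [f.symm, f.add_left, map_add, ← f.symm, ← f.symm]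

lemma HForm.smul_right (c : F) (x z : V) : f.B x (c • z) = σ c * f.B x z := by
  rw [f.symm, f.smul_left, map_mul, ← f.symm]

lemma HForm.zero_left (x : V) : f.B 0 x = 0 := (f.lin x).map_zero

lemma HForm.sub_left (x y z : V) : f.B (x - y) z = f.B x z - f.B y z := (f.lin z).map_sub x y

lemma HForm.zero_right (x : V) : f.B x 0 = 0 := by rw [f.symm, f.zero_left, map_zero]

lemma HForm.sum_left {ι : Type*} (s : Finset ι) (v : ι → V) (x : V) :
    f.B (∑ i ∈ s, v i) x = ∑ i ∈ s, f.B (v i) x := map_sum (f.lin x) v s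

lemma HForm.sum_right {ι : Type*} (s : Finset ι) (v : ι → V) (x : V) :
    f.B x (∑ i ∈ s, v i) = ∑ i ∈ s, f.B x (v i) := by
  rw [f.symm, f.sum_left, map_sum]
  exact Finset.sum_congr rfl fun i _ => (f.symm _ _).symm

/-- Non-degeneracy. -/
def HForm.Nondeg : Prop := ∀ x, (∀ y, f.B x y = 0) → x = 0

/-- All diagonal values vanish. -/
def HForm.Alt : Prop := ∀ x, f.B x x = 0

/-- Restriction to a submodule. -/
def HForm.restrict (W : Submodule F V) : HForm F W σ where
  B x y := f.B x y
  add_left x y z := f.add_left x y z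
  smul_left c x z := f.smul_left c x z
  symm x y := f.symm x y

lemma sigma_sigma_of_symm {x y : V} (h : f.B x y = 1) : f.B y x = 1 := by rw [f.symm, h, map_one]

lemma isometry_of_gram {V' : Type*} [AddCommGroup V'] [Module F V'] (f' : HForm F V' σ) {ι : Type*}
    [Fintype ι] (b : Basis ι F V) (b' : Basis ι F V') (h : ∀ i j, f'.B (b' i) (b' j) = f.B (b i) (b j))
    (x y : V) : f'.B (b.equiv b' (Equiv.refl _) x) (b.equiv b' (Equiv.refl _) y) = f.B x y := by
  conv_rhs => rw [← b.sum_repr x, ← b.sum_repr y]
  conv_lhs => rw [← b.sum_repr x, ← b.sum_repr y]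
  simp only [map_sum, map_smul, Basis.equiv_apply, Equiv.refl_apply, f.sum_left, f.sum_right,
    f'.sum_left, f'.sum_right, f.smul_left, f.smul_right, f'.smul_left, f'.smul_right, h]

variable [FiniteDimensional F V]

lemma orth_linearIndependent {n : ℕ} {v : Fin n → V}
    (h : ∀ i j, f.B (v i) (v j) = if i = j then 1 else 0) : LinearIndependent F v := by
  rw [Fintype.linearIndependent_iff]
  intro g hg i
  have := congrArg (fun x => f.B x (v i)) hg
  simpa [f.sum_left, f.smul_left, h, f.zero_left] using this

/-- Non-alternating forms have orthonormal bases when every fixed scalar is a norm. -/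
theorem exists_orthonormal (hchar : (2 : F) = 0)
    (hnorm : ∀ t : F, σ t = t → t ≠ 0 → ∃ c, c * σ c = t) (hf : f.Nondeg) (ha : ¬ f.Alt) :
    ∃ b : Basis (Fin (finrank F V)) F V, ∀ i j, f.B (b i) (b j) = if i = j then 1 else 0 := by
  suffices H : ∃ v : Fin (finrank F V) → V, ∀ i j, f.B (v i) (v j) = if i = j then 1 else 0 by
    obtain ⟨v, hv⟩ := H
    haveI : Nonempty (Fin (finrank F V)) := by
      refine Fin.pos_iff_nonempty.1 (Nat.pos_of_ne_zero fun h0 => ha fun x => ?_)
      haveI := Module.finrank_zero_iff.1 h0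
      rw [Subsingleton.elim x 0, f.zero_left]
    refine ⟨basisOfLinearIndependentOfCardEqFinrank (orth_linearIndependent f hv) (by simp), ?_⟩
    rwa [coe_basisOfLinearIndependentOfCardEqFinrank]
  induction hd : finrank F V using Nat.strong_induction_on generalizing V with
  | _ d ih =>
    have hunit : ∃ x, f.B x x = 1 := by
      simp only [HForm.Alt, not_forall] at ha
      obtain ⟨x, hx⟩ := ha
      obtain ⟨c, hc⟩ := hnorm (f.B x x)⁻¹ (by rw [map_inv₀, ← f.symm]) (inv_ne_zero hx)
      exact ⟨c • x, by rw [f.smul_left, f.smul_right, ← mul_assoc, hc, inv_mul_cancel₀ hx]⟩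
    have hperp : ∀ x, f.B x x = 1 → finrank F (LinearMap.ker (f.lin x)) + 1 = finrank F V ∧
        (f.restrict (LinearMap.ker (f.lin x))).Nondeg := by
      intro x hx
      constructor
      · have hsurj : LinearMap.range (f.lin x) = ⊤ :=
          LinearMap.range_eq_top.2 fun t => ⟨t • x, by simp [f.smul_left, hx]⟩
        have := LinearMap.finrank_range_add_finrank_ker (f.lin x)
        rw [hsurj, finrank_top, finrank_self] at this
        omega
      · intro y hy
        refine Subtype.ext (hf y fun z => ?_)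
        have hz : z - f.B z x • x ∈ LinearMap.ker (f.lin x) := by
          rw [LinearMap.mem_ker, map_sub, map_smul]; simp [hx]
        have h1 : f.B (y : V) (z - f.B z x • x) = 0 := hy ⟨_, hz⟩
        have h2 : f.B (y : V) x = 0 := y.2
        have : z = (z - f.B z x • x) + f.B z x • x := by abel
        rw [this, f.add_right, f.smul_right, h1, h2, mul_zero, add_zero]
    -- choose a unit vector with non-alternating complement, if possible
    have hgood : ∃ x, f.B x x = 1 ∧
        ((f.restrict (LinearMap.ker (f.lin x))).Alt → finrank F (LinearMap.ker (f.lin x)) = 0) := by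
      obtain ⟨e, he⟩ := hunit
      by_cases h0 : finrank F (LinearMap.ker (f.lin e)) = 0
      · exact ⟨e, he, fun _ => h0⟩
      by_cases hA : (f.restrict (LinearMap.ker (f.lin e))).Alt
      swap
      · exact ⟨e, he, fun h => absurd h hA⟩
      obtain ⟨hdim, hnd⟩ := hperp e he
      obtain ⟨⟨u, hu⟩, hu0⟩ : ∃ u : LinearMap.ker (f.lin e), u ≠ 0 := by
        haveI : Nontrivial (LinearMap.ker (f.lin e)) := Module.nontrivial_of_finrank_pos (R := F) (by omega)
        exact exists_ne 0
      obtain ⟨⟨v, hv⟩, huv⟩ : ∃ v : LinearMap.ker (f.lin e), f.B u v = 1 := by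
        have : ¬ ∀ w : LinearMap.ker (f.lin e), f.B u w = 0 := fun h => hu0 (hnd _ h)
        simp only [not_forall] at this
        obtain ⟨w, hw⟩ := this
        refine ⟨σ (f.B u w)⁻¹ • w, ?_⟩
        rw [Submodule.coe_smul, f.smul_right]
        rw [show σ (σ (f.B u w)⁻¹) = (f.B u w)⁻¹ by rw [map_inv₀, ← f.symm, map_inv₀, ← f.symm]]
        exact inv_mul_cancel₀ hw
      have hue : f.B u e = 0 := hu
      have hve : f.B v e = 0 := hv
      have heu : f.B e u = 0 := by rw [f.symm, hue, map_zero]
      have hev : f.B e v = 0 := by rw [f.symm, hve, map_zero]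
      have huu : f.B u u = 0 := hA ⟨u, hu⟩
      have hvv : f.B v v = 0 := hA ⟨v, hv⟩
      refine ⟨e + u, by simp [f.add_left, f.add_right, he, hue, heu, huu], fun hA' => ?_⟩
      exfalso
      have hmem : e + v ∈ LinearMap.ker (f.lin (e + u)) := by
        simp [f.add_left, f.add_right, he, hve, heu, sigma_sigma_of_symm f huv, one_add_one_eq_two, hchar]
      have := hA' ⟨e + v, hmem⟩
      simp [HForm.restrict, f.add_left, f.add_right, he, hve, hev, hvv] at this
    obtain ⟨x, hx, hgood⟩ := hgood
    obtain ⟨hdim, hnd⟩ := hperp x hx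
    obtain ⟨v, hv⟩ : ∃ v : Fin (finrank F (LinearMap.ker (f.lin x))) → LinearMap.ker (f.lin x),
        ∀ i j, f.B (v i) (v j) = if i = j then 1 else 0 := by
      by_cases hA : (f.restrict (LinearMap.ker (f.lin x))).Alt
      · haveI : IsEmpty (Fin (finrank F (LinearMap.ker (f.lin x)))) := by rw [hgood hA]; infer_instance
        exact ⟨isEmptyElim, fun i => isEmptyElim i⟩
      · exact ih _ (by omega) (f.restrict (LinearMap.ker (f.lin x))) hnd hA rfl
    obtain rfl : finrank F (LinearMap.ker (f.lin x)) + 1 = d := by omega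
    refine ⟨Fin.cons x fun i => (v i : V), fun i j => ?_⟩
    have h0 : ∀ i, f.B (v i : V) x = 0 := fun i => (v i).2
    have h0' : ∀ i, f.B x (v i : V) = 0 := fun i => by rw [f.symm, h0, map_zero]
    cases i using Fin.cases <;> cases j using Fin.cases <;>
      simp [hx, h0, h0', hv, Fin.succ_ne_zero, (Fin.succ_ne_zero _).symm]

omit [FiniteDimensional F V] in
/-- Forms for a non-trivial involution are never alternating. -/
theorem subsingleton_of_alt (hσ : ∃ t, t + σ t ≠ 0) (hf : f.Nondeg) (ha : f.Alt) (x : V) : x = 0 := by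
  obtain ⟨t, ht⟩ := hσ
  by_contra hx
  have : ¬ ∀ y, f.B x y = 0 := fun h => hx (hf x h)
  simp only [not_forall] at this
  obtain ⟨y, hy⟩ := this
  have key : ∀ z, f.B x z + σ (f.B x z) = 0 := fun z => by
    have := ha (x + z)
    rw [f.add_left, f.add_right, f.add_right, ha x, ha z, zero_add, add_zero, f.symm x z] at this
    exact this
  have h2 := key (σ (t * (f.B x y)⁻¹) • y)
  rw [f.smul_right] at h2
  obtain ⟨s, hs⟩ : ∃ s, σ (σ (t * (f.B x y)⁻¹)) = s := ⟨_, rfl⟩
  by_cases hinv : ∀ r : F, σ (σ r) = r
  · rw [hinv, mul_assoc, inv_mul_cancel₀ hy, mul_one] at h2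
    exact ht h2
  · push Not at hinv
    obtain ⟨r, hr⟩ := hinv
    refine hr ?_
    have h3 := f.symm y (r • x)
    rw [f.smul_left, f.smul_right, map_mul, ← f.symm] at h3
    exact (mul_right_cancel₀ hy h3).symm

/-- Alternating symmetric forms have symplectic bases. -/
theorem exists_symplectic (g : HForm F V (RingHom.id F)) (hg : g.Nondeg) (ha : g.Alt) :
    ∃ (m : ℕ) (b : Basis (Fin m ⊕ Fin m) F V), ∀ i j, g.B (b i) (b j) =
      Sum.elim (fun i => Sum.elim (fun _ => 0) (fun j => if i = j then 1 else 0) j)
        (fun i => Sum.elim (fun j => if i = j then 1 else 0) (fun _ => 0) j) i := by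
  let L : V →ₗ[F] V →ₗ[F] F := LinearMap.mk₂ F g.B g.add_left g.smul_left g.add_right
    (fun c x y => by simpa using g.smul_right c x y)
  have hL : L.Nondegenerate := by
    refine ⟨fun x h => hg x h, fun y h => hg y fun x => ?_⟩
    rw [g.symm]; simpa [L] using h x
  obtain ⟨m, b, hb1, hb2, hb3⟩ := CfsgLib.Classical.exists_sympBasis (B := L) ha hL
  refine ⟨m, b, fun i j => ?_⟩
  rcases i with i | i <;> rcases j with j | j
  · exact hb2 i j
  · exact hb1 i j
  · rw [g.symm]
    simpa [L, eq_comm] using hb1 j i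
  · exact hb3 i j

end CfsgLib.KnownA.HermitianForms
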