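import Mathlib

/-!
Normal form of a linear map with square zero, and centralisers of arbitrary square determinant.
-/

set_option autoImplicit false

namespace CfsgLib.KnownA.SquareZero

open Module

variable {F V : Type*} [Field F] [AddCommGroup V] [Module F V]

/-- Index type of an adapted basis. -/
abbrev Idx (k r : ℕ) : Type := (Fin k ⊕ Fin k) ⊕ Fin r

/-- `N` maps the first block to the second one and kills everything else. -/
def IsSplit (N : V →ₗ[F] V) {k r : ℕ} (b : Basis (Idx k r) F V) : Prop :=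
  (∀ i, N (b (.inl (.inl i))) = b (.inl (.inr i))) ∧ (∀ i, N (b (.inl (.inr i))) = 0) ∧
    ∀ u, N (b (.inr u)) = 0

lemma intertwine {V' : Type*} [AddCommGroup V'] [Module F V'] {N : V →ₗ[F] V} {N' : V' →ₗ[F] V'}
    {k r : ℕ} {b : Basis (Idx k r) F V} {b' : Basis (Idx k r) F V'} (h : IsSplit N b)
    (h' : IsSplit N' b') (x : V) :
    b.equiv b' (Equiv.refl _) (N x) = N' (b.equiv b' (Equiv.refl _) x) := by
  have : (b.equiv b' (Equiv.refl _)).toLinearMap ∘ₗ N = N' ∘ₗ (b.equiv b' (Equiv.refl _)).toLinearMap := by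
    refine b.ext fun i => ?_
    rcases i with (i | i) | u <;> simp [h.1, h.2.1, h.2.2, h'.1, h'.2.1, h'.2.2]
  exact LinearMap.congr_fun this x

/-- An adapted basis from a complement given by the family `w` and a part `U` of the kernel. -/
lemma exists_basis [FiniteDimensional F V] (N : V →ₗ[F] V) (hN : ∀ x, N (N x) = 0) {k : ℕ} (w : Fin k → V)
    (U : Submodule F V) (hU : ∀ u ∈ U, N u = 0) {r : ℕ} (bU : Basis (Fin r) F U)
    (hinj : ∀ (a c : Fin k → F), ∀ u ∈ U, (∑ i, a i • w i) + (∑ i, c i • N (w i)) + u = 0 →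
      a = 0 ∧ c = 0 ∧ u = 0)
    (hsurj : ∀ v, ∃ (a c : Fin k → F), ∃ u ∈ U, v = (∑ i, a i • w i) + (∑ i, c i • N (w i)) + u) :
    ∃ b : Basis (Idx k r) F V, IsSplit N b ∧ (∀ i, b (.inl (.inl i)) = w i) ∧
      (∀ i, b (.inl (.inr i)) = N (w i)) ∧ ∀ u, b (.inr u) = (bU u : V) := by
  let Φ : ((Fin k → F) × (Fin k → F)) × U →ₗ[F] V :=
    ((Fintype.linearCombination F w).coprod (Fintype.linearCombination F (fun i => N (w i)))).coprod U.subtype
  have hΦ : ∀ a c (u : U), Φ ((a, c), u) = (∑ i, a i • w i) + (∑ i, c i • N (w i)) + u := fun a c u => by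
    simp [Φ, Fintype.linearCombination_apply]
  have hbij : Function.Bijective Φ := by
    refine ⟨(injective_iff_map_eq_zero Φ).2 ?_, fun v => ?_⟩
    · rintro ⟨⟨a, c⟩, u⟩ h
      obtain ⟨rfl, rfl, hu⟩ := hinj a c u u.2 ((hΦ a c u).symm.trans h)
      simpa [Prod.ext_iff] using hu
    · obtain ⟨a, c, u, hu, rfl⟩ := hsurj v
      exact ⟨((a, c), ⟨u, hu⟩), hΦ a c ⟨u, hu⟩⟩
  let b := (((Pi.basisFun F (Fin k)).prod (Pi.basisFun F (Fin k))).prod bU).map (LinearEquiv.ofBijective Φ hbij)
  have h1 : ∀ i, b (.inl (.inl i)) = w i := fun i => by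
    simp [b, Φ, Fintype.linearCombination_apply, Pi.single_apply]
  have h2 : ∀ i, b (.inl (.inr i)) = N (w i) := fun i => by
    simp [b, Φ, Fintype.linearCombination_apply, Pi.single_apply]
  have h3 : ∀ u, b (.inr u) = (bU u : V) := fun u => by simp [b, Φ]
  refine ⟨b, ⟨fun i => by rw [h1, h2], fun i => by rw [h2, hN], fun u => ?_⟩, h1, h2, h3⟩
  rw [h3]; exact hU _ (bU u).2

/-- Coordinates on a complement of the kernel. -/
lemma exists_complement [FiniteDimensional F V] (N : V →ₗ[F] V) {k : ℕ}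
    (hk : finrank F (LinearMap.range N) = k) :
    ∃ w : Fin k → V, (∀ a : Fin k → F, N (∑ i, a i • w i) = 0 → a = 0) ∧
      ∀ v, ∃ a : Fin k → F, N (v - ∑ i, a i • w i) = 0 := by
  obtain ⟨W, hW⟩ := Submodule.exists_isCompl (LinearMap.ker N)
  have hd : finrank F W = k := by
    have h1 := Submodule.finrank_add_eq_of_isCompl hW
    have h2 := LinearMap.finrank_range_add_finrank_ker N
    omega
  let bW : Basis (Fin k) F W := (Module.finBasis F W).reindex (finCongr hd)
  refine ⟨fun i => (bW i : V), fun a ha => ?_, fun v => ?_⟩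
  · have h : (∑ i, a i • bW i : W) = 0 := by
      refine Subtype.ext ?_
      have : ((∑ i, a i • bW i : W) : V) ∈ LinearMap.ker N ⊓ W := ⟨by simpa using ha, Submodule.coe_mem _⟩
      rwa [hW.inf_eq_bot, Submodule.mem_bot] at this
    funext i
    exact Fintype.linearIndependent_iff.1 bW.linearIndependent a h i
  · obtain ⟨z, hz, x, hx, rfl⟩ := Submodule.mem_sup.1 (hW.sup_eq_top ▸ Submodule.mem_top : v ∈ LinearMap.ker N ⊔ W)
    refine ⟨fun i => bW.repr ⟨x, hx⟩ i, ?_⟩
    have : (∑ i, bW.repr ⟨x, hx⟩ i • (bW i : V)) = x := by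
      have h := congrArg Subtype.val (bW.sum_repr ⟨x, hx⟩)
      rwa [Submodule.coe_sum] at h
    rw [this, add_sub_cancel_right]
    exact hz

/-- Adapted bases exist. -/
theorem exists_split [FiniteDimensional F V] (N : V →ₗ[F] V) (hN : ∀ x, N (N x) = 0) {k : ℕ}
    (hk : finrank F (LinearMap.range N) = k) :
    ∃ (r : ℕ) (b : Basis (Idx k r) F V), IsSplit N b := by
  obtain ⟨w, hind, hspan⟩ := exists_complement N hk
  obtain ⟨U', hU'⟩ := Submodule.exists_isCompl
    ((LinearMap.range N).comap (LinearMap.ker N).subtype)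
  set U := U'.map (LinearMap.ker N).subtype with hU
  have hUker : ∀ u ∈ U, N u = 0 := by rintro _ ⟨z, -, rfl⟩; exact z.2
  refine Exists.elim (exists_basis N hN w U hUker (Module.finBasis F U) ?_ ?_) fun b hb => ⟨_, b, hb.1⟩
  · intro a c u hu h
    obtain rfl : a = 0 := hind a (by
      have := congrArg N h
      simpa [map_sum, hN, hUker u hu] using this)
    simp only [Pi.zero_apply, zero_smul, Finset.sum_const_zero, zero_add] at h
    obtain ⟨z, hz, rfl⟩ := hu
    have hz0 : z = 0 := by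
      have hm : z ∈ (LinearMap.range N).comap (LinearMap.ker N).subtype ⊓ U' := by
        refine ⟨⟨-∑ i, c i • w i, ?_⟩, hz⟩
        rw [map_neg, map_sum]; simp only [map_smul]
        exact neg_eq_of_add_eq_zero_right h
      rwa [hU'.inf_eq_bot, Submodule.mem_bot] at hm
    subst hz0
    refine ⟨rfl, hind c ?_, by simp⟩
    simpa [map_sum] using h
  · intro v
    obtain ⟨a, ha⟩ := hspan v
    obtain ⟨p, hp, q, hq, hpq⟩ := Submodule.mem_sup.1
      (hU'.sup_eq_top ▸ Submodule.mem_top :
        (⟨_, ha⟩ : LinearMap.ker N) ∈ (LinearMap.range N).comap (LinearMap.ker N).subtype ⊔ U')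
    obtain ⟨x, hx⟩ := hp
    obtain ⟨c, hc⟩ := hspan x
    rw [map_sub, sub_eq_zero, map_sum] at hc
    simp only [map_smul] at hc
    refine ⟨a, c, q, ⟨q, hq, rfl⟩, ?_⟩
    rw [← hc, hx]
    have := congrArg Subtype.val hpq
    simp only [Submodule.coe_add] at this
    rw [add_assoc, Submodule.coe_subtype, this]
    abel

/-- The endomorphism scaling the first two members of each pair by `e`. -/
noncomputable def diagEnd {k r : ℕ} (b : Basis (Idx k r) F V) (e : Fin k → F) : V →ₗ[F] V :=
  b.constr F fun i => (Sum.elim (Sum.elim e e) (fun _ => 1) i) • b i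

lemma det_diagEnd {k r : ℕ} (b : Basis (Idx k r) F V) (e : Fin k → F) :
    LinearMap.det (diagEnd b e) = (∏ i, e i) ^ 2 := by
  classical
  have h : LinearMap.toMatrix b b (diagEnd b e) = Matrix.diagonal (Sum.elim (Sum.elim e e) (fun _ => 1)) := by
    ext i j
    rw [LinearMap.toMatrix_apply, diagEnd, Basis.constr_basis]
    by_cases hij : i = j
    · subst hij; simp
    · simp [hij, Finsupp.single_apply, Ne.symm hij]
  rw [← LinearMap.det_toMatrix b, h, Matrix.det_diagonal]
  simp [Fintype.prod_sum_type, sq]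

lemma diagEnd_comm {k r : ℕ} {N : V →ₗ[F] V} {b : Basis (Idx k r) F V} (hb : IsSplit N b)
    (e : Fin k → F) (x : V) : diagEnd b e (N x) = N (diagEnd b e x) := by
  have : diagEnd b e ∘ₗ N = N ∘ₗ diagEnd b e := by
    refine b.ext fun i => ?_
    rcases i with (i | i) | u <;> simp [diagEnd, hb.1, hb.2.1, hb.2.2]
  exact LinearMap.congr_fun this x

lemma card_idx [FiniteDimensional F V] {k r : ℕ} (b : Basis (Idx k r) F V) : finrank F V = k + k + r := by
  rw [finrank_eq_card_basis b]; simp

/-- A matrix involution in characteristic two gives a square-zero endomorphism. -/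
lemma sub_one_sq {n : Type*} [Fintype n] [DecidableEq n] [CharP F 2] {A : Matrix n n F} (h : A * A = 1) :
    (A - 1) * (A - 1) = 0 := by
  have h2 : (2 : F) = 0 := CharP.cast_eq_zero F 2
  ext i j
  have : (A - 1) * (A - 1) = A * A + 1 - (A + A) := by noncomm_ring
  rw [this, h, Matrix.sub_apply, Matrix.add_apply, Matrix.add_apply, ← two_mul, ← two_mul, h2]
  simp

end CfsgLib.KnownA.SquareZero
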