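import Mathlib
import Cfsg.Agent.Lib.KnownA.SquareZero
import Cfsg.Agent.Lib.KnownA.HermitianForms

/-!
Normal form of a self-adjoint square-zero map of a Hermitian space in characteristic two.
-/

set_option autoImplicit false

namespace CfsgLib.KnownA.InvolutionForms

open Module CfsgLib.KnownA.HermitianForms CfsgLib.KnownA.SquareZero

variable {F V : Type*} [Field F] [AddCommGroup V] [Module F V] {σ : F →+* F}

/-- Gram matrix of an adapted basis. -/
def gram {k r : ℕ} (Γ : Fin k → Fin k → F) (Δ : Fin r → Fin r → F) : Idx k r → Idx k r → F :=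
  Sum.elim
    (Sum.elim (fun i => Sum.elim (Sum.elim (fun _ => 0) (fun j => Γ i j)) (fun _ => 0))
      (fun i => Sum.elim (Sum.elim (fun j => Γ i j) (fun _ => 0)) (fun _ => 0)))
    (fun u => Sum.elim (fun _ => 0) (fun u' => Δ u u'))

/-- An adapted basis with prescribed Gram matrix. -/
def Adapted (f : HForm F V σ) (N : V →ₗ[F] V) {k r : ℕ} (Γ : Fin k → Fin k → F)
    (Δ : Fin r → Fin r → F) (b : Basis (Idx k r) F V) : Prop :=
  IsSplit N b ∧ ∀ i j, f.B (b i) (b j) = gram Γ Δ i j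

/-- A complement of the kernel with prescribed values of `(x, y) ↦ B (N x) y`. -/
def IsTop (f : HForm F V σ) (N : V →ₗ[F] V) {k : ℕ} (Γ : Fin k → Fin k → F) (w : Fin k → V) : Prop :=
  (∀ a : Fin k → F, N (∑ i, a i • w i) = 0 → a = 0) ∧
    (∀ v, ∃ a : Fin k → F, N (v - ∑ i, a i • w i) = 0) ∧ ∀ i j, f.B (N (w i)) (w j) = Γ i j

variable (f : HForm F V σ) (N : V →ₗ[F] V)

lemma eq_zero_of_perp (hf : f.Nondeg) (hadj : ∀ x y, f.B (N x) y = f.B x (N y)) {k : ℕ}
    {w : Fin k → V} (hspan : ∀ v, ∃ a : Fin k → F, N (v - ∑ i, a i • w i) = 0)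
    {x : V} (hx : ∀ i, f.B (N x) (w i) = 0) : N x = 0 := by
  refine hf _ fun y => ?_
  obtain ⟨a, ha⟩ := hspan y
  rw [← sub_add_cancel y (∑ i, a i • w i), f.add_right, hadj x (y - _), ha, f.zero_right, f.sum_right]
  simp [f.smul_right, hx]

lemma functional_surjective (hf : f.Nondeg) (hadj : ∀ x y, f.B (N x) y = f.B x (N y)) {k : ℕ}
    {w : Fin k → V} (hind : ∀ a : Fin k → F, N (∑ i, a i • w i) = 0 → a = 0)
    (hspan : ∀ v, ∃ a : Fin k → F, N (v - ∑ i, a i • w i) = 0) :
    (∀ a : Fin k → F, (∀ j, f.B (N (∑ i, a i • w i)) (w j) = 0) → a = 0) ∧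
      ∀ t : Fin k → F, ∃ a : Fin k → F, ∀ j, f.B (N (∑ i, a i • w i)) (w j) = t j := by
  have hinj : ∀ a : Fin k → F, (∀ j, f.B (N (∑ i, a i • w i)) (w j) = 0) → a = 0 :=
    fun a ha => hind a (eq_zero_of_perp f N hf hadj hspan ha)
  refine ⟨hinj, fun t => ?_⟩
  let T : (Fin k → F) →ₗ[F] (Fin k → F) :=
    (LinearMap.pi fun j => f.lin (w j)) ∘ₗ N ∘ₗ Fintype.linearCombination F w
  have hT : ∀ a j, T a j = f.B (N (∑ i, a i • w i)) (w j) := fun a j => by
    simp [T, Fintype.linearCombination_apply, f.sum_left, f.smul_left]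
  obtain ⟨a, ha⟩ := LinearMap.surjective_of_injective ((injective_iff_map_eq_zero T).2
    fun a ha => hinj a fun j => by rw [← hT, ha]; rfl) t
  exact ⟨a, fun j => by rw [← hT, ha]⟩

variable [FiniteDimensional F V]

/-- Existence of adapted bases. -/
theorem exists_adapted (hchar : (2 : F) = 0) (hf : f.Nondeg) (hN : ∀ x, N (N x) = 0)
    (hadj : ∀ x y, f.B (N x) y = f.B x (N y)) (hdiag : ∀ x, ∃ c, c + σ c = f.B x x) {k : ℕ}
    {Γ : Fin k → Fin k → F} {w₀ : Fin k → V} (hw₀ : IsTop f N Γ w₀) (Δ : ∀ r, Fin r → Fin r → F)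
    (hclass : ∀ U : Submodule F V, (f.restrict U).Nondeg →
      ∃ b : Basis (Fin (finrank F U)) F U, ∀ i j, f.B (b i) (b j) = Δ _ i j) :
    ∃ (r : ℕ) (b : Basis (Idx k r) F V), Adapted f N Γ (Δ r) b := by
  have two : ∀ x : F, x + x = 0 := fun x => by rw [← two_mul, hchar, zero_mul]
  obtain ⟨hind, hspan, hgram⟩ := hw₀
  obtain ⟨-, hsur⟩ := functional_surjective f N hf hadj hind hspan
  have hNN : ∀ x y, f.B (N x) (N y) = 0 := fun x y => by rw [← hadj, hN, f.zero_left]
  -- make the complement totally isotropic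
  choose c hc using fun i => hdiag (w₀ i)
  choose a ha using fun i => hsur fun j => if i < j then f.B (w₀ i) (w₀ j) else if i = j then c i else 0
  set w : Fin k → V := fun i => w₀ i + N (∑ l, a i l • w₀ l) with hw
  have hNw : ∀ i, N (w i) = N (w₀ i) := fun i => by simp [hw, hN]
  have hww : ∀ i j, f.B (w i) (w j) = 0 := by
    intro i j
    simp only [hw, f.add_left, f.add_right, hNN, add_zero]
    rw [f.symm (N (∑ l, a j l • w₀ l)) (w₀ i), ha i j, ha j i]
    rcases lt_trichotomy i j with h | h | h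
    · simp [h, h.not_gt, h.ne', two]
    · subst h; simp only [lt_irrefl, if_false, if_true]
      rw [← hc i, add_assoc, add_comm (σ (c i)) (c i), two]
    · simp [h, h.not_gt, h.ne', ← f.symm, two]
  have hindw : ∀ a : Fin k → F, N (∑ i, a i • w i) = 0 → a = 0 := fun a h => hind a (by
    simpa [map_sum, hNw] using h)
  have hspanw : ∀ v, ∃ a : Fin k → F, N (v - ∑ i, a i • w i) = 0 := fun v => by
    obtain ⟨a, ha⟩ := hspan v
    exact ⟨a, by simpa [map_sum, hNw] using ha⟩
  have hgramw : ∀ i j, f.B (N (w i)) (w j) = Γ i j := fun i j => by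
    rw [hNw]
    simp only [hw]
    rw [f.add_right, hNN, hgram, add_zero]
  have hgramw' : ∀ i j, f.B (w i) (N (w j)) = Γ i j := fun i j => by rw [← hadj, hgramw]
  obtain ⟨hinjw, hsurw⟩ := functional_surjective f N hf hadj hindw hspanw
  -- the orthogonal part
  let U : Submodule F V := (⨅ i, LinearMap.ker (f.lin (w i))) ⊓ ⨅ i, LinearMap.ker (f.lin (N (w i)))
  have hU : ∀ u, u ∈ U ↔ (∀ i, f.B u (w i) = 0) ∧ ∀ i, f.B u (N (w i)) = 0 := fun u => by simp [U]
  have hUker : ∀ u ∈ U, N u = 0 := fun u hu =>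
    eq_zero_of_perp f N hf hadj hspanw fun i => by rw [hadj]; exact ((hU u).1 hu).2 i
  have hw1 : ∀ (a : Fin k → F) j, f.B (∑ i, a i • w i) (N (w j)) = f.B (N (∑ i, a i • w i)) (w j) :=
    fun a j => (hadj _ _).symm
  have hdec : ∀ v, ∃ a b : Fin k → F, v - (∑ i, a i • w i) - (∑ i, b i • N (w i)) ∈ U := by
    intro v
    obtain ⟨a, ha⟩ := hsurw fun j => f.B v (N (w j))
    obtain ⟨b, hb⟩ := hsurw fun j => f.B v (w j)
    have hb' : ∀ j, f.B (∑ i, b i • N (w i)) (w j) = f.B v (w j) := fun j => by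
      rw [← hb j, map_sum]; simp
    have hb'' : ∀ j, f.B (∑ i, b i • N (w i)) (N (w j)) = 0 := fun j => by
      simp [f.sum_left, f.smul_left, hNN]
    have ha' : ∀ j, f.B (∑ i, a i • w i) (w j) = 0 := fun j => by simp [f.sum_left, f.smul_left, hww]
    refine ⟨a, b, (hU _).2 ⟨fun j => ?_, fun j => ?_⟩⟩
    · rw [f.sub_left, f.sub_left, hb', ha', sub_zero, sub_self]
    · rw [f.sub_left, f.sub_left, hb'', hw1, ha, sub_zero, sub_self]
  have hUnd : (f.restrict U).Nondeg := by
    intro u hu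
    refine Subtype.ext (hf _ fun y => ?_)
    obtain ⟨a, b, hr⟩ := hdec y
    obtain ⟨h1, h2⟩ := (hU u).1 u.2
    have : y = (y - (∑ i, a i • w i) - (∑ i, b i • N (w i))) + ((∑ i, a i • w i) + (∑ i, b i • N (w i))) := by abel
    rw [this, f.add_right, f.add_right, f.sum_right, f.sum_right]
    simp only [f.smul_right, h1, h2, mul_zero, Finset.sum_const_zero, add_zero]
    exact hu ⟨_, hr⟩
  obtain ⟨bU, hbU⟩ := hclass U hUnd
  obtain ⟨b, hb, hb1, hb2, hb3⟩ := exists_basis N hN w U hUker bU (fun a b u hu h => by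
      obtain rfl : a = 0 := hindw a (by
        simpa [map_sum, hN, hUker u hu] using congrArg N h)
      simp only [Pi.zero_apply, zero_smul, Finset.sum_const_zero, zero_add] at h
      obtain rfl : b = 0 := hinjw b fun j => by
        have h' := congrArg (fun x => f.B x (w j)) h
        simpa [map_sum, f.add_left, f.zero_left, ((hU u).1 hu).1] using h'
      simpa using h)
    (fun v => by
      obtain ⟨a, b, hr⟩ := hdec v
      exact ⟨a, b, _, hr, by abel⟩)
  refine ⟨_, b, hb, fun i j => ?_⟩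
  have hperp : ∀ (u : Fin (finrank F U)) i, f.B (bU u : V) (w i) = 0 ∧ f.B (w i) (bU u : V) = 0 ∧
      f.B (bU u : V) (N (w i)) = 0 ∧ f.B (N (w i)) (bU u : V) = 0 := fun u i => by
    obtain ⟨h1, h2⟩ := (hU _).1 (bU u).2
    exact ⟨h1 i, by rw [f.symm, h1, map_zero], h2 i, by rw [f.symm, h2, map_zero]⟩
  rcases i with (i | i) | u <;> rcases j with (j | j) | u'
  all_goals simp [gram, hb1, hb2, hb3, hww, hNN, hgramw, hgramw', hbU, hperp]

omit [FiniteDimensional F V] in
/-- Two adapted bases give an intertwining isometry. -/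
theorem exists_isometry {V' : Type*} [AddCommGroup V'] [Module F V'] (f' : HForm F V' σ)
    (N' : V' →ₗ[F] V') {k r : ℕ} {Γ : Fin k → Fin k → F} {Δ : Fin r → Fin r → F}
    {b : Basis (Idx k r) F V} {b' : Basis (Idx k r) F V'} (h : Adapted f N Γ Δ b)
    (h' : Adapted f' N' Γ Δ b') :
    (∀ x y, f'.B (b.equiv b' (Equiv.refl _) x) (b.equiv b' (Equiv.refl _) y) = f.B x y) ∧
      ∀ x, b.equiv b' (Equiv.refl _) (N x) = N' (b.equiv b' (Equiv.refl _) x) :=
  ⟨isometry_of_gram f f' b b' fun i j => by rw [h.2, h'.2], intertwine h.1 h'.1⟩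

omit [FiniteDimensional F V] in
/-- The form `(x, y) ↦ B (N x) y`. -/
def twist (hadj : ∀ x y, f.B (N x) y = f.B x (N y)) (W : Submodule F V) : HForm F W σ where
  B x y := f.B (N x) y
  add_left x y z := by rw [Submodule.coe_add, map_add, f.add_left]
  smul_left c x z := by rw [Submodule.coe_smul, map_smul, f.smul_left]
  symm x y := by rw [hadj y x, f.symm (N x) y]

/-- A complement of the kernel, with its twisted form. -/
theorem exists_twist (hf : f.Nondeg) (hadj : ∀ x y, f.B (N x) y = f.B x (N y)) :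
    ∃ W : Submodule F V, (twist f N hadj W).Nondeg ∧ finrank F W = finrank F (LinearMap.range N) ∧
      ((twist f N hadj W).Alt ↔ ∀ v, f.B (N v) v = 0) ∧
      ∀ {k : ℕ} {Γ : Fin k → Fin k → F} (b : Basis (Fin k) F W),
        (∀ i j, (twist f N hadj W).B (b i) (b j) = Γ i j) → IsTop f N Γ (fun i => (b i : V)) := by
  obtain ⟨W, hW⟩ := Submodule.exists_isCompl (LinearMap.ker N)
  have hdec : ∀ v, ∃ z, N z = 0 ∧ ∃ x ∈ W, v = z + x := fun v => by
    obtain ⟨z, hz, x, hx, rfl⟩ := Submodule.mem_sup.1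
      (hW.sup_eq_top ▸ Submodule.mem_top : v ∈ LinearMap.ker N ⊔ W)
    exact ⟨z, hz, x, hx, rfl⟩
  have hinj : ∀ x ∈ W, N x = 0 → x = 0 := fun x hx hx' => by
    have : x ∈ LinearMap.ker N ⊓ W := ⟨hx', hx⟩
    rwa [hW.inf_eq_bot, Submodule.mem_bot] at this
  refine ⟨W, ?_, ?_, ?_, ?_⟩
  · intro x hx
    refine Subtype.ext (hinj x x.2 (hf _ fun y => ?_))
    obtain ⟨z, hz, x', hx', rfl⟩ := hdec y
    rw [f.add_right, hadj x z, hz, f.zero_right, zero_add]
    exact hx ⟨x', hx'⟩
  · have h1 := Submodule.finrank_add_eq_of_isCompl hW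
    have h2 := LinearMap.finrank_range_add_finrank_ker N
    omega
  · constructor
    · intro h v
      obtain ⟨z, hz, x, hx, rfl⟩ := hdec v
      rw [map_add, hz, zero_add, f.add_right, hadj x z, hz, f.zero_right, zero_add]
      exact h ⟨x, hx⟩
    · intro h x; exact h x
  · intro k Γ b hb
    refine ⟨fun a ha => ?_, fun v => ?_, hb⟩
    · have h : (∑ i, a i • b i : W) = 0 :=
        Subtype.ext (hinj _ (Submodule.coe_mem _) (by simpa [map_sum] using ha))
      funext i
      exact Fintype.linearIndependent_iff.1 b.linearIndependent a h i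
    · obtain ⟨z, hz, x, hx, rfl⟩ := hdec v
      refine ⟨fun i => b.repr ⟨x, hx⟩ i, ?_⟩
      have h := congrArg Subtype.val (b.sum_repr ⟨x, hx⟩)
      rw [Submodule.coe_sum] at h
      simp only [Submodule.coe_smul] at h
      rw [h, add_sub_cancel_right, hz]

end CfsgLib.KnownA.InvolutionForms
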