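import Mathlib
import Cfsg.Agent.Lib.KnownA.ExpBound

/-!
A self-reciprocal polynomial of degree at most `2m+1` over `GF(q)` divides some `X^n - c`
with `(q-1) n ≤ q^(m+1)`.
-/

set_option autoImplicit false

namespace CfsgLib.KnownA.SelfRecip

open Polynomial UniqueFactorizationMonoid Finset

variable {F : Type*} [Field F]

lemma natDegree_reverse_eq {g : F[X]} (h : g.coeff 0 ≠ 0) : g.reverse.natDegree = g.natDegree := by
  rw [reverse_natDegree, natTrailingDegree_eq_zero.2 (Or.inr h), Nat.sub_zero]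

lemma reverse_reverse_of_coeff_zero {g : F[X]} (h : g.coeff 0 ≠ 0) : g.reverse.reverse = g := by
  ext i
  rw [coeff_reverse, coeff_reverse, natDegree_reverse_eq h, revAt_invol]

lemma coeff_zero_reverse_ne {g : F[X]} (h : g ≠ 0) : g.reverse.coeff 0 ≠ 0 := by
  rw [coeff_zero_reverse]; exact leadingCoeff_ne_zero.2 h

lemma irreducible_reverse {g : F[X]} (hg : Irreducible g) (h : g.coeff 0 ≠ 0) : Irreducible g.reverse := by
  constructor
  · intro hu
    have h1 := natDegree_eq_zero_of_isUnit hu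
    rw [natDegree_reverse_eq h] at h1
    exact absurd h1 hg.natDegree_pos.ne'
  · intro a b hab
    have ha : a.coeff 0 ≠ 0 ∧ b.coeff 0 ≠ 0 := by
      have := coeff_zero_reverse_ne hg.ne_zero
      rw [hab, mul_coeff_zero] at this
      exact ⟨left_ne_zero_of_mul this, right_ne_zero_of_mul this⟩
    have hrev : g = a.reverse * b.reverse := by
      rw [← reverse_mul_of_domain, ← hab, reverse_reverse_of_coeff_zero h]
    rcases hg.isUnit_or_isUnit hrev with hu | hu
    · left
      have h1 := natDegree_eq_zero_of_isUnit hu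
      rw [natDegree_reverse_eq ha.1] at h1
      rw [eq_C_of_natDegree_eq_zero h1, isUnit_C]
      exact isUnit_iff_ne_zero.2 ha.1
    · right
      have h1 := natDegree_eq_zero_of_isUnit hu
      rw [natDegree_reverse_eq ha.2] at h1
      rw [eq_C_of_natDegree_eq_zero h1, isUnit_C]
      exact isUnit_iff_ne_zero.2 ha.2

/-- The monic reciprocal polynomial. -/
noncomputable def recip (g : F[X]) : F[X] := g.reverse * C g.reverse.leadingCoeff⁻¹

lemma recip_spec {g : F[X]} (hirr : Irreducible g) (h : g.coeff 0 ≠ 0) :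
    Irreducible (recip g) ∧ (recip g).Monic ∧ (recip g).natDegree = g.natDegree ∧ Associated (recip g) g.reverse := by
  have hne := (irreducible_reverse hirr h).ne_zero
  have hu : IsUnit (C g.reverse.leadingCoeff⁻¹) := by
    rw [isUnit_C]; exact isUnit_iff_ne_zero.2 (inv_ne_zero (leadingCoeff_ne_zero.2 hne))
  have hass : Associated (recip g) g.reverse := (associated_mul_unit_left _ _ hu)
  refine ⟨hass.symm.irreducible (irreducible_reverse hirr h), monic_mul_leadingCoeff_inv hne, ?_, hass⟩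
  rw [recip, natDegree_mul_C (inv_ne_zero (leadingCoeff_ne_zero.2 hne)), natDegree_reverse_eq h]

lemma recip_recip {g : F[X]} (hirr : Irreducible g) (hg : g.Monic) (h : g.coeff 0 ≠ 0) : recip (recip g) = g := by
  obtain ⟨h1, h2, h3, h4⟩ := recip_spec hirr h
  have hc : (recip g).coeff 0 ≠ 0 := by
    rw [recip, mul_coeff_zero, coeff_C_zero]
    exact mul_ne_zero (coeff_zero_reverse_ne hirr.ne_zero)
      (inv_ne_zero (leadingCoeff_ne_zero.2 (irreducible_reverse hirr h).ne_zero))
  obtain ⟨k1, k2, k3, k4⟩ := recip_spec h1 hc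
  refine eq_of_monic_of_associated k2 hg (k4.trans ?_)
  rw [recip, reverse_mul_of_domain, reverse_C, reverse_reverse_of_coeff_zero h]
  exact associated_mul_unit_left _ _ (isUnit_C.2 (isUnit_iff_ne_zero.2
    (inv_ne_zero (leadingCoeff_ne_zero.2 (irreducible_reverse hirr h).ne_zero))))

variable [Fintype F]

lemma dvd_pow_sub_one {g : F[X]} (hirr : Irreducible g) (h : g.coeff 0 ≠ 0) {n : ℕ}
    (hn : Fintype.card F ^ g.natDegree - 1 ∣ n) : g ∣ X ^ n - 1 := by
  haveI : Fact (Irreducible g) := ⟨hirr⟩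
  haveI : Module.Finite F (AdjoinRoot g) := (AdjoinRoot.powerBasis hirr.ne_zero).finite
  haveI : Finite (AdjoinRoot g) := Module.finite_of_finite F
  haveI : Fintype (AdjoinRoot g) := Fintype.ofFinite _
  have hcard : Fintype.card (AdjoinRoot g) = Fintype.card F ^ g.natDegree := by
    rw [← Nat.card_eq_fintype_card, Module.natCard_eq_pow_finrank (K := F),
      (AdjoinRoot.powerBasis hirr.ne_zero).finrank, AdjoinRoot.powerBasis_dim, Nat.card_eq_fintype_card]
  rw [← AdjoinRoot.mk_eq_zero, map_sub, map_pow, map_one, AdjoinRoot.mk_X, sub_eq_zero]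
  have hne : AdjoinRoot.root g ≠ 0 := by
    intro h0
    rw [← AdjoinRoot.mk_X, AdjoinRoot.mk_eq_zero] at h0
    have hass := hirr.associated_of_dvd (irreducible_X) h0
    obtain ⟨k, hk⟩ := hass.symm.dvd
    exact h (by rw [hk, mul_coeff_zero, coeff_X_zero, zero_mul])
  obtain ⟨k, rfl⟩ := hn
  rw [pow_mul, ← hcard, FiniteField.pow_card_sub_one_eq_one _ hne, one_pow]

lemma self_case {g : F[X]} (hirr : Irreducible g) (hg : g.Monic) (h : g.coeff 0 ≠ 0) (hs : recip g = g) :
    g = X - 1 ∨ g = X + 1 ∨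
      ∃ k, g.natDegree = 2 * k ∧ g ∣ X ^ (Fintype.card F ^ k + 1) - 1 := by
  haveI : Fact (Irreducible g) := ⟨hirr⟩
  haveI : Module.Finite F (AdjoinRoot g) := (AdjoinRoot.powerBasis hirr.ne_zero).finite
  haveI : Finite (AdjoinRoot g) := Module.finite_of_finite F
  haveI : Fintype (AdjoinRoot g) := Fintype.ofFinite _
  set q := Fintype.card F
  set lam := AdjoinRoot.root g with hlam
  have hfin : Module.finrank F (AdjoinRoot g) = g.natDegree := by
    rw [(AdjoinRoot.powerBasis hirr.ne_zero).finrank, AdjoinRoot.powerBasis_dim]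
  have hne : lam ≠ 0 := by
    intro h0
    rw [hlam, ← AdjoinRoot.mk_X, AdjoinRoot.mk_eq_zero] at h0
    obtain ⟨k, hk⟩ := (hirr.associated_of_dvd irreducible_X h0).symm.dvd
    exact h (by rw [hk, mul_coeff_zero, coeff_X_zero, zero_mul])
  have hroot : aeval lam⁻¹ g = 0 := by
    obtain ⟨-, -, -, hass⟩ := recip_spec hirr h
    rw [hs] at hass
    obtain ⟨u, hu⟩ := hass.symm
    refine Eq.trans (congrArg (aeval lam⁻¹) hu.symm) ?_
    rw [map_mul]
    letI := invertibleOfNonzero hne
    have hev : eval₂ (algebraMap F (AdjoinRoot g)) lam g = 0 := AdjoinRoot.eval₂_root g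
    have h2 := (eval₂_reverse_eq_zero_iff (algebraMap F (AdjoinRoot g)) lam g).2 hev
    rw [invOf_eq_inv] at h2
    rw [aeval_def, h2, zero_mul]
  let σ : AdjoinRoot g →ₐ[F] AdjoinRoot g := AdjoinRoot.liftAlgHom g (Algebra.ofId F _) lam⁻¹ hroot
  let σ' : AdjoinRoot g ≃ₐ[F] AdjoinRoot g := (Algebra.IsAlgebraic.algEquivEquivAlgHom F (AdjoinRoot g)).symm σ
  obtain ⟨⟨j, hj⟩, hjσ⟩ := (FiniteField.bijective_frobeniusAlgEquivOfAlgebraic_pow F (AdjoinRoot g)).2 σ'
  have hpow : ∀ (i : ℕ) (x : AdjoinRoot g),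
      (FiniteField.frobeniusAlgEquivOfAlgebraic F (AdjoinRoot g) ^ i) x = x ^ q ^ i := by
    intro i x
    induction i with
    | zero => simp
    | succ i ih =>
      rw [pow_succ', AlgEquiv.mul_apply, ih, FiniteField.coe_frobeniusAlgEquivOfAlgebraic, pow_succ, pow_mul]
  have hσ : lam ^ q ^ j = lam⁻¹ := by
    rw [← hpow]
    rw [show (FiniteField.frobeniusAlgEquivOfAlgebraic F (AdjoinRoot g) ^ j) = σ' from hjσ]
    exact AdjoinRoot.liftAlgHom_root g (Algebra.ofId F _) lam⁻¹ hroot
  rcases Nat.eq_zero_or_pos j with rfl | hj0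
  · have hsq : (lam - 1) * (lam + 1) = 0 := by
      rw [pow_zero, pow_one] at hσ
      have : lam * lam = 1 := by
        conv_lhs => arg 2; rw [hσ]
        exact mul_inv_cancel₀ hne
      linear_combination this
    have key : ∀ c : F, AdjoinRoot.root g = algebraMap F (AdjoinRoot g) c → g = X - C c := fun c hc => by
      have hd : g ∣ X - C c := by
        rw [← AdjoinRoot.mk_eq_zero, map_sub, AdjoinRoot.mk_X, AdjoinRoot.mk_C, hc]
        exact sub_self _
      exact eq_of_monic_of_associated hg (monic_X_sub_C c) (hirr.associated_of_dvd (irreducible_X_sub_C c) hd)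
    rcases mul_eq_zero.1 hsq with h1 | h1
    · left; rw [key 1 (by rw [map_one]; exact sub_eq_zero.1 h1), map_one]
    · right; left
      rw [key (-1) (by rw [map_neg, map_one]; exact eq_neg_of_add_eq_zero_left h1), map_neg, map_one, sub_neg_eq_add]
  · right; right
    have h2 : lam ^ q ^ (2 * j) = lam := by
      rw [two_mul, pow_add, pow_mul, hσ, inv_pow, hσ, inv_inv]
    have hone : FiniteField.frobeniusAlgEquivOfAlgebraic F (AdjoinRoot g) ^ (2 * j) = 1 := by
      apply AlgEquiv.coe_toAlgHom_injective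
      refine AdjoinRoot.algHom_ext ?_
      show (FiniteField.frobeniusAlgEquivOfAlgebraic F (AdjoinRoot g) ^ (2 * j)) lam = lam
      rw [hpow, h2]
    have hdvd := orderOf_dvd_of_pow_eq_one hone
    rw [FiniteField.orderOf_frobeniusAlgEquivOfAlgebraic, hfin] at hdvd
    rw [hfin] at hj
    obtain ⟨c, hc⟩ := hdvd
    have hc1 : c = 1 := by
      rcases c with _ | _ | c
      · omega
      · rfl
      · exfalso; nlinarith
    refine ⟨j, by rw [hc, hc1, mul_one], ?_⟩
    rw [← AdjoinRoot.mk_eq_zero, map_sub, map_pow, map_one, AdjoinRoot.mk_X, pow_succ, hσ,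
      inv_mul_cancel₀ hne, sub_self]

end CfsgLib.KnownA.SelfRecip
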