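import Mathlib
import Cfsg.Agent.Lib.KnownA.SelfRecip

/-!
A self-reciprocal polynomial of degree at most `2m+1` over `GF(q)` divides some `X^n - c`
with `(q-1) n ≤ q^(m+1)`.
-/

set_option autoImplicit false

namespace CfsgLib.KnownA.SelfRecipBound

open Polynomial UniqueFactorizationMonoid Finset CfsgLib.KnownA.SelfRecip

lemma sum_mul_ge {α : Type*} [DecidableEq α] {T R A : Finset α} (hR : R ⊆ T) (hA : A ⊆ T) (e d : α → ℕ)
    (h1 : ∀ x ∈ T, 1 ≤ e x) : ∑ x ∈ R, d x + ∑ x ∈ A, (e x - 1) * d x ≤ ∑ x ∈ T, e x * d x := by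
  calc ∑ x ∈ R, d x + ∑ x ∈ A, (e x - 1) * d x ≤ ∑ x ∈ T, d x + ∑ x ∈ T, (e x - 1) * d x :=
        add_le_add (sum_le_sum_of_subset hR) (sum_le_sum_of_subset hA)
    _ = ∑ x ∈ T, e x * d x := by
        rw [← sum_add_distrib]
        refine sum_congr rfl fun x hx => ?_
        obtain ⟨k, hk⟩ := Nat.exists_eq_add_of_le (h1 x hx)
        rw [hk, Nat.add_sub_cancel_left]
        ring

lemma self_le_pow_pred {p a : ℕ} (hp : 2 ≤ p) : a ≤ p ^ (a - 1) := by
  have h := Nat.lt_pow_self (n := a - 1) hp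
  omega

/-- Exponent of the unipotent part against the free dimension. -/
lemma clog_le {p D S E m : ℕ} (hp : p.Prime) (hm : 2 ≤ m) (hD : D ≤ 2 * m + 1) (hD2 : p = 2 → D ≤ 2 * m)
    (hS : 2 * S ≤ D) (h : E + 2 * S ≤ D ∨ 2 * S + 2 * (E - 1) ≤ D) : Nat.clog p E + S ≤ m := by
  have hp2 := hp.two_le
  rcases Nat.lt_or_ge 1 E with hE | hE
  swap
  · rw [Nat.clog_of_right_le_one hE]; omega
  have hlt := Nat.pow_pred_clog_lt_self (b := p) hp.one_lt hE
  rw [Nat.pred_eq_sub_one] at hlt
  generalize Nat.clog p E = a at *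
  have ha := self_le_pow_pred (a := a) hp2
  rcases h with h | h
  swap
  · omega
  by_contra hlt2
  rcases Nat.lt_or_ge a 2 with ha2 | ha2
  · have : 1 ≤ p ^ (a - 1) := Nat.one_le_pow _ _ hp.pos
    rcases Nat.lt_or_ge p 3 with h3 | h3
    · have := hD2 (by omega)
      omega
    · omega
  · obtain ⟨b, rfl⟩ : ∃ b, a = b + 2 := ⟨a - 2, by omega⟩
    rw [show b + 2 - 1 = b + 1 by omega, pow_succ] at hlt
    rcases Nat.lt_or_ge p 3 with h3 | h3
    · obtain rfl : p = 2 := by omega
      have := Nat.lt_pow_self (n := b) (le_refl 2)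
      have := hD2 rfl
      omega
    · have hb : b + 1 ≤ p ^ b := Nat.lt_pow_self hp2
      have : p ^ b * 3 ≤ p ^ b * p := Nat.mul_le_mul_left _ h3
      omega

lemma clog_lt {p D E m : ℕ} (hp : p.Prime) (h3 : p ≠ 2) (hm : 2 ≤ m) (hD : D ≤ 2 * m + 1)
    (hD3 : D = 2 * m + 1 → 3 ≤ m) (hE : E + 1 ≤ D) : Nat.clog p E + 1 ≤ m := by
  have hp3 : 3 ≤ p := by have := hp.two_le; omega
  rcases Nat.lt_or_ge 1 E with hE1 | hE1
  swap
  · rw [Nat.clog_of_right_le_one hE1]; omega
  have hlt := Nat.pow_pred_clog_lt_self (b := p) hp.one_lt hE1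
  rw [Nat.pred_eq_sub_one] at hlt
  generalize Nat.clog p E = a at *
  by_contra hcon
  obtain ⟨b, rfl⟩ : ∃ b, m = b + 2 := ⟨m - 2, by omega⟩
  have h1 : p ^ (b + 1) ≤ p ^ (a - 1) := Nat.pow_le_pow_right hp.pos (by omega)
  rw [pow_succ] at h1
  have h2 : p ^ b * 3 ≤ p ^ b * p := Nat.mul_le_mul_left _ hp3
  have hb : b + 1 ≤ p ^ b := Nat.lt_pow_self hp.two_le
  rcases Nat.eq_zero_or_pos b with rfl | hb0
  · omega
  obtain ⟨c, rfl⟩ : ∃ c, b = c + 1 := ⟨b - 1, by omega⟩
  have hc : c + 1 ≤ p ^ c := Nat.lt_pow_self hp.two_le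
  have h4 : p ^ c * 3 ≤ p ^ (c + 1) := by rw [pow_succ]; exact Nat.mul_le_mul_left _ hp3
  omega

lemma pow_sub_one_dvd_aux {R : Type*} [CommRing R] (x : R) {a b : ℕ} (h : a ∣ b) : x ^ a - 1 ∣ x ^ b - 1 := by
  obtain ⟨k, rfl⟩ := h
  rw [pow_mul]
  have := sub_dvd_pow_sub_pow (x ^ a) 1 k
  rwa [one_pow] at this

theorem exists_dvd_pow_sub {F : Type*} [Field F] [Fintype F] (p : ℕ) [Fact p.Prime] [CharP F p]
    (m : ℕ) (hm : 2 ≤ m) (f : F[X]) (hf : f.Monic) (h0 : f.coeff 0 ≠ 0) (hrev : f ∣ f.reverse)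
    (hD : f.natDegree ≤ 2 * m + 1) (hD2 : p = 2 → f.natDegree ≤ 2 * m)
    (hD3 : f.natDegree = 2 * m + 1 → 3 ≤ m) :
    ∃ n, 0 < n ∧ (∃ c : F, f ∣ X ^ n - C c) ∧ (Fintype.card F - 1) * n ≤ Fintype.card F ^ (m + 1) := by
  classical
  set q := Fintype.card F with hq
  have hpp : p.Prime := Fact.out
  obtain ⟨fn, -, hfn⟩ := FiniteField.card F p
  have hq2 : 2 ≤ q := Fintype.one_lt_card
  have hpq : p ≤ q := by rw [hq, hfn]; exact Nat.le_self_pow fn.ne_zero p
  have hpow : ∀ a r : ℕ, a ≤ r → p ^ a ≤ q ^ r := fun a r h =>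
    (Nat.pow_le_pow_right hpp.pos h).trans (Nat.pow_le_pow_left hpq r)
  set T := (normalizedFactors f).toFinset with hT
  set e : F[X] → ℕ := fun g => (normalizedFactors f).count g with he
  have hirr : ∀ g ∈ T, Irreducible g := fun g hg => irreducible_of_normalized_factor g (Multiset.mem_toFinset.1 hg)
  have hmon : ∀ g ∈ T, g.Monic := fun g hg => by
    have h := normalize_normalized_factor g (Multiset.mem_toFinset.1 hg)
    rw [← h]; exact monic_normalize (hirr g hg).ne_zero
  have hfprod : f = ∏ g ∈ T, g ^ e g := by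
    rw [hT, ← Finset.prod_multiset_count]
    refine eq_of_monic_of_associated hf ?_ (prod_normalizedFactors hf.ne_zero).symm
    have := monic_multiset_prod_of_monic (normalizedFactors f) id
      (fun g hg => hmon g (Multiset.mem_toFinset.2 hg))
    simpa using this
  have hdeg : f.natDegree = ∑ g ∈ T, e g * g.natDegree := by
    conv_lhs => rw [hfprod]
    rw [natDegree_prod _ _ (fun g hg => pow_ne_zero _ (hirr g hg).ne_zero)]
    exact sum_congr rfl fun g _ => natDegree_pow g _
  have he1 : ∀ g ∈ T, 1 ≤ e g := fun g hg => Multiset.one_le_count_iff_mem.2 (Multiset.mem_toFinset.1 hg)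
  have hdvd : ∀ g ∈ T, g ^ e g ∣ f := fun g hg => by
    conv_rhs => rw [hfprod]
    exact dvd_prod_of_mem _ hg
  have hc0 : ∀ g ∈ T, g.coeff 0 ≠ 0 := fun g hg h => by
    obtain ⟨k, hk⟩ := (dvd_pow_self g (by have := he1 g hg; omega)).trans (hdvd g hg)
    exact h0 (by rw [hk, mul_coeff_zero, h, zero_mul])
  have hrev' : f.reverse ∣ f := by
    have h1 : f.reverse.natDegree ≤ f.natDegree := reverse_natDegree_le f
    have hne : f.reverse ≠ 0 := fun h => coeff_zero_reverse_ne hf.ne_zero (by rw [h, coeff_zero])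
    obtain ⟨k, hk⟩ := hrev
    have hk0 : k ≠ 0 := by rintro rfl; exact hne (by rw [hk, mul_zero])
    have hkd : k.natDegree = 0 := by
      have := congrArg natDegree hk
      rw [natDegree_mul hf.ne_zero hk0, natDegree_reverse_eq h0] at this
      omega
    obtain ⟨c, rfl⟩ := natDegree_eq_zero.1 hkd
    have hc : c ≠ 0 := by rintro rfl; exact hk0 C_0
    exact ⟨C c⁻¹, by rw [hk, mul_assoc, ← C_mul, mul_inv_cancel₀ hc, C_1, mul_one]⟩
  have hstar : ∀ g ∈ T, recip g ∈ T ∧ e g ≤ e (recip g) := by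
    intro g hg
    obtain ⟨hi, hm', -, hass⟩ := recip_spec (hirr g hg) (hc0 g hg)
    have hdiv : recip g ^ e g ∣ f := by
      refine (pow_dvd_pow_of_dvd hass.dvd _).trans ?_
      have : g.reverse ^ e g = (g ^ e g).reverse := by
        induction e g with
        | zero => rw [pow_zero, pow_zero, ← C_1, reverse_C]
        | succ k ih => rw [pow_succ, pow_succ, reverse_mul_of_domain, ih]
      rw [this]
      obtain ⟨k, hk⟩ := hdvd g hg
      refine Dvd.dvd.trans ?_ hrev'
      rw [hk, reverse_mul_of_domain]; exact dvd_mul_right _ _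
    have hle : Multiset.replicate (e g) (recip g) ≤ normalizedFactors f := by
      have := (dvd_iff_normalizedFactors_le_normalizedFactors (pow_ne_zero _ hi.ne_zero) hf.ne_zero).1 hdiv
      rwa [normalizedFactors_pow, normalizedFactors_irreducible hi, hm'.normalize_eq_self,
        Multiset.nsmul_singleton] at this
    have hcount : e g ≤ e (recip g) := Multiset.le_count_iff_replicate_le.2 hle
    exact ⟨Multiset.mem_toFinset.2 (Multiset.one_le_count_iff_mem.1 ((he1 g hg).trans hcount)), hcount⟩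
  -- common multiple of the orders of the roots
  set Sp := T.filter (fun g => g = X - 1 ∨ g = X + 1) with hSp
  set R := T.filter (fun g => ¬ (g = X - 1 ∨ g = X + 1)) with hR
  set Rs := R.filter (fun g => recip g = g) with hRs
  set Rn := R.filter (fun g => ¬ recip g = g) with hRn
  set Kp := Rs.image (fun g => g.natDegree / 2) with hKp
  set Km := Rn.image (fun g => g.natDegree) with hKm
  have hRT : R ⊆ T := filter_subset _ _
  have hSpT : Sp ⊆ T := filter_subset _ _
  have hself : ∀ g ∈ Rs, g.natDegree = 2 * (g.natDegree / 2) ∧ g ∣ X ^ (q ^ (g.natDegree / 2) + 1) - 1 := by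
    intro g hg
    obtain ⟨hgR, hgs⟩ := mem_filter.1 hg
    obtain ⟨hgT, hns⟩ := mem_filter.1 hgR
    push Not at hns
    rcases self_case (hirr g hgT) (hmon g hgT) (hc0 g hgT) hgs with h | h | ⟨k, hk, hk'⟩
    · exact absurd h hns.1
    · exact absurd h hns.2
    · rw [hk, Nat.mul_div_cancel_left k (by norm_num)]; exact ⟨rfl, hk'⟩
  have hnon : ∀ g ∈ Rn, recip g ∈ Rn ∧ recip g ≠ g ∧ (recip g).natDegree = g.natDegree := by
    intro g hg
    obtain ⟨hgR, hgs⟩ := mem_filter.1 hg
    obtain ⟨hgT, hns⟩ := mem_filter.1 hgR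
    obtain ⟨hi, -, hd, -⟩ := recip_spec (hirr g hgT) (hc0 g hgT)
    have hss := recip_recip (hirr g hgT) (hmon g hgT) (hc0 g hgT)
    refine ⟨mem_filter.2 ⟨mem_filter.2 ⟨(hstar g hgT).1, ?_⟩, fun h => hgs ?_⟩, hgs, hd⟩
    · intro hsp
      have hfix : ∀ c : F, c * c = 1 → recip (X - C c) = X - C c := by
        intro c hc
        have hirr' := irreducible_X_sub_C c
        have hcne : c ≠ 0 := left_ne_zero_of_mul_eq_one hc
        have hc' : (X - C c).coeff 0 ≠ 0 := by simp [hcne]
        obtain ⟨-, k2, k3, k4⟩ := recip_spec hirr' hc'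
        refine eq_of_monic_of_associated k2 (monic_X_sub_C c) (k4.trans ?_)
        have hd1 : (X - C c).natDegree = 1 := natDegree_X_sub_C c
        have heq : (X - C c).reverse = C (-c) * (X - C c) := by
          ext i
          rw [coeff_reverse, hd1, coeff_C_mul]
          rcases i with _ | _ | i
          · rw [revAt_le zero_le_one]; simp [hc, coeff_C]
          · rw [revAt_le le_rfl]; simp [hc]
          · rw [revAt_eq_self_of_lt (by omega)]; simp [coeff_X, coeff_C]
        rw [heq]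
        exact associated_unit_mul_left _ _ (isUnit_C.2 (isUnit_iff_ne_zero.2 (neg_ne_zero.2 hcne)))
      refine hgs (hss ▸ ?_)
      rcases hsp with h | h
      · rw [hss, h]
        have := hfix 1 (one_mul 1)
        rw [map_one, ← h, hss] at this
        exact h ▸ this.symm
      · rw [hss, h]
        have := hfix (-1) (by ring)
        rw [map_neg, map_one, sub_neg_eq_add, ← h, hss] at this
        exact h ▸ this.symm
    · rw [hss] at h; exact h.symm
  have hKp1 : ∀ k ∈ Kp, 1 ≤ k := by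
    intro k hk
    obtain ⟨g, hg, rfl⟩ := mem_image.1 hk
    have := (hirr g (hRT (mem_filter.1 hg).1)).natDegree_pos
    have := (hself g hg).1
    omega
  have hKm1 : ∀ k ∈ Km, 1 ≤ k := by
    intro k hk
    obtain ⟨g, hg, rfl⟩ := mem_image.1 hk
    exact (hirr g (hRT (mem_filter.1 hg).1)).natDegree_pos
  obtain ⟨L, hL0, hLp, hLm, hLb⟩ := ExpBound.exists_multiple q hq2 Kp Km hKp1 hKm1
  set S := ∑ k ∈ Kp, k + ∑ k ∈ Km, k with hS
  have hSR : 2 * S ≤ ∑ g ∈ R, g.natDegree := by
    have h1 : 2 * ∑ k ∈ Kp, k ≤ ∑ g ∈ Rs, g.natDegree := by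
      rw [mul_sum]
      refine (sum_image_le_of_nonneg (f := fun k => 2 * k) fun _ _ => Nat.zero_le _).trans (le_of_eq ?_)
      exact sum_congr rfl fun g hg => (hself g hg).1.symm
    have h2 : 2 * ∑ k ∈ Km, k ≤ ∑ g ∈ Rn, g.natDegree := by
      rw [← sum_fiberwise_of_maps_to (s := Rn) (g := fun x : F[X] => x.natDegree) (t := Km) (fun x hx => mem_image_of_mem _ hx), mul_sum]
      refine sum_le_sum fun k hk => ?_
      obtain ⟨g, hg, rfl⟩ := mem_image.1 hk
      obtain ⟨hg', hne, hd⟩ := hnon g hg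
      calc 2 * g.natDegree = ∑ x ∈ ({g, recip g} : Finset F[X]), x.natDegree := by
            rw [sum_pair hne.symm, hd]; ring
        _ ≤ _ := sum_le_sum_of_subset (by
            intro x hx
            rcases Finset.mem_insert.1 hx with rfl | hx
            · exact mem_filter.2 ⟨hg, rfl⟩
            · rw [mem_singleton.1 hx]; exact mem_filter.2 ⟨hg', hd⟩)
    rw [← sum_filter_add_sum_filter_not R (fun g => recip g = g)]
    rw [hS, mul_add]
    convert add_le_add h1 h2 using 3
  rcases T.eq_empty_or_nonempty with hTe | hTne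
  · refine ⟨1, one_pos, ⟨1, ?_⟩, ?_⟩
    · rw [hfprod, hTe, prod_empty]; exact one_dvd _
    · rw [mul_one]; exact (Nat.sub_le _ _).trans (Nat.le_self_pow (by omega) q)
  obtain ⟨g0, hg0, hmax⟩ := T.exists_max_image e hTne
  set E := e g0 with hE
  set a := Nat.clog p E with ha
  have hS2 : 2 * S ≤ f.natDegree := by
    rw [hdeg]
    have := sum_mul_ge hRT (empty_subset T) e natDegree he1
    rw [sum_empty, add_zero] at this
    omega
  have hcase : E + 2 * S ≤ f.natDegree ∨ 2 * S + 2 * (E - 1) ≤ f.natDegree := by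
    rw [hdeg]
    by_cases hsp : g0 ∈ Sp
    · left
      have hdis : Disjoint R {g0} := disjoint_singleton_right.2 fun h =>
        (mem_filter.1 h).2 (mem_filter.1 hsp).2
      have hsub : R ∪ {g0} ⊆ T := union_subset hRT (singleton_subset_iff.2 hg0)
      have h := sum_mul_ge hsub (singleton_subset_iff.2 hg0) e natDegree he1
      rw [sum_union hdis, sum_singleton, sum_singleton] at h
      have hd1 : g0.natDegree = 1 := by
        rcases (mem_filter.1 hsp).2 with h | h <;> rw [h]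
        · rw [← C_1]; exact natDegree_X_sub_C 1
        · rw [← C_1]; exact natDegree_X_add_C 1
      rw [hd1, mul_one] at h
      have := he1 g0 hg0
      omega
    · right
      have hgR : g0 ∈ R := mem_filter.2 ⟨hg0, fun h => hsp (mem_filter.2 ⟨hg0, h⟩)⟩
      by_cases hs : recip g0 = g0
      · have h := sum_mul_ge hRT (singleton_subset_iff.2 hg0) e natDegree he1
        rw [sum_singleton, ← hE] at h
        have hd := hself g0 (mem_filter.2 ⟨hgR, hs⟩)
        have := (hirr g0 hg0).natDegree_pos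
        have h2 : (E - 1) * 2 ≤ (E - 1) * g0.natDegree := Nat.mul_le_mul_left _ (by omega)
        omega
      · obtain ⟨hg', hne, hd⟩ := hnon g0 (mem_filter.2 ⟨hgR, hs⟩)
        have hs' := hstar g0 hg0
        have hsub : ({g0, recip g0} : Finset F[X]) ⊆ T := Finset.insert_subset_iff.2
          ⟨hg0, singleton_subset_iff.2 hs'.1⟩
        have h := sum_mul_ge hRT hsub e natDegree he1
        rw [sum_pair hne.symm, hd, ← hE] at h
        have := (hirr g0 hg0).natDegree_pos
        have h2 : (E - 1) * 1 ≤ (E - 1) * g0.natDegree := Nat.mul_le_mul_left _ this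
        have h3 : (E - 1) * 1 ≤ (e (recip g0) - 1) * g0.natDegree :=
          Nat.mul_le_mul (Nat.sub_le_sub_right hs'.2 1) this
        omega
  have ha' : a + S ≤ m := clog_le hpp hm hD hD2 hS2 hcase
  have hEpow : ∀ g ∈ T, e g ≤ p ^ a := fun g hg => (hmax g hg).trans (Nat.le_pow_clog hpp.one_lt E)
  have hmain : ∀ (N : ℕ) (c : F), (∀ g ∈ T, g ∣ X ^ N - C c) → f ∣ X ^ (N * p ^ a) - C (c ^ p ^ a) := by
    intro N c hN
    rw [hfprod]
    refine Finset.prod_dvd_of_coprime ?_ ?_
    · intro x hx y hy hxy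
      refine IsCoprime.pow ((hirr x hx).coprime_iff_not_dvd.2 fun h => hxy ?_)
      exact eq_of_monic_of_associated (hmon x hx) (hmon y hy) ((hirr x hx).associated_of_dvd (hirr y hy) h)
    · intro g hg
      calc g ^ e g ∣ g ^ p ^ a := pow_dvd_pow g (hEpow g hg)
        _ ∣ (X ^ N - C c) ^ p ^ a := pow_dvd_pow_of_dvd (hN g hg) _
        _ = X ^ (N * p ^ a) - C (c ^ p ^ a) := by rw [sub_pow_char_pow, ← pow_mul, C_pow]
  have hq1 : ∀ g ∈ Sp, g ∣ X ^ 2 - 1 := by
    intro g hg
    rcases (mem_filter.1 hg).2 with rfl | rfl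
    · exact ⟨X + 1, by ring⟩
    · exact ⟨X - 1, by ring⟩
  by_cases hK : Kp = ∅ ∧ Km = ∅
  · have hTS : ∀ g ∈ T, g ∈ Sp := by
      intro g hg
      by_contra h
      have hgR : g ∈ R := mem_filter.2 ⟨hg, fun h' => h (mem_filter.2 ⟨hg, h'⟩)⟩
      by_cases hs : recip g = g
      · have := mem_image_of_mem (fun g => g.natDegree / 2) (mem_filter.2 ⟨hgR, hs⟩ : g ∈ Rs)
        rw [← hKp, hK.1] at this; exact notMem_empty _ this
      · have := mem_image_of_mem (fun g => g.natDegree) (mem_filter.2 ⟨hgR, hs⟩ : g ∈ Rn)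
        rw [← hKm, hK.2] at this; exact notMem_empty _ this
    by_cases hone : ∀ g ∈ T, g = g0
    · obtain ⟨c, hc⟩ : ∃ c : F, g0 ∣ X ^ 1 - C c := by
        rcases (mem_filter.1 (hTS g0 hg0)).2 with h | h
        · exact ⟨1, by rw [h, C_1, pow_one]⟩
        · exact ⟨-1, by rw [h, map_neg, C_1, pow_one, sub_neg_eq_add]⟩
      refine ⟨1 * p ^ a, by have := hpp.pos; positivity, ⟨_, hmain 1 c fun g hg => (hone g hg).symm ▸ hc⟩, ?_⟩
      calc (q - 1) * (1 * p ^ a) ≤ q * q ^ m :=
            Nat.mul_le_mul (Nat.sub_le _ _) (by rw [one_mul]; exact hpow a m (by omega))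
        _ = q ^ (m + 1) := (pow_succ' q m).symm
    · push Not at hone
      obtain ⟨g1, hg1, hne⟩ := hone
      have hp2 : p ≠ 2 := by
        rintro rfl
        have h : (X + 1 : F[X]) = X - 1 := by
          rw [sub_eq_add_neg, ← C_1, ← C_neg, CharTwo.neg_eq]
        rcases (mem_filter.1 (hTS g0 hg0)).2 with h1 | h1 <;>
          rcases (mem_filter.1 (hTS g1 hg1)).2 with h2 | h2 <;> exact hne (by simp [h1, h2, h])
      have hE1 : E + 1 ≤ f.natDegree := by
        rw [hdeg]
        have hsub : ({g0, g1} : Finset F[X]) ⊆ T := Finset.insert_subset_iff.2 ⟨hg0, singleton_subset_iff.2 hg1⟩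
        refine le_trans ?_ (sum_le_sum_of_subset hsub)
        rw [sum_pair hne.symm]
        have := (hirr g0 hg0).natDegree_pos
        have := (hirr g1 hg1).natDegree_pos
        have := he1 g1 hg1
        have h2 : E * 1 ≤ e g0 * g0.natDegree := Nat.mul_le_mul_left _ (hirr g0 hg0).natDegree_pos
        have h3 : 1 * 1 ≤ e g1 * g1.natDegree := Nat.mul_le_mul (he1 g1 hg1) (hirr g1 hg1).natDegree_pos
        omega
      have ham := clog_lt hpp hp2 hm hD hD3 hE1
      refine ⟨2 * p ^ a, by have := hpp.pos; positivity,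
        ⟨_, hmain 2 1 fun g hg => by rw [C_1]; exact hq1 g (hTS g hg)⟩, ?_⟩
      calc (q - 1) * (2 * p ^ a) ≤ q * (p * p ^ a) :=
            Nat.mul_le_mul (Nat.sub_le _ _) (Nat.mul_le_mul_right _ hpp.two_le)
        _ ≤ q * q ^ m := Nat.mul_le_mul_left _ (by rw [← pow_succ']; exact hpow (a + 1) m ham)
        _ = q ^ (m + 1) := (pow_succ' q m).symm
  · refine ⟨L * p ^ a, by have := hpp.pos; positivity, ⟨_, hmain L 1 fun g hg => ?_⟩, ?_⟩
    · rw [C_1]
      by_cases hsp : g ∈ Sp
      · rcases (mem_filter.1 hsp).2 with rfl | rfl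
        · simpa using sub_dvd_pow_sub_pow (X : F[X]) 1 L
        · by_cases hp2 : p = 2
          · subst hp2
            rw [show (X + 1 : F[X]) = X - 1 by rw [sub_eq_add_neg, ← C_1, ← C_neg, CharTwo.neg_eq]]
            simpa using sub_dvd_pow_sub_pow (X : F[X]) 1 L
          · have hqodd : Odd q := by rw [hq, hfn]; exact (hpp.odd_of_ne_two hp2).pow
            have hL2 : 2 ∣ L := by
              rcases Kp.eq_empty_or_nonempty with hKe | ⟨k, hk⟩
              · obtain ⟨k, hk⟩ : Km.Nonempty := nonempty_iff_ne_empty.2 fun h => hK ⟨hKe, h⟩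
                exact (Nat.Odd.sub_odd hqodd.pow odd_one).two_dvd.trans (hLm k hk)
              · exact (hqodd.pow.add_one).two_dvd.trans (hLp k hk)
            exact dvd_trans (show (X + 1 : F[X]) ∣ X ^ 2 - 1 from ⟨X - 1, by ring⟩) (pow_sub_one_dvd_aux X hL2)
      · have hgR : g ∈ R := mem_filter.2 ⟨hg, fun h' => hsp (mem_filter.2 ⟨hg, h'⟩)⟩
        by_cases hs : recip g = g
        · have hg' : g ∈ Rs := mem_filter.2 ⟨hgR, hs⟩
          exact (hself g hg').2.trans (pow_sub_one_dvd_aux X (hLp _ (mem_image_of_mem _ hg')))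
        · have hg' : g ∈ Rn := mem_filter.2 ⟨hgR, hs⟩
          exact dvd_pow_sub_one (hirr g hg) (hc0 g hg) (hLm _ (mem_image_of_mem _ hg'))
    · calc (q - 1) * (L * p ^ a) = L * (q - 1) * p ^ a := by ring
        _ ≤ q ^ (S + 1) * q ^ (m - S) := Nat.mul_le_mul hLb (hpow a (m - S) (by omega))
        _ = q ^ (m + 1) := by rw [← pow_add]; congr 1; omega

end CfsgLib.KnownA.SelfRecipBound
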