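import Mathlib
import Cfsg.Agent.Lib.KnownA.SelfRecipBound

/-!
Element orders of matrices preserving a non-degenerate bilinear form, modulo scalars.
-/

set_option autoImplicit false

namespace CfsgLib.KnownA.IsometryOrder

open Polynomial Matrix

variable {F : Type*} [Field F] {ι : Type*} [Fintype ι] [DecidableEq ι]

theorem exists_pow_scalar [Fintype F] [Nonempty ι] (p : ℕ) [Fact p.Prime] [CharP F p] (m : ℕ) (hm : 2 ≤ m)
    (J M : Matrix ι ι F) (hJ : IsUnit J.det) (hM : Mᵀ * J * M = J)
    (hι : Fintype.card ι ≤ 2 * m + 1) (hι2 : p = 2 → Fintype.card ι ≤ 2 * m)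
    (hι3 : Fintype.card ι = 2 * m + 1 → 3 ≤ m) :
    ∃ n, 0 < n ∧ (∃ c : F, M ^ n = Matrix.scalar ι c) ∧
      (Fintype.card F - 1) * n ≤ Fintype.card F ^ (m + 1) := by
  classical
  have hMdet : IsUnit M.det := by
    have h := congrArg Matrix.det hM
    rw [Matrix.det_mul, Matrix.det_mul, Matrix.det_transpose] at h
    refine isUnit_iff_ne_zero.2 fun h0 => hJ.ne_zero ?_
    rw [h0] at h
    simpa using h.symm
  set f := minpoly F M with hf
  have hint : IsIntegral F M := Matrix.isIntegral M
  have hmon : f.Monic := minpoly.monic hint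
  have hdeg : f.natDegree ≤ Fintype.card ι := by
    rw [← Matrix.charpoly_natDegree_eq_dim M]
    exact natDegree_le_of_dvd (Matrix.minpoly_dvd_charpoly M) (Matrix.charpoly_monic M).ne_zero
  have hcancel : ∀ X : Matrix ι ι F, M * X = 0 → X = 0 := by
    intro X hX
    rw [← Matrix.one_mul X, ← Matrix.nonsing_inv_mul M hMdet, Matrix.mul_assoc, hX, Matrix.mul_zero]
  have h0 : f.coeff 0 ≠ 0 := by
    intro h
    obtain ⟨g, hg⟩ := X_dvd_iff.2 h
    have h1 : (aeval M) f = 0 := minpoly.aeval F M
    rw [hg, map_mul, aeval_X] at h1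
    have h2 := hcancel _ h1
    have h3 := minpoly.dvd F M h2
    rw [← hf, hg] at h3
    have hg0 : g ≠ 0 := by rintro rfl; exact hmon.ne_zero (by rw [hg, mul_zero])
    have := natDegree_le_of_dvd h3 hg0
    rw [natDegree_mul X_ne_zero hg0, natDegree_X] at this
    omega
  have hinv : aeval M⁻¹ f = 0 := by
    have htr : ∀ g : F[X], aeval Mᵀ g = (aeval M g)ᵀ := by
      intro g
      induction g using Polynomial.induction_on' with
      | add a b ha hb => simp [ha, hb]
      | monomial k a =>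
        rw [aeval_monomial, aeval_monomial, Matrix.transpose_mul, ← Matrix.transpose_pow,
          Algebra.algebraMap_eq_smul_one, Matrix.transpose_smul, Matrix.transpose_one]
        simp
    let u : (Matrix ι ι F)ˣ := ((Matrix.isUnit_iff_isUnit_det J).2 hJ).unit
    have hu : (u : Matrix ι ι F) = J := rfl
    have hJM : Mᵀ * J = J * M⁻¹ := by
      calc Mᵀ * J = Mᵀ * J * (M * M⁻¹) := by rw [Matrix.mul_nonsing_inv M hMdet, Matrix.mul_one]
        _ = J * M⁻¹ := by rw [← Matrix.mul_assoc, hM]
    have hconj : ∀ g : F[X], aeval Mᵀ g * J = J * aeval M⁻¹ g := by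
      intro g
      induction g using Polynomial.induction_on' with
      | add a b ha hb => simp [add_mul, mul_add, ha, hb]
      | monomial k a =>
        have hk : Mᵀ ^ k * J = J * M⁻¹ ^ k := by
          induction k with
          | zero => simp
          | succ i ih =>
            rw [pow_succ, pow_succ, Matrix.mul_assoc, hJM, ← Matrix.mul_assoc, ih, Matrix.mul_assoc]
        rw [aeval_monomial, aeval_monomial, Algebra.algebraMap_eq_smul_one]
        simp [hk]
    have h1 := hconj f
    rw [htr, hf, minpoly.aeval, Matrix.transpose_zero, Matrix.zero_mul] at h1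
    have h2 : J * aeval M⁻¹ f = 0 := h1.symm
    rw [← Matrix.one_mul (aeval M⁻¹ f), ← Matrix.nonsing_inv_mul J hJ, Matrix.mul_assoc, h2, Matrix.mul_zero]
  have hrev : f ∣ f.reverse := by
    refine minpoly.dvd F M ?_
    have hle : f.reverse.natDegree < f.natDegree + 1 := Nat.lt_succ_of_le (reverse_natDegree_le f)
    have hkey : ∀ j, j ≤ f.natDegree → M ^ (f.natDegree - j) = M ^ f.natDegree * M⁻¹ ^ j := by
      intro j hj
      induction j with
      | zero => simp
      | succ i ih =>
        rw [pow_succ, ← Matrix.mul_assoc, ← ih (by omega),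
          show f.natDegree - i = f.natDegree - (i + 1) + 1 by omega, pow_succ, Matrix.mul_assoc,
          Matrix.mul_nonsing_inv M hMdet, Matrix.mul_one]
    rw [aeval_eq_sum_range' hle, ← Finset.sum_range_reflect]
    have h1 : M ^ f.natDegree * aeval M⁻¹ f = 0 := by rw [hinv, Matrix.mul_zero]
    rw [aeval_eq_sum_range, Finset.mul_sum] at h1
    refine Eq.trans (Finset.sum_congr rfl fun j hj => ?_) h1
    have hj' : j ≤ f.natDegree := Nat.lt_succ_iff.1 (Finset.mem_range.1 hj)
    rw [show f.natDegree + 1 - 1 - j = f.natDegree - j by omega, coeff_reverse,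
      revAt_le (Nat.sub_le _ _), Nat.sub_sub_self hj', hkey j hj', Matrix.mul_smul]
  obtain ⟨n, hn, ⟨c, hc⟩, hb⟩ := SelfRecipBound.exists_dvd_pow_sub p m hm f hmon h0 hrev
    (hdeg.trans hι) (fun h => hdeg.trans (hι2 h)) (fun h => hι3 (le_antisymm hι (h ▸ hdeg)))
  refine ⟨n, hn, ⟨c, ?_⟩, hb⟩
  have := (minpoly.dvd_iff).1 hc
  rw [map_sub, map_pow, aeval_X, aeval_C, sub_eq_zero] at this
  exact this

theorem orderOf_bound [Fintype F] [Nonempty ι] (p : ℕ) [Fact p.Prime] [CharP F p] (m : ℕ) (hm : 2 ≤ m)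
    (J : Matrix ι ι F) (hJ : IsUnit J.det)
    (hι : Fintype.card ι ≤ 2 * m + 1) (hι2 : p = 2 → Fintype.card ι ≤ 2 * m)
    (hι3 : Fintype.card ι = 2 * m + 1 → 3 ≤ m)
    {G : Type*} [Group G] (φ : G →* Matrix ι ι F) (hφ : Function.Injective φ)
    (hG : ∀ g, (φ g)ᵀ * J * φ g = J) (g : G ⧸ Subgroup.center G) :
    (Fintype.card F - 1) * orderOf g ≤ Fintype.card F ^ (m + 1) := by
  obtain ⟨x, rfl⟩ := QuotientGroup.mk_surjective g
  obtain ⟨n, hn, ⟨c, hc⟩, hb⟩ := exists_pow_scalar p m hm J (φ x) hJ (hG x) hι hι2 hι3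
  have hcen : x ^ n ∈ Subgroup.center G := Subgroup.mem_center_iff.2 fun y => hφ (by
    rw [map_mul, map_mul, map_pow, hc]
    exact ((Matrix.scalar_commute c (fun r => Commute.all c r) (φ y)).eq).symm)
  have : (QuotientGroup.mk x : G ⧸ Subgroup.center G) ^ n = 1 := by
    rw [← QuotientGroup.mk_pow, QuotientGroup.eq_one_iff]; exact hcen
  exact (Nat.mul_le_mul_left _ (orderOf_le_of_pow_eq_one hn this)).trans hb

end CfsgLib.KnownA.IsometryOrder
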