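import Cfsg.Agent.Lib.SmallGroups.J1Order
import Cfsg.Agent.Lib.Schur.Bound
import Cfsg.Agent.Lib.Recognition.Zassenhaus.Presentations

/-!
# The multiplier of `J₁` and an involution centraliser
-/

set_option autoImplicit false
set_option maxRecDepth 100000

open scoped commutatorElement

namespace CfsgLib.KnownA.J1Facts

open CfsgLib.J1 Cfsg.Spor CfsgLib.SmallGroups.J1Order

/-- An involution. -/
def wT : List Bool := [true, true, true, true, false, true, false]

/-- An element of order three commuting with it. -/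
def wA : List Bool := [false, true, false, true, true, true, false, false, true, true, true, false,
  true, false, true]

/-- An element of order five commuting with it. -/
def wB : List Bool := [true, false, false, false, true, true, false, true, false, true, true, false,
  true, false, false, false]

/-- Powers of the first generator. -/
def xs (k : ℕ) : List Bool := List.replicate k false

/-- Conjugates of the involution. -/
def wT1 : List Bool := xs 1 ++ wT ++ xs 6

/-- Conjugates of the involution. -/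
def wT2 : List Bool := xs 2 ++ wT ++ xs 5

theorem certs :
    (beq (evalWord (wT ++ wT)) one && beq (evalWord (wA ++ wA ++ wA)) one &&
      beq (evalWord (wB ++ wB ++ wB ++ wB ++ wB)) one &&
      beq (evalWord (wA ++ wB ++ (wA ++ wB))) one &&
      beq (evalWord (wT ++ wA)) (evalWord (wA ++ wT)) &&
      beq (evalWord (wT ++ wB)) (evalWord (wB ++ wT)) &&
      !beq (evalWord wA) (evalWord []) && !beq (evalWord wT) (evalWord []) &&
      beq (evalWord (xs 1 ++ xs 6)) one &&
      beq (evalWord (xs 3 ++ wT ++ xs 4)) (evalWord (wT ++ wT2)) &&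
      beq (evalWord (wT ++ wT1)) (evalWord (wT1 ++ wT)) &&
      beq (evalWord (wT ++ wT2)) (evalWord (wT2 ++ wT)) &&
      beq (evalWord (wT1 ++ wT2)) (evalWord (wT2 ++ wT1)) &&
      !beq (evalWord wT1) (evalWord []) && !beq (evalWord wT2) (evalWord []) &&
      !beq (evalWord (wT ++ wT1)) (evalWord []) && !beq (evalWord (wT ++ wT2)) (evalWord []) &&
      !beq (evalWord (wT1 ++ wT2)) (evalWord []) &&
      !beq (evalWord (wT ++ wT1 ++ wT2)) (evalWord [])) = true := by
  decide +kernel

theorem elt_append (l m : List Bool) : elt (l ++ m) = elt l * elt m :=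
  Subtype.ext (Units.ext (by
    rw [elt_val, eval_append, Subgroup.coe_mul, Units.val_mul, elt_val, elt_val]))

theorem elt_of_beq {l m : List Bool} (h : beq (evalWord l) (evalWord m) = true) : elt l = elt m :=
  elt_eq (elt_val l) h

theorem elt_of_one {l : List Bool} (h : beq (evalWord l) one = true) : elt l = 1 := by
  rw [← elt_nil]; exact elt_of_beq (eval_nil ▸ h)

theorem elt_ne_one {l : List Bool} (h : beq (evalWord l) (evalWord []) = false) : elt l ≠ 1 := by
  rw [← elt_nil]; exact elt_ne h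

theorem facts :
    (elt wT * elt wT = 1 ∧ elt wT ≠ 1) ∧
    (elt wA ^ 3 = 1 ∧ elt wB ^ 5 = 1 ∧ (elt wA * elt wB) ^ 2 = 1 ∧ elt wA ≠ 1 ∧
      Commute (elt wT) (elt wA) ∧ Commute (elt wT) (elt wB)) ∧
    ∃ g B C : J1, B = g * elt wT * g⁻¹ ∧ C = g * B * g⁻¹ ∧ g * C * g⁻¹ = elt wT * C ∧
      Commute (elt wT) B ∧ Commute (elt wT) C ∧ Commute B C ∧ B ≠ 1 ∧ C ≠ 1 ∧ elt wT * B ≠ 1 ∧
      elt wT * C ≠ 1 ∧ B * C ≠ 1 ∧ elt wT * B * C ≠ 1 := by
  have h := certs
  simp only [Bool.and_eq_true, Bool.not_eq_true'] at h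
  obtain ⟨⟨⟨⟨⟨⟨⟨⟨⟨⟨⟨⟨⟨⟨⟨⟨⟨⟨h1, h2⟩, h3⟩, h4⟩, h5⟩, h6⟩, h7⟩, h8⟩, h9⟩, h10⟩, h11⟩, h12⟩,
    h13⟩, h14⟩, h15⟩, h16⟩, h17⟩, h18⟩, h19⟩ := h
  refine ⟨⟨?_, elt_ne_one h8⟩, ⟨?_, ?_, ?_, elt_ne_one h7, ?_, ?_⟩, ?_⟩
  · rw [← elt_append]; exact elt_of_one h1
  · rw [pow_three, ← elt_append, ← elt_append, ← List.append_assoc]; exact elt_of_one h2
  · simp only [pow_succ, pow_zero, one_mul, ← elt_append]; exact elt_of_one h3
  · rw [pow_two, ← elt_append, ← elt_append]; exact elt_of_one h4
  · have := elt_of_beq h5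
    rwa [elt_append, elt_append] at this
  · have := elt_of_beq h6
    rwa [elt_append, elt_append] at this
  have hsplit : ∀ i j : ℕ, elt (xs (i + j)) = elt (xs i) * elt (xs j) := fun i j => by
    rw [← elt_append, xs, xs, xs, List.replicate_add]
  set g := elt (xs 1) with hg
  have hinv : elt (xs 6) = g⁻¹ := by
    refine eq_inv_of_mul_eq_one_right ?_
    rw [hg, ← elt_append]; exact elt_of_one h9
  have hpow : ∀ i : ℕ, elt (xs i) = g ^ i := by
    intro i
    induction i with
    | zero => rw [pow_zero]; exact elt_nil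
    | succ i ih => rw [hsplit, ih, pow_succ]
  have h7' : g ^ 7 = 1 := by
    rw [← hpow, hsplit 1 6, hinv, mul_inv_cancel]
  refine ⟨g, elt wT1, elt wT2, ?_, ?_, ?_, ?_, ?_, ?_, elt_ne_one h14, elt_ne_one h15, ?_, ?_, ?_,
    ?_⟩
  · rw [wT1, elt_append, elt_append, hinv]
  · rw [wT1, wT2, elt_append, elt_append, elt_append, elt_append, hinv, hpow 2, hpow 5,
      show g ^ 5 = g⁻¹ * g⁻¹ by
        rw [← mul_inv_rev, eq_comm, inv_eq_iff_mul_eq_one, ← pow_two, ← pow_add, h7']]
    simp only [← hg, pow_two]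
    group
  · have := elt_of_beq h10
    rw [elt_append, elt_append, elt_append] at this
    rw [← this, wT2, elt_append, elt_append, hpow 2, hpow 3, hpow 4, hpow 5]
    rw [show g ^ 4 = g ^ 5 * g⁻¹ by rw [pow_succ g 4, mul_inv_cancel_right]]
    group
  · have := elt_of_beq h11
    rwa [elt_append, elt_append] at this
  · have := elt_of_beq h12
    rwa [elt_append, elt_append] at this
  · have := elt_of_beq h13
    rwa [elt_append, elt_append] at this
  · rw [← elt_append]; exact elt_ne_one h16
  · rw [← elt_append]; exact elt_ne_one h17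
  · rw [← elt_append]; exact elt_ne_one h18
  · rw [← elt_append, ← elt_append]; exact elt_ne_one h19

/-- The map of an element squaring to one. -/
def twoHom {G : Type*} [Group G] (a : G) (h : a * a = 1) : Multiplicative (ZMod 2) →* G where
  toFun i := if i.toAdd = 0 then 1 else a
  map_one' := if_pos rfl
  map_mul' i j := by
    have hz : ∀ x : ZMod 2, x = 0 ∨ x = 1 := by decide
    rcases hz i.toAdd with hi | hi <;> rcases hz j.toAdd with hj | hj <;>
      simp [toAdd_mul, hi, hj, h, show (1 : ZMod 2) + 1 = 0 by decide]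

theorem card_J1 : Nat.card J1 = 175560 := isJ1.2

theorem prime_cases {r : ℕ} [hr : Fact r.Prime] (h : r ∣ 175560) (h2 : r ≠ 2) :
    r = 3 ∨ r = 5 ∨ r = 7 ∨ r = 11 ∨ r = 19 := by
  have hp := hr.out
  have key : ∀ a b : ℕ, a.Prime → r ∣ a * b → r = a ∨ r ∣ b := fun a b ha h =>
    ((hp.dvd_mul).1 h).imp_left fun h => (Nat.prime_dvd_prime_iff_eq hp ha).1 h
  rw [show (175560 : ℕ) = 2 * (2 * (2 * (3 * (5 * (7 * (11 * 19)))))) by norm_num] at h
  rcases key 2 _ Nat.prime_two h with e | h; · exact absurd e h2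
  rcases key 2 _ Nat.prime_two h with e | h; · exact absurd e h2
  rcases key 2 _ Nat.prime_two h with e | h; · exact absurd e h2
  rcases key 3 _ Nat.prime_three h with e | h; · exact Or.inl e
  rcases key 5 _ (by norm_num) h with e | h; · exact Or.inr (Or.inl e)
  rcases key 7 _ (by norm_num) h with e | h; · exact Or.inr (Or.inr (Or.inl e))
  rcases key 11 _ (by norm_num) h with e | h; · exact Or.inr (Or.inr (Or.inr (Or.inl e)))
  exact Or.inr (Or.inr (Or.inr (Or.inr ((Nat.prime_dvd_prime_iff_eq hp (by norm_num)).1 h))))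

theorem sylow_cyclic {r : ℕ} [Fact r.Prime] (h : r ∣ 175560) (h2 : r ≠ 2)
    (P : Sylow r J1) : IsCyclic (P : Subgroup J1) := by
  have := finite_J1
  refine isCyclic_of_prime_card (p := r) ?_
  rw [P.card_eq_multiplicity, card_J1]
  have hv : (175560 : ℕ).factorization r = 1 := by
    rw [← Nat.primeFactorsList_count_eq]
    rcases prime_cases h h2 with rfl | rfl | rfl | rfl | rfl <;>
      simp
  rw [hv, pow_one]

theorem zmod_two_cases : ∀ x : Multiplicative (ZMod 2), x = 1 ∨ x = Multiplicative.ofAdd 1 := by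
  decide

set_option maxHeartbeats 1600000 in
theorem multiplier_trivial : Cfsg.HasCyclicSchurMultiplier J1 1 := by
  have := finite_J1
  refine CfsgLib.Schur.Basic.hasCyclicSchurMultiplier_one_of fun X _ _ σ hσ => ?_
  obtain ⟨hs, hk, hc⟩ := hσ
  rw [eq_bot_iff]
  intro z hz
  rw [Subgroup.mem_bot]
  refine CfsgLib.Schur.Bound.eq_one_of_pow_index z (Nat.card J1) Nat.card_pos.ne'
    (fun r hr hrd => ?_) (CfsgLib.Schur.Bound.pow_card_eq_one σ hs hk hz (hc hz))
  have := Fact.mk hr
  by_cases hr2 : r = 2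
  · subst hr2
    obtain ⟨⟨hA2, hA1⟩, -, g, B, C, hB, hC, hD, hAB, hAC, hBC, hB1, hC1, hAB1, hAC1, hBC1, hABC1⟩ :=
      facts
    set A := elt wT
    have hB2 : B * B = 1 := by
      rw [hB, show g * A * g⁻¹ * (g * A * g⁻¹) = g * (A * A) * g⁻¹ by group, hA2, mul_one,
        mul_inv_cancel]
    have hC2 : C * C = 1 := by
      rw [hC, show g * B * g⁻¹ * (g * B * g⁻¹) = g * (B * B) * g⁻¹ by group, hB2, mul_one,
        mul_inv_cancel]
    obtain ⟨a, ha⟩ := hs A
    obtain ⟨b, hb⟩ := hs B
    obtain ⟨c, hc'⟩ := hs C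
    obtain ⟨k, hk'⟩ := hs g
    have hcen : ∀ {z : X}, σ z = 1 → ∀ w, Commute z w := fun hz w =>
      (Subgroup.mem_center_iff.1 (hk hz) w).symm
    have hcongr : ∀ {u u' v v' : X}, σ u = σ u' → σ v = σ v' → ⁅u, v⁆ = ⁅u', v'⁆ := by
      intro u u' v v' hu hv
      obtain ⟨z, hz, rfl⟩ : ∃ z, σ z = 1 ∧ u = u' * z := ⟨u'⁻¹ * u,
        by rw [map_mul, map_inv, hu, inv_mul_cancel], (mul_inv_cancel_left _ _).symm⟩
      obtain ⟨w, hw, rfl⟩ : ∃ w, σ w = 1 ∧ v = v' * w := ⟨v'⁻¹ * v,
        by rw [map_mul, map_inv, hv, inv_mul_cancel], (mul_inv_cancel_left _ _).symm⟩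
      simp only [commutatorElement_def, _root_.mul_inv_rev]
      calc u' * z * (v' * w) * (z⁻¹ * u'⁻¹) * (w⁻¹ * v'⁻¹)
          = u' * (z * (v' * w) * z⁻¹) * u'⁻¹ * (w⁻¹ * v'⁻¹) := by group
        _ = u' * (v' * w) * u'⁻¹ * (w⁻¹ * v'⁻¹) := by
            rw [(hcen hz (v' * w)).eq, mul_inv_cancel_right]
        _ = u' * v' * (w * u'⁻¹ * w⁻¹) * v'⁻¹ := by group
        _ = u' * v' * u'⁻¹ * v'⁻¹ := by rw [(hcen hw u'⁻¹).eq, mul_inv_cancel_right]
    have hone : ∀ {u v : X}, Commute (σ u) (σ v) → ∀ w, Commute ⁅u, v⁆ w := fun h w => hcen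
      (by rw [map_commutatorElement, commutatorElement_eq_one_iff_mul_comm]; exact h.eq) w
    have hshift : ∀ {u v : X}, Commute (σ u) (σ v) →
        ⁅u, v⁆ = ⁅k * u * k⁻¹, k * v * k⁻¹⁆ := fun h => by
      rw [← conjugate_commutatorElement, ← (hone h k).eq, mul_inv_cancel_right]
    have e1 : ⁅a, b⁆ = ⁅b, c⁆ := (hshift (by rw [ha, hb]; exact hAB)).trans
      (hcongr (by rw [map_mul, map_mul, map_inv, hk', ha, hb, hB])
        (by rw [map_mul, map_mul, map_inv, hk', hb, hc', hC]))
    have e2 : ⁅a, c⁆ = 1 := by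
      rw [(hshift (by rw [ha, hc']; exact hAC)).trans
        (hcongr (u' := b) (v' := a * c) (by rw [map_mul, map_mul, map_inv, hk', ha, hb, hB])
          (by rw [map_mul, map_mul, map_inv, hk', hc', map_mul, ha, hc', hD]))]
      calc ⁅b, a * c⁆ = ⁅b, a⁆ * (a * ⁅b, c⁆ * a⁻¹) := by simp only [commutatorElement_def]; group
        _ = ⁅b, a⁆ * ⁅b, c⁆ := by
          rw [← (hone (by rw [hb, hc']; exact hBC) a).eq, mul_inv_cancel_right]
        _ = 1 := by rw [← e1, ← commutatorElement_inv a b, inv_mul_cancel]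
    have e3 : ⁅b, c⁆ = 1 := by
      rw [(hshift (by rw [hb, hc']; exact hBC)).trans
        (hcongr (u' := c) (v' := a * c) (by rw [map_mul, map_mul, map_inv, hk', hb, hc', hC])
          (by rw [map_mul, map_mul, map_inv, hk', hc', map_mul, ha, hc', hD]))]
      calc ⁅c, a * c⁆ = ⁅c, a⁆ := by simp only [commutatorElement_def]; group
        _ = 1 := by rw [← commutatorElement_inv, e2, inv_one]
    let ψ : (Multiplicative (ZMod 2) × Multiplicative (ZMod 2)) × Multiplicative (ZMod 2) →* J1 :=
      MonoidHom.noncommCoprod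
        (MonoidHom.noncommCoprod (twoHom A hA2) (twoHom B hB2) fun i j => by
          simp only [twoHom, MonoidHom.coe_mk, OneHom.coe_mk]
          split_ifs <;> first | exact Commute.one_left _ | exact Commute.one_right _ | exact hAB)
        (twoHom C hC2) fun i j => by
          simp only [MonoidHom.noncommCoprod_apply, twoHom, MonoidHom.coe_mk, OneHom.coe_mk]
          split_ifs <;> simp [hAC, hBC]
    have hψ : Function.Injective ψ := by
      rw [injective_iff_map_eq_one]
      rintro ⟨⟨i, j⟩, l⟩ h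
      rcases zmod_two_cases i with rfl | rfl <;> rcases zmod_two_cases j with rfl | rfl <;>
        rcases zmod_two_cases l with rfl | rfl <;>
        simp [ψ, twoHom] at h <;> first | rfl | contradiction
    have hcard : Nat.card ψ.range = 8 := by
      rw [← Nat.card_congr (MonoidHom.ofInjective hψ).toEquiv, Nat.card_prod, Nat.card_prod]
      simp
    refine ⟨ψ.range.index, ?_, ?_⟩
    · have := Subgroup.card_mul_index ψ.range
      rw [hcard, card_J1] at this
      omega
    have h0 := CfsgLib.Schur.Bound.pow_index_mem σ hs ψ.range (hk hz) (hc hz)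
    have hab : ∀ x ∈ ψ.range.comap σ, ∀ y ∈ ψ.range.comap σ, ⁅x, y⁆ = 1 := by
      let rep : (Multiplicative (ZMod 2) × Multiplicative (ZMod 2)) × Multiplicative (ZMod 2) → X :=
        fun p => (if p.1.1.toAdd = 0 then 1 else a) * (if p.1.2.toAdd = 0 then 1 else b) *
          (if p.2.toAdd = 0 then 1 else c)
      have hrep : ∀ p, σ (rep p) = ψ p := fun p => by
        simp only [rep, ψ, MonoidHom.noncommCoprod_apply, twoHom, MonoidHom.coe_mk, OneHom.coe_mk,
          map_mul, apply_ite σ, map_one, ha, hb, hc']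
      have cab : Commute a b := by
        rw [← commutatorElement_eq_one_iff_commute, e1, e3]
      have cac : Commute a c := commutatorElement_eq_one_iff_commute.1 e2
      have cbc : Commute b c := commutatorElement_eq_one_iff_commute.1 e3
      have hmem : ∀ p, rep p ∈ Subgroup.closure ({a, b, c} : Set X) := by
        intro p
        refine mul_mem (mul_mem ?_ ?_) ?_ <;> split_ifs <;>
          first | exact one_mem _ | exact Subgroup.subset_closure (by simp)
      have hcomm : IsMulCommutative (Subgroup.closure ({a, b, c} : Set X)) := by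
        refine Subgroup.isMulCommutative_closure ?_
        rintro u (rfl | rfl | rfl) v (rfl | rfl | rfl) <;>
          first | rfl | exact cab.eq | exact cab.eq.symm | exact cac.eq | exact cac.eq.symm |
            exact cbc.eq | exact cbc.eq.symm
      rintro x ⟨p, hp⟩ y ⟨q, hq⟩
      rw [hcongr (u' := rep p) (v' := rep q) (hp.symm.trans (hrep p).symm)
        (hq.symm.trans (hrep q).symm), commutatorElement_eq_one_iff_mul_comm]
      exact congrArg Subtype.val (hcomm.1.1 ⟨_, hmem p⟩ ⟨_, hmem q⟩)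
    have hbot : commutator (ψ.range.comap σ) = ⊥ := by
      rw [eq_bot_iff, commutator_def, Subgroup.commutator_le]
      intro x _ y _
      rw [Subgroup.mem_bot]
      exact Subtype.ext (hab x x.2 y y.2)
    rwa [hbot, Subgroup.map_bot, Subgroup.mem_bot] at h0
  · obtain ⟨R⟩ : Nonempty (Sylow r J1) := inferInstance
    have := sylow_cyclic (card_J1 ▸ hrd) hr2 R
    exact ⟨(R : Subgroup J1).index, R.not_dvd_index,
      CfsgLib.Schur.Bound.pow_index_eq_one_of_cyclic σ hs hk (R : Subgroup J1) hz (hc hz)⟩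

theorem involution_centralizer : ∃ t : J1, orderOf t = 2 ∧
    Nonempty (Subgroup.centralizer ({t} : Set J1) ≃*
      Multiplicative (ZMod 2) × alternatingGroup (Fin 5)) := by
  have := finite_J1
  obtain ⟨⟨hT2, hT1⟩, ⟨hA, hB, hAB, hA1, hTA, hTB⟩, -⟩ := facts
  set t := elt wT
  set a := elt wA
  set b := elt wB
  have hot : orderOf t = 2 := orderOf_eq_prime (by rw [pow_two]; exact hT2) hT1
  refine ⟨t, hot, ?_⟩
  set Z := Subgroup.centralizer ({t} : Set J1)
  obtain ⟨e⟩ := CfsgLib.Recognition.Zassenhaus.icosa_presented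
  have haZ : a ∈ Z := Subgroup.mem_centralizer_singleton_iff.2 hTA.eq.symm
  have hbZ : b ∈ Z := Subgroup.mem_centralizer_singleton_iff.2 hTB.eq.symm
  let f : Fin 2 → Z := ![⟨a, haZ⟩, ⟨b, hbZ⟩]
  have hrel : ∀ w ∈ CfsgLib.Recognition.Zassenhaus.icosaRels, FreeGroup.lift f w = 1 := by
    rintro w (rfl | rfl | rfl) <;> apply Subtype.ext <;> simp [f, hA, hB, hAB]
  let φ : alternatingGroup (Fin 5) →* Z := (PresentedGroup.toGroup hrel).comp e.symm.toMonoidHom
  have hφ : Function.Injective φ := by
    have hs : IsSimpleGroup (alternatingGroup (Fin 5)) := alternatingGroup.isSimpleGroup (by simp)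
    rw [← MonoidHom.ker_eq_bot_iff]
    rcases hs.eq_bot_or_eq_top_of_normal φ.ker inferInstance with h | h
    · exact h
    · exfalso
      apply hA1
      have h' : φ (e (PresentedGroup.of 0)) = 1 := MonoidHom.mem_ker.1 (h ▸ Subgroup.mem_top _)
      simp only [φ, MonoidHom.comp_apply, MulEquiv.coe_toMonoidHom, MulEquiv.symm_apply_apply,
        PresentedGroup.toGroup.of] at h'
      exact congrArg Subtype.val h'
  let tz : Z := ⟨t, Subgroup.mem_centralizer_singleton_iff.2 rfl⟩
  have htz : tz * tz = 1 := Subtype.ext hT2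
  have hcen : ∀ x : Z, Commute tz x := fun x =>
    Subtype.ext (Subgroup.mem_centralizer_singleton_iff.1 x.2).symm
  let Φ : Multiplicative (ZMod 2) × alternatingGroup (Fin 5) →* Z :=
    MonoidHom.noncommCoprod (twoHom tz htz) φ fun i x => by
      simp only [twoHom, MonoidHom.coe_mk, OneHom.coe_mk]
      split_ifs
      · exact Commute.one_left _
      · exact hcen _
  have hnot : tz ∉ φ.range := by
    rintro ⟨x, hx⟩
    have hcx : ∀ y, x * y = y * x := fun y => hφ (by
      rw [map_mul, map_mul, hx]; exact (hcen _).eq)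
    have hx1 : x = 1 := CfsgLib.Recognition.Zassenhaus.alt_five_center x fun k _ => hcx k
    rw [hx1, map_one] at hx
    exact hT1 (congrArg Subtype.val hx).symm
  have hΦ : Function.Injective Φ := by
    rw [injective_iff_map_eq_one]
    rintro ⟨i, x⟩ h
    rcases zmod_two_cases i with rfl | rfl
    · simp [Φ, twoHom] at h
      rw [Prod.mk_eq_one]
      exact ⟨rfl, hφ (h.trans (map_one φ).symm)⟩
    · simp [Φ, twoHom] at h
      exact absurd ⟨x⁻¹, by rw [map_inv, eq_inv_of_mul_eq_one_left h]⟩ hnot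
  have hcardA : Nat.card (Multiplicative (ZMod 2) × alternatingGroup (Fin 5)) = 120 := by
    rw [Nat.card_prod, nat_card_alternatingGroup, Nat.card_eq_fintype_card]
    simp [Nat.factorial]
  have hle : Nat.card Z ∣ 120 := by
    have hd : Nat.card Z ∣ 120 * (7 * 11 * 19) := by
      have := Subgroup.card_subgroup_dvd_card Z
      rwa [card_J1] at this
    have hcop : ∀ p : ℕ, p ∈ [7, 11, 19] → p.Prime → ¬ p ∣ Nat.card Z := by
      intro p hp hpp hdvd
      have := Fact.mk hpp
      obtain ⟨u, hu⟩ := exists_prime_orderOf_dvd_card' p hdvd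
      have hcomm : Commute t (u : J1) :=
        (Subgroup.mem_centralizer_singleton_iff.1 u.2).symm
      have hord : orderOf (t * (u : J1)) = 2 * p := by
        rw [hcomm.orderOf_mul_eq_mul_orderOf_of_coprime, hot, Subgroup.orderOf_coe, hu]
        rw [hot, Subgroup.orderOf_coe, hu]
        exact (Nat.coprime_primes Nat.prime_two hpp).2 (by
          simp only [List.mem_cons, List.not_mem_nil, or_false] at hp; omega)
      obtain ⟨n, hn, hdvd'⟩ := CfsgLib.J1.orderOf_dvd (t * (u : J1))
      rw [hord] at hdvd'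
      simp only [List.mem_cons, List.not_mem_nil, or_false] at hp hn
      rcases hp with rfl | rfl | rfl <;> rcases hn with rfl | rfl | rfl | rfl | rfl | rfl <;>
        norm_num at hdvd'
    refine (Nat.Coprime.dvd_of_dvd_mul_right ?_ hd)
    refine Nat.Coprime.mul_right (Nat.Coprime.mul_right ?_ ?_) ?_ <;>
      refine ((Nat.Prime.coprime_iff_not_dvd (by norm_num)).2 ?_).symm
    · exact hcop 7 (by simp) (by norm_num)
    · exact hcop 11 (by simp) (by norm_num)
    · exact hcop 19 (by simp) (by norm_num)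
  refine ⟨(MulEquiv.ofBijective Φ ((Nat.bijective_iff_injective_and_card _).2 ⟨hΦ, ?_⟩)).symm⟩
  refine le_antisymm (Nat.card_le_card_of_injective Φ hΦ) ?_
  rw [hcardA]
  exact Nat.le_of_dvd (by norm_num) hle

end CfsgLib.KnownA.J1Facts
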