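import Cfsg.Agent.Lib.Classical.SympSimple
import Cfsg.Agent.Lib.Orth.Basic
import Mathlib.GroupTheory.GroupAction.Quotient

/-!
# Minimal index in `Sp_{2m}(2)`, `m ≥ 3`

In an action on fewer than `N = 2 * 4 ^ l - 2 ^ l` points (`m = l + 1`), counting orbits of the radical
`Q_e` of a point stabiliser and of its hyperplanes through the transvection `τ e` shows that `Q_e`
moves every point at most within a pair `{ω, τ e ω}`.  This attaches to a moved point a quadratic
function `f` on `e⊥`; comparing fixed points of products of two orthogonal transvections forces `f`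
to vanish, which it cannot.
-/

set_option autoImplicit false
set_option linter.unusedSectionVars false

open Module QuadraticMap CfsgLib.Classical Finset

namespace CfsgLib.KnownA.MinIndexSpTwo

/-- Orbit counting: the group order divides the fixed point total. -/
theorem burnside_dvd {G α : Type*} [Group G] [Fintype G] [Fintype α] [DecidableEq α]
    (ρ : G →* Equiv.Perm α) :
    Fintype.card G ∣ ∑ g, (univ.filter fun a => ρ g a = a).card := by
  classical
  letI := MulAction.compHom α ρ
  have h := MulAction.sum_card_fixedBy_eq_card_orbits_mul_card_group G α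
  refine ⟨Fintype.card (Quotient (MulAction.orbitRel G α)), ?_⟩
  rw [mul_comm (Fintype.card G), ← h]
  refine Finset.sum_congr rfl fun g _ => ?_
  rw [← Fintype.card_subtype]
  exact Fintype.card_congr (Equiv.refl _)

variable {F V : Type*} [Field F] [Fintype F] [AddCommGroup V] [Module F V] [FiniteDimensional F V]
  [Fintype V] [DecidableEq V] [DecidableEq F]

/-- The standing hypotheses: a symplectic space over two elements and a quadratic form polarising to it. -/
structure Setup (B : V →ₗ[F] V →ₗ[F] F) (Q0 : QuadraticForm F V) (l : ℕ) : Prop where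
  hq : Fintype.card F = 2
  hA : B.IsAlt
  hN : B.Nondegenerate
  hQ : ∀ x y, polar Q0 x y = B x y
  hd : finrank F V = 2 * (l + 1)
  hl : 2 ≤ l

/-- The sign of a bit. -/
def sgn (t : F) : ℤ := if t = 0 then 1 else -1

variable {B : V →ₗ[F] V →ₗ[F] F} {Q0 : QuadraticForm F V} {l : ℕ} (S : Setup B Q0 l)

namespace Setup

include S

theorem elems (t : F) : t = 0 ∨ t = 1 := by
  by_contra h
  push Not at h
  have h1 : ({0, 1, t} : Finset F).card ≤ 2 := S.hq ▸ Finset.card_le_univ _
  rw [Finset.card_insert_of_notMem (by simp [h.1.symm]),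
    Finset.card_insert_of_notMem (by simp [h.2.symm]), Finset.card_singleton] at h1
  omega

theorem two0 : (2 : F) = 0 := by
  rcases S.elems (1 + 1 : F) with h | h
  · rw [← h]; norm_num
  · simp at h

theorem eq_one {t : F} (ht : t ≠ 0) : t = 1 := (S.elems t).resolve_left ht

theorem fneg (t : F) : -t = t := by linear_combination (-t) * S.two0

theorem fadd (t : F) : t + t = 0 := by linear_combination t * S.two0

theorem vadd (v : V) : v + v = 0 := by rw [← two_smul F v, S.two0, zero_smul]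

theorem vneg (v : V) : -v = v := neg_eq_of_add_eq_zero_right (S.vadd v)

theorem bswap (x y : V) : B x y = B y x := by rw [alt_swap S.hA, S.fneg]

theorem sgn_add (a b : F) : sgn (a + b) = sgn a * sgn b := by
  rcases S.elems a with rfl | rfl <;> rcases S.elems b with rfl | rfl <;> simp [sgn, S.fadd]

/-- The transvection along `v`. -/
def τ (v : V) : isomGroup B := tv S.hA v 1

/-- The product of the transvections along `e`, `u` and `e + u`. -/
def sx (e u : V) : isomGroup B := sv S.hA e u 1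

theorem τ_apply (v x : V) : (S.τ v).1 x = x + B x v • v := by simp [τ]

theorem sx_apply {e u : V} (h : B e u = 0) (x : V) :
    (S.sx e u).1 x = x + (B x e • u + B x u • e) := by
  rw [sx, sv_apply S.hA h, one_smul]

theorem τ_zero : S.τ 0 = 1 := Subtype.ext (LinearEquiv.ext fun x => by simp [S.τ_apply])

theorem τ_sq (v : V) : S.τ v * S.τ v = 1 := by rw [τ, tv_mul, S.fadd, tv_zero]

theorem tv_zero_or (v : V) (t : F) : tv S.hA v t = 1 ∨ tv S.hA v t = S.τ v := by
  rcases S.elems t with rfl | rfl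
  · exact Or.inl (tv_zero _ _)
  · exact Or.inr rfl

theorem τ_fix {e u : V} (h : B e u = 0) : (S.τ u).1 e = e := by rw [S.τ_apply, h]; simp

theorem sx_symm {e u : V} (h : B e u = 0) : S.sx e u = S.sx u e := by
  refine Subtype.ext (LinearEquiv.ext fun x => ?_)
  rw [S.sx_apply h, S.sx_apply (by rw [S.bswap, h]), add_comm (B x e • u)]

theorem sx_zero (e : V) : S.sx e 0 = 1 :=
  Subtype.ext (LinearEquiv.ext fun x => by simp [S.sx_apply (show B e 0 = 0 by simp)])

theorem sx_self (e : V) : S.sx e e = 1 := by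
  refine Subtype.ext (LinearEquiv.ext fun x => ?_)
  rw [S.sx_apply (S.hA e), S.vadd]
  simp

theorem sx_mul {e u w : V} (hu : B e u = 0) (hw : B e w = 0) :
    S.sx e u * S.sx e w = S.sx e (u + w) * tv S.hA e (B u w) := by
  refine Subtype.ext (LinearEquiv.ext fun x => ?_)
  have hue : B u e = 0 := by rw [S.bswap, hu]
  have hwe : B w e = 0 := by rw [S.bswap, hw]
  simp only [Subgroup.coe_mul, LinearEquiv.mul_apply, S.sx_apply hu, S.sx_apply hw,
    S.sx_apply (show B e (u + w) = 0 by simp [hu, hw]), tv_apply, map_add, map_smul,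
    LinearMap.add_apply, LinearMap.smul_apply, smul_eq_mul, S.hA e, hu, hw, hue, hwe, S.bswap w u,
    mul_zero, add_zero, zero_add]
  module

theorem sx_add_self {e u : V} (h : B e u = 0) : S.sx e (e + u) = S.sx e u := by
  have h1 := S.sx_mul (S.hA e) h
  rwa [h, tv_zero, mul_one, S.sx_self, one_mul, eq_comm] at h1

theorem comm_τ_sx {e u : V} (h : B e u = 0) (v : V) (hve : B v e = 0) (hvu : B v u = 0) :
    S.τ v * S.sx e u = S.sx e u * S.τ v := by
  have h1 := conj_sv S.hA (S.τ v) e u 1
  rw [S.τ_fix (by rw [S.bswap, hve]), S.τ_fix (by rw [S.bswap, hvu])] at h1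
  exact mul_inv_eq_iff_eq_mul.1 h1

theorem comm_tv_sx {e u : V} (h : B e u = 0) (t : F) :
    tv S.hA e t * S.sx e u = S.sx e u * tv S.hA e t := by
  rcases S.tv_zero_or e t with h1 | h1 <;> rw [h1]
  · rw [one_mul, mul_one]
  · exact S.comm_τ_sx h e (S.hA e) h

theorem τ_comm {e u : V} (h : B e u = 0) : S.τ e * S.τ u = S.τ u * S.τ e := by
  have h1 := conj_tv S.hA (S.τ e) u 1
  rw [S.τ_fix (by rw [S.bswap, h])] at h1
  exact mul_inv_eq_iff_eq_mul.1 h1

theorem τ_add {e u : V} (h : B e u = 0) : S.τ (e + u) = S.sx e u * S.τ u * S.τ e := by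
  have h1 : S.sx e u = S.τ (e + u) * S.τ e * S.τ u := by simp only [sx, sv, τ, S.fneg]
  calc S.τ (e + u) = S.τ (e + u) * (S.τ e * (S.τ u * S.τ u) * S.τ e) := by
        rw [S.τ_sq, mul_one, S.τ_sq, mul_one]
    _ = S.sx e u * S.τ u * S.τ e := by rw [h1]; simp only [mul_assoc]

theorem Qndg : (polarBilin Q0).Nondegenerate := by
  have : polarBilin Q0 = B := LinearMap.ext₂ fun x y => by rw [polarBilin_apply_apply, S.hQ]
  rw [this]
  exact S.hN

theorem exists_one {U : Submodule F V} {x : V} (hx : x ∉ U) :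
    ∃ z, (∀ w ∈ U, B z w = 0) ∧ B z x = 1 := by
  obtain ⟨z, hz, hz1⟩ := CfsgLib.Orth.exists_polar_one S.Qndg hx
  exact ⟨z, fun w hw => (S.hQ z w).symm.trans (hz w hw), (S.hQ z x).symm.trans hz1⟩

theorem mem_span_single {e x : V} : x ∈ Submodule.span F ({e} : Set V) ↔ x = 0 ∨ x = e := by
  rw [Submodule.mem_span_singleton]
  constructor
  · rintro ⟨t, rfl⟩
    rcases S.elems t with rfl | rfl <;> simp
  · rintro (rfl | rfl)
    · exact ⟨0, zero_smul _ _⟩
    · exact ⟨1, one_smul _ _⟩

theorem indep_two {e u : V} (he : e ≠ 0) (hu : u ≠ 0) (hue : u ≠ e) : LinearIndependent F ![e, u] := by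
  rw [LinearIndependent.pair_iff' he]
  intro t ht
  rcases S.elems t with rfl | rfl
  · exact hu (by simpa using ht.symm)
  · exact hue (by simpa using ht.symm)

/-- Orthogonal pairs of distinct non-zero vectors are conjugate. -/
theorem exists_pair_map {e u e' u' : V} (he : e ≠ 0) (hu : u ≠ 0) (hue : u ≠ e) (h : B e u = 0)
    (he' : e' ≠ 0) (hu' : u' ≠ 0) (hue' : u' ≠ e') (h' : B e' u' = 0) :
    ∃ g : isomGroup B, g.1 e = e' ∧ g.1 u = u' := by
  obtain ⟨g, hg⟩ := witt_family S.hA S.hN (S.indep_two he hu hue) (S.indep_two he' hu' hue')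
    (fun i j => by fin_cases i <;> fin_cases j <;> simp [h, S.bswap u e, S.hA e, S.hA u])
    (fun i j => by fin_cases i <;> fin_cases j <;> simp [h', S.bswap u' e', S.hA e', S.hA u'])
  exact ⟨g, hg 0, hg 1⟩

theorem card_ker_one {e : V} (he : e ≠ 0) :
    Nat.card (LinearMap.ker (B e)) = 2 * (4 : ℕ) ^ l := by
  classical
  obtain ⟨z, hz⟩ := alt_exists_partner S.hN.1 he
  have hr : LinearMap.range (B e) = ⊤ :=
    LinearMap.range_eq_top.2 fun t => ⟨t • z, by simp [hz]⟩
  have h := (B e).finrank_range_add_finrank_ker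
  rw [hr, finrank_top, finrank_self, S.hd] at h
  rw [Module.natCard_eq_pow_finrank (K := F), Nat.card_eq_fintype_card, S.hq,
    show finrank F (LinearMap.ker (B e)) = 2 * l + 1 by omega, pow_succ', pow_mul]
  norm_num

theorem card_ker_two {e z : V} (he : e ≠ 0) (hz : z ≠ 0) (hze : z ≠ e) :
    Nat.card (LinearMap.ker ((B e).prod (B z))) = (4 : ℕ) ^ l := by
  classical
  obtain ⟨a, ha, ha1⟩ := S.exists_one (U := Submodule.span F {z}) (x := e) fun h => by
    rcases S.mem_span_single.1 h with h | h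
    · exact he h
    · exact hze h.symm
  obtain ⟨b, hb, hb1⟩ := S.exists_one (U := Submodule.span F {e}) (x := z) fun h => by
    rcases S.mem_span_single.1 h with h | h
    · exact hz h
    · exact hze h
  have hr : LinearMap.range ((B e).prod (B z)) = ⊤ := LinearMap.range_eq_top.2 fun t =>
    ⟨t.1 • a + t.2 • b, by
      simp [S.bswap e a, S.bswap z a, S.bswap e b, S.bswap z b, ha1, hb1,
        ha z (Submodule.mem_span_singleton_self z), hb e (Submodule.mem_span_singleton_self e)]⟩
  have h := ((B e).prod (B z)).finrank_range_add_finrank_ker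
  rw [hr, finrank_top, Module.finrank_prod, finrank_self, S.hd] at h
  rw [Module.natCard_eq_pow_finrank (K := F), Nat.card_eq_fintype_card, S.hq,
    show finrank F (LinearMap.ker ((B e).prod (B z))) = 2 * l by omega, pow_mul]
  norm_num

/-- The radical parametrised additively. -/
def psi {e : V} (he : ∀ u, u ∈ LinearMap.ker (B e) → B e u = 0) (U : Submodule F V)
    (hU : U ≤ LinearMap.ker (B e)) : Multiplicative (↥U × F) →* isomGroup B where
  toFun x := S.sx e x.toAdd.1 * tv S.hA e (x.toAdd.2 + Q0 x.toAdd.1)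
  map_one' := by simp [S.sx_zero, tv_zero]
  map_mul' x y := by
    have hu := he _ (hU x.toAdd.1.2)
    have hw := he _ (hU y.toAdd.1.2)
    rw [mul_assoc, ← mul_assoc (tv S.hA e _) (S.sx e _), S.comm_tv_sx hw, mul_assoc, tv_mul, ← mul_assoc,
      S.sx_mul hu hw, mul_assoc, tv_mul]
    simp only [toAdd_mul, Prod.fst_add, Prod.snd_add, Submodule.coe_add]
    rw [CfsgLib.Orth.quad_add', S.hQ]
    congr 2
    linear_combination (-(B x.toAdd.1.1 y.toAdd.1.1) + B x.toAdd.1.1 y.toAdd.1.1) * S.two0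

end Setup

/-- A transitive non-trivial action on too few points. -/
structure Act (B : V →ₗ[F] V →ₗ[F] F) (Q0 : QuadraticForm F V) (l : ℕ) (Ω : Type*) [Fintype Ω] where
  S : Setup B Q0 l
  π : isomGroup B →* Equiv.Perm Ω
  trans : ∀ a b : Ω, ∃ g, π g a = b
  two : ∃ a b : Ω, a ≠ b
  small : Fintype.card Ω + 2 ^ l < 2 * 4 ^ l

namespace Act

variable {Ω : Type*} [Fintype Ω] [DecidableEq Ω] (A : Act B Q0 l Ω)

theorem two_step (g h : isomGroup B) (ω : Ω) : A.π (g * h) ω = A.π g (A.π h ω) := by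
  rw [map_mul, Equiv.Perm.mul_apply]

theorem inv_step {g : isomGroup B} (hg : g * g = 1) (ω : Ω) : A.π g (A.π g ω) = ω := by
  rw [← A.two_step, hg, map_one, Equiv.Perm.one_apply]

/-- The orbit counting congruence on an invariant set of points. -/
theorem key {e z : V} (he : e ≠ 0) (hez : B e z = 0) (hz0 : z ≠ 0) (hze : z ≠ e)
    (p : Ω → Prop) [DecidablePred p] (hp : ∀ g : isomGroup B, g.1 e = e → ∀ ω, p (A.π g ω) ↔ p ω) :
    ((2 * 4 ^ l : ℕ) : ℤ) ∣ ((univ.filter p).card : ℤ) + (univ.filter fun ω => p ω ∧ A.π (A.S.τ e) ω = ω).card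
      - (univ.filter fun ω => p ω ∧ A.π (A.S.sx e z) ω = ω).card
      - (univ.filter fun ω => p ω ∧ A.π (A.S.sx e z * A.S.τ e) ω = ω).card := by
  classical
  set fxp : isomGroup B → ℕ := fun g => (univ.filter fun ω => p ω ∧ A.π g ω = ω).card with hfxp
  have hτe : (A.S.τ e).1 e = e := A.S.τ_fix (A.S.hA e)
  have hconst : ∀ u, B e u = 0 → u ≠ 0 → u ≠ e →
      fxp (A.S.sx e u) + fxp (A.S.sx e u * A.S.τ e) = fxp (A.S.sx e z) + fxp (A.S.sx e z * A.S.τ e) := by
    intro u hu hu0 hue
    obtain ⟨g, hge, hgz⟩ := A.S.exists_pair_map he hz0 hze hez he hu0 hue hu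
    have hconj : ∀ k, fxp (g * k * g⁻¹) = fxp k := fun k => by
      refine (Finset.card_bij (fun ω _ => A.π g ω) ?_ ?_ ?_).symm
      · intro ω hω
        rw [mem_filter] at hω ⊢
        exact ⟨mem_univ _, (hp g hge ω).2 hω.2.1, by simp [map_mul, map_inv, hω.2.2]⟩
      · exact fun a _ b _ h => (A.π g).injective h
      · intro b hb
        rw [mem_filter] at hb
        refine ⟨(A.π g)⁻¹ b, mem_filter.2 ⟨mem_univ _, (hp g hge _).1 (by simpa using hb.2.1),
          (A.π g).injective ?_⟩, by simp⟩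
        simpa [map_mul, map_inv] using hb.2.2
    have e1 : g * A.S.sx e z * g⁻¹ = A.S.sx e u := by rw [Setup.sx, conj_sv, hge, hgz]; rfl
    have e2 : g * A.S.τ e * g⁻¹ = A.S.τ e := by rw [Setup.τ, conj_tv, hge]
    have e3 : g * (A.S.sx e z * A.S.τ e) * g⁻¹ = A.S.sx e u * A.S.τ e := by
      rw [show g * (A.S.sx e z * A.S.τ e) * g⁻¹ = g * A.S.sx e z * g⁻¹ * (g * A.S.τ e * g⁻¹) by group, e1, e2]
    rw [← e3, ← e1, hconj, hconj]
  set c : ℤ := (fxp (A.S.sx e z) : ℤ) + fxp (A.S.sx e z * A.S.τ e) with hc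
  set d : ℤ := ((univ.filter p).card : ℤ) + fxp (A.S.τ e) with hd
  have count : ∀ U : Submodule F V, U ≤ LinearMap.ker (B e) → e ∈ U → ∀ k : ℕ, Fintype.card U = k →
      ((2 * k : ℕ) : ℤ) ∣ 2 * d + ((k : ℤ) - 2) * c := by
    intro U hU heU k hk
    let ψ := A.S.psi (e := e) (fun u hu => hu) U hU
    have hinv : ∀ x ω, p (A.π (ψ x) ω) ↔ p ω := fun x ω => hp _ (by
      show (A.S.sx e _).1 ((tv A.S.hA e _).1 e) = e
      rw [tv_apply, A.S.hA e, mul_zero, zero_smul, add_zero,
        A.S.sx_apply (hU x.toAdd.1.2), A.S.hA e, show B e (x.toAdd.1 : V) = 0 from hU x.toAdd.1.2]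
      simp) ω
    let ρ : Multiplicative (↥U × F) →* Equiv.Perm {ω // p ω} :=
      { toFun := fun x => (A.π (ψ x)).subtypePerm (fun ω => hinv x ω)
        map_one' := by ext; simp
        map_mul' := fun x y => Equiv.ext fun a => Subtype.ext (by
          show A.π (ψ (x * y)) a.1 = A.π (ψ x) (A.π (ψ y) a.1)
          rw [map_mul, map_mul, Equiv.Perm.mul_apply]) }
    have h1 := burnside_dvd ρ
    rw [Fintype.card_multiplicative, Fintype.card_prod, A.S.hq, hk, mul_comm] at h1
    have h2 : ∀ x, (univ.filter fun a => ρ x a = a).card = fxp (ψ x) := fun x => by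
      rw [hfxp, ← Finset.card_map (Function.Embedding.subtype p)]
      congr 1
      ext ω
      simp [ρ, Subtype.ext_iff, and_comm]
    rw [Finset.sum_congr rfl fun x _ => h2 x,
      ← Multiplicative.ofAdd.sum_comp (fun x => fxp (ψ x)), Fintype.sum_prod_type] at h1
    have h3 : ∀ u : U, ∑ t : F, fxp (ψ (Multiplicative.ofAdd (u, t))) =
        fxp (A.S.sx e u) + fxp (A.S.sx e u * A.S.τ e) := fun u => by
      rw [← Equiv.sum_comp (Equiv.addRight (Q0 (u : V))).symm]
      have hF : (univ : Finset F) = {0, 1} := by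
        ext t; simp [A.S.elems t]
      simp only [ψ, Setup.psi, MonoidHom.coe_mk, OneHom.coe_mk, toAdd_ofAdd, Equiv.addRight_symm_apply,
        neg_add_cancel_right, add_neg_cancel_right, hF, Finset.sum_pair zero_ne_one, tv_zero, mul_one]
      rfl
    rw [Finset.sum_congr rfl fun u _ => h3 u] at h1
    have h4 : ((∑ u : U, (fxp (A.S.sx e u) + fxp (A.S.sx e u * A.S.τ e)) : ℕ) : ℤ) =
        2 * d + ((k : ℤ) - 2) * c := by
      push_cast
      have hne : (0 : U) ≠ ⟨e, heU⟩ := fun h => he (congrArg Subtype.val h).symm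
      rw [← Finset.sum_sdiff (Finset.subset_univ ({0, ⟨e, heU⟩} : Finset U)), Finset.sum_pair hne]
      have h5 : ∀ u ∈ (univ : Finset U) \ {0, ⟨e, heU⟩},
          (fxp (A.S.sx e u) : ℤ) + fxp (A.S.sx e u * A.S.τ e) = c := by
        intro u hu
        simp only [mem_sdiff, mem_univ, true_and, mem_insert, mem_singleton, not_or] at hu
        rw [hc, ← Nat.cast_add, ← Nat.cast_add, hconst u (hU u.2) (fun h => hu.1 (Subtype.ext h))
          (fun h => hu.2 (Subtype.ext h))]
      rw [Finset.sum_congr rfl h5, Finset.sum_const, nsmul_eq_mul,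
        Finset.card_sdiff_of_subset (subset_univ _), Finset.card_univ, hk, Finset.card_pair hne]
      have hk2 : 2 ≤ k := by
        rw [← hk, ← Finset.card_pair hne]; exact Finset.card_le_univ _
      have e1 : fxp (A.S.sx e e) = (univ.filter p).card := by simp [hfxp, A.S.sx_self]
      have e0 : fxp (A.S.sx e 0) = (univ.filter p).card := by simp [hfxp, A.S.sx_zero]
      have e00 : fxp 1 = (univ.filter p).card := by simp [hfxp]
      simp only [Submodule.coe_zero, A.S.sx_zero, A.S.sx_self, one_mul, hd, e00]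
      push_cast [hk2]
      ring
    rw [← h4]
    exact Int.natCast_dvd_natCast.2 h1
  have hP := count (LinearMap.ker (B e)) le_rfl (A.S.hA e) _
    (Nat.card_eq_fintype_card.symm.trans (A.S.card_ker_one he))
  have hPz := count (LinearMap.ker ((B e).prod (B z)))
    (fun u hu => congrArg Prod.fst hu) (Prod.ext (A.S.hA e) (show B z e = 0 by rw [A.S.bswap, hez])) _
    (Nat.card_eq_fintype_card.symm.trans (A.S.card_ker_two he hz0 hze))
  obtain ⟨i, hi⟩ := hP
  obtain ⟨j, hj⟩ := hPz
  push_cast at hi hj ⊢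
  refine ⟨j - i, ?_⟩
  have : d - c = 2 * 4 ^ l * (j - i) := by linarith
  simp only [hd, hc, hfxp] at this
  linarith

/-- A moved point has its radical orbit inside a pair. -/
theorem pair_orbit {e u : V} (he : e ≠ 0) (hu : B e u = 0) {ω : Ω} (hω : A.π (A.S.τ e) ω ≠ ω) :
    A.π (A.S.sx e u) ω = ω ∨ A.π (A.S.sx e u) ω = A.π (A.S.τ e) ω := by
  classical
  by_cases hu0 : u = 0
  · left; rw [hu0, A.S.sx_zero, map_one, Equiv.Perm.one_apply]
  by_cases hue : u = e
  · left; rw [hue, A.S.sx_self, map_one, Equiv.Perm.one_apply]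
  have hp : ∀ g : isomGroup B, g.1 e = e → ∀ μ,
      (A.π (A.S.τ e) (A.π g μ) ≠ A.π g μ) ↔ A.π (A.S.τ e) μ ≠ μ := fun g hg μ => by
    have e2 : g * A.S.τ e * g⁻¹ = A.S.τ e := by rw [Setup.τ, conj_tv, hg]
    rw [← A.two_step, ← mul_inv_eq_iff_eq_mul.1 e2, A.two_step, (A.π g).injective.ne_iff]
  have h := A.key he hu hu0 hue (fun μ => A.π (A.S.τ e) μ ≠ μ) hp
  set X := univ.filter fun μ => A.π (A.S.τ e) μ ≠ μ
  set T1 := univ.filter fun μ => A.π (A.S.τ e) μ ≠ μ ∧ A.π (A.S.sx e u) μ = μ
  set T2 := univ.filter fun μ => A.π (A.S.τ e) μ ≠ μ ∧ A.π (A.S.sx e u * A.S.τ e) μ = μ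
  have h0 : (univ.filter fun μ => A.π (A.S.τ e) μ ≠ μ ∧ A.π (A.S.τ e) μ = μ).card = 0 := by simp
  rw [h0] at h
  have hcomm := A.S.comm_τ_sx hu e (A.S.hA e) hu
  have hdis : Disjoint T1 T2 := Finset.disjoint_left.2 fun μ h1 h2 => by
    simp only [T1, T2, mem_filter] at h1 h2
    apply h1.2.1
    rw [← hcomm, A.two_step, h1.2.2] at h2
    exact h2.2.2
  have hsub : T1 ∪ T2 ⊆ X := fun μ hμ => by
    rcases mem_union.1 hμ with h1 | h1 <;>
      exact mem_filter.2 ⟨mem_univ _, (mem_filter.1 h1).2.1⟩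
  have hle := Finset.card_le_card hsub
  rw [Finset.card_union_of_disjoint hdis] at hle
  have hX : X.card ≤ Fintype.card Ω := Finset.card_le_univ _
  have hsmall := A.small
  obtain ⟨i, hi⟩ := h
  have hi0 : i = 0 := by
    have hpos : (0 : ℤ) < 2 * 4 ^ l := by positivity
    have h2l : (0 : ℤ) ≤ 2 ^ l := by positivity
    push_cast at hi
    have b1 : (0 : ℤ) ≤ 2 * 4 ^ l * i := by omega
    have b2 : 2 * 4 ^ l * i < 2 * 4 ^ l * 1 := by
      have : (X.card : ℤ) < 2 * 4 ^ l := by
        have : X.card < 2 * 4 ^ l := lt_of_le_of_lt hX (lt_of_le_of_lt (Nat.le_add_right _ _) hsmall)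
        exact_mod_cast this
      omega
    have := nonneg_of_mul_nonneg_right b1 hpos
    have := lt_of_mul_lt_mul_left b2 hpos.le
    omega
  rw [hi0, mul_zero] at hi
  have hmem : ω ∈ T1 ∪ T2 := by
    rw [Finset.eq_of_subset_of_card_le hsub (by rw [Finset.card_union_of_disjoint hdis]; omega)]
    exact mem_filter.2 ⟨mem_univ _, hω⟩
  rcases mem_union.1 hmem with h1 | h1
  · exact Or.inl (mem_filter.1 h1).2.2
  · right
    have h2 := (mem_filter.1 h1).2.2
    rw [← hcomm, A.two_step] at h2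
    rw [← A.inv_step (A.S.τ_sq e) (A.π (A.S.sx e u) ω), h2]

/-- The quadratic function attached to a moved point. -/
def fb (ω : Ω) (e u : V) : F := if A.π (A.S.sx e u) ω = ω then 0 else 1

theorem fb_spec {e u : V} (he : e ≠ 0) (hu : B e u = 0) {ω : Ω} (hω : A.π (A.S.τ e) ω ≠ ω) :
    A.π (A.S.sx e u) ω = A.π (tv A.S.hA e (A.fb ω e u)) ω := by
  rcases A.pair_orbit he hu hω with h | h
  · rw [fb, if_pos h, tv_zero, map_one, Equiv.Perm.one_apply, h]
  · rw [fb, if_neg (by rw [h]; exact hω)]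
    exact h

theorem tv_inj {e : V} {ω : Ω} (hω : A.π (A.S.τ e) ω ≠ ω) {s t : F}
    (h : A.π (tv A.S.hA e s) ω = A.π (tv A.S.hA e t) ω) : s = t := by
  rcases A.S.elems s with rfl | rfl <;> rcases A.S.elems t with rfl | rfl
  · rfl
  · rw [tv_zero, map_one, Equiv.Perm.one_apply] at h; exact absurd h.symm hω
  · rw [tv_zero, map_one, Equiv.Perm.one_apply] at h; exact absurd h hω
  · rfl

theorem fb_add {e u w : V} (he : e ≠ 0) (hu : B e u = 0) (hw : B e w = 0) {ω : Ω}
    (hω : A.π (A.S.τ e) ω ≠ ω) : A.fb ω e (u + w) = A.fb ω e u + A.fb ω e w + B u w := by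
  have huw : B e (u + w) = 0 := by simp [hu, hw]
  have h := congrArg (fun g => A.π g ω) (A.S.sx_mul hu hw)
  rw [A.two_step, A.two_step, A.fb_spec he hw hω, ← A.two_step (A.S.sx e u), ← A.S.comm_tv_sx hu,
    A.two_step, A.fb_spec he hu hω, ← A.two_step, tv_mul, ← A.two_step (A.S.sx e (u + w)),
    ← A.S.comm_tv_sx huw, A.two_step, A.fb_spec he huw hω, ← A.two_step, tv_mul] at h
  have h2 := A.tv_inj hω h
  linear_combination -h2 - B u w * A.S.two0

theorem fb_self {e : V} {ω : Ω} : A.fb ω e e = 0 := by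
  rw [fb, if_pos (by rw [A.S.sx_self, map_one, Equiv.Perm.one_apply])]

theorem fb_zero {e : V} {ω : Ω} : A.fb ω e 0 = 0 := by
  rw [fb, if_pos (by rw [A.S.sx_zero, map_one, Equiv.Perm.one_apply])]

theorem τ_moved {e u : V} (hu : B e u = 0) {ω : Ω} (hω : A.π (A.S.τ e) ω ≠ ω) :
    A.π (A.S.τ e) (A.π (A.S.τ u) ω) ≠ A.π (A.S.τ u) ω := by
  rw [← A.two_step, A.S.τ_comm hu, A.two_step]
  exact fun h => hω ((A.π _).injective h)

/-- Transport of the function by a transvection. -/
theorem fb_τ {e u x : V} (he : e ≠ 0) (hu : B e u = 0) (hx : B e x = 0) {ω : Ω}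
    (hω : A.π (A.S.τ e) ω ≠ ω) (h0 : A.fb ω e u = 0) :
    A.fb (A.π (A.S.τ u) ω) e x = A.fb ω e x + B x u := by
  set y := (A.S.τ u).1 x with hy
  have hey : B e y = 0 := by rw [hy, A.S.τ_apply]; simp [hx, hu]
  have hconj : A.S.sx e x * A.S.τ u = A.S.τ u * A.S.sx e y := by
    have h1 := conj_sv A.S.hA (A.S.τ u) e y 1
    rw [A.S.τ_fix hu, hy] at h1
    have e2 : (A.S.τ u).1 ((A.S.τ u).1 x) = x := by
      rw [← LinearEquiv.mul_apply, ← Subgroup.coe_mul, A.S.τ_sq]; rfl
    rw [e2] at h1
    exact (mul_inv_eq_iff_eq_mul.1 h1).symm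
  have h := congrArg (fun g => A.π g ω) hconj
  have hc : A.S.τ u * tv A.S.hA e (A.fb ω e y) = tv A.S.hA e (A.fb ω e y) * A.S.τ u := by
    rcases A.S.tv_zero_or e (A.fb ω e y) with h1 | h1 <;> rw [h1]
    · rw [one_mul, mul_one]
    · exact (A.S.τ_comm hu).symm
  rw [A.two_step, A.two_step, A.fb_spec he hx (A.τ_moved hu hω), A.fb_spec he hey hω,
    ← A.two_step (A.S.τ u), hc, A.two_step] at h
  rw [A.tv_inj (A.τ_moved hu hω) h, hy, A.S.τ_apply]
  rcases A.S.elems (B x u) with h2 | h2 <;> rw [h2]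
  · rw [zero_smul, add_zero, add_zero]
  · rw [one_smul, A.fb_add he hx hu hω, h0, h2, add_zero]

/-- Points `τ u ω` are distinct for the zeros `u` of the function of `ω`. -/
theorem τ_inj {e u w : V} (he : e ≠ 0) (hu : B e u = 0) (hw : B e w = 0) {ω : Ω}
    (hω : A.π (A.S.τ e) ω ≠ ω) (hu0 : A.fb ω e u = 0) (hw0 : A.fb ω e w = 0)
    (h : A.π (A.S.τ u) ω = A.π (A.S.τ w) ω) : u = w := by
  by_contra hne
  have hB : ∀ x, B e x = 0 → B x (u + w) = 0 := fun x hx => by
    have h1 := A.fb_τ he hu hx hω hu0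
    rw [h, A.fb_τ he hw hx hω hw0, add_right_inj] at h1
    rw [map_add, h1, A.S.fadd]
  have hne' : u + w ≠ 0 := fun h0 => hne (by rw [← A.S.vneg w]; exact eq_neg_of_add_eq_zero_left h0)
  by_cases hmem : u + w ∈ Submodule.span F ({e} : Set V)
  · rcases A.S.mem_span_single.1 hmem with h1 | h1
    · exact hne' h1
    have hu' : w = e + u := by rw [← h1, add_comm u w, add_assoc, A.S.vadd, add_zero]
    subst hu'
    have h2 : A.π (A.S.sx e u) ω = ω := by
      by_contra h3
      rw [fb, if_neg h3] at hu0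
      exact one_ne_zero hu0
    rw [A.S.τ_add hu, mul_assoc, A.two_step, ← A.S.τ_comm hu, ← A.two_step,
      ← mul_assoc, ← A.S.comm_τ_sx hu e (A.S.hA e) hu, mul_assoc, A.two_step,
      ← A.S.comm_τ_sx hu u (A.S.bswap u e ▸ hu) (A.S.hA u), A.two_step, h2] at h
    exact A.τ_moved hu hω h.symm
  · obtain ⟨z, hz, hz1⟩ := A.S.exists_one hmem
    rw [hB z (by rw [A.S.bswap]; exact hz e (Submodule.mem_span_singleton_self e))] at hz1
    exact zero_ne_one hz1

/-- Many points are moved, so few are fixed. -/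
theorem fixed_lt {e : V} (he : e ≠ 0) {ω : Ω} (hω : A.π (A.S.τ e) ω ≠ ω) :
    (univ.filter fun μ => A.π (A.S.τ e) μ = μ).card < 4 ^ l := by
  classical
  set P := LinearMap.ker (B e)
  set f : P → F := fun u => A.fb ω e u
  set D : ℤ := ∑ u : P, sgn (f u)
  set Z := univ.filter fun u : P => f u = 0
  have hP : Fintype.card P = 2 * 4 ^ l := Nat.card_eq_fintype_card.symm.trans (A.S.card_ker_one he)
  have hinner : ∀ w : P, ∑ u : P, sgn (B (u : V) w) =
      if (w : V) = 0 ∨ (w : V) = e then (2 * 4 ^ l : ℤ) else 0 := by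
    intro w
    by_cases hw : (w : V) = 0 ∨ (w : V) = e
    · rw [if_pos hw]
      have : ∀ u : P, sgn (B (u : V) w) = 1 := fun u => by
        rcases hw with h | h <;> rw [h]
        · simp [sgn]
        · rw [A.S.bswap, show B e (u : V) = 0 from u.2]; simp [sgn]
      rw [Finset.sum_congr rfl fun u _ => this u, Finset.sum_const, Finset.card_univ, hP]
      simp
    · rw [if_neg hw]
      obtain ⟨z, hz, hz1⟩ := A.S.exists_one (U := Submodule.span F {e}) (x := (w : V))
        (fun h => hw (A.S.mem_span_single.1 h))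
      let z' : P := ⟨z, show B e z = 0 by rw [A.S.bswap]; exact hz e (Submodule.mem_span_singleton_self e)⟩
      have h1 := Equiv.sum_comp (Equiv.addRight z') fun u : P => sgn (B (u : V) w)
      have h2 : ∀ u : P, sgn (B ((Equiv.addRight z' u : P) : V) w) = -sgn (B (u : V) w) := fun u => by
        show sgn (B ((u : V) + z) w) = _
        rw [map_add, LinearMap.add_apply, A.S.sgn_add, hz1]
        simp [sgn]
      rw [Finset.sum_congr rfl fun u _ => h2 u, Finset.sum_neg_distrib] at h1
      linarith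
  have hDD : D * D = 4 * 4 ^ l := by
    calc D * D = ∑ u : P, ∑ w : P, sgn (f u) * sgn (f (u + w)) := by
          simp only [D, Finset.sum_mul]
          refine Finset.sum_congr rfl fun u _ => ?_
          rw [Finset.mul_sum, ← Equiv.sum_comp (Equiv.addLeft u)]
          rfl
      _ = ∑ u : P, ∑ w : P, sgn (f w) * sgn (B (u : V) w) := by
          refine Finset.sum_congr rfl fun u _ => Finset.sum_congr rfl fun w _ => ?_
          rw [← A.S.sgn_add, ← A.S.sgn_add]
          congr 1
          simp only [f, Submodule.coe_add]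
          rw [A.fb_add he u.2 w.2 hω]
          linear_combination A.fb ω e u * A.S.two0
      _ = ∑ w : P, sgn (f w) * ∑ u : P, sgn (B (u : V) w) := by
          rw [Finset.sum_comm]
          simp only [Finset.mul_sum]
      _ = ∑ w ∈ ({0, ⟨e, A.S.hA e⟩} : Finset P), sgn (f w) * (2 * 4 ^ l : ℤ) := by
          simp only [hinner, mul_ite, mul_zero]
          rw [← Finset.sum_filter]
          congr 1
          ext w
          simp only [mem_filter, mem_univ, true_and, mem_insert, mem_singleton, Subtype.ext_iff, Submodule.coe_zero]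
      _ = _ := by
          rw [Finset.sum_pair (fun h => he (congrArg Subtype.val h).symm)]
          simp only [f, Submodule.coe_zero, A.fb_zero, A.fb_self]
          simp [sgn]
          ring
  have hD : D = 2 * Z.card - 2 * 4 ^ l := by
    have h1 : D = ∑ u : P, ((if f u = 0 then (2 : ℤ) else 0) - 1) :=
      Finset.sum_congr rfl fun u _ => by simp only [sgn]; split_ifs <;> rfl
    rw [h1, Finset.sum_sub_distrib, ← Finset.sum_filter, Finset.sum_const, Finset.sum_const,
      Finset.card_univ, hP]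
    simp [Z, mul_comm]
  have hZ : 4 ^ l ≤ Z.card + 2 ^ l := by
    have h1 : (2 * 2 ^ l : ℤ) * (2 * 2 ^ l) = 4 * 4 ^ l := by
      rw [show (4 : ℤ) ^ l = 2 ^ l * 2 ^ l by rw [← mul_pow]; norm_num]; ring
    zify
    rcases mul_self_eq_mul_self_iff.1 (hDD.trans h1.symm) with h | h <;> rw [hD] at h <;>
      linarith [show (0 : ℤ) ≤ 2 ^ l by positivity]
  have hinj : Z.card ≤ (univ.filter fun μ => ¬ A.π (A.S.τ e) μ = μ).card :=
    Finset.card_le_card_of_injOn (fun u => A.π (A.S.τ (u : V)) ω)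
      (fun u _ => mem_filter.2 ⟨mem_univ _, A.τ_moved u.2 hω⟩)
      (fun u hu w hw h => Subtype.ext
        (A.τ_inj he u.2 w.2 hω (mem_filter.1 hu).2 (mem_filter.1 hw).2 h))
  have h := Finset.card_filter_add_card_filter_not (s := (univ : Finset Ω))
    (fun μ => A.π (A.S.τ e) μ = μ)
  rw [Finset.card_univ] at h
  have := A.small
  omega

/-- Points fixed by a transvection are fixed by its radical. -/
theorem fixed_radical {e u : V} (he : e ≠ 0) (hu : B e u = 0) {ω : Ω}
    (hω : A.π (A.S.τ e) ω = ω) : A.π (A.S.sx e u) ω = ω := by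
  classical
  by_cases hu0 : u = 0
  · rw [hu0, A.S.sx_zero, map_one, Equiv.Perm.one_apply]
  by_cases hue : u = e
  · rw [hue, A.S.sx_self, map_one, Equiv.Perm.one_apply]
  by_cases hmoved : ∀ μ : Ω, A.π (A.S.τ e) μ = μ
  · exfalso
    -- every transvection is then trivial
    let H : Subgroup (isomGroup B) := A.π.ker
    have hH : H = ⊤ := by
      rw [eq_top_iff, ← tvGroup_eq_top A.S.hA A.S.hN]
      refine (Subgroup.closure_le _).2 ?_
      rintro _ ⟨v, t, rfl⟩
      rcases A.S.tv_zero_or v t with h | h <;> rw [h]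
      · exact one_mem _
      by_cases hv : v = 0
      · rw [hv, A.S.τ_zero]; exact one_mem _
      obtain ⟨g, -, hg⟩ := tv_transitive A.S.hA A.S.hN.1 he hv
      have h1 : A.S.τ e ∈ H := MonoidHom.mem_ker.2 (Equiv.ext hmoved)
      have h2 := Subgroup.Normal.conj_mem inferInstance _ h1 g
      rwa [Setup.τ, conj_tv, hg] at h2
    obtain ⟨a, b, hab⟩ := A.two
    obtain ⟨g, rfl⟩ := A.trans a b
    have hg : g ∈ H := hH ▸ Subgroup.mem_top g
    rw [MonoidHom.mem_ker] at hg
    rw [hg, Equiv.Perm.one_apply] at hab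
    exact hab rfl
  push Not at hmoved
  obtain ⟨μ, hμ⟩ := hmoved
  have hp : ∀ g : isomGroup B, g.1 e = e → ∀ ν,
      (A.π (A.S.τ e) (A.π g ν) = A.π g ν) ↔ A.π (A.S.τ e) ν = ν := fun g hg ν => by
    have e2 : g * A.S.τ e * g⁻¹ = A.S.τ e := by rw [Setup.τ, conj_tv, hg]
    rw [← A.two_step, ← mul_inv_eq_iff_eq_mul.1 e2, A.two_step, (A.π g).injective.eq_iff]
  have h := A.key he hu hu0 hue (fun ν => A.π (A.S.τ e) ν = ν) hp
  set X := univ.filter fun ν => A.π (A.S.τ e) ν = ν with hX
  set T1 := univ.filter fun ν => A.π (A.S.τ e) ν = ν ∧ A.π (A.S.sx e u) ν = ν with hT1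
  have e0 : (univ.filter fun ν => A.π (A.S.τ e) ν = ν ∧ A.π (A.S.τ e) ν = ν) = X := by simp [hX]
  have e1 : (univ.filter fun ν => A.π (A.S.τ e) ν = ν ∧ A.π (A.S.sx e u * A.S.τ e) ν = ν) = T1 :=
    Finset.filter_congr fun ν _ => and_congr_right fun h1 => by rw [A.two_step, h1]
  rw [e0, e1] at h
  have hsub : T1 ⊆ X := fun ν hν => mem_filter.2 ⟨mem_univ _, (mem_filter.1 hν).2.1⟩
  have hle := Finset.card_le_card hsub
  have hlt := A.fixed_lt he hμ
  obtain ⟨i, hi⟩ := h
  have hpos : (0 : ℤ) < 4 ^ l := by positivity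
  have hXz : (X.card : ℤ) < 4 ^ l := by exact_mod_cast hlt
  push_cast at hi
  have hi0 : i = 0 := by
    have b1 : (0 : ℤ) ≤ 2 * 4 ^ l * i := by omega
    have b2 : 2 * 4 ^ l * i < 2 * 4 ^ l * 1 := by omega
    have := nonneg_of_mul_nonneg_right b1 (by positivity : (0 : ℤ) < 2 * 4 ^ l)
    have := lt_of_mul_lt_mul_left b2 (by positivity : (0 : ℤ) ≤ 2 * 4 ^ l)
    omega
  rw [hi0, mul_zero] at hi
  have hmem : ω ∈ T1 := by
    rw [Finset.eq_of_subset_of_card_le hsub (by omega)]
    exact mem_filter.2 ⟨mem_univ _, hω⟩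
  exact (mem_filter.1 hmem).2.2

/-- A point moved by one transvection is moved by every orthogonal one. -/
theorem moved_orth {e u : V} (he : e ≠ 0) (hu0 : u ≠ 0) (hu : B e u = 0) {ω : Ω}
    (hω : A.π (A.S.τ e) ω ≠ ω) : A.π (A.S.τ u) ω ≠ ω := by
  intro h
  have hx : A.π (A.S.sx e u) ω = ω := by
    rw [A.S.sx_symm hu]
    exact A.fixed_radical hu0 (by rw [A.S.bswap, hu]) h
  have h2 : A.π (A.S.τ u) ω = A.π (A.S.τ 0) ω := by
    rw [h, A.S.τ_zero, map_one, Equiv.Perm.one_apply]
  exact hu0 (A.τ_inj he hu (by simp) hω (if_pos hx) A.fb_zero h2)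

/-- Every transvection moves every point. -/
theorem all_moved {e : V} (he : e ≠ 0) (ω : Ω) : A.π (A.S.τ e) ω ≠ ω := by
  intro h
  have hall : ∀ v, v ≠ 0 → A.π (A.S.τ v) ω = ω := by
    intro v hv
    by_cases hev : B e v = 0
    · by_contra hc
      exact A.moved_orth hv he (by rw [A.S.bswap, hev]) hc h
    · obtain ⟨w, hw, hw0⟩ : ∃ w ∈ perp B (Submodule.span F {e, v}), w ≠ 0 := by
        by_contra! hall0
        obtain ⟨w, hw⟩ := alt_exists_partner A.S.hN.1 he
        have hev' : B e v = 1 := A.S.eq_one hev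
        have h2 := finrank_perp_pair_lt A.S.hA hev'
        have h3 : perp B (Submodule.span F {e, v}) = ⊥ := (Submodule.eq_bot_iff _).2 hall0
        rw [h3, finrank_bot, A.S.hd] at h2
        have := A.S.hl
        omega
      have h1 : B e w = 0 := mem_perp.1 hw e (Submodule.subset_span (by simp))
      have h2 : B v w = 0 := mem_perp.1 hw v (Submodule.subset_span (by simp))
      have h3 : A.π (A.S.τ w) ω = ω := by
        by_contra hc
        exact A.moved_orth hw0 he (by rw [A.S.bswap, h1]) hc h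
      by_contra hc
      exact A.moved_orth hv hw0 h2 hc h3
  let H : Subgroup (isomGroup B) :=
    { carrier := {g | A.π g ω = ω}
      one_mem' := by simp
      mul_mem' := fun {a b} ha hb => by
        show A.π (a * b) ω = ω
        rw [A.two_step, hb, ha]
      inv_mem' := fun {a} ha => by
        show A.π a⁻¹ ω = ω
        rw [map_inv, Equiv.Perm.inv_eq_iff_eq]
        exact ha.symm }
  have hH : H = ⊤ := by
    rw [eq_top_iff, ← tvGroup_eq_top A.S.hA A.S.hN]
    refine (Subgroup.closure_le _).2 ?_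
    rintro _ ⟨v, t, rfl⟩
    rcases A.S.tv_zero_or v t with h1 | h1 <;> rw [h1]
    · exact one_mem _
    by_cases hv : v = 0
    · rw [hv, A.S.τ_zero]; exact one_mem _
    · exact hall v hv
  obtain ⟨a, b, hab⟩ := A.two
  obtain ⟨g, rfl⟩ := A.trans ω a
  obtain ⟨g', rfl⟩ := A.trans ω b
  have h1 : g ∈ H := hH ▸ Subgroup.mem_top g
  have h2 : g' ∈ H := hH ▸ Subgroup.mem_top g'
  exact hab (h1.trans h2.symm)

/-- Where two orthogonal transvections agree. -/
theorem eq_iff_fb {e u : V} (he : e ≠ 0) (hu : B e u = 0) (hu0 : u ≠ 0) (hue : u ≠ e) (ω : Ω) :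
    A.π (A.S.τ u) ω = A.π (A.S.τ e) ω ↔ A.fb ω e u = 1 := by
  have hω := A.all_moved he ω
  constructor
  · intro h
    refine A.S.eq_one fun h0 => hue ?_
    exact A.τ_inj he hu (A.S.hA e) hω h0 A.fb_self h
  · intro h1
    have hx : A.π (A.S.sx e u) ω = A.π (A.S.τ e) ω := by
      rw [A.fb_spec he hu hω, h1]; rfl
    rcases A.pair_orbit hu0 (show B u e = 0 by rw [A.S.bswap, hu]) (A.all_moved hu0 ω) with h | h
    · rw [← A.S.sx_symm hu, hx] at h
      exact absurd h hω
    · rw [← h, ← A.S.sx_symm hu, hx]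

theorem card_eq_const {e u v w : V} (he : e ≠ 0) (hu : u ≠ 0) (hue : u ≠ e) (h : B e u = 0)
    (hv : v ≠ 0) (hw : w ≠ 0) (hwv : w ≠ v) (h' : B v w = 0) :
    (univ.filter fun ω => A.π (A.S.τ u) ω = A.π (A.S.τ e) ω).card =
      (univ.filter fun ω => A.π (A.S.τ w) ω = A.π (A.S.τ v) ω).card := by
  obtain ⟨g, hge, hgu⟩ := A.S.exists_pair_map he hu hue h hv hw hwv h'
  refine Finset.card_equiv (A.π g) fun ω => ?_
  have e1 : ∀ a, A.π (A.S.τ (g.1 a)) (A.π g ω) = A.π g (A.π (A.S.τ a) ω) := fun a => by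
    rw [← A.two_step, ← A.two_step, Setup.τ, Setup.τ, ← mul_inv_eq_iff_eq_mul.1 (conj_tv A.S.hA g a 1)]
  simp only [mem_filter, mem_univ, true_and, ← hge, ← hgu, e1, (A.π g).injective.eq_iff]

end Act

/-- No such action exists. -/
theorem no_small_action {Ω : Type*} [Fintype Ω] [DecidableEq Ω] (A : Act B Q0 l Ω) : False := by
  classical
  have hd := A.S.hd
  have hl := A.S.hl
  obtain ⟨e, he⟩ : ∃ e : V, e ≠ 0 := by
    by_contra! h
    have : Subsingleton V := ⟨fun x y => (h x).trans (h y).symm⟩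
    rw [Module.finrank_zero_of_subsingleton] at hd
    omega
  obtain ⟨ω, -⟩ := A.two
  have hω := A.all_moved he ω
  have step : ∀ v w, B e v = 0 → B e w = 0 → B v w = 0 → v ≠ 0 → v ≠ e → w ≠ 0 → w ≠ e → w ≠ v →
      A.fb ω e v = 1 → A.fb ω e w = 1 := by
    intro v w hev hew hvw hv hve hw hwe hwv h1
    have hsub : (univ.filter fun μ => A.π (A.S.τ w) μ = A.π (A.S.τ v) μ) ⊆
        univ.filter fun μ => A.π (A.S.τ v) μ = A.π (A.S.τ e) μ := by
      intro μ hμ
      rw [mem_filter] at hμ ⊢
      refine ⟨hμ.1, ?_⟩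
      by_contra hne
      have hv0 : A.fb μ e v = 0 := by
        rcases A.S.elems (A.fb μ e v) with h | h
        · exact h
        · exact absurd ((A.eq_iff_fb he hev hv hve μ).2 h) hne
      rcases A.S.elems (A.fb μ e w) with h | h
      · exact hwv (A.τ_inj he hew hev (A.all_moved he μ) h hv0 hμ.2)
      · exact hne (hμ.2 ▸ (A.eq_iff_fb he hew hw hwe μ).2 h)
    have heq := Finset.eq_of_subset_of_card_le hsub
      (A.card_eq_const he hv hve hev hv hw hwv hvw).le
    have hmem : ω ∈ univ.filter fun μ => A.π (A.S.τ w) μ = A.π (A.S.τ v) μ := by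
      rw [heq]; exact mem_filter.2 ⟨mem_univ _, (A.eq_iff_fb he hev hv hve ω).2 h1⟩
    have h2 := (mem_filter.1 hmem).2
    rw [(A.eq_iff_fb he hev hv hve ω).2 h1] at h2
    exact (A.eq_iff_fb he hew hw hwe ω).1 h2
  -- some value is `1`
  obtain ⟨v, hev, hv1⟩ : ∃ v, B e v = 0 ∧ A.fb ω e v = 1 := by
    by_contra! hno
    have h0 : ∀ v, B e v = 0 → A.fb ω e v = 0 := fun v hv =>
      (A.S.elems _).resolve_right (hno v hv)
    have hlt : finrank F (Submodule.span F ({e} : Set V)) < finrank F (LinearMap.ker (B e)) := by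
      have h1 : (B e).range ≤ ⊤ := le_top
      have h2 := Submodule.finrank_le (B e).range
      rw [finrank_self] at h2
      have h3 := (B e).finrank_range_add_finrank_ker
      rw [finrank_span_singleton he]
      omega
    obtain ⟨a, ha, hae⟩ : ∃ a ∈ LinearMap.ker (B e), a ∉ Submodule.span F ({e} : Set V) := by
      by_contra! hle
      exact absurd (Submodule.finrank_mono hle) (by omega)
    obtain ⟨b, hb, hb1⟩ := A.S.exists_one hae
    have hb' : B e b = 0 := by rw [A.S.bswap]; exact hb e (Submodule.mem_span_singleton_self e)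
    have := A.fb_add he hb' ha hω
    rw [h0 _ (by simp [hb', show B e a = 0 from ha]), h0 _ hb', h0 _ ha, hb1, add_zero, zero_add] at this
    exact zero_ne_one this
  have hv : v ≠ 0 := fun h => by rw [h, A.fb_zero] at hv1; exact zero_ne_one hv1
  have hve : v ≠ e := fun h => by rw [h, A.fb_self] at hv1; exact zero_ne_one hv1
  obtain ⟨w, hew, hvw, hwT⟩ : ∃ w, B e w = 0 ∧ B v w = 0 ∧ w ∉ Submodule.span F ({e, v} : Set V) := by
    have h2 := finrank_span_finset_le_card (R := F) ({e, v} : Finset V)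
    rw [Finset.coe_pair, Set.finrank] at h2
    have h2' := h2.trans Finset.card_le_two
    have h3 := ((B e).prod (B v)).finrank_range_add_finrank_ker
    have h4 := Submodule.finrank_le ((B e).prod (B v)).range
    rw [Module.finrank_prod, finrank_self] at h4
    by_contra! hle
    have := Submodule.finrank_mono (s := LinearMap.ker ((B e).prod (B v)))
      (t := Submodule.span F ({e, v} : Set V))
      fun w hw => hle w (congrArg Prod.fst hw) (congrArg Prod.snd hw)
    omega
  have hmem : ∀ {x : V}, x ∈ ({e, v} : Set V) → x ∈ Submodule.span F ({e, v} : Set V) :=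
    fun h => Submodule.subset_span h
  have hw : w ≠ 0 := fun h => hwT (h ▸ Submodule.zero_mem _)
  have hwe : w ≠ e := fun h => hwT (by rw [h]; exact hmem (Set.mem_insert _ _))
  have hwv : w ≠ v := fun h => hwT (by rw [h]; exact hmem (Set.mem_insert_of_mem _ rfl))
  have h1 := step v w hev hew hvw hv hve hw hwe hwv hv1
  have h2 := step v (v + w) hev (by simp [hev, hew]) (by simp [A.S.hA v, hvw]) hv hve
    (fun h => hwv (by rw [← A.S.vneg v]; exact (neg_eq_of_add_eq_zero_right h).symm))
    (fun h => hwT (by rw [show w = e + v by rw [← h, add_comm v w, add_assoc, A.S.vadd, add_zero]]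
                      exact add_mem (hmem (by simp)) (hmem (by simp))))
    (fun h => hw (by simpa using h)) hv1
  rw [A.fb_add he hev hew hω, hv1, h1, hvw, add_zero, A.S.fadd] at h2
  exact zero_ne_one h2

/-- Proper subgroups have large index. -/
theorem index_ge (S : Setup B Q0 l) (K : Subgroup (isomGroup B)) (hK : K ≠ ⊤) :
    2 * 4 ^ l - 2 ^ l ≤ K.index := by
  classical
  by_contra! hlt
  have : Finite (V ≃ₗ[F] V) := Finite.of_injective (fun g => (g : V → V)) DFunLike.coe_injective
  have : Finite (isomGroup B) := inferInstance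
  have := Fintype.ofFinite (isomGroup B ⧸ K)
  refine no_small_action (B := B) (Q0 := Q0) (l := l) (Ω := isomGroup B ⧸ K)
    { S := S
      π := MulAction.toPermHom _ _
      trans := fun a b => MulAction.exists_smul_eq (isomGroup B) a b
      two := ?_
      small := ?_ }
  · obtain ⟨g, hg⟩ : ∃ g, g ∉ K := by
      by_contra! h
      exact hK (eq_top_iff.2 fun g _ => h g)
    exact ⟨(g : isomGroup B ⧸ K), ((1 : isomGroup B) : isomGroup B ⧸ K), fun e => hg (by
      simpa using K.inv_mem (QuotientGroup.eq.1 e))⟩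
  · rw [← Nat.card_eq_fintype_card]
    change K.index + _ < _
    omega

/-- The stabiliser of a quadratic form of minus type attains the bound. -/
theorem exists_index (S : Setup B Q0 l) (a₀ : V) (ha₀ : Q0 a₀ = 1) :
    ∃ K : Subgroup (isomGroup B), K.index = (univ.filter fun a => Q0 a ≠ 0).card := by
  classical
  letI : MulAction (isomGroup B) (V → F) :=
    { smul := fun g f x => f ((g⁻¹).1 x)
      one_smul := fun f => funext fun x => by show f _ = f x; rw [inv_one]; rfl
      mul_smul := fun g h f => funext fun x => by show f _ = f _; rw [mul_inv_rev]; rfl }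
  have hsmul : ∀ (g : isomGroup B) (f : V → F) x, (g • f) x = f ((g⁻¹).1 x) := fun _ _ _ => rfl
  set form : V → (V → F) := fun a x => Q0 x + B a x
  set X : Finset (V → F) := (univ.filter fun a => Q0 a ≠ 0).image form
  have hX : X.card = (univ.filter fun a => Q0 a ≠ 0).card := by
    refine Finset.card_image_of_injective _ fun a b h => ?_
    refine sub_eq_zero.1 (S.hN.1 (a - b) fun x => ?_)
    have h1 := congrFun h x
    simp only [form, add_right_inj] at h1
    rw [map_sub, LinearMap.sub_apply, h1, sub_self]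
  -- a transvection moves a form to another
  have hmove : ∀ (v : V) (a : V), Q0 a = 1 → (S.τ v • form a) =
      if Q0 v + B a v = 0 then form (a + v) else form a := by
    intro v a ha
    funext x
    have e : (S.τ v)⁻¹ = S.τ v := inv_eq_of_mul_eq_one_right (S.τ_sq v)
    rw [hsmul, e, S.τ_apply]
    simp only [form, CfsgLib.Orth.quad_add', CfsgLib.Orth.quad_smul', QuadraticMap.polar_smul_right,
      smul_eq_mul, S.hQ, map_add, map_smul]
    rcases S.elems (B x v) with h | h <;> rw [h]
    · split_ifs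
      · simp only [map_add, LinearMap.add_apply, S.bswap v x, h]; ring
      · ring
    · split_ifs with h2
      · simp only [map_add, LinearMap.add_apply, S.bswap v x, h]
        linear_combination h2
      · linear_combination S.eq_one h2 + S.two0
  refine ⟨MulAction.stabilizer (isomGroup B) (form a₀), ?_⟩
  rw [MulAction.index_stabilizer, ← hX, ← Set.ncard_coe_finset]
  congr 1
  apply Set.Subset.antisymm
  · rintro _ ⟨g, rfl⟩
    let H : Subgroup (isomGroup B) :=
      { carrier := {g | ∀ f, g • f ∈ X ↔ f ∈ X}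
        one_mem' := fun f => by rw [one_smul]
        mul_mem' := fun {a b} ha hb f => by rw [mul_smul, ha, hb]
        inv_mem' := fun {a} ha f => by
          conv_rhs => rw [← smul_inv_smul a f, ha] }
    have hH : H = ⊤ := by
      rw [eq_top_iff, ← tvGroup_eq_top S.hA S.hN]
      refine (Subgroup.closure_le _).2 ?_
      rintro _ ⟨v, t, rfl⟩
      rcases S.tv_zero_or v t with h | h <;> rw [h]
      · exact one_mem _
      have h1 : ∀ f ∈ X, S.τ v • f ∈ X := by
        intro f hf
        obtain ⟨a, ha, rfl⟩ := mem_image.1 hf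
        rw [hmove v a (S.eq_one (mem_filter.1 ha).2)]
        split_ifs with h2
        · refine mem_image_of_mem _ (mem_filter.2 ⟨mem_univ _, ?_⟩)
          rw [CfsgLib.Orth.quad_add', S.hQ, S.eq_one (mem_filter.1 ha).2,
            show (1 : F) + Q0 v + B a v = 1 by linear_combination h2]
          exact one_ne_zero
        · exact mem_image_of_mem _ ha
      intro f
      refine ⟨fun h2 => ?_, h1 f⟩
      have := h1 _ h2
      rwa [← mul_smul, S.τ_sq, one_smul] at this
    have hg : g ∈ H := hH ▸ Subgroup.mem_top g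
    exact (hg _).2 (mem_image_of_mem _ (mem_filter.2 ⟨mem_univ _, by rw [ha₀]; exact one_ne_zero⟩))
  · intro f hf
    obtain ⟨a, ha, rfl⟩ := mem_image.1 hf
    refine ⟨S.τ (a₀ + a), ?_⟩
    show S.τ (a₀ + a) • form a₀ = form a
    rw [hmove _ _ ha₀, if_pos, ← add_assoc, S.vadd, zero_add]
    rw [CfsgLib.Orth.quad_add', S.hQ, ha₀, S.eq_one (mem_filter.1 ha).2, map_add, S.hA a₀]
    linear_combination S.two0 + B a₀ a * S.two0

end CfsgLib.KnownA.MinIndexSpTwo
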