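import Cfsg.Prelude.Def_ChevAutomorphisms
import Cfsg.Agent.Lib.Chevalley.Tables
import Cfsg.Agent.Lib.Chevalley.BN
import Cfsg.Agent.Lib.Chevalley.TablesCerts

/-!
The monomial subgroup and the root subgroups of representatives of the orbits of roots generate.
-/

set_option autoImplicit false
set_option maxRecDepth 20000
set_option Elab.async false

namespace CfsgLib.KnownA.NRootGen

open CfsgLib.Chevalley CfsgLib.Chevalley.Tbl

/-- The roots to which the words `W` send `p`. -/
def orbit (T : Tbl) (p : ℕ) (W : List (List ℕ)) : List ℕ := W.map fun w => T.actWord w p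

/-- The words use fundamental reflections only. -/
def chkWord (T : Tbl) (W : List (List ℕ)) : Bool :=
  W.all fun w => w.all fun i => Nat.blt i T.rank

/-- Words reaching the orbit of each fundamental root. -/
def g2Orbits : List (List (List ℕ)) := [[[], [0], [1], [1, 0], [0, 1], [0, 1, 0]], [[], [0], [1], [1, 0], [0, 1], [1, 0, 1]]]

/-- Words reaching the orbit of each fundamental root. -/
def b2Orbits : List (List (List ℕ)) := [[[], [0], [1], [1, 0]], [[], [0], [1], [0, 1]]]

/-- Words reaching the orbit of each fundamental root. -/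
def f4Orbits : List (List (List ℕ)) := [[[], [0], [1], [1, 0], [0, 1], [2, 1], [0, 1, 0], [2, 1, 0], [2, 0, 1], [1, 2, 1], [3, 2, 1], [2, 0, 1, 0], [1, 2, 1, 0], [3, 2, 1, 0], [3, 2, 0, 1], [3, 1, 2, 1], [3, 2, 0, 1, 0], [3, 1, 2, 1, 0], [2, 3, 1, 2, 1], [2, 3, 1, 2, 1, 0], [1, 2, 3, 1, 2, 1], [1, 2, 3, 1, 2, 1, 0], [0, 1, 2, 3, 1, 2, 1], [0, 1, 2, 3, 1, 2, 1, 0]], [[], [0], [1], [2], [1, 0], [2, 0], [0, 1], [2, 1], [3, 2], [0, 1, 0], [1, 2, 0], [3, 2, 0], [2, 0, 1], [3, 2, 1], [3, 1, 2, 0], [1, 2, 0, 1], [3, 2, 0, 1], [2, 3, 1, 2, 0], [3, 1, 2, 0, 1], [1, 2, 3, 1, 2, 0], [2, 3, 1, 2, 0, 1], [0, 1, 2, 3, 1, 2, 0], [1, 2, 3, 1, 2, 0, 1], [0, 1, 2, 3, 1, 2, 0, 1]], [[], [1], [2], [3], [0, 1], [3, 1], [1, 2], [3, 2], [2, 3], [3, 0, 1], [2, 3, 1], [0, 1, 2], [3, 1, 2], [2, 3, 2], [2, 3, 0, 1], [3, 0, 1, 2], [2, 3, 1, 2], [1, 2, 3, 0, 1], [2, 3, 0, 1, 2], [2, 1, 2, 3, 0, 1], [1, 2, 3, 0, 1, 2], [3, 2, 1, 2, 3, 0, 1], [2, 1, 2, 3, 0, 1, 2], [3, 2, 1, 2, 3, 0, 1, 2]],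 [[], [2], [3], [1, 2], [3, 2], [2, 3], [0, 1, 2], [2, 1, 2], [3, 1, 2], [2, 3, 2], [1, 2, 3], [2, 0, 1, 2], [3, 0, 1, 2], [1, 2, 3, 2], [0, 1, 2, 3], [2, 1, 2, 3], [1, 2, 0, 1, 2], [0, 1, 2, 3, 2], [2, 0, 1, 2, 3], [2, 1, 2, 0, 1, 2], [1, 2, 0, 1, 2, 3], [3, 2, 1, 2, 0, 1, 2], [2, 1, 2, 0, 1, 2, 3], [3, 2, 1, 2, 0, 1, 2, 3]]]

/-- Every root lies in `L`, or its root elements are commutators of those of `L` up to a unit in `cs`. -/
def chkGen (T : Tbl) (cs : List ℕ) (L : List ℕ) : Bool :=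
  allLt (fun r => L.contains r || L.any fun a => L.any fun b =>
    Nat.blt a T.n && Nat.blt b T.n && !(T.sum? a b).isNone &&
      match T.commT a b with
      | [c] => Nat.beq c.1 r && Nat.beq c.2.2.1 1 && Nat.beq c.2.2.2 1 && cs.contains c.2.1.natAbs
      | _ => false) T.n

/-- The certificate for one short fundamental root. -/
def chkShort (T : Tbl) (O : List (List (List ℕ))) (cs : List ℕ) : Bool :=
  allLt (fun i => T.datum.isLong (T.datum.simple i) ||
    (chkWord T (O.getD i []) && chkGen T cs (orbit T (T.simple i) (O.getD i [])))) T.rank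

/-- Joined fundamental roots are conjugate. -/
def chkEdge (T : Tbl) : Bool :=
  allLt (fun i => allLt (fun j => decide (T.ca i (T.simple j) = 0) || Nat.beq i j ||
    Nat.beq (T.refl i (T.refl j (T.simple i))) (T.simple j)) T.rank) T.rank

/-- The certificate for a short and a long root joined. -/
def chkBoth (T : Tbl) (O : List (List (List ℕ))) : Bool :=
  allLt (fun i => allLt (fun j => T.datum.isLong (T.datum.simple i) || !(T.datum.isLong (T.datum.simple j)) ||
    (chkWord T (O.getD i []) && chkWord T (O.getD j []) &&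
      chkGen T [] (orbit T (T.simple i) (O.getD i []) ++ orbit T (T.simple j) (O.getD j [])))) T.rank) T.rank

theorem g2_chkShort : chkShort Data.G2.tbl g2Orbits [3] = true := by decide +kernel
theorem b2_chkShort : chkShort Data.B2.tbl b2Orbits [2] = true := by decide +kernel
theorem f4_chkShort : chkShort Data.F4.tbl f4Orbits [2] = true := by decide +kernel
theorem d4_chkEdge : chkEdge Data.D4.tbl = true := by decide +kernel
theorem e6_chkEdge : chkEdge Data.E6.tbl = true := by decide +kernel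
theorem e7_chkEdge : chkEdge Data.E7.tbl = true := by decide +kernel
theorem e8_chkEdge : chkEdge Data.E8.tbl = true := by decide +kernel
theorem g2_chkBoth : chkBoth Data.G2.tbl g2Orbits = true := by decide +kernel
theorem b2_chkBoth : chkBoth Data.B2.tbl b2Orbits = true := by decide +kernel
theorem f4_chkBoth : chkBoth Data.F4.tbl f4Orbits = true := by decide +kernel

variable {T : Tbl} {F : Type*} [Field F]

theorem orbit_mem (hT : T.Valid) {S : Subgroup (GL T.I F)} (hN : T.datum.monomialSubgroup F ≤ S)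
    {p : ℕ} (hp : p < T.n) (hX : ∀ t, T.xU F p t ∈ S) {W : List (List ℕ)} (hW : chkWord T W = true) :
    ∀ r ∈ orbit T p W, r < T.n ∧ ∀ t, T.xU F r t ∈ S := by
  intro r hr
  obtain ⟨w, hw, rfl⟩ := List.mem_map.mp hr
  simp only [chkWord, List.all_eq_true, Nat.blt_eq] at hW
  have hall := hW w hw
  clear hw hr
  induction w with
  | nil => exact ⟨hp, hX⟩
  | cons i w ih =>
    obtain ⟨hv, hvS⟩ := ih fun x hx => hall x (List.mem_cons_of_mem _ hx)
    have hi := hall i List.mem_cons_self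
    refine ⟨refl_lt hT hi hv, fun t => ?_⟩
    have hn := hN (nU_simple_mem_N (F := F) hT ⟨i, hi⟩)
    obtain ⟨c, hc⟩ := (mono_nU_simple (F := F) hT ⟨i, hi⟩).conj ⟨_, hv⟩
    have e := (hc (((c⁻¹ : Fˣ) : F) * t)).1
    rw [← mul_assoc (c : F), ← Units.val_mul, mul_inv_cancel, Units.val_one, one_mul] at e
    change _ * T.xU F (T.actWord w p) _ = T.xU F (T.refl i (T.actWord w p)) t * _ at e
    show T.xU F (T.refl i (T.actWord w p)) t ∈ S
    rw [← mul_inv_eq_iff_eq_mul.mpr e]
    exact mul_mem (mul_mem hn (hvS _)) (inv_mem hn)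

theorem group_le_of_chk (hT : T.Valid) (hC : T.chkComm = true) {cs : List ℕ}
    (hcs : ∀ k ∈ cs, (k : F) ≠ 0) {L : List ℕ} (hchk : chkGen T cs L = true)
    {S : Subgroup (GL T.I F)} (hL : ∀ r ∈ L, ∀ t, T.xU F r t ∈ S) : T.datum.group F ≤ S := by
  rw [group_eq hT, Subgroup.closure_le]
  rintro _ ⟨r, hr, t, rfl⟩
  rw [SetLike.mem_coe]
  have h := allLt_iff.mp hchk r hr
  simp only [Bool.or_eq_true, List.contains_iff_mem, List.any_eq_true, Bool.and_eq_true,
    Nat.blt_eq, Bool.not_eq_true', Option.isNone_eq_false_iff] at h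
  rcases h with h | ⟨a, haL, b, hbL, ⟨⟨ha, hb⟩, hsome⟩, hm⟩
  · exact hL r h t
  obtain ⟨⟨w, N⟩, hsum⟩ := Option.isSome_iff_exists.mp hsome
  have hne : b ≠ a := by
    intro e; rw [e, sum?_self hT ha] at hsum; cases hsum
  have hneg : b ≠ T.neg a := by
    intro e; rw [e, sum?_neg hT ha] at hsum; cases hsum
  match hl : T.commT a b with
  | [] => simp [hl] at hm
  | _ :: _ :: _ => simp [hl] at hm
  | [c] =>
    simp only [hl, Bool.and_eq_true, Nat.beq_eq, List.contains_iff_mem] at hm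
    obtain ⟨⟨⟨hc, hi⟩, hj⟩, hN⟩ := hm
    have hN0 : (c.2.1 : F) ≠ 0 := by
      have h := hcs _ hN
      rcases Int.natAbs_eq c.2.1 with e | e <;> rw [e] <;> simpa using h
    have hrel := comm_xU (F := F) hT hC ha hb hne hneg (-1) (t / (c.2.1 : F))
    simp only [hl, List.map_cons, List.map_nil, List.prod_cons, List.prod_nil, mul_one, hc, hi, hj,
      _root_.neg_neg, pow_one] at hrel
    rw [show (c.2.1 : F) * (t / (c.2.1 : F)) = t by field_simp] at hrel
    rw [show T.xU F r t = (T.xU F a (-1) * T.xU F b (t / (c.2.1 : F)))⁻¹ *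
      (T.xU F b (t / (c.2.1 : F)) * T.xU F a (-1)) by rw [hrel]; group]
    exact mul_mem (inv_mem (mul_mem (hL a haL _) (hL b hbL _))) (mul_mem (hL b hbL _) (hL a haL _))

theorem xU_mem_rootSubgroup (hT : T.Valid) {r : ℕ} (hr : r < T.n) (t : F) :
    T.xU F r t ∈ T.datum.rootSubgroup F r :=
  (mem_rootSubgroup_iff hT hr).mpr ⟨t, rfl⟩

theorem short_gen (hT : T.Valid) (hC : T.chkComm = true) {cs : List ℕ}
    {O : List (List (List ℕ))} (hS : chkShort T O cs = true)
    (hcs : ∀ k ∈ cs, (k : F) ≠ 0) {i : ℕ} (hi : i < T.rank)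
    (hshort : T.datum.isLong (T.datum.simple i) = false) :
    T.datum.group F ≤ T.datum.monomialSubgroup F ⊔ T.datum.rootSubgroup F (T.datum.simple i) := by
  have h := allLt_iff.mp hS i hi
  simp only [hshort, Bool.false_or, Bool.and_eq_true] at h
  obtain ⟨hw, h⟩ := h
  have hp := simple_lt hT hi
  have hs : T.datum.simple i = T.simple i := datum_simple hi
  rw [hs]
  exact group_le_of_chk hT hC hcs h fun r hr t =>
    (orbit_mem hT le_sup_left hp (fun t => Subgroup.mem_sup_right (xU_mem_rootSubgroup hT hp t)) hw r hr).2 t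

theorem both_gen (hT : T.Valid) (hC : T.chkComm = true) {O : List (List (List ℕ))}
    (hB : chkBoth T O = true) {i j : ℕ}
    (hi : i < T.rank) (hj : j < T.rank) (hshort : T.datum.isLong (T.datum.simple i) = false)
    (hlong : T.datum.isLong (T.datum.simple j) = true) :
    T.datum.group F ≤ T.datum.monomialSubgroup F ⊔ T.datum.rootSubgroup F (T.datum.simple i) ⊔
      T.datum.rootSubgroup F (T.datum.simple j) := by
  have h := allLt_iff.mp (allLt_iff.mp hB i hi) j hj
  simp only [hshort, hlong, Bool.not_true, Bool.false_or, Bool.and_eq_true] at h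
  obtain ⟨⟨hwi, hwj⟩, h⟩ := h
  rw [datum_simple hi, datum_simple hj]
  refine group_le_of_chk (cs := []) hT hC (by simp) h fun r hr t => ?_
  rcases List.mem_append.mp hr with hr | hr
  · exact (orbit_mem hT (le_sup_left.trans le_sup_left) (simple_lt hT hi) (fun t =>
      Subgroup.mem_sup_left (Subgroup.mem_sup_right (xU_mem_rootSubgroup hT (simple_lt hT hi) t))) hwi r hr).2 t
  · exact (orbit_mem hT (le_sup_left.trans le_sup_left) (simple_lt hT hj) (fun t =>
      Subgroup.mem_sup_right (xU_mem_rootSubgroup hT (simple_lt hT hj) t)) hwj r hr).2 t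

/-- One root length: `N` and one root subgroup generate. -/
theorem edge_gen (hT : T.Valid) (hE : chkEdge T = true) (hconn : T.chkConn = true) {i : ℕ}
    (hi : i < T.rank) :
    T.datum.group F ≤ T.datum.monomialSubgroup F ⊔ T.datum.rootSubgroup F (T.datum.simple i) := by
  set S := T.datum.monomialSubgroup F ⊔ T.datum.rootSubgroup F (T.datum.simple i) with hSdef
  have hN : T.datum.monomialSubgroup F ≤ S := le_sup_left
  have hmove : ∀ k v, k < T.rank → v < T.n → (∀ t, T.xU F v t ∈ S) →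
      ∀ t, T.xU F (T.refl k v) t ∈ S := by
    intro k v hk hv h t
    obtain ⟨c, hc⟩ := (mono_nU_simple (F := F) hT ⟨k, hk⟩).conj ⟨v, hv⟩
    have e := (hc (((c⁻¹ : Fˣ) : F) * t)).1
    rw [← mul_assoc (c : F), ← Units.val_mul, mul_inv_cancel, Units.val_one, one_mul] at e
    change T.nU F (T.simple k) 1 * T.xU F v _ = T.xU F (T.refl k v) t * _ at e
    rw [← mul_inv_eq_iff_eq_mul.mpr e]
    exact mul_mem (mul_mem (hN (nU_simple_mem_N hT ⟨k, hk⟩)) (h _))
      (inv_mem (hN (nU_simple_mem_N hT ⟨k, hk⟩)))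
  have hstep : ∀ a b : Fin T.rank, (∀ t, T.xU F (T.simple a) t ∈ S) →
      T.refl b (T.refl a (T.simple b)) = T.simple a ∨ T.refl a (T.refl b (T.simple a)) = T.simple b →
      ∀ t, T.xU F (T.simple b) t ∈ S := by
    intro a b ha h
    have hb := simple_lt hT b.2
    rcases h with h | h
    · have h1 := hmove b _ b.2 (simple_lt hT a.2) ha
      have h2 := hmove a _ a.2 (refl_lt hT b.2 (simple_lt hT a.2)) h1
      rwa [← h, refl_refl hT b.2 (refl_lt hT a.2 hb), refl_refl hT a.2 hb] at h2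
    · have h1 := hmove b _ b.2 (simple_lt hT a.2) ha
      have h2 := hmove a _ a.2 (refl_lt hT b.2 (simple_lt hT a.2)) h1
      rwa [h] at h2
  have hsimple : ∀ j : Fin T.rank, ∀ t, T.xU F (T.simple j) t ∈ S := by
    have hi' : ∀ t, T.xU F (T.simple i) t ∈ S := fun t => Subgroup.mem_sup_right (by
      rw [datum_simple hi]; exact xU_mem_rootSubgroup hT (simple_lt hT hi) t)
    by_contra hno
    push Not at hno
    obtain ⟨j, u, hu⟩ := hno
    obtain ⟨a, b, hne, hside⟩ := exists_edge hT hconn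
      (fun k : Fin T.rank => ∀ t, T.xU F (T.simple k) t ∈ S) (a := ⟨i, hi⟩) hi' (b := j)
      (fun h => hu (h u))
    have hab : a.val ≠ b.val := by
      intro e
      have e' : a = b := Fin.ext e
      subst e'
      rcases hside with ⟨h1, h2⟩ | ⟨h1, h2⟩ <;> exact h2 h1
    have h := allLt_iff.mp (allLt_iff.mp hE a a.2) b b.2
    simp only [Bool.or_eq_true, decide_eq_true_eq, Nat.beq_eq] at h
    have h' : T.refl a (T.refl b (T.simple a)) = T.simple b := by tauto
    rcases hside with ⟨h1, h2⟩ | ⟨h1, h2⟩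
    · exact h2 (hstep a b h1 (Or.inr h'))
    · exact h2 (hstep b a h1 (Or.inl h'))
  rw [group_eq hT, Subgroup.closure_le]
  rintro _ ⟨r, hr, t, rfl⟩
  exact root_induction hT (P := fun r => ∀ t, T.xU F r t ∈ S) (fun k hk => hsimple ⟨k, hk⟩)
    (fun k hk v hv h => hmove k v hk hv h) r hr t

end CfsgLib.KnownA.NRootGen
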