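import Mathlib

/-!
Arithmetic for the orders of nilpotent permutation groups: `G m` bounds a nilpotent transitive
group of degree `m`, `e2 m` is the exponent of `2` in `m !`.
-/

set_option autoImplicit false

namespace CfsgLib.KnownA.NilpotentArith

open Finset Nat

/-- Exponent of two in `n !`. -/
def e2 (n : ℕ) : ℕ := padicValNat 2 n !

/-- Bound for nilpotent transitive groups of degree `m`. -/
def G (m : ℕ) : ℕ := ∏ p ∈ m.primeFactors, p ^ ∑ i ∈ range (m.factorization p), p ^ i

/-- Power of two. -/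
def Pow2 (m : ℕ) : Prop := ∃ k, m = 2 ^ k

lemma e2_zero : e2 0 = 0 := by simp [e2]
lemma e2_one : e2 1 = 0 := by simp [e2]

lemma e2_eq (n : ℕ) : e2 n = e2 (n / 2) + n / 2 := by
  unfold e2
  conv_lhs => rw [← Nat.div_add_mod n 2]
  rw [padicValNat_factorial_mul_add (p := 2) _ (Nat.mod_lt _ (by norm_num)), padicValNat_factorial_mul (p := 2)]

lemma e2_add (a b : ℕ) : e2 a + e2 b ≤ e2 (a + b) := by
  unfold e2
  rw [← padicValNat.mul (factorial_ne_zero a) (factorial_ne_zero b)]
  obtain ⟨c, hc⟩ := Nat.factorial_mul_factorial_dvd_factorial_add a b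
  rw [hc, padicValNat.mul (Nat.mul_ne_zero (factorial_ne_zero a) (factorial_ne_zero b))
    (fun h => factorial_ne_zero (a + b) (by rw [hc, h, mul_zero]))]
  exact Nat.le_add_right _ _

lemma e2_mono {a b : ℕ} (h : a ≤ b) : e2 a ≤ e2 b := by
  obtain ⟨c, rfl⟩ := Nat.exists_eq_add_of_le h
  exact le_trans (Nat.le_add_right _ _) (e2_add a c)

lemma e2_mul (a b : ℕ) (ha : 1 ≤ a) : b * e2 a + e2 b ≤ e2 (a * b) := by
  obtain ⟨a, rfl⟩ := Nat.exists_eq_add_of_le' ha
  induction b with
  | zero => simp [e2]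
  | succ b ih =>
    have h1 : e2 (b + 1) = e2 b + padicValNat 2 (b + 1) := by
      unfold e2
      rw [Nat.factorial_succ, padicValNat.mul (Nat.succ_ne_zero b) (factorial_ne_zero b), add_comm]
    set C := ((a + 1) * b + (a + 1)).choose (a + 1) with hC
    have hC0 : 0 < C := Nat.choose_pos (by omega)
    have hdvd : b + 1 ∣ C := by
      have h := Nat.add_one_mul_choose_eq ((a + 1) * b + a) a
      refine ⟨((a + 1) * b + a).choose a, Nat.eq_of_mul_eq_mul_right (Nat.succ_pos a) ?_⟩
      rw [hC, ← add_assoc, ← h]; simp only [Nat.succ_eq_add_one]; ring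
    obtain ⟨c, hc⟩ := hdvd
    have hval : padicValNat 2 (b + 1) ≤ padicValNat 2 C := by
      rw [hc, padicValNat.mul (Nat.succ_ne_zero b) (fun h => by rw [h, mul_zero] at hc; omega)]
      exact Nat.le_add_right _ _
    have hfac : e2 ((a + 1) * (b + 1)) = padicValNat 2 C + e2 ((a + 1) * b) + e2 (a + 1) := by
      unfold e2
      rw [mul_add, mul_one, ← Nat.add_choose_mul_factorial_mul_factorial ((a + 1) * b) (a + 1), ← hC,
        padicValNat.mul (Nat.mul_ne_zero hC0.ne' (factorial_ne_zero _)) (factorial_ne_zero _),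
        padicValNat.mul hC0.ne' (factorial_ne_zero _)]
    rw [hfac, h1, Nat.succ_mul]
    omega

lemma e2_pow_two (k : ℕ) : e2 (2 ^ k) = ∑ i ∈ range k, 2 ^ i := by
  induction k with
  | zero => simp [e2]
  | succ k ih =>
    rw [sum_range_succ, ← ih, e2_eq]
    rw [pow_succ, Nat.mul_div_cancel _ (by norm_num : 0 < 2)]

lemma e2_two : e2 2 = 1 := by simpa using e2_pow_two 1
lemma e2_three : e2 3 = 1 := by rw [e2_eq]; norm_num [e2_one]
lemma e2_five : e2 5 = 3 := by rw [e2_eq]; norm_num [e2_two]
lemma e2_six : e2 6 = 4 := by rw [e2_eq]; norm_num [e2_three]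
lemma e2_seven : e2 7 = 4 := by rw [e2_eq]; norm_num [e2_three]
lemma e2_four : e2 4 = 3 := by simpa using e2_pow_two 2
lemma e2_nine : e2 9 = 7 := by rw [e2_eq]; norm_num [e2_four]

lemma G_one : G 1 = 1 := by simp [G]

lemma G_prime_pow {p : ℕ} (hp : p.Prime) (a : ℕ) : G (p ^ a) = p ^ ∑ i ∈ range a, p ^ i := by
  rcases Nat.eq_zero_or_pos a with rfl | ha
  · simp [G]
  · rw [G, Nat.primeFactors_prime_pow ha.ne' hp, prod_singleton, hp.factorization_pow, Finsupp.single_eq_same]

lemma G_mul {a b : ℕ} (hab : a.Coprime b) : G (a * b) = G a * G b := by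
  unfold G
  rw [hab.primeFactors_mul, prod_union hab.disjoint_primeFactors]
  congr 1
  · refine prod_congr rfl fun p hp => ?_
    rw [Nat.factorization_mul_of_coprime hab, Finsupp.add_apply,
      Nat.factorization_eq_zero_of_not_dvd (n := b) (fun h => ?_), add_zero]
    exact (Nat.prime_of_mem_primeFactors hp).not_dvd_one (hab.gcd_eq_one ▸ Nat.dvd_gcd (Nat.dvd_of_mem_primeFactors hp) h)
  · refine prod_congr rfl fun p hp => ?_
    rw [Nat.factorization_mul_of_coprime hab, Finsupp.add_apply,
      Nat.factorization_eq_zero_of_not_dvd (n := a) (fun h => ?_), zero_add]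
    exact (Nat.prime_of_mem_primeFactors hp).not_dvd_one (hab.gcd_eq_one ▸ Nat.dvd_gcd h (Nat.dvd_of_mem_primeFactors hp))

lemma G_pow2 {m : ℕ} (h : Pow2 m) : G m = 2 ^ e2 m := by
  obtain ⟨k, rfl⟩ := h
  rw [G_prime_pow Nat.prime_two, e2_pow_two]

lemma G_three : G 3 = 3 := by simpa using G_prime_pow Nat.prime_three 1
lemma G_five : G 5 = 5 := by simpa using G_prime_pow Nat.prime_five 1
lemma G_nine : G 9 = 81 := by simpa [sum_range_succ] using G_prime_pow Nat.prime_three 2

lemma two_mul_le_two_pow (n : ℕ) : 2 * n ≤ 2 ^ n := by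
  rcases n with _ | n
  · simp
  · rw [pow_succ, mul_comm]; exact Nat.mul_le_mul_right 2 Nat.lt_two_pow_self

lemma step {p x : ℕ} (hp : p.Prime) (hx : ∃ a, x = p ^ a) (h : 2 * G x ≤ 2 ^ e2 x) :
    2 * G (p * x) ≤ 2 ^ e2 (p * x) := by
  obtain ⟨a, rfl⟩ := hx
  have hG : G (p * p ^ a) = p * G (p ^ a) ^ p := by
    rw [← pow_succ', G_prime_pow hp, G_prime_pow hp, ← pow_mul, ← pow_succ', sum_range_succ']
    congr 1
    rw [sum_mul, pow_zero]
    simp [pow_succ]
  have he : p * e2 (p ^ a) ≤ e2 (p * p ^ a) := by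
    rw [mul_comm p (p ^ a)]
    exact le_trans (Nat.le_add_right _ _) (e2_mul _ p (Nat.one_le_pow _ _ hp.pos))
  calc 2 * G (p * p ^ a) = 2 * p * G (p ^ a) ^ p := by rw [hG]; ring
    _ ≤ 2 ^ p * G (p ^ a) ^ p := Nat.mul_le_mul_right _ (two_mul_le_two_pow p)
    _ = (2 * G (p ^ a)) ^ p := (mul_pow _ _ _).symm
    _ ≤ (2 ^ e2 (p ^ a)) ^ p := Nat.pow_le_pow_left h p
    _ ≤ 2 ^ e2 (p * p ^ a) := by
      rw [← pow_mul, mul_comm]; exact Nat.pow_le_pow_right (by norm_num) he

lemma prime_pow_bound {p : ℕ} (hp : p.Prime) (hp2 : p ≠ 2) {a : ℕ} (ha : 1 ≤ a) :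
    p ^ a = 3 ∨ p ^ a = 5 ∨ p ^ a = 9 ∨ 2 * G (p ^ a) ≤ 2 ^ e2 (p ^ a) := by
  have hind : ∀ b, 2 * G (p ^ b) ≤ 2 ^ e2 (p ^ b) → ∀ c, 2 * G (p ^ (b + c)) ≤ 2 ^ e2 (p ^ (b + c)) := by
    intro b hb c
    induction c with
    | zero => exact hb
    | succ c ih => rw [← add_assoc, pow_succ']; exact step hp ⟨_, rfl⟩ ih
  rcases Nat.lt_or_ge p 7 with h7 | h7
  · have : p = 3 ∨ p = 5 := by
      have := hp.two_le
      interval_cases p <;> simp_all (config := {decide := true})
    rcases this with rfl | rfl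
    · rcases Nat.lt_or_ge a 3 with h3 | h3
      · interval_cases a <;> norm_num
      · obtain ⟨c, rfl⟩ := Nat.exists_eq_add_of_le h3
        refine Or.inr (Or.inr (Or.inr (hind 3 ?_ c)))
        rw [G_prime_pow Nat.prime_three, e2_eq]
        norm_num [sum_range_succ]
        rw [e2_eq]
        norm_num [e2_six]
    · rcases Nat.lt_or_ge a 2 with h3 | h3
      · interval_cases a; norm_num
      · obtain ⟨c, rfl⟩ := Nat.exists_eq_add_of_le h3
        refine Or.inr (Or.inr (Or.inr (hind 2 ?_ c)))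
        rw [G_prime_pow Nat.prime_five, e2_eq]
        norm_num [sum_range_succ]
        rw [e2_eq]
        norm_num [e2_six]
  · obtain ⟨c, rfl⟩ := Nat.exists_eq_add_of_le ha
    refine Or.inr (Or.inr (Or.inr (hind 1 ?_ c)))
    rw [G_prime_pow hp, pow_one, sum_range_one, pow_zero, pow_one]
    obtain ⟨k, hk⟩ := hp.odd_of_ne_two hp2
    have he : k + 1 ≤ e2 p := by
      rw [e2_eq]
      have : 1 ≤ e2 (p / 2) := by rw [← e2_two]; exact e2_mono (by omega)
      omega
    have hk3 : 2 * k + 1 ≤ 2 ^ k := by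
      obtain ⟨j, rfl⟩ : ∃ j, k = j + 3 := ⟨k - 3, by omega⟩
      have := Nat.lt_two_pow_self (n := j)
      rw [pow_add]; omega
    calc 2 * p ≤ 2 ^ (k + 1) := by rw [pow_succ]; omega
      _ ≤ 2 ^ e2 p := Nat.pow_le_pow_right (by norm_num) he

theorem bound : ∀ m, 1 ≤ m → ¬ Pow2 m → m = 3 ∨ m = 5 ∨ m = 9 ∨
    (2 * G m ≤ 2 ^ e2 m ∧ (4 ∣ m → 4 * G m ≤ 2 ^ e2 m)) := by
  intro m
  induction m using Nat.strong_induction_on with
  | _ m ih =>
    intro hm hp2
    obtain ⟨p, hp, hpne, hpm⟩ : ∃ p, p.Prime ∧ p ≠ 2 ∧ p ∣ m := by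
      by_contra h
      push Not at h
      refine hp2 ⟨m.primeFactorsList.length, Nat.eq_prime_pow_of_unique_prime_dvd (by omega) fun {d} hd hdm => ?_⟩
      by_contra hne; exact h d hd hne hdm
    set b := p ^ m.factorization p with hb
    set a := m / b with ha
    have hbm : b ∣ m := Nat.ordProj_dvd m p
    have hab : a * b = m := Nat.div_mul_cancel hbm
    have hf : 1 ≤ m.factorization p := (hp.factorization_pos_of_dvd (by omega) hpm)
    have hcop : a.Coprime b := ((Nat.coprime_ordCompl hp (by omega)).pow_left _).symm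
    have hb3 : 3 ≤ b := by
      have h3 : 3 ≤ p := by have := hp.two_le; omega
      exact h3.trans (Nat.le_self_pow (by omega) p)
    rcases Nat.lt_or_ge a 2 with ha2 | ha2
    · have ha1 : a = 1 := by
        rcases Nat.eq_zero_or_pos a with h | h
        · rw [h, zero_mul] at hab; omega
        · omega
      rw [ha1, one_mul] at hab
      rcases prime_pow_bound hp hpne hf with h | h | h | h <;> rw [← hb, hab] at h
      · exact Or.inl h
      · exact Or.inr (Or.inl h)
      · exact Or.inr (Or.inr (Or.inl h))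
      · refine Or.inr (Or.inr (Or.inr ⟨h, fun h4 => ?_⟩))
        have : Odd m := by rw [← hab]; exact (hp.odd_of_ne_two hpne).pow
        obtain ⟨i, hi⟩ := this
        omega
    · have halt : a < m := by rw [← hab]; exact lt_mul_of_one_lt_right (by omega) (by omega)
      have hblt : b < m := by rw [← hab]; exact lt_mul_of_one_lt_left (by omega) (by omega)
      have hbnp : ¬ Pow2 b := by
        rintro ⟨k, hk⟩
        have : p ∣ 2 ^ k := hk ▸ dvd_pow_self p (by omega)
        exact hpne ((Nat.prime_dvd_prime_iff_eq hp Nat.prime_two).1 (hp.dvd_of_dvd_pow this))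
      -- every factor satisfies `G ≤ 2 ^ e2` except the factor 3
      have weak : ∀ x, 1 ≤ x → x < m → x ≠ 3 → G x ≤ 2 ^ e2 x := by
        intro x hx hxm hx3
        by_cases hxp : Pow2 x
        · exact (G_pow2 hxp).le
        rcases ih x hxm hx hxp with h | rfl | rfl | ⟨h, -⟩
        · exact absurd h hx3
        · rw [G_five, e2_five]; norm_num
        · rw [G_nine, e2_nine]; norm_num
        · omega
      have weak' : ∀ x, 1 ≤ x → x < m → 2 * G x ≤ 3 * 2 ^ e2 x := by
        intro x hx hxm
        by_cases hx3 : x = 3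
        · subst hx3; rw [G_three, e2_three]; norm_num
        · have := weak x hx hxm hx3; omega
      have hprod : 2 * (G a * G b) ≤ 3 * (2 ^ e2 a * 2 ^ e2 b) := by
        by_cases ha3 : a = 3
        · have hb3' : b ≠ 3 := fun h => by rw [ha3, h] at hcop; norm_num at hcop
          calc 2 * (G a * G b) = 2 * G a * G b := by ring
            _ ≤ 3 * 2 ^ e2 a * 2 ^ e2 b := Nat.mul_le_mul (weak' a (by omega) halt) (weak b (by omega) hblt hb3')
            _ = _ := by ring
        · calc 2 * (G a * G b) = G a * (2 * G b) := by ring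
            _ ≤ 2 ^ e2 a * (3 * 2 ^ e2 b) := Nat.mul_le_mul (weak a (by omega) halt ha3) (weak' b (by omega) hblt)
            _ = _ := by ring
      have he := e2_mul a b (by omega)
      have hea : 1 ≤ e2 a := by rw [← e2_two]; exact e2_mono ha2
      refine Or.inr (Or.inr (Or.inr ?_))
      rw [← hab, G_mul hcop]
      obtain ⟨t, ht⟩ : ∃ t, b = t + 3 := ⟨b - 3, by omega⟩
      have hbe : (t + 3) * e2 a = t * e2 a + 3 * e2 a := by ring
      rw [ht] at he
      rw [hbe] at he
      refine ⟨?_, fun h4 => ?_⟩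
      · calc 2 * (G a * G b) ≤ 4 * (2 ^ e2 a * 2 ^ e2 b) := hprod.trans (Nat.mul_le_mul_right _ (by norm_num))
          _ = 2 ^ (2 + e2 a + e2 b) := by rw [pow_add, pow_add]; ring
          _ ≤ 2 ^ e2 (a * b) := Nat.pow_le_pow_right (by norm_num) (by rw [ht]; omega)
      · have h4a : 4 ∣ a := by
          have hob : Odd b := (hp.odd_of_ne_two hpne).pow
          exact (Nat.Coprime.dvd_of_dvd_mul_right (Nat.Coprime.pow_left 2 (Nat.coprime_two_left.2 hob)) h4)
        have hea' : 3 ≤ e2 a := by rw [← e2_four]; exact e2_mono (Nat.le_of_dvd (by omega) h4a)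
        calc 4 * (G a * G b) ≤ 2 * (4 * (2 ^ e2 a * 2 ^ e2 b)) := by
              have := hprod.trans (Nat.mul_le_mul_right _ (by norm_num : 3 ≤ 4)); omega
          _ = 2 ^ (3 + e2 a + e2 b) := by rw [pow_add, pow_add]; ring
          _ ≤ 2 ^ e2 (a * b) := Nat.pow_le_pow_right (by norm_num) (by rw [ht]; omega)

/-- A union of orbits none of which has 2-power size. -/
def Good (U : Multiset ℕ) : Prop := 2 * (U.map G).prod ≤ 2 ^ e2 U.sum

lemma good_cons {U : Multiset ℕ} (hU : Good U) {m : ℕ} (hm : G m ≤ 2 ^ e2 m) : Good (m ::ₘ U) := by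
  unfold Good at *
  rw [Multiset.map_cons, Multiset.prod_cons, Multiset.sum_cons]
  calc 2 * (G m * (U.map G).prod) = G m * (2 * (U.map G).prod) := by ring
    _ ≤ 2 ^ e2 m * 2 ^ e2 U.sum := Nat.mul_le_mul hm hU
    _ ≤ 2 ^ e2 (m + U.sum) := by rw [← pow_add]; exact Nat.pow_le_pow_right (by norm_num) (e2_add _ _)

lemma e2_add_three {m : ℕ} (h : ¬ 4 ∣ m) : e2 m + 2 ≤ e2 (3 + m) := by
  rw [e2_eq m, e2_eq (m / 2), e2_eq (3 + m), e2_eq ((3 + m) / 2)]
  have := e2_mono (show m / 2 / 2 ≤ (3 + m) / 2 / 2 by omega)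
  omega

lemma good_threes : ∀ j, 3 ≤ j → Good (Multiset.replicate j 3) := by
  intro j
  induction j using Nat.strong_induction_on with
  | _ j ih =>
    intro hj
    unfold Good
    rw [Multiset.map_replicate, Multiset.prod_replicate, Multiset.sum_replicate, smul_eq_mul, G_three]
    rcases Nat.lt_or_ge j 5 with h | h
    · interval_cases j
      · norm_num; rw [e2_nine]; norm_num
      · norm_num
        rw [show e2 12 = 10 by rw [e2_eq]; norm_num [e2_six]]; norm_num
    · obtain ⟨i, rfl⟩ : ∃ i, j = i + 2 := ⟨j - 2, by omega⟩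
      have h1 := ih i (by omega) (by omega)
      unfold Good at h1
      rw [Multiset.map_replicate, Multiset.prod_replicate, Multiset.sum_replicate, smul_eq_mul, G_three] at h1
      have h2 := e2_add (i * 3) 6
      rw [e2_six] at h2
      calc 2 * 3 ^ (i + 2) = 2 * 3 ^ i * 9 := by rw [pow_succ, pow_succ]; ring
        _ ≤ 2 ^ e2 (i * 3) * 2 ^ 4 := Nat.mul_le_mul h1 (by norm_num)
        _ ≤ 2 ^ e2 ((i + 2) * 3) := by
          rw [← pow_add, add_mul]; exact Nat.pow_le_pow_right (by norm_num) h2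

theorem union_bound (U : Multiset ℕ) (h : ∀ m ∈ U, 1 ≤ m ∧ ¬ Pow2 m) :
    U = 0 ∨ U = {3} ∨ U = {5} ∨ U = {9} ∨ U = {3, 3} ∨ Good U := by
  classical
  set j := U.count 3 with hj
  have hU : U = Multiset.replicate j 3 + U.filter (fun x => ¬ (3 = x)) := by
    rw [hj, ← Multiset.filter_eq, Multiset.filter_add_not]
  set R := U.filter (fun x => ¬ (3 = x)) with hR
  have hRmem : ∀ m ∈ R, 1 ≤ m ∧ ¬ Pow2 m ∧ 3 ≠ m := fun m hm =>
    ⟨(h m (Multiset.mem_filter.1 hm).1).1, (h m (Multiset.mem_filter.1 hm).1).2, (Multiset.mem_filter.1 hm).2⟩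
  have main : ∀ R : Multiset ℕ, (∀ m ∈ R, 1 ≤ m ∧ ¬ Pow2 m ∧ 3 ≠ m) →
      R = 0 ∨ (j = 0 ∧ (R = {5} ∨ R = {9})) ∨ Good (Multiset.replicate j 3 + R) := by
    intro R
    induction R using Multiset.induction with
    | empty => intro _; exact Or.inl rfl
    | cons m R ih =>
      intro hR
      obtain ⟨hm1, hmp, hm3⟩ := hR m (Multiset.mem_cons_self _ _)
      have hb := (bound m hm1 hmp).resolve_left (Ne.symm hm3)
      have hweak : G m ≤ 2 ^ e2 m := by
        rcases hb with rfl | rfl | ⟨hh, -⟩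
        · rw [G_five, e2_five]; norm_num
        · rw [G_nine, e2_nine]; norm_num
        · omega
      rcases ih (fun x hx => hR x (Multiset.mem_cons_of_mem hx)) with rfl | ⟨hj0, hR5⟩ | hgood
      · rcases hb with rfl | rfl | ⟨hh, hh4⟩
        · rcases Nat.lt_or_ge j 3 with hj3 | hj3
          · interval_cases j
            · exact Or.inr (Or.inl ⟨rfl, Or.inl rfl⟩)
            · right; right; unfold Good; simp [G_three, G_five]
              rw [show e2 8 = 7 by simpa [sum_range_succ] using e2_pow_two 3]; norm_num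
            · right; right; unfold Good; simp [G_three, G_five, Multiset.replicate_succ]
              rw [show e2 11 = 8 by rw [e2_eq]; norm_num [e2_five]]; norm_num
          · exact Or.inr (Or.inr (by rw [Multiset.add_cons, add_zero]; exact good_cons (good_threes j hj3) hweak))
        · rcases Nat.lt_or_ge j 3 with hj3 | hj3
          · interval_cases j
            · exact Or.inr (Or.inl ⟨rfl, Or.inr rfl⟩)
            · right; right; unfold Good; simp [G_three, G_nine]
              rw [show e2 12 = 10 by rw [e2_eq]; norm_num [e2_six]]; norm_num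
            · right; right; unfold Good; simp [G_three, G_nine, Multiset.replicate_succ]
              rw [show e2 15 = 11 by rw [e2_eq]; norm_num [e2_seven]]; norm_num
          · exact Or.inr (Or.inr (by rw [Multiset.add_cons, add_zero]; exact good_cons (good_threes j hj3) hweak))
        · right; right
          rcases Nat.lt_or_ge j 3 with hj3 | hj3
          · interval_cases j
            · simpa [Good] using hh
            · unfold Good; simp [G_three]
              rw [mul_comm 3 (G m), add_comm 3 m]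
              by_cases h4 : 4 ∣ m
              · calc 2 * (G m * 3) ≤ 2 * (4 * G m) := by omega
                  _ ≤ 2 ^ e2 3 * 2 ^ e2 m := by rw [e2_three, pow_one]; exact Nat.mul_le_mul_left _ (hh4 h4)
                  _ ≤ 2 ^ e2 (m + 3) := by
                    rw [← pow_add, add_comm m 3]; exact Nat.pow_le_pow_right (by norm_num) (e2_add _ _)
              · calc 2 * (G m * 3) ≤ 4 * 2 ^ e2 m := by omega
                  _ = 2 ^ (e2 m + 2) := by rw [pow_add]; ring
                  _ ≤ 2 ^ e2 (m + 3) := by rw [add_comm m 3]; exact Nat.pow_le_pow_right (by norm_num) (e2_add_three h4)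
            · unfold Good; simp [G_three, Multiset.replicate_succ]
              rw [show 3 * (3 * G m) = G m * 9 by ring, show 3 + (3 + m) = m + 6 by ring]
              calc 2 * (G m * 9) ≤ 2 ^ e2 m * 2 ^ e2 6 := by rw [e2_six]; omega
                _ ≤ 2 ^ e2 (m + 6) := by rw [← pow_add]; exact Nat.pow_le_pow_right (by norm_num) (e2_add _ _)
          · rw [Multiset.add_cons, add_zero]; exact good_cons (good_threes j hj3) hweak
      · right; right
        rw [hj0, Multiset.replicate_zero, zero_add]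
        rcases hR5 with rfl | rfl <;> rcases hb with rfl | rfl | ⟨hh, -⟩
        · unfold Good; simp [G_five]
          rw [show e2 10 = 8 by rw [e2_eq]; norm_num [e2_five]]; norm_num
        · unfold Good; simp [G_five, G_nine]
          rw [show e2 14 = 11 by rw [e2_eq]; norm_num [e2_seven]]; norm_num
        · rw [show (m ::ₘ {5} : Multiset ℕ) = 5 ::ₘ {m} from Multiset.cons_swap m 5 0]
          exact good_cons (by simpa [Good] using hh) (by rw [G_five, e2_five]; norm_num)
        · unfold Good; simp [G_five, G_nine]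
          rw [show e2 14 = 11 by rw [e2_eq]; norm_num [e2_seven]]; norm_num
        · unfold Good; simp [G_nine]
          rw [show e2 18 = 16 by rw [e2_eq]; norm_num [e2_nine]]; norm_num
        · rw [show (m ::ₘ {9} : Multiset ℕ) = 9 ::ₘ {m} from Multiset.cons_swap m 9 0]
          exact good_cons (by simpa [Good] using hh) (by rw [G_nine, e2_nine]; norm_num)
      · right; right
        rw [Multiset.add_cons]; exact good_cons hgood hweak
  rcases main R hRmem with hR0 | ⟨hj0, h59⟩ | hgood
  · rw [hR0, add_zero] at hU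
    rcases Nat.lt_or_ge j 3 with hj3 | hj3
    · interval_cases j
      · exact Or.inl hU
      · exact Or.inr (Or.inl (hU.trans rfl))
      · exact Or.inr (Or.inr (Or.inr (Or.inr (Or.inl (hU.trans rfl)))))
    · exact Or.inr (Or.inr (Or.inr (Or.inr (Or.inr (hU ▸ good_threes j hj3)))))
  · rw [hj0, Multiset.replicate_zero, zero_add] at hU
    rcases h59 with h | h
    · exact Or.inr (Or.inr (Or.inl (hU.trans h)))
    · exact Or.inr (Or.inr (Or.inr (Or.inl (hU.trans h))))
  · exact Or.inr (Or.inr (Or.inr (Or.inr (Or.inr (hU ▸ hgood)))))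

end CfsgLib.KnownA.NilpotentArith
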