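import Mathlib
import Cfsg.Agent.Lib.KnownA.NilpotentArith

/-!
A nilpotent transitive group of degree `m` has order dividing `G m`; a nilpotent permutation
group has order dividing the product of these bounds over its orbits.
-/

set_option autoImplicit false

namespace CfsgLib.KnownA.NilpotentTransitive

open Nat Finset CfsgLib.KnownA

lemma padic_factorial_prime_pow {p : ℕ} [Fact p.Prime] (a : ℕ) :
    padicValNat p (p ^ a) ! = ∑ i ∈ range a, p ^ i := by
  induction a with
  | zero => simp
  | succ a ih => rw [pow_succ', padicValNat_factorial_mul, ih, sum_range_succ]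

/-- All Sylow subgroups together generate. -/
lemma eq_top_of_sylow_le {Γ : Type*} [Group Γ] [Finite Γ] {H : Subgroup Γ}
    (h : ∀ (q : ℕ) [Fact q.Prime] (Q : Sylow q Γ), (Q : Subgroup Γ) ≤ H) : H = ⊤ := by
  refine Subgroup.eq_top_of_card_eq H (Nat.dvd_antisymm (Subgroup.card_subgroup_dvd_card H) ?_)
  refine (Nat.factorization_le_iff_dvd Nat.card_pos.ne' Nat.card_pos.ne').1 fun q => ?_
  by_cases hq : q.Prime
  · haveI : Fact q.Prime := ⟨hq⟩
    obtain ⟨Q⟩ : Nonempty (Sylow q Γ) := inferInstance
    have hdvd := Subgroup.card_dvd_of_le (h q Q)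
    rw [Q.card_eq_multiplicity] at hdvd
    exact (hq.pow_dvd_iff_le_factorization Nat.card_pos.ne').1 hdvd
  · simp [Nat.factorization_eq_zero_of_not_prime _ hq]

theorem card_dvd_G {Γ X : Type*} [Group Γ] [Finite Γ] [MulAction Γ X] [Finite X] [FaithfulSMul Γ X]
    [MulAction.IsPretransitive Γ X] [Nonempty X] (hN : Group.IsNilpotent Γ) :
    Nat.card Γ ∣ NilpotentArith.G (Nat.card X) := by
  classical
  haveI := hN
  set n := Nat.card X with hn
  have hn0 : n ≠ 0 := Nat.card_pos.ne'
  obtain ⟨x⟩ := (inferInstance : Nonempty X)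
  have hloc : ∀ p, p.Prime → (Nat.card Γ).factorization p ≤ ∑ i ∈ range (n.factorization p), p ^ i := by
    intro p hp
    haveI : Fact p.Prime := ⟨hp⟩
    obtain ⟨P⟩ : Nonempty (Sylow p Γ) := inferInstance
    haveI : (P : Subgroup Γ).Normal := inferInstance
    set O := MulAction.orbit ↥(P : Subgroup Γ) x with hO
    -- faithful on the orbit
    let K : Subgroup Γ :=
      { carrier := {a | a ∈ (P : Subgroup Γ) ∧ ∀ y ∈ O, a • y = y}
        one_mem' := ⟨one_mem _, fun y _ => one_smul _ y⟩
        mul_mem' := fun {a b} ha hb => ⟨mul_mem ha.1 hb.1, fun y hy => by rw [mul_smul, hb.2 y hy, ha.2 y hy]⟩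
        inv_mem' := fun {a} ha => ⟨inv_mem ha.1, fun y hy => by rw [inv_smul_eq_iff, ha.2 y hy]⟩ }
    have hKnorm : Subgroup.normalizer (K : Set Γ) = ⊤ := by
      refine eq_top_of_sylow_le fun q _ Q => ?_
      by_cases hqp : q = p
      · subst hqp
        haveI := Sylow.unique_of_normal P inferInstance
        have hQP : Q = P := Subsingleton.elim _ _
        subst hQP
        intro g hg
        refine Subgroup.mem_normalizer_iff.2 fun a => ?_
        have hmove : ∀ g : Γ, g ∈ (Q : Subgroup Γ) → ∀ a ∈ K, g * a * g⁻¹ ∈ K := by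
          intro g hg a ha
          refine ⟨mul_mem (mul_mem hg ha.1) (inv_mem hg), fun y hy => ?_⟩
          have hy' : g⁻¹ • y ∈ O := MulAction.mem_orbit_of_mem_orbit (⟨g⁻¹, inv_mem hg⟩ : ↥(Q : Subgroup Γ)) hy
          rw [mul_smul, mul_smul, ha.2 _ hy', smul_inv_smul]
        refine ⟨hmove g hg a, fun h => ?_⟩
        have := hmove g⁻¹ (inv_mem hg) _ h
        rwa [show g⁻¹ * (g * a * g⁻¹) * g⁻¹⁻¹ = a by group] at this
      · intro g hg
        haveI : (Q : Subgroup Γ).Normal := inferInstance
        have hcomm : ∀ a ∈ (P : Subgroup Γ), Commute g a := fun a ha =>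
          Subgroup.commute_of_normal_of_disjoint _ _ inferInstance inferInstance
            (IsPGroup.disjoint_of_ne q p hqp _ _ Q.2 P.2) g a hg ha
        refine Subgroup.mem_normalizer_iff.2 fun a => ?_
        constructor
        · intro ha
          rw [(hcomm a ha.1).eq, mul_inv_cancel_right]; exact ha
        · intro ha
          have h1 : a = g * a * g⁻¹ := by
            have := (hcomm _ ha.1).eq
            calc a = g⁻¹ * ((g * a * g⁻¹) * g) := by group
              _ = g⁻¹ * (g * (g * a * g⁻¹)) := by rw [this]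
              _ = g * a * g⁻¹ := by group
          rwa [h1]
    have hKbot : K = ⊥ := by
      rw [eq_bot_iff]
      intro a ha
      refine Subgroup.mem_bot.2 (eq_of_smul_eq_smul fun y : X => ?_)
      obtain ⟨g, rfl⟩ := MulAction.exists_smul_eq Γ x y
      have hg : g⁻¹ ∈ Subgroup.normalizer (K : Set Γ) := hKnorm ▸ Subgroup.mem_top _
      have h1 := (Subgroup.mem_normalizer_iff.1 hg a).1 ha
      have h2 := h1.2 x (MulAction.mem_orbit_self x)
      rw [inv_inv, mul_smul, mul_smul, inv_smul_eq_iff] at h2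
      rw [h2, one_smul]
    -- size of the orbit
    have hOdvd : Nat.card O ∣ n := by
      rw [Nat.card_coe_set_eq]
      exact (MulAction.IsBlock.orbit_of_normal x).ncard_dvd_card ⟨x, MulAction.mem_orbit_self x⟩
    obtain ⟨a, ha⟩ : ∃ a, Nat.card O = p ^ a := IsPGroup.card_orbit P.2 x
    have hinj : Function.Injective (MulAction.toPermHom ↥(P : Subgroup Γ) O) := by
      rw [injective_iff_map_eq_one]
      intro g hg
      refine Subtype.ext (Subgroup.mem_bot.1 (hKbot ▸ ⟨g.2, fun y hy => ?_⟩ : (g : Γ) ∈ (⊥ : Subgroup Γ)))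
      exact congrArg Subtype.val (Equiv.ext_iff.1 hg ⟨y, hy⟩)
    have hdvd := Subgroup.card_dvd_of_injective _ hinj
    rw [P.card_eq_multiplicity, Nat.card_perm, ha] at hdvd
    have h1 := (padicValNat_dvd_iff_le (Nat.factorial_ne_zero _)).1 hdvd
    rw [padic_factorial_prime_pow] at h1
    refine h1.trans (sum_le_sum_of_subset (Finset.range_mono ?_))
    exact (hp.pow_dvd_iff_le_factorization hn0).1 (ha ▸ hOdvd)
  refine (Nat.factorization_le_iff_dvd Nat.card_pos.ne' ?_).1 fun q => ?_
  · exact Finset.prod_ne_zero_iff.2 fun p hp => pow_ne_zero _ (Nat.prime_of_mem_primeFactors hp).ne_zero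
  by_cases hq : q.Prime
  swap
  · simp [Nat.factorization_eq_zero_of_not_prime _ hq]
  refine (hloc q hq).trans ?_
  by_cases hqn : q ∈ n.primeFactors
  · refine (hq.pow_dvd_iff_le_factorization ?_).1 (Finset.dvd_prod_of_mem _ hqn)
    exact Finset.prod_ne_zero_iff.2 fun p hp => pow_ne_zero _ (Nat.prime_of_mem_primeFactors hp).ne_zero
  · have : n.factorization q = 0 := by
      rw [← Finsupp.notMem_support_iff, Nat.support_factorization]; exact hqn
    simp [this]

/-- A nilpotent permutation group has order dividing the product of the bounds for its orbits. -/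
theorem card_dvd_prod {Γ X : Type*} [Group Γ] [Finite Γ] [MulAction Γ X] [Fintype X] [DecidableEq X]
    [FaithfulSMul Γ X] (hN : Group.IsNilpotent Γ) (R : Finset X)
    (hR : ∀ x, ∃ r ∈ R, x ∈ MulAction.orbit Γ r) :
    Nat.card Γ ∣ ∏ r ∈ R, NilpotentArith.G (Nat.card (MulAction.orbit Γ r)) := by
  classical
  haveI := hN
  let f : Γ →* ∀ r : R, ↥(MulAction.toPermHom Γ (MulAction.orbit Γ r.1)).range :=
    Pi.monoidHom fun r => (MulAction.toPermHom Γ (MulAction.orbit Γ r.1)).rangeRestrict
  have hf : Function.Injective f := by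
    rw [injective_iff_map_eq_one]
    intro g hg
    refine eq_of_smul_eq_smul fun y : X => ?_
    obtain ⟨r, hr, hy⟩ := hR y
    have h1 := congrArg Subtype.val (congrFun hg ⟨r, hr⟩)
    have h2 := congrArg Subtype.val (Equiv.ext_iff.1 h1 ⟨y, hy⟩)
    rw [one_smul]
    exact h2
  refine (Subgroup.card_dvd_of_injective f hf).trans ?_
  rw [Nat.card_pi, ← Finset.prod_coe_sort R]
  refine Finset.prod_dvd_prod_of_dvd _ _ fun r _ => ?_
  haveI : Nonempty (MulAction.orbit Γ r.1) := ⟨⟨r.1, MulAction.mem_orbit_self _⟩⟩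
  haveI : MulAction.IsPretransitive ↥(MulAction.toPermHom Γ (MulAction.orbit Γ r.1)).range (MulAction.orbit Γ r.1) := by
    refine ⟨fun a b => ?_⟩
    obtain ⟨g, hg⟩ := MulAction.exists_smul_eq Γ a b
    exact ⟨⟨_, g, rfl⟩, hg⟩
  exact card_dvd_G (nilpotent_of_surjective (MulAction.toPermHom Γ (MulAction.orbit Γ r.1)).rangeRestrict
    (MonoidHom.rangeRestrict_surjective _))

end CfsgLib.KnownA.NilpotentTransitive
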