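import Mathlib
import Cfsg.Agent.Lib.KnownA.NilpotentTransitive

/-!
Every nilpotent permutation group splits along the points in orbits of 2-power size.
-/

set_option autoImplicit false

namespace CfsgLib.KnownA.NilpotentPerm

open Nat Equiv CfsgLib.KnownA.NilpotentArith

/-- `Perm α × Perm β` as permutations of `X ≃ α ⊕ β`. -/
def split {X : Type*} {α β : Type*} (e : X ≃ α ⊕ β) : Perm α × Perm β →* Perm X :=
  (e.symm.permCongrHom).toMonoidHom.comp (Perm.sumCongrHom α β)

lemma split_apply {X α β : Type*} (e : X ≃ α ⊕ β) (q : Perm α × Perm β) (x : X) :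
    e (split e q x) = Equiv.sumCongr q.1 q.2 (e x) := by
  simp [split]

lemma split_injective {X α β : Type*} (e : X ≃ α ⊕ β) : Function.Injective (split e) :=
  (e.symm.permCongrHom).injective.comp Perm.sumCongrHom_injective

lemma sign_split {X α β : Type*} [Fintype X] [DecidableEq X] [Fintype α] [DecidableEq α]
    [Fintype β] [DecidableEq β] (e : X ≃ α ⊕ β) (p : Perm α × Perm β) :
    Perm.sign (split e p) = Perm.sign p.1 * Perm.sign p.2 := by
  simp [split, Perm.sign_sumCongr]

lemma exists_reps {Γ Y : Type*} [Group Γ] [MulAction Γ Y] [Fintype Y] [DecidableEq Y] :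
    ∃ Rs : Finset Y, (∀ x, ∃ r ∈ Rs, x ∈ MulAction.orbit Γ r) ∧
      ∑ r ∈ Rs, Nat.card (MulAction.orbit Γ r) = Fintype.card Y := by
  classical
  refine ⟨Finset.univ.image (Quotient.out : MulAction.orbitRel.Quotient Γ Y → Y), fun x => ?_, ?_⟩
  · exact ⟨_, Finset.mem_image_of_mem _ (Finset.mem_univ (Quotient.mk _ x)),
      MulAction.mem_orbit_symm.1 (MulAction.orbitRel_apply.1 (Quotient.mk_out (s := MulAction.orbitRel Γ Y) x))⟩
  · rw [Finset.sum_image (fun a _ b _ h => Quotient.out_injective h), ← Nat.card_eq_fintype_card,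
      Nat.card_congr (MulAction.selfEquivSigmaOrbits Γ Y), Nat.card_sigma]

lemma le_e2_of_dvd {j n : ℕ} (h : 2 ^ j ∣ n !) : j ≤ e2 n :=
  (padicValNat_dvd_iff_le (Nat.factorial_ne_zero _)).1 h

lemma card_pow2 {R : ℕ} (K : Subgroup (Perm (Fin R))) (hK : Group.IsNilpotent K)
    (h : ∀ a : Fin R, Pow2 (Nat.card (MulAction.orbit K a))) :
    ∃ k, k ≤ e2 R ∧ Nat.card K = 2 ^ k := by
  obtain ⟨Rs, hRs, -⟩ := exists_reps (Γ := K) (Y := Fin R)
  have hd := NilpotentTransitive.card_dvd_prod hK Rs hRs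
  rw [Finset.prod_congr rfl (fun r _ => G_pow2 (h r)), Finset.prod_pow_eq_pow_sum] at hd
  obtain ⟨k, -, hk⟩ := (Nat.dvd_prime_pow Nat.prime_two).1 hd
  refine ⟨k, le_e2_of_dvd ?_, hk⟩
  have := Subgroup.card_subgroup_dvd_card K
  rwa [Nat.card_perm, Nat.card_fin, hk] at this

/-- Possible degree and order of a nilpotent group without orbits of 2-power size. -/
def Shape (m c : ℕ) : Prop :=
  (m = 0 ∧ c ∣ 1) ∨ (m = 3 ∧ c ∣ 3) ∨ (m = 5 ∧ c ∣ 5) ∨ (m = 9 ∧ c ∣ 81) ∨ (m = 6 ∧ c ∣ 9) ∨
    2 * c ≤ 2 ^ e2 m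

lemma card_not_pow2 {m : ℕ} (C : Subgroup (Perm (Fin m))) (hC : Group.IsNilpotent C)
    (h : ∀ a : Fin m, ¬ Pow2 (Nat.card (MulAction.orbit C a))) :
    Shape m (Nat.card C) := by
  obtain ⟨Rs, hRs, hsum⟩ := exists_reps (Γ := C) (Y := Fin m)
  have hd := NilpotentTransitive.card_dvd_prod hC Rs hRs
  rw [Fintype.card_fin] at hsum
  set U := Rs.val.map (fun r => Nat.card (MulAction.orbit C r)) with hU
  have hprod : (U.map G).prod = ∏ r ∈ Rs, G (Nat.card (MulAction.orbit C r)) := by
    rw [hU, Multiset.map_map]; rfl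
  have hsum' : U.sum = m := hsum
  rw [← hprod] at hd
  have hmem : ∀ k ∈ U, 1 ≤ k ∧ ¬ Pow2 k := by
    intro k hk
    obtain ⟨r, -, rfl⟩ := Multiset.mem_map.1 hk
    haveI : Nonempty (MulAction.orbit C r) := ⟨⟨r, MulAction.mem_orbit_self r⟩⟩
    exact ⟨Nat.card_pos, h r⟩
  unfold Shape
  rcases union_bound U hmem with h1 | h1 | h1 | h1 | h1 | h1
  · left; rw [h1] at hd hsum'; simpa using And.intro hsum'.symm hd
  · right; left; rw [h1] at hd hsum'; simpa [G_three] using And.intro hsum'.symm hd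
  · right; right; left; rw [h1] at hd hsum'; simpa [G_five] using And.intro hsum'.symm hd
  · right; right; right; left; rw [h1] at hd hsum'; simpa [G_nine] using And.intro hsum'.symm hd
  · right; right; right; right; left; rw [h1] at hd hsum'; simpa [G_three] using And.intro hsum'.symm hd
  · right; right; right; right; right
    unfold Good at h1
    rw [hsum'] at h1
    refine le_trans (Nat.mul_le_mul_left 2 (Nat.le_of_dvd (Nat.pos_of_ne_zero ?_) hd)) h1
    exact Multiset.prod_ne_zero (fun h0 => by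
      obtain ⟨k, hk, hk0⟩ := Multiset.mem_map.1 h0
      exact Finset.prod_ne_zero_iff.2 (fun p hp => pow_ne_zero _ (Nat.prime_of_mem_primeFactors hp).ne_zero) hk0)

/-- The splitting of a nilpotent permutation group. -/
theorem decomp {X : Type*} [Fintype X] [DecidableEq X] (N : Subgroup (Perm X))
    (hN : Group.IsNilpotent N) :
    ∃ (R m : ℕ) (e : X ≃ Fin R ⊕ Fin m) (K : Subgroup (Perm (Fin R))) (C : Subgroup (Perm (Fin m))) (k : ℕ),
      R + m = Fintype.card X ∧ N ≤ (K.prod C).map (split e) ∧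
      (k ≤ e2 R ∧ Nat.card K = 2 ^ k) ∧ Shape m (Nat.card C) ∧
      (N ≤ alternatingGroup X → Odd (Nat.card C) → K ≤ alternatingGroup (Fin R)) := by
  classical
  let p : X → Prop := fun x => Pow2 (Nat.card (MulAction.orbit N x))
  let e : X ≃ Fin (Fintype.card {x // p x}) ⊕ Fin (Fintype.card {x // ¬ p x}) :=
    (Equiv.sumCompl p).symm.trans (Equiv.sumCongr (Fintype.equivFin _) (Fintype.equivFin _))
  have hinl : ∀ a, p (e.symm (Sum.inl a)) := fun a => by
    simpa [e] using ((Fintype.equivFin {x // p x}).symm a).2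
  have hinr : ∀ a, ¬ p (e.symm (Sum.inr a)) := fun a => by
    simpa [e] using ((Fintype.equivFin {x // ¬ p x}).symm a).2
  have hp : ∀ g ∈ N, ∀ x, p x → p (g x) := by
    intro g hg x hx
    have : MulAction.orbit N (g x) = MulAction.orbit N x := MulAction.orbit_eq_iff.2 ⟨⟨g, hg⟩, rfl⟩
    simpa [p, this] using hx
  have hrange : N ≤ (split e).range := by
    intro g hg
    have h1 : e.permCongr g ∈ (Perm.sumCongrHom _ _).range := by
      refine Perm.mem_sumCongrHom_range_of_perm_mapsTo_inl ?_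
      rintro _ ⟨a, rfl⟩
      rcases hc : e (g (e.symm (Sum.inl a))) with b | b
      · exact ⟨b, by simp [hc]⟩
      · exact absurd (hp g hg _ (hinl a)) (by rw [← e.symm_apply_apply (g (e.symm (Sum.inl a))), hc]; exact hinr b)
    obtain ⟨q, hq⟩ := h1
    refine ⟨q, ?_⟩
    rw [split, MonoidHom.comp_apply, hq]
    ext x; simp
  set N' := N.comap (split e) with hN'
  have hmap : N'.map (split e) = N := by rw [hN', Subgroup.map_comap_eq, inf_eq_right.2 hrange]
  haveI := hN
  haveI : Group.IsNilpotent N' :=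
    Group.nilpotent_of_mulEquiv
      ((Subgroup.equivMapOfInjective N' (split e) (split_injective e)).trans (MulEquiv.subgroupCongr hmap)).symm
  set K := N'.map (MonoidHom.fst _ _) with hK
  set C := N'.map (MonoidHom.snd _ _) with hC
  have hle : N' ≤ K.prod C := fun g hg => ⟨⟨g, hg, rfl⟩, ⟨g, hg, rfl⟩⟩
  have horbK : ∀ a, Nat.card (MulAction.orbit K a) = Nat.card (MulAction.orbit N (e.symm (Sum.inl a))) := by
    intro a
    have : (fun b => e.symm (Sum.inl b)) '' MulAction.orbit K a = MulAction.orbit N (e.symm (Sum.inl a)) := by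
      ext x
      constructor
      · rintro ⟨_, ⟨⟨_, g, hg, rfl⟩, rfl⟩, rfl⟩
        refine ⟨⟨split e g, hg⟩, ?_⟩
        apply e.injective
        simp [Subgroup.smul_def, Perm.smul_def, split_apply]
      · rintro ⟨⟨g, hg⟩, rfl⟩
        obtain ⟨q, rfl⟩ := hrange hg
        refine ⟨q.1 a, ⟨⟨q.1, q, hg, rfl⟩, rfl⟩, ?_⟩
        apply e.injective
        simp [Subgroup.smul_def, Perm.smul_def, split_apply]
    rw [← this, Nat.card_image_of_injective (fun x y h => Sum.inl_injective (e.symm.injective h))]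
  have horbC : ∀ a, Nat.card (MulAction.orbit C a) = Nat.card (MulAction.orbit N (e.symm (Sum.inr a))) := by
    intro a
    have : (fun b => e.symm (Sum.inr b)) '' MulAction.orbit C a = MulAction.orbit N (e.symm (Sum.inr a)) := by
      ext x
      constructor
      · rintro ⟨_, ⟨⟨_, g, hg, rfl⟩, rfl⟩, rfl⟩
        refine ⟨⟨split e g, hg⟩, ?_⟩
        apply e.injective
        simp [Subgroup.smul_def, Perm.smul_def, split_apply]
      · rintro ⟨⟨g, hg⟩, rfl⟩
        obtain ⟨q, rfl⟩ := hrange hg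
        refine ⟨q.2 a, ⟨⟨q.2, q, hg, rfl⟩, rfl⟩, ?_⟩
        apply e.injective
        simp [Subgroup.smul_def, Perm.smul_def, split_apply]
    rw [← this, Nat.card_image_of_injective (fun x y h => Sum.inr_injective (e.symm.injective h))]
  have hKnil : Group.IsNilpotent K :=
    Group.nilpotent_of_surjective ((MonoidHom.fst _ _).subgroupMap N') (MonoidHom.subgroupMap_surjective _ _)
  have hCnil : Group.IsNilpotent C :=
    Group.nilpotent_of_surjective ((MonoidHom.snd _ _).subgroupMap N') (MonoidHom.subgroupMap_surjective _ _)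
  obtain ⟨k, hk, hkK⟩ := card_pow2 K hKnil (fun a => by rw [horbK]; exact hinl a)
  refine ⟨_, _, e, K, C, k, ?_, hmap.symm.le.trans (Subgroup.map_mono hle), ⟨hk, hkK⟩,
    card_not_pow2 C hCnil (fun a => by rw [horbC]; exact hinr a), ?_⟩
  · rw [← Fintype.card_congr (Equiv.sumCompl p), Fintype.card_sum]
  · intro hA hodd a ha
    obtain ⟨g, hg, rfl⟩ := ha
    have h1 : Perm.sign (split e g) = 1 := hA hg
    rw [sign_split] at h1
    have h2 : Perm.sign g.2 = 1 := by
      have hsq : g.2 ^ Nat.card C = 1 := by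
        have := pow_card_eq_one' (x := (⟨g.2, g, hg, rfl⟩ : C))
        exact congrArg Subtype.val this
      have h3 := congrArg Perm.sign hsq
      rw [map_pow, map_one] at h3
      rcases Int.units_eq_one_or (Perm.sign g.2) with h | h
      · exact h
      · rw [h, hodd.neg_one_pow] at h3; exact absurd h3 (by decide)
    rw [h2, mul_one] at h1
    exact h1

lemma card_le {X α β : Type*} [Finite α] [Finite β] {N : Subgroup (Perm X)} {e : X ≃ α ⊕ β}
    {K : Subgroup (Perm α)} {C : Subgroup (Perm β)} (h : N ≤ (K.prod C).map (split e)) :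
    Nat.card N ≤ Nat.card K * Nat.card C := by
  haveI : Finite X := Finite.of_equiv _ e.symm
  refine le_trans (Subgroup.card_le_of_le h) (le_of_eq ?_)
  rw [← Nat.card_congr (Subgroup.equivMapOfInjective _ _ (split_injective e)).toEquiv,
    Nat.card_congr (K.prodEquiv C).toEquiv, Nat.card_prod]

lemma two_mul_le_of_alt {R k : ℕ} {K : Subgroup (Perm (Fin R))} (hR : 2 ≤ R)
    (hK : K ≤ alternatingGroup (Fin R)) (hk : Nat.card K = 2 ^ k) : k + 1 ≤ e2 R := by
  refine le_e2_of_dvd ?_
  haveI : Nontrivial (Fin R) := Fin.nontrivial_iff_two_le.2 hR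
  have h := Nat.mul_dvd_mul_left 2 (Subgroup.card_dvd_of_le hK)
  rwa [hk, Nat.card_eq_fintype_card, two_mul_card_alternatingGroup (α := Fin R), Fintype.card_perm, Fintype.card_fin, ← pow_succ'] at h

end CfsgLib.KnownA.NilpotentPerm
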