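import Mathlib
import Cfsg.Agent.Lib.KnownA.NilpotentPerm

/-!
Largest nilpotent subgroups of symmetric and alternating groups.
-/

set_option autoImplicit false

namespace CfsgLib.KnownA.NilpotentExtremal

open Nat Equiv CfsgLib.KnownA.NilpotentArith CfsgLib.KnownA.NilpotentPerm

local notation "A₃" => alternatingGroup (Fin 3)

lemma card_alt_three : Nat.card A₃ = 3 := by
  rw [nat_card_alternatingGroup, Nat.card_fin]; rfl

lemma eq_alt_three {C : Subgroup (Perm (Fin 3))} (h : Nat.card C = 3) : C = A₃ := by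
  refine Perm.eq_alternatingGroup_of_index_eq_two (Nat.eq_of_mul_eq_mul_left (by norm_num : 0 < 3) ?_)
  have := C.card_mul_index
  rw [h, Nat.card_perm, Nat.card_fin] at this
  exact this.trans rfl

lemma e2_succ3 {n R : ℕ} (hn : n % 4 = 3) (hR : n = R + 3) : e2 n = e2 R + 1 := by
  rw [e2_eq n, e2_eq (n / 2), e2_eq R, e2_eq (R / 2)]
  rw [show n / 2 / 2 = R / 2 / 2 by omega]
  omega

lemma card_sylow_perm {n : ℕ} (P : Sylow 2 (Perm (Fin n))) : Nat.card P = 2 ^ e2 n := by
  rw [P.card_eq_multiplicity, Nat.card_perm, Nat.card_fin, e2, Nat.factorization_def _ Nat.prime_two]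

lemma two_mul_card_sylow_alt {n : ℕ} (hn : 2 ≤ n) (P : Sylow 2 (alternatingGroup (Fin n))) :
    2 * Nat.card P = 2 ^ e2 n := by
  haveI : Nontrivial (Fin n) := Fin.nontrivial_iff_two_le.2 hn
  rw [P.card_eq_multiplicity, e2, ← Nat.factorization_def _ Nat.prime_two, ← pow_succ']
  have h := two_mul_nat_card_alternatingGroup (α := Fin n)
  rw [Nat.card_perm, Nat.card_fin] at h
  rw [← h, Nat.factorization_mul two_ne_zero Nat.card_pos.ne', Finsupp.add_apply,
    Nat.prime_two.factorization_self, add_comm]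

lemma pow_bound {a b : ℕ} {k R m : ℕ} (hab : a ≤ 2 ^ k * b) (hk : k ≤ e2 R) (hb : b ≤ 2 ^ e2 m) :
    a ≤ 2 ^ e2 (R + m) :=
  hab.trans <| (Nat.mul_le_mul (Nat.pow_le_pow_right (by norm_num) hk) hb).trans
    (by rw [← pow_add]; exact Nat.pow_le_pow_right (by norm_num) (e2_add R m))

/-- Main dichotomy in the symmetric group. -/
theorem sym_main {X : Type*} [Fintype X] [DecidableEq X] (N : Subgroup (Perm X))
    (hN : Group.IsNilpotent N) :
    Nat.card N ≤ 2 ^ e2 (Fintype.card X) ∨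
      ∃ (R : ℕ) (e : X ≃ Fin R ⊕ Fin 3) (K : Subgroup (Perm (Fin R))) (C : Subgroup (Perm (Fin 3))),
        Fintype.card X = R + 3 ∧ N ≤ (K.prod C).map (split e) ∧ Nat.card K ≤ 2 ^ e2 R ∧ Nat.card C ∣ 3 := by
  obtain ⟨R, m, e, K, C, k, hRm, hle, ⟨hk, hK⟩, hC, -⟩ := decomp N hN
  have hc := card_le hle
  rw [hK] at hc
  rw [← hRm]
  rcases hC with ⟨rfl, h⟩ | ⟨rfl, h⟩ | ⟨rfl, h⟩ | ⟨rfl, h⟩ | ⟨rfl, h⟩ | h
  · left; exact pow_bound hc hk ((Nat.le_of_dvd one_pos h).trans (Nat.one_le_two_pow))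
  · right; exact ⟨R, e, K, C, rfl, hle, hK ▸ Nat.pow_le_pow_right (by norm_num) hk, h⟩
  · left; exact pow_bound hc hk ((Nat.le_of_dvd (by norm_num) h).trans (by rw [e2_five]; norm_num))
  · left; exact pow_bound hc hk ((Nat.le_of_dvd (by norm_num) h).trans (by rw [e2_nine]; norm_num))
  · left; exact pow_bound hc hk ((Nat.le_of_dvd (by norm_num) h).trans (by rw [e2_six]; norm_num))
  · left; exact pow_bound hc hk (by omega)

/-- Main trichotomy in the alternating group. -/
theorem alt_main {X : Type*} [Fintype X] [DecidableEq X] (hX : 2 ≤ Fintype.card X)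
    (N : Subgroup (Perm X)) (hN : Group.IsNilpotent N) (hA : N ≤ alternatingGroup X) :
    2 * Nat.card N ≤ 2 ^ e2 (Fintype.card X) ∨
      (∃ (R : ℕ) (e : X ≃ Fin R ⊕ Fin 3) (K : Subgroup (Perm (Fin R))) (C : Subgroup (Perm (Fin 3))),
        Fintype.card X = R + 3 ∧ N ≤ (K.prod C).map (split e) ∧ K ≤ alternatingGroup (Fin R) ∧
        (2 ≤ R → 2 * Nat.card K ≤ 2 ^ e2 R) ∧ (R ≤ 1 → Nat.card K ≤ 1) ∧ Nat.card C ∣ 3) ∨
      (Fintype.card X ∈ ({5, 6, 7, 9, 10} : Finset ℕ) ∧
        (Fintype.card X = 7 → Nat.card N ≤ 9) ∧ (Fintype.card X = 10 → Nat.card N ≤ 81)) := by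
  obtain ⟨R, m, e, K, C, k, hRm, hle, ⟨hk, hK⟩, hC, halt⟩ := decomp N hN
  have hc := card_le hle
  rw [hK] at hc
  rw [← hRm] at hX ⊢
  have hodd : ∀ d, Odd d → Nat.card C ∣ d → K ≤ alternatingGroup (Fin R) :=
    fun d hd h => halt hA (hd.of_dvd_nat h)
  have hbig : 2 ≤ R → ∀ d b, Odd d → Nat.card C ∣ d → d ≤ b → b ≤ 2 ^ e2 m →
      2 * Nat.card N ≤ 2 ^ e2 (R + m) := by
    intro hR d b hd h hdb hb
    refine pow_bound (k := k + 1) (b := b) ?_ (two_mul_le_of_alt hR (hodd d hd h) hK) hb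
    calc 2 * Nat.card N ≤ 2 * (2 ^ k * Nat.card C) := Nat.mul_le_mul_left 2 hc
      _ = 2 ^ (k + 1) * Nat.card C := by ring
      _ ≤ 2 ^ (k + 1) * b := Nat.mul_le_mul_left _ ((Nat.le_of_dvd hd.pos h).trans hdb)
  have hsmall : R ≤ 1 → k = 0 := fun h => by
    have : e2 R = 0 := by interval_cases R <;> simp [e2_zero, e2_one]
    omega
  rcases hC with ⟨rfl, h⟩ | ⟨rfl, h⟩ | ⟨rfl, h⟩ | ⟨rfl, h⟩ | ⟨rfl, h⟩ | h
  · left; exact hbig (by omega) 1 1 odd_one h le_rfl Nat.one_le_two_pow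
  · right; left
    refine ⟨R, e, K, C, rfl, hle, hodd 3 (by decide) h, fun hR => ?_, fun hR => ?_, h⟩
    · rw [hK, ← pow_succ']
      exact Nat.pow_le_pow_right (by norm_num) (two_mul_le_of_alt hR (hodd 3 (by decide) h) hK)
    · rw [hK, hsmall hR, pow_zero]
  · by_cases hR : 2 ≤ R
    · left; exact hbig hR 5 8 (by decide) h (by norm_num) (by rw [e2_five]; norm_num)
    · right; right
      exact ⟨by interval_cases R <;> simp, by omega, by omega⟩
  · by_cases hR : 2 ≤ R
    · left; exact hbig hR 81 128 (by decide) h (by norm_num) (by rw [e2_nine]; norm_num)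
    · right; right
      rw [hsmall (by omega), pow_zero, one_mul] at hc
      exact ⟨by interval_cases R <;> simp, by omega, fun _ => hc.trans (Nat.le_of_dvd (by norm_num) h)⟩
  · by_cases hR : 2 ≤ R
    · left; exact hbig hR 9 16 (by decide) h (by norm_num) (by rw [e2_six]; norm_num)
    · right; right
      rw [hsmall (by omega), pow_zero, one_mul] at hc
      exact ⟨by interval_cases R <;> simp, fun _ => hc.trans (Nat.le_of_dvd (by norm_num) h), by omega⟩
  · left
    refine pow_bound (k := k) (b := 2 * Nat.card C) ?_ hk h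
    calc 2 * Nat.card N ≤ 2 * (2 ^ k * Nat.card C) := Nat.mul_le_mul_left 2 hc
      _ = _ := by ring

lemma conj_split {X α β : Type*} (e₁ e₂ : X ≃ α ⊕ β) (q : Perm α × Perm β) :
    MulAut.conj (e₁.trans e₂.symm : Perm X) (split e₁ q) = split e₂ q := by
  ext x
  apply e₂.injective
  simp [MulAut.conj_apply, split_apply, Equiv.Perm.inv_def]

/-- Two extremal configurations are conjugate by an even permutation. -/
theorem conj_exists {X : Type*} [Fintype X] [DecidableEq X] {R : ℕ} (e₁ e₂ : X ≃ Fin R ⊕ Fin 3)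
    (K₁ : Subgroup (Perm (Fin R))) (a : Perm (Fin R)) :
    ∃ g : Perm X, g ∈ alternatingGroup X ∧
      ((K₁.map (MulAut.conj a).toMonoidHom).prod A₃).map (split e₂) =
        ((K₁.prod A₃).map (split e₁)).map (MulAut.conj g).toMonoidHom := by
  set g₀ : Perm X := e₁.trans e₂.symm with hg₀
  have key : ∀ b : Perm (Fin 3),
      ((K₁.map (MulAut.conj a).toMonoidHom).prod A₃).map (split e₂) =
        ((K₁.prod A₃).map (split e₁)).map (MulAut.conj (g₀ * split e₁ (a, b))).toMonoidHom := by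
    intro b
    have hcomp : ((MulAut.conj (g₀ * split e₁ (a, b))).toMonoidHom.comp (split e₁)) =
        (split e₂).comp (MulAut.conj (a, b) : MulAut (Perm (Fin R) × Perm (Fin 3))).toMonoidHom := by
      refine MonoidHom.ext fun q => ?_
      simp only [MonoidHom.comp_apply, MulEquiv.coe_toMonoidHom, map_mul, MulAut.mul_apply]
      rw [← conj_split e₁ e₂]
      congr 1
      simp [MulAut.conj_apply, map_mul]
      rw [← map_inv, Prod.inv_mk]
    rw [Subgroup.map_map, hcomp, ← Subgroup.map_map]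
    congr 1
    ext ⟨x, y⟩
    haveI : (A₃).Normal := inferInstance
    constructor
    · rintro ⟨hx, hy⟩
      obtain ⟨z, hz, rfl⟩ := hx
      refine ⟨(z, b⁻¹ * y * b), ⟨hz, ?_⟩, ?_⟩
      · simpa using Subgroup.Normal.conj_mem inferInstance y hy b⁻¹
      · simp [MulAut.conj_apply, mul_assoc]
    · rintro ⟨⟨z, w⟩, ⟨hz, hw⟩, h⟩
      simp only [MulEquiv.coe_toMonoidHom, MulAut.conj_apply, Prod.inv_mk, Prod.mk_mul_mk, Prod.mk.injEq] at h
      obtain ⟨rfl, rfl⟩ := h
      exact ⟨⟨z, hz, rfl⟩, Subgroup.Normal.conj_mem inferInstance w hw b⟩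
  rcases Int.units_eq_one_or (Perm.sign (g₀ * split e₁ (a, 1))) with h | h
  · exact ⟨_, h, key 1⟩
  · refine ⟨_, ?_, key (Equiv.swap 0 1)⟩
    rw [map_mul, sign_split] at h
    rw [Perm.mem_alternatingGroup, map_mul, sign_split, Perm.sign_swap (by decide)]
    simp only [map_one, mul_one] at h
    rw [← mul_assoc, h]; rfl

/-- The extremal group, its order and structure. -/
theorem exists_iso {X : Type*} {R : ℕ} (e : X ≃ Fin R ⊕ Fin 3) (K : Subgroup (Perm (Fin R))) :
    Nat.card ((K.prod A₃).map (split e)) = 3 * Nat.card K ∧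
      Nonempty (↥((K.prod A₃).map (split e)) ≃* ↥K × Multiplicative (ZMod 3)) := by
  haveI : Fact (Nat.Prime 3) := ⟨Nat.prime_three⟩
  let E : ↥((K.prod A₃).map (split e)) ≃* ↥K × Multiplicative (ZMod 3) :=
    (Subgroup.equivMapOfInjective _ _ (split_injective e)).symm.trans
      ((K.prodEquiv A₃).trans (MulEquiv.prodCongr (MulEquiv.refl K)
        (mulEquivOfPrimeCardEq (p := 3) card_alt_three (by simp))))
  refine ⟨?_, ⟨E⟩⟩
  rw [Nat.card_congr E.toEquiv, Nat.card_prod, mul_comm]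
  simp

theorem isNilpotent_of_iso {H : Type*} [Group H] {R : ℕ} {K : Subgroup (Perm (Fin R))}
    (hK : IsPGroup 2 K) (E : H ≃* ↥K × Multiplicative (ZMod 3)) : Group.IsNilpotent H := by
  haveI := hK.isNilpotent
  exact Group.nilpotent_of_mulEquiv E.symm

/-- Equality in the three-point case. -/
theorem eq_of_card {X : Type*} {R b : ℕ} {N : Subgroup (Perm X)} {e : X ≃ Fin R ⊕ Fin 3}
    {K : Subgroup (Perm (Fin R))} {C : Subgroup (Perm (Fin 3))} (hle : N ≤ (K.prod C).map (split e))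
    (hb : 0 < b) (hK : Nat.card K ≤ b) (hC : Nat.card C ∣ 3) (hN : Nat.card N = 3 * b) :
    N = (K.prod A₃).map (split e) ∧ Nat.card K = b := by
  have hc := card_le hle
  rw [hN] at hc
  have hC3 : Nat.card C = 3 := by
    rcases (Nat.dvd_prime Nat.prime_three).1 hC with h | h
    · rw [h] at hc; omega
    · exact h
  rw [hC3] at hc
  obtain rfl := eq_alt_three hC3
  refine ⟨?_, by omega⟩
  haveI : Finite X := Finite.of_equiv _ e.symm
  refine Subgroup.eq_of_le_of_card_ge hle ?_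
  rw [(exists_iso e K).1, hN]; omega

end CfsgLib.KnownA.NilpotentExtremal
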