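import Cfsg.Agent.Lib.KnownA.NormalRankWreath
import Cfsg.Agent.Lib.KnownA.TwoRank

/-!
# The normal `2`-rank of `GL_n(q)`, `q` odd
-/

set_option autoImplicit false
set_option linter.unusedSectionVars false

namespace CfsgLib.KnownA.NormalRankGL

open Matrix Cfsg CfsgLib.Classical CfsgLib.Classical.WreathGL CfsgLib.Classical.LinearTwoSylow
  CfsgLib.Perm.SylowGen CfsgLib.KnownA.NormalRankWreath
open scoped MatrixGroups

theorem elemAb_card_le {F : Type*} [Field F] [Finite F] (h2 : (2 : F) ≠ 0) {ι : Type*} [Fintype ι]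
    [DecidableEq ι] (A : Subgroup (GL ι F)) (hA : IsElementaryAbelian 2 A) :
    Nat.card A ≤ 2 ^ Fintype.card ι := by
  classical
  letI : CommGroup A := { (inferInstance : Group A) with mul_comm := hA.1.is_comm.comm }
  haveI : Fintype A := Fintype.ofFinite _
  rw [Nat.card_eq_fintype_card]
  exact CfsgLib.KnownA.TwoRank.card_le
    (ρ := (⟨⟨fun a : A => ((a : GL ι F) : Matrix ι ι F), rfl⟩, fun _ _ => rfl⟩ : A →* Matrix ι ι F))
    (fun a => Subtype.ext (by rw [Subgroup.coe_mul, ← pow_two]; exact hA.2 _ a.2)) h2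
    (fun a b h => Subtype.ext (Units.ext h))

variable {F : Type*} [Field F] {d m N : ℕ}

/-- Change of coordinates. -/
noncomputable def reindexGL {ι κ : Type*} [Fintype ι] [DecidableEq ι] [Fintype κ] [DecidableEq κ]
    (e : ι ≃ κ) : GL ι F →* GL κ F :=
  (Units.mapEquiv (Matrix.reindexAlgEquiv F F e).toMulEquiv).toMonoidHom

theorem reindexGL_injective {ι κ : Type*} [Fintype ι] [DecidableEq ι] [Fintype κ] [DecidableEq κ]
    (e : ι ≃ κ) : Function.Injective (reindexGL (F := F) e) :=
  (Units.mapEquiv (Matrix.reindexAlgEquiv F F e).toMulEquiv).injective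

/-- `GL_d ≀ S_m` and one further coordinate. -/
noncomputable def toGLSucc (e : (Fin d × Fin m) ⊕ Unit ≃ Fin N) : Wr F d m × Fˣ →* GL (Fin N) F :=
  (reindexGL e).comp <| MonoidHom.toHomUnits
    { toFun := fun x => Matrix.fromBlocks (mat x.1) 0 0 (Matrix.diagonal fun _ : Unit => (x.2 : F))
      map_one' := by simp [mat_one]
      map_mul' := fun x y => by
        simp [mat_mul, Matrix.fromBlocks_multiply, Matrix.diagonal_mul_diagonal] }

theorem toGLSucc_injective (hd : 1 ≤ d) (e : (Fin d × Fin m) ⊕ Unit ≃ Fin N) :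
    Function.Injective (toGLSucc (F := F) e) := fun x y h => by
  have h' := congrArg Units.val (reindexGL_injective e h)
  obtain ⟨h1, -, -, h2⟩ := Matrix.fromBlocks_inj.1 h'
  exact Prod.ext (mat_injective hd h1) (Units.ext (by
    simpa using congrFun (congrFun h2 ()) ()))

variable [Fintype F]

theorem val_gl_one_mod_four (hq : Fintype.card F % 4 = 1) (n : ℕ) :
    (Nat.card (GL (Fin n) F)).factorization 2
      = n * padicValNat 2 (Fintype.card F - 1) + padicValNat 2 n.factorial := by
  have hF : Odd (Fintype.card F) := Nat.odd_iff.2 (by omega)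
  rw [LinearTwoSylow.val_gl, val_pow_card hF, zero_add, Finset.sum_congr rfl fun k _ =>
    val_pow (Fintype.one_lt_card) hq (Nat.succ_ne_zero k), Finset.sum_add_distrib, sum_val_succ,
    Finset.sum_const, Finset.card_range, smul_eq_mul]

theorem exists_normal_one_mod_four (hq : Fintype.card F % 4 = 1) (n : ℕ)
    (S : Sylow 2 (GL (Fin n) F)) :
    ∃ E : Subgroup (S : Subgroup (GL (Fin n) F)), E.Normal ∧ IsElementaryAbelian 2 E ∧
      2 ^ n ≤ Nat.card E := by
  classical
  have h2 : (2 : F) ≠ 0 := Ring.two_ne_zero fun hc => by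
    have := FiniteField.even_card_of_char_two hc
    omega
  obtain ⟨G⟩ := exists_gens (p := 2) n
  obtain ⟨Q⟩ := (inferInstance : Nonempty (Sylow 2 (⊤ : Subgroup (GL (Fin 1) F))))
  set T := (Q : Subgroup (⊤ : Subgroup (GL (Fin 1) F))).map (Subgroup.subtype _)
  have hT : pm F 1 ≤ T := pm_le_sylow (Subgroup.mem_top _) Q
  set K := sub (full (n := n) T) (Subgroup.closure G.S) (fun σ _ _ hg => act_mem_full T σ hg)
  let e : Fin 1 × Fin n ≃ Fin n := Equiv.uniqueProd (Fin n) (Fin 1)
  obtain ⟨iso⟩ := sylow_iso ((reindexGL (F := F) e).comp (WreathGL.toGL.comp K.subtype))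
    ((reindexGL_injective e).comp ((toGL_injective le_rfl).comp K.subtype_injective)) (by
      rw [card_sub, card_full, Subgroup.card_map_of_injective (Subgroup.subtype_injective _),
        card_closure_gens, Sylow.card_eq_multiplicity, Subgroup.card_top, val_gl_one_mod_four hq,
        val_gl_one_mod_four hq, ← pow_mul, ← pow_add, Nat.factorial_one, padicValNat.one, add_zero,
        one_mul, mul_comm n]) S
  obtain ⟨E, hEn, hE, hEc⟩ := exists_signs (F := F) (d := 1) (n := n) le_rfl h2 T hT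
    (Subgroup.closure G.S) (fun σ _ _ hg => act_mem_full T σ hg)
  exact exists_of_iso iso hEn hE hEc

/-- The base group for `q ≡ 3 (mod 4)`. -/
theorem exists_base (hq : Fintype.card F % 4 = 3) :
    ∃ T : Subgroup (GL (Fin 2) F), pm F 2 ≤ T ∧ (∃ t ∈ T, t * t ≠ 1) ∧
      Nat.card T = 2 ^ (padicValNat 2 (Fintype.card F - 1) + padicValNat 2 (Fintype.card F ^ 2 - 1)) ∧
      ∀ A : Subgroup T, A.Normal → IsElementaryAbelian 2 A → Nat.card A ≤ 2 := by
  classical
  have hF : Odd (Fintype.card F) := Nat.odd_iff.2 (by omega)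
  have h2 : (2 : F) ≠ 0 := Ring.two_ne_zero fun hc => by
    have := FiniteField.even_card_of_char_two hc
    omega
  obtain ⟨Q⟩ := (inferInstance : Nonempty (Sylow 2 (⊤ : Subgroup (GL (Fin 2) F))))
  set T := (Q : Subgroup (⊤ : Subgroup (GL (Fin 2) F))).map (Subgroup.subtype _)
  have hcard : Nat.card T
      = 2 ^ (padicValNat 2 (Fintype.card F - 1) + padicValNat 2 (Fintype.card F ^ 2 - 1)) := by
    rw [Subgroup.card_map_of_injective (Subgroup.subtype_injective _), Sylow.card_eq_multiplicity,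
      Subgroup.card_top, show (Nat.card (GL (Fin 2) F)).factorization 2
        = 1 * (padicValNat 2 (Fintype.card F - 1) + padicValNat 2 (Fintype.card F ^ 2 - 1))
          + padicValNat 2 (Nat.factorial 1) from val_gl_even hF 1]
    simp
  have h16 : 16 ≤ Nat.card T := by
    rw [hcard, val_pred_three hq]
    have h8 : 2 ^ 3 ∣ Fintype.card F ^ 2 - 1 := by
      obtain ⟨c, hc⟩ : ∃ c, Fintype.card F = 4 * c + 3 := ⟨Fintype.card F / 4, by omega⟩
      have h : Fintype.card F ^ 2 - 1 = 8 * (2 * c * c + 3 * c + 1) := by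
        rw [hc, show (4 * c + 3) ^ 2 = 8 * (2 * c * c + 3 * c + 1) + 1 by ring]
        omega
      exact ⟨_, h⟩
    have h3 : 3 ≤ padicValNat 2 (Fintype.card F ^ 2 - 1) :=
      (padicValNat_dvd_iff_le (Nat.sub_ne_zero_of_lt (Nat.one_lt_pow (by norm_num)
        Fintype.one_lt_card))).1 h8
    exact (show 16 = 2 ^ 4 by norm_num) ▸ Nat.pow_le_pow_right (by norm_num) (by omega)
  have hp : IsPGroup 2 T := Q.isPGroup'.map _
  refine ⟨T, pm_le_sylow (Subgroup.mem_top _) Q, ?_, hcard, gl2_card_le hq T hp h16⟩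
  by_contra hall
  push Not at hall
  have hel : IsElementaryAbelian 2 (⊤ : Subgroup T) := by
    refine ⟨⟨⟨fun a b => Subtype.ext ?_⟩⟩, fun a _ => Subtype.ext ?_⟩
    · have hinv : ∀ u : T, u⁻¹ = u := fun u =>
        inv_eq_of_mul_eq_one_right (Subtype.ext (hall _ u.2))
      calc a.1 * b.1 = (a.1 * b.1)⁻¹ := (hinv _).symm
        _ = b.1 * a.1 := by rw [_root_.mul_inv_rev, hinv, hinv]
    · rw [sq]; exact hall _ a.2
  have := gl2_card_le hq T hp h16 ⊤ inferInstance hel
  rw [Subgroup.card_top] at this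
  omega

theorem three_mod_four (hq : Fintype.card F % 4 = 3) (n : ℕ) (S : Sylow 2 (GL (Fin n) F)) :
    (∃ E : Subgroup (S : Subgroup (GL (Fin n) F)), E.Normal ∧ IsElementaryAbelian 2 E ∧
      2 ^ ((n + 1) / 2) ≤ Nat.card E) ∧
    ∀ E : Subgroup (S : Subgroup (GL (Fin n) F)), E.Normal → IsElementaryAbelian 2 E →
      Nat.card E ≤ 2 ^ ((n + 1) / 2) := by
  classical
  have hF : Odd (Fintype.card F) := Nat.odd_iff.2 (by omega)
  have h2 : (2 : F) ≠ 0 := Ring.two_ne_zero fun hc => by
    have := FiniteField.even_card_of_char_two hc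
    omega
  obtain ⟨T, hT, hsq, hcard, hA⟩ := exists_base hq
  obtain ⟨m, hm⟩ : ∃ m, n = 2 * m ∨ n = 2 * m + 1 := ⟨n / 2, by omega⟩
  obtain ⟨G⟩ := exists_gens (p := 2) m
  have hB : ∀ σ ∈ Subgroup.closure G.S, ∀ g ∈ full (n := m) T, act σ g ∈ full T :=
    fun σ _ _ hg => act_mem_full T σ hg
  set K := sub (full (n := m) T) (Subgroup.closure G.S) hB
  have hKc : Nat.card K = 2 ^ ((padicValNat 2 (Fintype.card F - 1)
      + padicValNat 2 (Fintype.card F ^ 2 - 1)) * m + padicValNat 2 m.factorial) := by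
    rw [card_sub, card_full, hcard, card_closure_gens, ← pow_mul, ← pow_add]
  obtain ⟨E₀, hEn, hE, hEc⟩ := exists_signs (F := F) (d := 2) (n := m) (by norm_num) h2 T hT
    (Subgroup.closure G.S) hB
  have hup := card_le_wreath T (Subgroup.closure G.S) hB hsq hA
  rcases hm with rfl | rfl
  · obtain ⟨iso⟩ := sylow_iso ((reindexGL (F := F) finProdFinEquiv).comp
      (WreathGL.toGL.comp K.subtype))
      ((reindexGL_injective _).comp ((toGL_injective (by norm_num)).comp K.subtype_injective))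
      (by rw [hKc, val_gl_even hF, mul_comm m]) S
    rw [show (2 * m + 1) / 2 = m by omega]
    exact ⟨exists_of_iso iso hEn hE hEc, forall_of_iso iso hup⟩
  · set C : Subgroup Fˣ := Subgroup.zpowers (-1 : Fˣ)
    have hC2 : ∀ c ∈ C, c ^ 2 = (1 : Fˣ) := by
      intro c hc
      obtain ⟨k, rfl⟩ := Subgroup.mem_zpowers_iff.1 hc
      rw [← zpow_natCast, ← _root_.zpow_mul, mul_comm, _root_.zpow_mul, zpow_natCast, _root_.neg_one_sq,
        _root_.one_zpow]
    have hCc : Nat.card C = 2 := by
      rw [Nat.card_zpowers]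
      refine orderOf_eq_prime (p := 2) (hC2 _ (Subgroup.mem_zpowers _)) fun h => h2 ?_
      have h' := congrArg (fun u : Fˣ => (u : F)) h
      simp only [Units.val_neg, Units.val_one] at h'
      linear_combination -h'
    let e : (Fin 2 × Fin m) ⊕ Unit ≃ Fin (2 * m + 1) :=
      (Equiv.sumCongr finProdFinEquiv (Equiv.ofUnique Unit (Fin 1))).trans finSumFinEquiv
    obtain ⟨iso⟩ := sylow_iso ((toGLSucc (F := F) e).comp (K.subtype.prodMap C.subtype))
      ((toGLSucc_injective (by norm_num) e).comp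
        (K.subtype_injective.prodMap C.subtype_injective))
      (by rw [Nat.card_prod, hKc, hCc, val_gl_odd hF, val_gl_even hF, val_pred_three hq, mul_comm m,
        ← pow_succ]) S
    rw [show (2 * m + 1 + 1) / 2 = m + 1 by omega]
    constructor
    · refine exists_of_iso iso (E := E₀.prod ⊤) ?_ ?_ ?_
      · haveI := hEn
        infer_instance
      · refine ⟨⟨⟨?_⟩⟩, ?_⟩
        · rintro ⟨⟨a, c⟩, ha, -⟩ ⟨⟨b, c'⟩, hb, -⟩
          exact Subtype.ext (Prod.ext (congrArg Subtype.val (hE.1.is_comm.comm ⟨a, ha⟩ ⟨b, hb⟩))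
            (mul_comm _ _))
        · rintro ⟨a, c⟩ ⟨ha, -⟩
          exact Prod.ext (hE.2 a ha) (Subtype.ext (hC2 c c.2))
      · rw [Nat.card_congr (Subgroup.prodEquiv E₀ ⊤).toEquiv, Nat.card_prod, Subgroup.card_top, hCc,
          pow_succ]
        exact Nat.mul_le_mul_right 2 hEc
    · haveI : Finite K := Nat.finite_of_card_ne_zero (by rw [hKc]; positivity)
      refine forall_of_iso iso fun E hn' hE' => ?_
      set π := MonoidHom.fst K C
      have hA' := hup (E.map π) (hn'.map π Prod.fst_surjective) (elemAb_map π hE')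
      calc Nat.card E ≤ Nat.card (E.map π × C) := Nat.card_le_card_of_injective
            (fun x : E => (⟨x.1.1, x.1, x.2, rfl⟩, x.1.2)) fun x y h => by
              simp only [Prod.mk.injEq, Subtype.mk.injEq] at h
              exact Subtype.ext (Prod.ext (congrArg Subtype.val h.1) h.2)
        _ ≤ 2 ^ (m + 1) := by
          rw [Nat.card_prod, hCc, pow_succ]
          exact Nat.mul_le_mul_right 2 hA'

end CfsgLib.KnownA.NormalRankGL
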