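import Cfsg.Prelude.Def_Transfer
import Cfsg.Agent.Lib.Classical.LinearTwoSylowMaps

/-!
# Normal elementary abelian subgroups of wreath products `T ≀ W`

Used for the normal `2`-rank of classical groups in odd characteristic.
-/

set_option autoImplicit false
set_option linter.unusedSectionVars false

namespace CfsgLib.KnownA.NormalRankWreath

open Matrix Cfsg CfsgLib.Classical CfsgLib.Classical.WreathGL

section Transport

variable {G K : Type*} [Group G] [Group K]

theorem sylow_iso [Finite G] (ψ : K →* G) (hψ : Function.Injective ψ)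
    (hcard : Nat.card K = 2 ^ (Nat.card G).factorization 2) (S : Sylow 2 G) :
    Nonempty (K ≃* (S : Subgroup G)) := by
  have hc : Nat.card ψ.range = 2 ^ (Nat.card G).factorization 2 := by
    rw [← Nat.card_congr (MonoidHom.ofInjective hψ).toEquiv, hcard]
  exact ⟨(MonoidHom.ofInjective hψ).trans (((Sylow.ofCard ψ.range hc).equiv S))⟩

theorem elemAb_map (f : K →* G) {E : Subgroup K} (hE : IsElementaryAbelian 2 E) :
    IsElementaryAbelian 2 (E.map f) := by
  refine ⟨⟨⟨?_⟩⟩, ?_⟩
  · rintro ⟨_, a, ha, rfl⟩ ⟨_, b, hb, rfl⟩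
    refine Subtype.ext ?_
    show f a * f b = f b * f a
    rw [← map_mul, ← map_mul]
    exact congrArg f (congrArg Subtype.val (hE.1.is_comm.comm ⟨a, ha⟩ ⟨b, hb⟩))
  · rintro _ ⟨a, ha, rfl⟩
    rw [← map_pow, hE.2 a ha, map_one]

theorem exists_of_iso (e : K ≃* G) {E : Subgroup K} {N : ℕ} (hn : E.Normal)
    (hE : IsElementaryAbelian 2 E) (hN : N ≤ Nat.card E) :
    ∃ E' : Subgroup G, E'.Normal ∧ IsElementaryAbelian 2 E' ∧ N ≤ Nat.card E' :=
  ⟨E.map e.toMonoidHom, hn.map _ e.surjective, elemAb_map _ hE,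
    by rwa [Subgroup.card_map_of_injective e.injective]⟩

theorem forall_of_iso (e : K ≃* G) {N : ℕ}
    (h : ∀ E : Subgroup K, E.Normal → IsElementaryAbelian 2 E → Nat.card E ≤ N)
    (E : Subgroup G) (hn : E.Normal) (hE : IsElementaryAbelian 2 E) : Nat.card E ≤ N := by
  have := h (E.map e.symm.toMonoidHom) (hn.map _ e.symm.surjective) (elemAb_map _ hE)
  rwa [Subgroup.card_map_of_injective e.symm.injective] at this

end Transport

section Signs

variable {F : Type*} [Field F] {d n : ℕ}

variable (F d) in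
/-- `{1, -1}`. -/
def pm : Subgroup (GL (Fin d) F) := Subgroup.zpowers (-1)

theorem neg_one_sq : (-1 : GL (Fin d) F) * (-1) = 1 := by rw [neg_mul_neg, one_mul]

theorem mem_pm {g : GL (Fin d) F} (hg : g ∈ pm F d) : g = 1 ∨ g = -1 := by
  obtain ⟨k, rfl⟩ := Subgroup.mem_zpowers_iff.1 hg
  rcases Int.even_or_odd k with h | h
  · exact Or.inl h.neg_one_zpow
  · exact Or.inr h.neg_one_zpow

theorem pm_central {g : GL (Fin d) F} (hg : g ∈ pm F d) (h : GL (Fin d) F) : g * h = h * g := by
  rcases mem_pm hg with rfl | rfl <;> simp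

theorem pm_sq {g : GL (Fin d) F} (hg : g ∈ pm F d) : g * g = 1 := by
  rcases mem_pm hg with rfl | rfl <;> simp

theorem neg_one_ne (hd : 1 ≤ d) (h2 : (2 : F) ≠ 0) : (-1 : GL (Fin d) F) ≠ 1 := fun h => by
  have h1 : (-1 : Matrix (Fin d) (Fin d) F) ⟨0, hd⟩ ⟨0, hd⟩ = 1 := by
    have := congrArg (fun g : GL (Fin d) F => (g : Matrix (Fin d) (Fin d) F)) h
    simp only [Units.val_neg, Units.val_one] at this
    rw [this, Matrix.one_apply_eq]
  rw [Matrix.neg_apply, Matrix.one_apply_eq] at h1
  exact h2 (by linear_combination -h1)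

theorem card_pm (hd : 1 ≤ d) (h2 : (2 : F) ≠ 0) : Nat.card (pm F d) = 2 := by
  rw [pm, Nat.card_zpowers]
  exact orderOf_eq_prime (p := 2) (by rw [sq, neg_one_sq]) (neg_one_ne hd h2)

theorem pm_le_sylow [Finite (GL (Fin d) F)] {H : Subgroup (GL (Fin d) F)}
    (hH : (-1 : GL (Fin d) F) ∈ H) (Q : Sylow 2 H) :
    pm F d ≤ (Q : Subgroup H).map H.subtype := by
  rw [pm, Subgroup.zpowers_le]
  set z : H := ⟨-1, hH⟩
  have hz : ∀ h : H, z * h = h * z := fun h =>
    Subtype.ext (pm_central (Subgroup.mem_zpowers _) (h : GL (Fin d) F))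
  haveI : (Subgroup.zpowers z).Normal := ⟨fun a ha g => by
    obtain ⟨k, rfl⟩ := Subgroup.mem_zpowers_iff.1 ha
    rw [← ((show Commute z g from hz g).zpow_left k).eq, mul_inv_cancel_right]
    exact Subgroup.mem_zpowers_iff.2 ⟨k, rfl⟩⟩
  have hp : IsPGroup 2 (Subgroup.zpowers z) := fun y => ⟨1, by
    obtain ⟨k, hk⟩ := Subgroup.mem_zpowers_iff.1 y.2
    refine Subtype.ext ?_
    rw [Subgroup.coe_pow, pow_one, sq, ← hk, ← (Commute.refl z).mul_zpow,
      show z * z = 1 from Subtype.ext neg_one_sq, _root_.one_zpow]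
    rfl⟩
  have hmax := Q.is_maximal' (hp.to_sup_of_normal_left Q.isPGroup') le_sup_right
  exact ⟨z, hmax ▸ (le_sup_left : _ ≤ Subgroup.zpowers z ⊔ (Q : Subgroup H))
    (Subgroup.mem_zpowers z), rfl⟩

/-- The sign changes form a normal elementary abelian subgroup of `T ≀ W`. -/
theorem exists_signs [Finite F] (hd : 1 ≤ d) (h2 : (2 : F) ≠ 0) (T : Subgroup (GL (Fin d) F))
    (hT : pm F d ≤ T) (W : Subgroup (Equiv.Perm (Fin n)))
    (hB : ∀ σ ∈ W, ∀ g ∈ full (n := n) T, act σ g ∈ full T) :
    ∃ E : Subgroup (sub (full (n := n) T) W hB), E.Normal ∧ IsElementaryAbelian 2 E ∧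
      2 ^ n ≤ Nat.card E := by
  set Z : Subgroup (Wr F d n) := sub (full (n := n) (pm F d)) ⊥
    (fun σ _ _ hg => act_mem_full _ σ hg) with hZ
  have hle : Z ≤ sub (full (n := n) T) W hB := fun x hx =>
    ⟨(Subgroup.mem_pi Set.univ).2 fun i _ => hT ((Subgroup.mem_pi Set.univ).1 hx.1 i trivial),
      by rw [Subgroup.mem_bot.1 hx.2]; exact one_mem _⟩
  have hinl : ∀ x ∈ Z, x = SemidirectProduct.inl x.left := fun x hx =>
    SemidirectProduct.ext rfl (by rw [Subgroup.mem_bot.1 hx.2, SemidirectProduct.right_inl])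
  have hpm : ∀ x ∈ Z, ∀ i, x.left i ∈ pm F d := fun x hx i =>
    (Subgroup.mem_pi Set.univ).1 hx.1 i trivial
  have hnorm : ∀ x ∈ Z, ∀ k : Wr F d n, k * x * k⁻¹ ∈ Z := by
    intro x hx k
    have h : k * x * k⁻¹ = SemidirectProduct.inl (act k.right x.left) := by
      rw [mul_inv_eq_iff_eq_mul]
      refine SemidirectProduct.ext ?_ ?_
      · rw [SemidirectProduct.mul_left, SemidirectProduct.mul_left, SemidirectProduct.left_inl,
          SemidirectProduct.right_inl, map_one, MulAut.one_apply]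
        refine funext fun i => ?_
        simp only [Pi.mul_apply, act_apply]
        rw [pm_central (hpm x hx _)]
      · rw [SemidirectProduct.mul_right, SemidirectProduct.mul_right, Subgroup.mem_bot.1 hx.2,
          SemidirectProduct.right_inl, mul_one, one_mul]
    rw [h]
    exact ⟨act_mem_full _ _ hx.1, one_mem _⟩
  refine ⟨Z.subgroupOf (sub (full (n := n) T) W hB), ⟨fun x hx k => hnorm _ hx _⟩, ⟨⟨⟨?_⟩⟩, ?_⟩, ?_⟩
  · rintro ⟨a, ha⟩ ⟨b, hb⟩
    refine Subtype.ext (Subtype.ext ?_)
    show (a : Wr F d n) * (b : Wr F d n) = (b : Wr F d n) * (a : Wr F d n)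
    have ha' : (a : Wr F d n) ∈ Z := ha
    have hb' : (b : Wr F d n) ∈ Z := hb
    generalize (a : Wr F d n) = x at ha' ⊢
    generalize (b : Wr F d n) = y at hb' ⊢
    rw [hinl x ha', hinl y hb', ← map_mul, ← map_mul]
    exact congrArg _ (funext fun i => pm_central (hpm _ ha' i) _)
  · intro a ha
    refine Subtype.ext ?_
    show (a : Wr F d n) ^ 2 = 1
    have ha' : (a : Wr F d n) ∈ Z := ha
    generalize (a : Wr F d n) = x at ha' ⊢
    rw [hinl x ha', ← map_pow, show x.left ^ 2 = 1 from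
      funext fun i => (sq _).trans (pm_sq (hpm _ ha' i)), map_one]
  · rw [Nat.card_congr (Subgroup.subgroupOfEquivOfLe hle).toEquiv, hZ, card_sub, card_full,
      card_pm hd h2, Subgroup.card_bot, mul_one]

end Signs

section Upper

variable {F : Type*} [Field F] {d n : ℕ}

/-- If `T` has no large normal elementary abelian subgroup, neither has `T ≀ W`. -/
theorem card_le_wreath [Finite F] (T : Subgroup (GL (Fin d) F)) (W : Subgroup (Equiv.Perm (Fin n)))
    (hB : ∀ σ ∈ W, ∀ g ∈ full (n := n) T, act σ g ∈ full T) (hsq : ∃ t ∈ T, t * t ≠ 1)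
    (hT : ∀ A : Subgroup T, A.Normal → IsElementaryAbelian 2 A → Nat.card A ≤ 2)
    (E : Subgroup (sub (full (n := n) T) W hB)) (hn : E.Normal) (hE : IsElementaryAbelian 2 E) :
    Nat.card E ≤ 2 ^ n := by
  classical
  let kk : ∀ (j : Fin n) (t : T), sub (full (n := n) T) W hB := fun j t =>
    ⟨SemidirectProduct.inl (Pi.mulSingle j (t : GL (Fin d) F)),
      (Subgroup.mem_pi Set.univ).2 fun i _ => by
        rw [SemidirectProduct.left_inl]
        by_cases h : i = j
        · subst h; simp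
        · simp [h, one_mem],
      by simp [one_mem]⟩
  have hmem : ∀ x : sub (full (n := n) T) W hB, ∀ i, (x : Wr F d n).left i ∈ T := fun x i =>
    (Subgroup.mem_pi Set.univ).1 x.2.1 i trivial
  have hr : ∀ x ∈ E, (x : Wr F d n).right = 1 := by
    intro x hx
    obtain ⟨t, ht, ht2⟩ := hsq
    by_contra hne
    obtain ⟨j, hj⟩ : ∃ j, (x : Wr F d n).right.symm j ≠ j := by
      by_contra hall
      push Not at hall
      exact hne (Equiv.ext fun i => (Equiv.symm_apply_eq _).1 (hall i) |>.symm)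
    set k := kk j ⟨t, ht⟩
    have hc : k * x * k⁻¹ * x⁻¹ ∈ E := mul_mem (hn.conj_mem x hx k) (inv_mem hx)
    set f : Fin n → GL (Fin d) F := Pi.mulSingle j t *
      ((x : Wr F d n).left * act (x : Wr F d n).right (Pi.mulSingle j t)⁻¹ * ((x : Wr F d n).left)⁻¹)
    have hceq : ((k * x * k⁻¹ * x⁻¹ : sub (full (n := n) T) W hB) : Wr F d n)
        = SemidirectProduct.inl f := by
      rw [Subgroup.coe_mul, Subgroup.coe_mul, Subgroup.coe_mul, Subgroup.coe_inv, Subgroup.coe_inv,
        mul_inv_eq_iff_eq_mul]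
      refine SemidirectProduct.ext ?_ ?_
      · simp [k, kk, f, mul_assoc]
      · simp [k, kk]
    have h2 : SemidirectProduct.inl (φ := act) (f ^ 2) = (1 : Wr F d n) := by
      rw [map_pow, ← hceq, ← Subgroup.coe_pow, hE.2 _ hc, Subgroup.coe_one]
    have hfj : f j = t := by
      simp [f, act_apply, Pi.mulSingle_eq_of_ne hj]
    have h3 := congrArg (fun y : Wr F d n => y.left j) h2
    simp only [SemidirectProduct.left_inl, SemidirectProduct.one_left, Pi.pow_apply, Pi.one_apply,
      hfj, sq] at h3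
    rw [Pi.mul_apply, hfj] at h3
    exact ht2 h3
  let p : Fin n → E →* T := fun i => MonoidHom.mk' (fun x => ⟨_, hmem x.1 i⟩) fun x y => by
    refine Subtype.ext ?_
    show ((x.1 : Wr F d n) * (y.1 : Wr F d n)).left i = _
    rw [SemidirectProduct.mul_left, hr x.1 x.2, map_one, MulAut.one_apply]
    rfl
  have hA : ∀ i, Nat.card (p i).range ≤ 2 := fun i => by
    refine hT _ ⟨?_⟩ ⟨⟨⟨?_⟩⟩, ?_⟩
    · rintro _ ⟨x, rfl⟩ t
      refine ⟨⟨kk i t * x.1 * (kk i t)⁻¹, hn.conj_mem _ x.2 _⟩, Subtype.ext ?_⟩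
      show ((kk i t : Wr F d n) * (x.1 : Wr F d n) * (kk i t : Wr F d n)⁻¹).left i = _
      simp [kk, p, hr x.1 x.2]
    · rintro ⟨_, x, rfl⟩ ⟨_, y, rfl⟩
      refine Subtype.ext ?_
      show p i x * p i y = p i y * p i x
      rw [← map_mul, ← map_mul, hE.1.is_comm.comm x y]
    · rintro _ ⟨x, rfl⟩
      rw [← map_pow, show x ^ 2 = 1 from Subtype.ext (hE.2 _ x.2), map_one]
  calc Nat.card E ≤ Nat.card (∀ i, (p i).range) :=
        Nat.card_le_card_of_injective (fun x i => (p i).rangeRestrict x) fun x y h => by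
          refine Subtype.ext (Subtype.ext (SemidirectProduct.ext (funext fun i => ?_) ?_))
          · exact congrArg (fun z : (p i).range => ((z : T) : GL (Fin d) F)) (congrFun h i)
          · rw [hr x.1 x.2, hr y.1 y.2]
    _ ≤ 2 ^ n := by
      rw [Nat.card_pi]
      exact (Finset.prod_le_pow_card _ _ 2 fun i _ => hA i).trans_eq (by simp)

/-- In a large `2`-subgroup of `GL_2(q)`, `q ≡ 3 (mod 4)`, only scalars form normal elementary
abelian subgroups. -/
theorem gl2_card_le [Fintype F] (hq : Fintype.card F % 4 = 3) (T : Subgroup (GL (Fin 2) F))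
    (hT : IsPGroup 2 T) (h16 : 16 ≤ Nat.card T) (A : Subgroup T) (hn : A.Normal)
    (hA : IsElementaryAbelian 2 A) : Nat.card A ≤ 2 := by
  classical
  have h2 : (2 : F) ≠ 0 := Ring.two_ne_zero fun hc => by
    have := FiniteField.even_card_of_char_two hc
    omega
  suffices h : ∀ x ∈ A, ((x : GL (Fin 2) F) : GL (Fin 2) F) = 1 ∨ (x : GL (Fin 2) F) = -1 by
    calc Nat.card A ≤ Nat.card Bool := Nat.card_le_card_of_injective
          (fun x : A => decide (((x.1 : GL (Fin 2) F)) = 1)) (fun x y hxy => by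
            refine Subtype.ext (Subtype.ext ?_)
            rw [decide_eq_decide] at hxy
            rcases h x.1 x.2 with hx | hx <;> rcases h y.1 y.2 with hy | hy <;>
              simp_all [neg_one_ne (F := F) (d := 2) (by norm_num) h2,
                (neg_one_ne (F := F) (d := 2) (by norm_num) h2).symm])
      _ = 2 := by simp
  intro x hx
  by_contra hne
  push Not at hne
  set X : Matrix (Fin 2) (Fin 2) F := ((x : GL (Fin 2) F) : Matrix (Fin 2) (Fin 2) F) with hX
  have hXX : X * X = 1 := by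
    have h := congrArg (fun z : T => ((z : GL (Fin 2) F) : Matrix (Fin 2) (Fin 2) F)) (hA.2 x hx)
    simpa [sq] using h
  have hX1 : X - 1 ≠ 0 := fun h => hne.1 (Units.ext (sub_eq_zero.1 h))
  have hX2 : X + 1 ≠ 0 := fun h => hne.2 (Units.ext (by
    rw [Units.val_neg, Units.val_one]; exact eq_neg_of_add_eq_zero_left h))
  have htr : X 1 1 = - X 0 0 := by
    have h01 := congrFun (congrFun hXX 0) 1
    have h10 := congrFun (congrFun hXX 1) 0
    have h00 := congrFun (congrFun hXX 0) 0
    have h11 := congrFun (congrFun hXX 1) 1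
    simp [Matrix.mul_apply, Fin.sum_univ_two] at h01 h10 h00 h11
    by_contra hs
    have hs' : X 0 0 + X 1 1 ≠ 0 := fun h => hs (by linear_combination h)
    have hb : X 0 1 = 0 := (mul_eq_zero.1 (show X 0 1 * (X 0 0 + X 1 1) = 0 by
      linear_combination h01)).resolve_right hs'
    have hc : X 1 0 = 0 := (mul_eq_zero.1 (show X 1 0 * (X 0 0 + X 1 1) = 0 by
      linear_combination h10)).resolve_right hs'
    rw [hb, hc] at h00 h11
    simp only [mul_zero, zero_mul, add_zero, zero_add, mul_self_eq_one_iff] at h00 h11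
    rcases h00 with ha | ha <;> rcases h11 with he | he
    · exact hX1 (by ext i j; fin_cases i <;> fin_cases j <;> simp [ha, he, hb, hc])
    · exact hs (by rw [ha, he])
    · exact hs (by rw [ha, he]; simp)
    · exact hX2 (by ext i j; fin_cases i <;> fin_cases j <;> simp [ha, he, hb, hc])
  -- the centraliser of `x` in `T`
  have hpow : ∀ a : F, ∀ k : ℕ, a ^ 2 ^ k = 1 → a = 1 ∨ a = -1 := by
    intro a k hk
    have ha : a ≠ 0 := fun h => by simp [h] at hk
    have h3 := pow_gcd_eq_one.2 ⟨hk, FiniteField.pow_card_sub_one_eq_one a ha⟩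
    obtain ⟨j, -, hj⟩ := (Nat.dvd_prime_pow Nat.prime_two).1
      (Nat.gcd_dvd_left (2 ^ k) (Fintype.card F - 1))
    rw [hj] at h3
    have hd := Nat.gcd_dvd_right (2 ^ k) (Fintype.card F - 1)
    rw [hj] at hd
    rcases Nat.lt_or_ge j 2 with hjlt | hjge
    · interval_cases j
      · exact Or.inl (by simpa using h3)
      · exact sq_eq_one_iff.1 (by simpa using h3)
    · have := (pow_dvd_pow 2 hjge).trans hd
      omega
  set V : Finset (Matrix (Fin 2) (Fin 2) F) := {1, -1, X, -X} with hV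
  have hC : ∀ t : T, t * x = x * t → ((t : GL (Fin 2) F) : Matrix (Fin 2) (Fin 2) F) ∈ V := by
    intro t ht
    set Y : Matrix (Fin 2) (Fin 2) F := ((t : GL (Fin 2) F) : Matrix (Fin 2) (Fin 2) F)
    have hc : Y * X = X * Y := congrArg (fun z : T => ((z : GL (Fin 2) F) : Matrix (Fin 2) (Fin 2) F)) ht
    obtain ⟨a, b, hY⟩ : ∃ a b : F, Y = a • 1 + b • X := by
      refine ⟨(Y 0 0 + Y 1 1) / 2, ((X * Y) 0 0 + (X * Y) 1 1) / 2, ?_⟩
      have h00 := congrFun (congrFun hXX 0) 0
      have c00 := congrFun (congrFun hc 0) 0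
      have c01 := congrFun (congrFun hc 0) 1
      have c10 := congrFun (congrFun hc 1) 0
      simp [Matrix.mul_apply, Fin.sum_univ_two, htr] at h00 c00 c01 c10
      ext i j
      fin_cases i <;> fin_cases j <;> simp [Matrix.mul_apply, Fin.sum_univ_two, htr] <;>
        field_simp <;> grobner
    obtain ⟨k, hk⟩ := hT t
    have hk' : Y ^ 2 ^ k = 1 := by
      have h := congrArg (fun z : T => ((z : GL (Fin 2) F) : Matrix (Fin 2) (Fin 2) F)) hk
      simpa using h
    have hev : ∀ e : F, e * e = 1 → X + e • 1 ≠ 0 → (a + e * b) ^ 2 ^ k = 1 := by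
      intro e he hne0
      have h1 : Y * (X + e • 1) = (a + e * b) • (X + e • 1) := by
        rw [hY, add_mul, Matrix.smul_mul, Matrix.smul_mul, mul_add, mul_add, hXX]
        simp only [one_mul, mul_smul_comm, mul_one]
        match_scalars <;> first | ring1 | linear_combination b * he | linear_combination (-b) * he
      have h2' : ∀ N : ℕ, Y ^ N * (X + e • 1) = (a + e * b) ^ N • (X + e • 1) := by
        intro N
        induction N with
        | zero => simp
        | succ N ih => rw [pow_succ, mul_assoc, h1, Matrix.mul_smul, ih, smul_smul, pow_succ']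
      have h := h2' (2 ^ k)
      rw [hk', one_mul] at h
      by_contra hh
      exact hne0 ((smul_eq_zero.1 (show ((a + e * b) ^ 2 ^ k - 1) • (X + e • 1) = 0 by
        rw [sub_smul, one_smul, ← h, sub_self])).resolve_left (sub_ne_zero.2 hh))
    have hp := hpow _ k (hev 1 (by ring) (by simpa using hX2))
    have hm := hpow _ k (hev (-1) (by ring) (by simpa [← sub_eq_add_neg] using hX1))
    rw [hY]
    simp only [hV, Finset.mem_insert, Finset.mem_singleton]
    rcases hp with hp | hp <;> rcases hm with hm | hm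
    · obtain ⟨rfl, rfl⟩ : a = 1 ∧ b = 0 := ⟨mul_left_cancel₀ h2 (by linear_combination hp + hm),
        mul_left_cancel₀ h2 (by linear_combination hp - hm)⟩
      left; simp
    · obtain ⟨rfl, rfl⟩ : a = 0 ∧ b = 1 := ⟨mul_left_cancel₀ h2 (by linear_combination hp + hm),
        mul_left_cancel₀ h2 (by linear_combination hp - hm)⟩
      right; right; left; simp
    · obtain ⟨rfl, rfl⟩ : a = 0 ∧ b = -1 := ⟨mul_left_cancel₀ h2 (by linear_combination hp + hm),
        mul_left_cancel₀ h2 (by linear_combination hp - hm)⟩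
      right; right; right; simp
    · obtain ⟨rfl, rfl⟩ : a = -1 ∧ b = 0 := ⟨mul_left_cancel₀ h2 (by linear_combination hp + hm),
        mul_left_cancel₀ h2 (by linear_combination hp - hm)⟩
      right; left; simp
  have hcentral : ∀ (g : GL (Fin 2) F), g = 1 ∨ g = -1 → ∀ h : GL (Fin 2) F, h * g * h⁻¹ = g := by
    rintro g (rfl | rfl) h <;> simp
  have hconj : ∀ t : T, ((t * x * t⁻¹ : T) : GL (Fin 2) F) = (x : GL (Fin 2) F) ∨
      ((t * x * t⁻¹ : T) : GL (Fin 2) F) = -(x : GL (Fin 2) F) := by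
    intro t
    have hm := hn.conj_mem x hx t
    have hcm : (t * x * t⁻¹) * x = x * (t * x * t⁻¹) :=
      congrArg Subtype.val (hA.1.is_comm.comm ⟨_, hm⟩ ⟨x, hx⟩)
    have h := hC _ hcm
    simp only [hV, Finset.mem_insert, Finset.mem_singleton] at h
    have hback : ∀ g : GL (Fin 2) F, g = 1 ∨ g = -1 →
        ((t * x * t⁻¹ : T) : GL (Fin 2) F) = g → (x : GL (Fin 2) F) = g := by
      intro g hg he
      rw [Subgroup.coe_mul, Subgroup.coe_mul, Subgroup.coe_inv] at he
      rw [← hcentral g hg (t : GL (Fin 2) F)⁻¹, ← he]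
      group
    rcases h with h | h | h | h
    · exact absurd (hback 1 (Or.inl rfl) (Units.ext h)) hne.1
    · exact absurd (hback (-1) (Or.inr rfl) (Units.ext (by rw [h, Units.val_neg, Units.val_one])))
        hne.2
    · exact Or.inl (Units.ext h)
    · exact Or.inr (Units.ext (by rw [h, Units.val_neg]))
  have h8 : Nat.card T ≤ 2 * V.card := by
    by_cases hall : ∀ t : T, t * x = x * t
    · refine (Nat.card_le_card_of_injective (β := V) (fun t => ⟨_, hC t (hall t)⟩) ?_).trans ?_
      · intro t t' h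
        exact Subtype.ext (Units.ext (congrArg Subtype.val h))
      · rw [Nat.card_eq_fintype_card, Fintype.card_coe]; omega
    · push Not at hall
      obtain ⟨t₀, ht₀⟩ := hall
      have hmove : ∀ t : T, ¬ t * x = x * t → (t₀⁻¹ * t) * x = x * (t₀⁻¹ * t) := by
        intro t ht
        have h0 : ((t₀ * x * t₀⁻¹ : T) : GL (Fin 2) F) = -(x : GL (Fin 2) F) :=
          (hconj t₀).resolve_left fun h => ht₀ (mul_inv_eq_iff_eq_mul.1 (Subtype.ext h))
        have h1 : ((t * x * t⁻¹ : T) : GL (Fin 2) F) = -(x : GL (Fin 2) F) :=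
          (hconj t).resolve_left fun h => ht (mul_inv_eq_iff_eq_mul.1 (Subtype.ext h))
        have h : t * x * t⁻¹ = t₀ * x * t₀⁻¹ := Subtype.ext (h1.trans h0.symm)
        calc t₀⁻¹ * t * x = t₀⁻¹ * (t * x * t⁻¹) * t := by group
          _ = x * (t₀⁻¹ * t) := by rw [h]; group
      refine (Nat.card_le_card_of_injective (β := Bool × V) (fun t =>
        if h : t * x = x * t then (false, ⟨_, hC t h⟩) else (true, ⟨_, hC _ (hmove t h)⟩)) ?_).trans ?_
      · intro t t' h
        by_cases h1 : t * x = x * t <;> by_cases h1' : t' * x = x * t' <;>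
          simp only [dif_pos, dif_neg, h1, h1', not_false_iff, Prod.mk.injEq] at h
        · exact Subtype.ext (Units.ext (congrArg Subtype.val h.2))
        · simp at h
        · simp at h
        · exact mul_left_cancel (Subtype.ext (Units.ext (congrArg Subtype.val h.2)))
      · rw [Nat.card_prod, Nat.card_eq_fintype_card, Nat.card_eq_fintype_card, Fintype.card_coe,
          Fintype.card_bool]
  have hV4 : V.card ≤ 4 := Finset.card_le_four
  omega

end Upper

end CfsgLib.KnownA.NormalRankWreath
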