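import Cfsg.Agent.Lib.KnownA.OrthInvolutionCount
import Cfsg.Agent.Lib.Orth.WittIndex
import Cfsg.Agent.Lib.Orth.Standard
import Cfsg.Agent.S0824

/-!
Involution class counts for the standard quadratic forms of the prelude.
-/

set_option autoImplicit false
set_option linter.unusedSectionVars false

namespace CfsgLib.OrthInvolutionCount

open Module Matrix QuadraticMap CfsgLib.Orth

variable {F : Type*} [Field F] [Fintype F] [CharP F 2]

section Bridge

variable {ι : Type} [Fintype ι] [DecidableEq ι] {Qf : (ι → F) → F} (Q : QuadraticForm F (ι → F))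
  (hQf : ∀ v, Qf v = Q v)
include hQf

omit [Fintype F] [CharP F 2] in
theorem card_omega_congr :
    Nat.card (InvClasses ↥(Cfsg.Omega F Qf)) = Nat.card (InvClasses (commutator (orthGroup Q))) :=
  card_invClasses_congr
    { toFun := fun g => ⟨toOrth Q hQf g.1, (mem_Omega_iff Q hQf g.1).1 g.2⟩
      invFun := fun h => ⟨(toOrth Q hQf).symm h.1, (mem_Omega_iff Q hQf _).2 (by
        rw [MulEquiv.apply_symm_apply]; exact h.2)⟩
      left_inv := fun g => Subtype.ext ((toOrth Q hQf).symm_apply_apply g.1)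
      right_inv := fun h => Subtype.ext ((toOrth Q hQf).apply_symm_apply h.1)
      map_mul' := fun g g' => Subtype.ext (map_mul (toOrth Q hQf) g.1 g'.1) }

end Bridge

/-- Sums of hyperbolic pairs. -/
def uPlus (m : ℕ) (i : Fin m) : Fin m ⊕ Fin m → F :=
  Pi.single (Sum.inl i) 1 + Pi.single (Sum.inr i) 1

/-- Singular basis vectors. -/
def ePlus (m : ℕ) (i : Fin m) : Fin m ⊕ Fin m → F := Pi.single (Sum.inl i) 1

theorem uPlus_indep (m : ℕ) : LinearIndependent F (uPlus (F := F) m) := by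
  rw [Fintype.linearIndependent_iff]
  intro g hg i
  simpa [uPlus, Finset.sum_apply, Pi.single_apply, Finset.sum_ite_eq] using congrFun hg (Sum.inl i)

theorem ePlus_indep (m : ℕ) : LinearIndependent F (ePlus (F := F) m) := by
  rw [Fintype.linearIndependent_iff]
  intro g hg i
  simpa [ePlus, Finset.sum_apply, Pi.single_apply, Finset.sum_ite_eq] using congrFun hg (Sum.inl i)

theorem plus_data (m : ℕ) :
    (∀ i j, polar (plusForm F m) (uPlus m i) (uPlus m j) = 0) ∧
    (∀ i, plusForm F m (uPlus m i) = 1) ∧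
    (∀ i j, polar (plusForm F m) (ePlus m i) (ePlus m j) = 0) ∧
    (∀ i, plusForm F m (ePlus m i) = 0) := by
  refine ⟨fun i j => ?_, fun i => ?_, fun i j => ?_, fun i => ?_⟩
  · simp [plusForm_polar, uPlus, Pi.single_apply, CharTwo.add_self_eq_zero]
  · simp [← plusForm_apply, Cfsg.quadFormPlus, uPlus, Pi.single_apply]
  · simp [plusForm_polar, ePlus, Pi.single_apply]
  · simp [← plusForm_apply, Cfsg.quadFormPlus, ePlus, Pi.single_apply]

theorem plus_sing (m : ℕ) (U : Submodule F (Fin m ⊕ Fin m → F)) (hU : ∀ u ∈ U, plusForm F m u = 0) :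
    finrank F U ≤ m := by
  have h := singular_finrank_le (plusForm_nondeg (F := F) m) U hU
  rw [Module.finrank_fintype_fun_eq_card, Fintype.card_sum, Fintype.card_fin] at h
  omega

theorem card_orth_plus (m : ℕ) :
    Nat.card (InvClasses ↥(Cfsg.isometryGroup F (Cfsg.quadFormPlus m F))) = m + m / 2 := by
  obtain ⟨d1, d2, d3, d4⟩ := plus_data (F := F) m
  rw [card_invClasses_congr (toOrth (plusForm F m) (plusForm_apply m))]
  exact card_orth (plusForm_nondeg m) (by simp [two_mul]) (plus_sing m) _ (uPlus_indep m) d1 d2 _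
    (ePlus_indep m) d3 d4

theorem card_omega_plus {m : ℕ} (hm : 1 ≤ m) (h : Fintype.card F ≠ 2 ∨ m ≠ 2) :
    Nat.card (InvClasses ↥(Cfsg.Omega F (Cfsg.quadFormPlus m F))) =
      2 * (m / 2) + if Even m then 1 else 0 := by
  obtain ⟨d1, d2, d3, d4⟩ := plus_data (F := F) m
  have hV : finrank F (Fin m ⊕ Fin m → F) = 2 * m := by simp [two_mul]
  rw [card_omega_congr (plusForm F m) (plusForm_apply m),
    card_omega (plusForm_nondeg m) (good_of (h.imp_right fun hm2 => by rw [hV]; omega)) hV le_rfl hm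
      (plus_sing m) _ (uPlus_indep m) d1 d2 _ (ePlus_indep m) d3 d4]
  simp [two_mul]

/-- Sums of hyperbolic pairs and a norm-one anisotropic vector. -/
def uMinus (n : ℕ) : Fin (n + 1) → ((Fin n ⊕ Fin n) ⊕ Fin 2 → F) :=
  Fin.lastCases (Pi.single (Sum.inr 0) 1) fun i =>
    Pi.single (Sum.inl (Sum.inl i)) 1 + Pi.single (Sum.inl (Sum.inr i)) 1

/-- Singular basis vectors. -/
def eMinus (n : ℕ) (i : Fin n) : (Fin n ⊕ Fin n) ⊕ Fin 2 → F := Pi.single (Sum.inl (Sum.inl i)) 1

theorem uMinus_indep (n : ℕ) : LinearIndependent F (uMinus (F := F) n) := by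
  rw [Fintype.linearIndependent_iff]
  intro g hg i
  rw [Fin.sum_univ_castSucc] at hg
  cases i using Fin.lastCases with
  | last =>
    simpa [uMinus, Finset.sum_apply, Pi.single_apply, Finset.sum_ite_eq] using congrFun hg (Sum.inr 0)
  | cast i =>
    simpa [uMinus, Finset.sum_apply, Pi.single_apply, Finset.sum_ite_eq]
      using congrFun hg (Sum.inl (Sum.inl i))

theorem eMinus_indep (n : ℕ) : LinearIndependent F (eMinus (F := F) n) := by
  rw [Fintype.linearIndependent_iff]
  intro g hg i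
  simpa [eMinus, Finset.sum_apply, Pi.single_apply, Finset.sum_ite_eq]
    using congrFun hg (Sum.inl (Sum.inl i))

theorem minus_data (n : ℕ) (a b : F) :
    (∀ i j, polar (minusForm F n a b) (uMinus n i) (uMinus n j) = 0) ∧
    (∀ i, minusForm F n a b (uMinus n i) = 1) ∧
    (∀ i j, polar (minusForm F n a b) (eMinus n i) (eMinus n j) = 0) ∧
    (∀ i, minusForm F n a b (eMinus n i) = 0) := by
  refine ⟨fun i j => ?_, fun i => ?_, fun i j => ?_, fun i => ?_⟩
  · cases i using Fin.lastCases <;> cases j using Fin.lastCases <;>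
      simp [minusForm_polar, uMinus, Pi.single_apply, CharTwo.add_self_eq_zero, CharTwo.two_eq_zero]
  · cases i using Fin.lastCases <;>
      simp [← minusForm_apply, Cfsg.quadFormMinus, uMinus, Pi.single_apply]
  · simp [minusForm_polar, eMinus, Pi.single_apply]
  · simp [← minusForm_apply, Cfsg.quadFormMinus, eMinus, Pi.single_apply]

theorem minus_dim (n : ℕ) : finrank F ((Fin n ⊕ Fin n) ⊕ Fin 2 → F) = 2 * (n + 1) := by
  rw [Module.finrank_fintype_fun_eq_card]; simp; omega

theorem card_orth_minus {m : ℕ} (hm : 1 ≤ m) {a b : F}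
    (hab : ∀ z₁ z₂ : F, z₁ ^ 2 + a * z₁ * z₂ + b * z₂ ^ 2 = 0 → z₁ = 0 ∧ z₂ = 0) :
    Nat.card (InvClasses ↥(Cfsg.isometryGroup F (Cfsg.quadFormMinus (m - 1) F a b))) =
      m + (m - 1) / 2 := by
  obtain ⟨n, rfl⟩ : ∃ n, m = n + 1 := ⟨m - 1, by omega⟩
  rw [show n + 1 - 1 = n by omega]
  obtain ⟨d1, d2, d3, d4⟩ := minus_data n a b
  rw [card_invClasses_congr (toOrth (minusForm F n a b) (minusForm_apply n a b))]
  exact card_orth (minusForm_nondeg n a b hab) (minus_dim n)
    (fun U hU => minus_singular_finrank_le hab U hU) _ (uMinus_indep n) d1 d2 _ (eMinus_indep n) d3 d4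

omit [Fintype F] [CharP F 2] in
/-- The exceptional group `O⁻₄(2)`. -/
theorem card_omega_minus_four_two [Fintype F] {a b : F} (hF : Fintype.card F = 2)
    (hab : ∀ z₁ z₂ : F, z₁ ^ 2 + a * z₁ * z₂ + b * z₂ ^ 2 = 0 → z₁ = 0 ∧ z₂ = 0) :
    Nat.card (InvClasses ↥(Cfsg.Omega F (Cfsg.quadFormMinus 1 F a b))) = 1 := by
  let φ : ZMod 2 ≃+* F := ZMod.ringEquivOfPrime F Nat.prime_two hF
  have key : ∀ a b : ZMod 2, (∀ z₁ z₂ : ZMod 2, z₁ ^ 2 + a * z₁ * z₂ + b * z₂ ^ 2 = 0 →
      z₁ = 0 ∧ z₂ = 0) → a = 1 ∧ b = 1 := by decide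
  obtain ⟨a, rfl⟩ := φ.surjective a
  obtain ⟨b, rfl⟩ := φ.surjective b
  obtain ⟨rfl, rfl⟩ := key a b fun z w h => by
    obtain ⟨h1, h2⟩ := hab (φ z) (φ w) (by
      simpa only [map_add, map_mul, map_pow, map_zero] using congrArg φ h)
    exact ⟨φ.injective (h1.trans (map_zero φ).symm), φ.injective (h2.trans (map_zero φ).symm)⟩
  rw [map_one]
  obtain ⟨e⟩ := Cfsg.Agent.S0824.result hF
  have hmap : (Cfsg.Omega F (Cfsg.quadFormMinus 1 F 1 1)).map e.toMonoidHom =
      alternatingGroup (Fin 5) := by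
    rw [← alternatingGroup.commutator_perm_eq (α := Fin 5) (by simp)]
    show (commutator _).map e.toMonoidHom = _
    rw [commutator_def, commutator_def, Subgroup.map_commutator, Subgroup.map_top_of_surjective _ e.surjective]
  rw [card_invClasses_congr ((e.subgroupMap _).trans (MulEquiv.subgroupCongr hmap))]
  let t : alternatingGroup (Fin 5) := ⟨Equiv.swap 0 1 * Equiv.swap 2 3, by
    rw [Equiv.Perm.mem_alternatingGroup]; decide⟩
  rw [card_invClasses (J := Unit) (fun _ => t) (fun _ => orderOf_eq_prime (by decide) (by decide))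
    (fun _ _ _ => rfl)]
  · simp
  · intro g hg
    refine ⟨(), isConj_iff.2 ?_⟩
    have h2 : g ^ 2 = 1 := hg ▸ pow_orderOf_eq_one g
    have h1 : g ≠ 1 := fun h => by simp [h] at hg
    revert g
    have H : ∀ g : alternatingGroup (Fin 5), g ^ 2 = 1 → g ≠ 1 → ∃ c, c * t * c⁻¹ = g := by decide +kernel
    exact fun g _ h2 h1 => H g h2 h1

theorem card_omega_minus {m : ℕ} (hm : 1 ≤ m) {a b : F}
    (hab : ∀ z₁ z₂ : F, z₁ ^ 2 + a * z₁ * z₂ + b * z₂ ^ 2 = 0 → z₁ = 0 ∧ z₂ = 0) :
    Nat.card (InvClasses ↥(Cfsg.Omega F (Cfsg.quadFormMinus (m - 1) F a b))) =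
      m / 2 + (m - 1) / 2 := by
  obtain ⟨n, rfl⟩ : ∃ n, m = n + 1 := ⟨m - 1, by omega⟩
  rw [show n + 1 - 1 = n by omega]
  by_cases h : Fintype.card F = 2 ∧ n = 1
  · obtain ⟨h2, rfl⟩ := h
    rw [card_omega_minus_four_two h2 hab]
  obtain ⟨d1, d2, d3, d4⟩ := minus_data n a b
  have hV := minus_dim (F := F) n
  rw [card_omega_congr (minusForm F n a b) (minusForm_apply n a b),
    card_omega (minusForm_nondeg n a b hab)
      (good_of ((not_and_or.1 h).imp_right fun hn => by rw [hV]; omega)) hV (Nat.le_succ n) (by omega)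
      (fun U hU => minus_singular_finrank_le hab U hU) _ (uMinus_indep n) d1 d2 _ (eMinus_indep n) d3 d4]
  simp

end CfsgLib.OrthInvolutionCount
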