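import Cfsg.Agent.Lib.KnownA.SympCentralizer
import Cfsg.Agent.Lib.KnownA.OrthInvolutionCountStd

/-!
Centraliser orders of involutions in orthogonal groups in characteristic two, obtained from the
symplectic ones by counting the quadratic forms with the given polarisation fixed by the involution.
-/

set_option autoImplicit false
set_option linter.unusedSectionVars false

namespace CfsgLib.OrthCentralizer

open Module QuadraticMap CfsgLib.Orth CfsgLib.KnownA.OrthInvolutions

variable {F V : Type*} [Field F] [Fintype F] [CharP F 2] [AddCommGroup V] [Module F V]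
  [FiniteDimensional F V]

/-- The image of `z ↦ z² + z`. -/
def AS (e : F) : Prop := ∃ z : F, z ^ 2 + z = e

theorem exists_not_AS : ∃ e : F, ¬ AS e := by
  by_contra h
  push Not at h
  have hs : Function.Surjective fun z : F => z ^ 2 + z := h
  have := (Finite.injective_iff_surjective.2 hs) (a₁ := 0) (a₂ := 1)
    (by simp [CharTwo.add_self_eq_zero])
  exact zero_ne_one this

theorem AS_add_iff {e₀ : F} (he : ¬ AS e₀) (a : F) : AS (a + e₀) ↔ ¬ AS a := by
  classical
  let φ : F →+ F := AddMonoidHom.mk' (fun z => z ^ 2 + z) (fun a b => by rw [add_pow_char]; ring)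
  have hmem : ∀ e, e ∈ φ.range ↔ AS e := fun e => Iff.rfl
  have hker : Nat.card φ.ker ≤ 2 := by
    have hsub : (φ.ker : Set F) ⊆ ({0, 1} : Finset F) := fun a ha => by
      have ha' : a * (a + 1) = 0 := by
        have : a ^ 2 + a = 0 := ha
        linear_combination this
      rcases mul_eq_zero.1 ha' with h | h
      · simp [h]
      · simp [eq_neg_of_add_eq_zero_left h, CharTwo.neg_eq]
    have := Set.ncard_le_ncard hsub
    rw [Set.ncard_coe_finset, Finset.card_pair zero_ne_one] at this
    rwa [← Nat.card_coe_set_eq] at this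
  have hidx : φ.range.index = 2 := by
    have h1 := AddSubgroup.card_eq_card_quotient_mul_card_addSubgroup φ.ker
    rw [Nat.card_congr (QuotientAddGroup.quotientKerEquivRange φ).toEquiv] at h1
    have h2 := φ.range.index_mul_card
    have h3 : φ.range.index ≠ 1 := fun h => he ((hmem _).1 (by
      rw [AddSubgroup.index_eq_one.1 h]; trivial))
    have h4 : φ.range.index ≠ 0 := AddSubgroup.index_ne_zero_of_finite
    have hpos : 0 < Nat.card φ.range := Nat.card_pos
    have : φ.range.index ≤ 2 := by nlinarith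
    omega
  rw [← hmem, ← hmem, AddSubgroup.add_mem_iff_of_index_two hidx, hmem, hmem]
  exact ⟨fun h ha => he (h.1 ha), fun h => iff_of_false h he⟩

variable (Q : QuadraticForm F V)

/-- The transvection carrying `Q` to `Q + B(·, a)²`. -/
def tvMap (a : V) (c : F) : V →ₗ[F] V :=
  LinearMap.id + c • ((polarBilin Q a).smulRight a)

theorem tvMap_apply (a : V) (c : F) (x : V) : tvMap Q a c x = x + (c * polar Q a x) • a := by
  simp [tvMap, smul_smul]

theorem tvMap_involutive (a : V) (c : F) : Function.Involutive (tvMap Q a c) := fun x => by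
  rw [tvMap_apply, tvMap_apply, polar_add_right, polar_smul_r', polar_self', CharTwo.two_eq_zero,
    zero_mul, mul_zero, add_zero, add_assoc, ← add_smul, CharTwo.add_self_eq_zero, zero_smul, add_zero]

variable {Q}
variable (hQ : (QuadraticMap.polarBilin Q).Nondegenerate) {t : orthGroup Q}

include hQ

theorem good_nil (ht : t * t = 1) : SympCentralizer.Good (polarBilin Q) (nil Q t) :=
  ⟨fun v => by rw [polarBilin_apply_apply, polar_self', CharTwo.two_eq_zero, zero_mul], hQ, nil_nil ht,
    fun x y => nil_adj ht x y⟩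

omit hQ in
theorem altN_iff (ht : t * t = 1) :
    SympCentralizer.AltN (polarBilin Q) (nil Q t) ↔ Alt Q t :=
  forall_congr' fun v => by rw [quad_nil ht, polarBilin_apply_apply]

theorem orth_self {W : Submodule F V} (hW : ∀ x ∈ W, ∀ y ∈ W, polar Q x y = 0)
    (hd : finrank F V = 2 * finrank F W) : LinearMap.BilinForm.orthogonal (polarBilin Q) W = W :=
  (Submodule.eq_of_le_of_finrank_eq
    (show W ≤ LinearMap.BilinForm.orthogonal (polarBilin Q) W from fun x hx l hl => hW l hl x hx)
    (by rw [LinearMap.BilinForm.finrank_orthogonal hQ]; omega)).symm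

/-- A symplectic map changes the quadratic form by a square of a linear form. -/
theorem exists_shift (g : V →ₗ[F] V) (hg : ∀ x y, polar Q (g x) (g y) = polar Q x y) :
    ∃ a, ∀ x, Q (g x) = Q x + polar Q a x ^ 2 := by
  let rt := (frobeniusEquiv F 2).symm
  let φ : V →ₗ[F] F :=
    { toFun := fun x => rt (Q (g x) + Q x)
      map_add' := fun x y => by
        rw [← map_add rt]; congr 1
        rw [map_add g, quad_add', quad_add', hg]
        linear_combination CharTwo.add_self_eq_zero (polar Q x y)
      map_smul' := fun c x => by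
        simp only [map_smul, quad_smul', RingHom.id_apply, smul_eq_mul, ← mul_add, map_mul]
        congr 1
        rw [← map_mul, ← _root_.sq, ← frobenius_def 2 c, ← frobeniusEquiv_apply,
          RingEquiv.symm_apply_apply] }
  obtain ⟨a, ha⟩ := exists_polar_eq hQ φ
  refine ⟨a, fun x => ?_⟩
  rw [ha, show φ x = rt (Q (g x) + Q x) from rfl, ← frobenius_def, ← frobeniusEquiv_apply,
    RingEquiv.apply_symm_apply]
  linear_combination (-Q x) * (CharTwo.two_eq_zero (R := F))

/-- The new form is not of plus type unless `Q a` is an Artin–Schreier value. -/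
theorem AS_of_iso {L : Submodule F V} (hL : IsLagrangian Q L) {a : V} (g : V ≃ₗ[F] V)
    (hg : ∀ x, Q (g x) = Q x + polar Q a x ^ 2) : AS (Q a) := by
  by_contra hAS
  have hLdim := finrank_of_isLagrangian hQ hL
  have hpol : ∀ x y, polar Q (g x) (g y) = polar Q x y := fun x y => by
    rw [show polar Q (g x) (g y) = Q (g (x + y)) - Q (g x) - Q (g y) by rw [map_add]; rfl,
      hg, hg, hg, polar_add_right, quad_add']
    linear_combination (polar Q a x * polar Q a y) * (CharTwo.two_eq_zero (R := F))
  let L' := L.comap (g : V →ₗ[F] V)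
  have hL'0 : ∀ l ∈ L', Q l + polar Q a l ^ 2 = 0 := fun l hl => by rw [← hg]; exact hL.1 _ hl
  have hL'd : finrank F L' = finrank F L := by
    rw [show L' = L.map (g.symm : V →ₗ[F] V) from Submodule.comap_equiv_eq_map_symm g L,
      LinearEquiv.finrank_map_eq]
  have hL'p : ∀ x ∈ L', ∀ y ∈ L', polar Q x y = 0 := fun x hx y hy => by
    rw [← hpol]
    have hx' : g x ∈ L := hx
    have hy' : g y ∈ L := hy
    simp [QuadraticMap.polar, hL.1 _ hx', hL.1 _ hy', hL.1 _ (L.add_mem hx' hy')]
  let B := polarBilin Q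
  have hrefl : B.IsRefl := fun x y h => by
    rw [polarBilin_apply_apply, polar_comm]; exact h
  by_cases hK : ∀ l ∈ L', polar Q a l = 0
  · have : a ∈ LinearMap.BilinForm.orthogonal B L' := fun l hl => by
      show polar Q l a = 0; rw [polar_comm]; exact hK l hl
    rw [orth_self hQ hL'p (by omega)] at this
    have h0 := hL'0 a this
    rw [hK a this] at h0
    exact hAS ⟨0, by linear_combination -h0⟩
  push Not at hK
  obtain ⟨x, hx, hax⟩ := hK
  let K := L' ⊓ LinearMap.ker (polarBilin Q a)
  have hK0 : ∀ z ∈ K, Q z = 0 := fun z hz => by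
    have h1 : polar Q a z = 0 := hz.2
    simpa [h1] using hL'0 z hz.1
  let x₁ := (polar Q a x)⁻¹ • x
  have hx₁ : x₁ ∈ L' := L'.smul_mem _ hx
  have hax₁ : polar Q a x₁ = 1 := by rw [polar_smul_r', inv_mul_cancel₀ hax]
  have hQx₁ : Q x₁ = 1 := by
    have := hL'0 x₁ hx₁
    rw [hax₁, one_pow] at this
    exact CharTwo.add_eq_zero.1 this
  clear_value x₁
  have hkd : finrank F K + 1 = finrank F L := by
    rw [← hL'd]
    have h := LinearMap.finrank_range_add_finrank_ker ((polarBilin Q a).comp L'.subtype)
    have hr : LinearMap.range ((polarBilin Q a).comp L'.subtype) = ⊤ :=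
      LinearMap.range_eq_top.2 (LinearMap.surjective fun h0 => one_ne_zero
        (hax₁.symm.trans (LinearMap.congr_fun h0 ⟨x₁, hx₁⟩)))
    rw [hr, finrank_top, finrank_self] at h
    have he : finrank F (LinearMap.ker ((polarBilin Q a).comp L'.subtype)) = finrank F K := by
      refine ((Submodule.equivMapOfInjective L'.subtype L'.injective_subtype _).finrank_eq).trans ?_
      rw [LinearMap.ker_comp, Submodule.map_comap_subtype]
    omega
  -- `L ⊓ Kᗮ ≤ K`
  have hle : L ⊓ LinearMap.BilinForm.orthogonal B K ≤ L ⊓ K := by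
    rintro l ⟨hlL, hlK⟩
    refine ⟨hlL, ?_⟩
    set α := polar Q a l
    set β := polar Q x₁ l
    let k := l - α • x₁ - β • a
    have hxa : polar Q x₁ a = 1 := by rw [polar_comm]; exact hax₁
    have hkK' : k ∈ LinearMap.BilinForm.orthogonal B L' := fun z hz => by
      show polar Q z k = 0
      have hz' : z = (z - polar Q a z • x₁) + polar Q a z • x₁ := by abel
      have hzK : z - polar Q a z • x₁ ∈ K := ⟨L'.sub_mem hz (L'.smul_mem _ hx₁), by
        show polar Q a (z - polar Q a z • x₁) = 0
        rw [polar_sub_right, polar_smul_r', hax₁, mul_one, sub_self]⟩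
      have e1 : polar Q (z - polar Q a z • x₁) k = 0 := by
        simp only [k, polar_sub_right, polar_smul_r']
        rw [show polar Q (z - polar Q a z • x₁) l = 0 from hlK _ hzK,
          hL'p _ hzK.1 _ hx₁, polar_comm _ _ a,
          show polar Q a (z - polar Q a z • x₁) = 0 from hzK.2]
        ring
      have e2 : polar Q x₁ k = 0 := by
        simp only [k, polar_sub_right, polar_smul_r', hxa]
        rw [hL'p _ hx₁ _ hx₁]
        show β - α * 0 - β * 1 = 0
        ring
      rw [hz', polar_add_left, polar_smul_l', e1, e2]; ring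
    rw [orth_self hQ hL'p (by omega)] at hkK'
    have hka : polar Q a k = 0 := by
      simp only [k, polar_sub_right, polar_smul_r', hax₁, polar_self', CharTwo.two_eq_zero]
      ring
    have hkk : k ∈ K := ⟨hkK', hka⟩
    have hl : l = k + (α • x₁ + β • a) := by simp only [k]; abel
    have h0 : α ^ 2 + α * β + β ^ 2 * Q a = 0 := by
      have h1 := hL.1 _ hlL
      have hka' : polar Q k a = 0 := by rw [polar_comm]; exact hka
      rw [hl, quad_add', quad_add', quad_smul', quad_smul', hQx₁, hK0 k hkk, polar_add_right] at h1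
      simp only [polar_smul_r', polar_smul_l', hL'p k hkK' x₁ hx₁, hka', hxa] at h1
      linear_combination h1
    by_cases hβ : β = 0
    · have hα : α = 0 := by simpa [hβ] using h0
      rw [hl, hα, hβ]; simpa using hkk
    · exfalso
      exact hAS ⟨α / β, by
        field_simp
        linear_combination h0 - β ^ 2 * Q a * (CharTwo.two_eq_zero (R := F))⟩
  have h1 : LinearMap.BilinForm.orthogonal B L = L :=
    orth_self hQ (fun x hx y hy => by
      simp [QuadraticMap.polar, hL.1 _ hx, hL.1 _ hy, hL.1 _ (L.add_mem hx hy)]) hLdim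
  have h2 : L ⊓ LinearMap.BilinForm.orthogonal B K = LinearMap.BilinForm.orthogonal B (L ⊔ K) := by
    conv_lhs => rw [← h1]
    refine le_antisymm ?_ (le_inf (LinearMap.BilinForm.orthogonal_le le_sup_left)
      (LinearMap.BilinForm.orthogonal_le le_sup_right))
    rintro z ⟨z1, z2⟩ w hw
    obtain ⟨u, hu, v, hv, rfl⟩ := Submodule.mem_sup.1 hw
    show polar Q (u + v) z = 0
    rw [polar_add_left, show polar Q u z = 0 from z1 u hu, show polar Q v z = 0 from z2 v hv, add_zero]
  have h3 := Submodule.finrank_mono hle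
  rw [h2, LinearMap.BilinForm.finrank_orthogonal hQ] at h3
  have h4 := Submodule.finrank_sup_add_finrank_inf_eq L K
  have h5 := Submodule.finrank_le (L ⊔ K)
  omega

/-- The symplectic centraliser fibres over the admissible vectors. -/
theorem card_cent_eq (ht : t * t = 1) {L : Submodule F V} (hL : IsLagrangian Q L) :
    Nat.card (SympCentralizer.Cent (polarBilin Q) (nil Q t)) =
      Nat.card {a : V // nil Q t a = 0 ∧ AS (Q a)} * Nat.card {h : orthGroup Q // h * t = t * h} := by
  classical
  have hc : ∀ a : V, AS (Q a) → ∃ c : F, c + c * c * Q a = 1 := fun a ⟨z, hz⟩ => by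
    by_cases h0 : Q a = 0
    · exact ⟨1, by simp [h0]⟩
    · exact ⟨z / Q a, by field_simp; linear_combination hz⟩
  choose c hc using hc
  let T : {a : V // nil Q t a = 0 ∧ AS (Q a)} → V ≃ₗ[F] V := fun a =>
    LinearEquiv.ofInvolutive (tvMap Q a.1 (c a.1 a.2.2)) (tvMap_involutive Q _ _)
  have hT : ∀ a x, (T a) x = x + (c a.1 a.2.2 * polar Q a.1 x) • a.1 := fun a x => tvMap_apply Q _ _ x
  have hTQ : ∀ a x, Q (T a x) = Q x + polar Q a.1 x ^ 2 := fun a x => by
    rw [hT, quad_add', quad_smul', polar_smul_r', polar_comm _ x]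
    linear_combination (polar Q a.1 x ^ 2) * hc a.1 a.2.2
  have hTB : ∀ a x y, polar Q (T a x) (T a y) = polar Q x y := fun a x y => by
    rw [show polar Q (T a x) (T a y) = Q (T a (x + y)) - Q (T a x) - Q (T a y) by rw [map_add]; rfl,
      hTQ, hTQ, hTQ, polar_add_right, quad_add']
    linear_combination (polar Q a.1 x * polar Q a.1 y) * (CharTwo.two_eq_zero (R := F))
  have hTN : ∀ a x, T a (nil Q t x) = nil Q t (T a x) := fun a x => by
    have : polar Q a.1 (nil Q t x) = 0 := by
      rw [polar_comm]
      show (polarForm Q).B (nil Q t x) a.1 = 0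
      rw [nil_adj ht, a.2.1]; exact polar_zero_right (Q := Q) _
    rw [hT, hT, map_add, map_smul, this]; simp [a.2.1]
  have hcomm : ∀ h : orthGroup Q, h * t = t * h → ∀ x, h.1 (nil Q t x) = nil Q t (h.1 x) := fun h hh x =>
    OrthInvolutionCount.nil_conj (mul_inv_eq_iff_eq_mul.2 hh) x
  let Φ : {a : V // nil Q t a = 0 ∧ AS (Q a)} × {h : orthGroup Q // h * t = t * h} →
      SympCentralizer.Cent (polarBilin Q) (nil Q t) := fun p => ⟨(T p.1).trans p.2.1.1, fun x y => by
        show polar Q (p.2.1.1 (T p.1 x)) (p.2.1.1 (T p.1 y)) = polar Q x y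
        rw [polar_isom, hTB], fun x => by
        show p.2.1.1 (T p.1 (nil Q t x)) = nil Q t (p.2.1.1 (T p.1 x))
        rw [hTN, hcomm _ p.2.2]⟩
  have hΦ : ∀ p x, Q ((Φ p).1 x) = Q x + polar Q p.1.1 x ^ 2 := fun p x => by
    show Q (p.2.1.1 (T p.1 x)) = _
    rw [apply_quad, hTQ]
  have hbij : Function.Bijective Φ := by
    constructor
    · intro p p' e
      have he : p.1 = p'.1 := Subtype.ext (sub_eq_zero.1 (eq_zero_of_polar hQ fun x => by
        rw [polar_sub_left, sub_eq_zero]
        have h1 := (hΦ p x).symm.trans ((congrArg (fun g => Q (g.1 x)) e).trans (hΦ p' x))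
        exact frobenius_inj F 2 (by simp only [frobenius_def]; exact add_left_cancel h1)))
      refine Prod.ext he (Subtype.ext (Subtype.ext (LinearEquiv.ext fun y => ?_)))
      obtain ⟨x, rfl⟩ := (T p.1).surjective y
      have := LinearEquiv.congr_fun (congrArg Subtype.val e) x
      show p.2.1.1 (T p.1 x) = p'.2.1.1 (T p.1 x)
      conv_rhs => rw [he]
      exact this
    · intro g
      obtain ⟨a, ha⟩ := exists_shift hQ (g.1 : V →ₗ[F] V) g.2.1
      have hna : nil Q t a = 0 := eq_zero_of_polar hQ fun x => by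
        show (polarForm Q).B (nil Q t a) x = 0
        rw [nil_adj ht]
        show polar Q a (nil Q t x) = 0
        have h1 : Q (g.1 (t.1 x)) = Q (g.1 x) := by
          rw [apply_eq Q t x, map_add, g.2.2, ← apply_eq Q t, apply_quad]
        rw [show Q (g.1 (t.1 x)) = Q (t.1 x) + polar Q a (t.1 x) ^ 2 from ha _,
          show Q (g.1 x) = Q x + polar Q a x ^ 2 from ha _, apply_quad, add_right_inj] at h1
        have h2 := frobenius_inj F 2 (by simpa only [frobenius_def] using h1 :
          frobenius F 2 (polar Q a (t.1 x)) = frobenius F 2 (polar Q a x))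
        rw [apply_eq Q t x, polar_add_right] at h2
        simpa using h2
      let a' : {a : V // nil Q t a = 0 ∧ AS (Q a)} := ⟨a, hna, AS_of_iso hQ hL g.1 ha⟩
      let h : orthGroup Q := ⟨(T a').trans g.1, fun x => by
        show Q (g.1 (T a' x)) = Q x
        rw [show Q (g.1 (T a' x)) = Q (T a' x) + polar Q a (T a' x) ^ 2 from ha _, ← hTQ a',
          show T a' (T a' x) = x from tvMap_involutive Q _ _ x]⟩
      refine ⟨(a', ⟨h, Subtype.ext (LinearEquiv.ext fun x => ?_)⟩), Subtype.ext (LinearEquiv.ext fun x => ?_)⟩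
      · show g.1 (T a' (t.1 x)) = t.1 (g.1 (T a' x))
        rw [apply_eq Q t, apply_eq Q t, map_add, map_add, hTN, g.2.2]
      · show g.1 (T a' (T a' x)) = g.1 x
        rw [show T a' (T a' x) = x from tvMap_involutive Q _ _ x]
  rw [← Nat.card_congr (Equiv.ofBijective Φ hbij), Nat.card_prod]

theorem count_nonalt (ht : t * t = 1) (ha : ¬ Alt Q t) :
    2 * Nat.card {a : V // nil Q t a = 0 ∧ AS (Q a)} = Nat.card (LinearMap.ker (nil Q t)) := by
  classical
  have : Finite V := Module.finite_of_finite F
  obtain ⟨e₀, he₀⟩ := exists_not_AS (F := F)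
  obtain ⟨v, hv⟩ := not_forall.1 ha
  let c := (frobeniusEquiv F 2).symm (e₀ / Q (nil Q t v))
  have hc : c * c * Q (nil Q t v) = e₀ := by
    rw [← _root_.sq, ← frobenius_def, ← frobeniusEquiv_apply, RingEquiv.apply_symm_apply, div_mul_cancel₀ _ hv]
  let d := c • nil Q t v
  have key : ∀ z, nil Q t z = 0 → nil Q t (z + d) = 0 ∧ (AS (Q (z + d)) ↔ ¬ AS (Q z)) := fun z hz => by
    refine ⟨by rw [map_add, hz, map_smul, nil_nil ht, smul_zero, add_zero], ?_⟩
    have h1 : polar Q z (nil Q t v) = 0 := by
      show (polarForm Q).B z (nil Q t v) = 0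
      rw [← nil_adj ht, hz]; exact (polarForm Q).zero_left _
    rw [quad_add', quad_smul', polar_smul_r', h1, mul_zero, add_zero, hc, AS_add_iff he₀]
  have hdd : ∀ z : V, z + d + d = z := fun z => by
    rw [add_assoc, ← two_smul F d, CharTwo.two_eq_zero, zero_smul, add_zero]
  let e : {a : V // nil Q t a = 0 ∧ AS (Q a)} × Bool ≃ LinearMap.ker (nil Q t) :=
    { toFun := fun p => if p.2 then ⟨p.1.1 + d, (key _ p.1.2.1).1⟩ else ⟨p.1.1, p.1.2.1⟩
      invFun := fun z => if h : AS (Q z.1) then (⟨z.1, z.2, h⟩, false)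
        else (⟨z.1 + d, (key _ z.2).1, (key _ z.2).2.2 h⟩, true)
      left_inv := fun ⟨⟨z, hz, hA⟩, b⟩ => by
        cases b
        · simp [hA]
        · have : ¬ AS (Q (z + d)) := fun h => (key z hz).2.1 h hA
          simp [this, hdd]
      right_inv := fun z => by
        by_cases h : AS (Q z.1)
        · simp [h]
        · simp [h, hdd] }
  rw [← Nat.card_congr e, Nat.card_prod, Nat.card_eq_fintype_card (α := Bool), Fintype.card_bool, mul_comm]

theorem count_alt (ht : t * t = 1) {L : Submodule F V} (hL : IsLagrangian Q L)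
    (hR : LinearMap.range (nil Q t) ≤ L) :
    2 * Nat.card {a : V // nil Q t a = 0 ∧ AS (Q a)} =
      Nat.card (LinearMap.ker (nil Q t)) + Nat.card L := by
  classical
  have : Finite V := Module.finite_of_finite F
  obtain ⟨e₀, he₀⟩ := exists_not_AS (F := F)
  have hLp : ∀ x ∈ L, ∀ y ∈ L, polar Q x y = 0 := fun x hx y hy => by
    simp [QuadraticMap.polar, hL.1 _ hx, hL.1 _ hy, hL.1 _ (L.add_mem hx hy)]
  have hLdim := finrank_of_isLagrangian hQ hL
  have hLo : LinearMap.BilinForm.orthogonal (polarBilin Q) L = L := orth_self hQ hLp hLdim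
  have hLK : L ≤ LinearMap.ker (nil Q t) := fun l hl => LinearMap.mem_ker.2 <| eq_zero_of_polar hQ fun x => by
    show (polarForm Q).B (nil Q t l) x = 0
    rw [nil_adj ht]; exact hLp _ hl _ (hR ⟨x, rfl⟩)
  let res : V → (L →ₗ[F] F) := fun z => (polarBilin Q z).comp L.subtype
  have hres0 : ∀ z, res z = 0 → z ∈ L := fun z hz => by
    rw [← hLo]
    intro l hl
    show polar Q l z = 0
    rw [polar_comm]; exact LinearMap.congr_fun hz ⟨l, hl⟩
  have hg : ∀ φ : L →ₗ[F] F, ∃ l : L, φ ≠ 0 → φ l = e₀ := fun φ => by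
    by_cases h : φ = 0
    · exact ⟨0, fun h' => absurd h h'⟩
    · obtain ⟨l, hl⟩ := LinearMap.surjective h e₀
      exact ⟨l, fun _ => hl⟩
  choose g hg using hg
  let P := {z : V // nil Q t z = 0 ∧ z ∉ L}
  let σ : P → P := fun z => ⟨z.1 + g (res z.1), by
      rw [map_add, z.2.1, LinearMap.mem_ker.1 (hLK (g (res z.1)).2), add_zero],
    fun h => z.2.2 (by simpa using L.sub_mem h (g (res z.1)).2)⟩
  have hσ : ∀ z : P, σ (σ z) = z ∧ (AS (Q (σ z).1) ↔ ¬ AS (Q z.1)) := fun z => by
    have hne : res z.1 ≠ 0 := fun h => z.2.2 (hres0 _ h)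
    have hres : res (z.1 + g (res z.1)) = res z.1 := LinearMap.ext fun l => by
      show polar Q (z.1 + g (res z.1)) l = polar Q z.1 l
      rw [polar_add_left, hLp _ (g (res z.1)).2 _ l.2, add_zero]
    refine ⟨Subtype.ext ?_, ?_⟩
    · show z.1 + g (res z.1) + (g (res (z.1 + g (res z.1))) : V) = z.1
      rw [hres, add_assoc, ← two_smul F (g (res z.1) : V), CharTwo.two_eq_zero, zero_smul, add_zero]
    · show AS (Q (z.1 + g (res z.1))) ↔ _
      rw [quad_add', hL.1 _ (g (res z.1)).2, add_zero,
        show polar Q z.1 (g (res z.1)) = e₀ from hg _ hne, AS_add_iff he₀]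
  have h1 : Nat.card P = 2 * Nat.card {z : P // AS (Q z.1)} := by
    let e : {z : P // AS (Q z.1)} × Bool ≃ P :=
      { toFun := fun p => if p.2 then σ p.1.1 else p.1.1
        invFun := fun z => if h : AS (Q z.1) then (⟨z, h⟩, false) else (⟨σ z, (hσ z).2.2 h⟩, true)
        left_inv := fun ⟨⟨z, hA⟩, b⟩ => by
          cases b
          · simp [hA]
          · have : ¬ AS (Q (σ z).1) := fun h => (hσ z).2.1 h hA
            simp [this, (hσ z).1]
        right_inv := fun z => by
          by_cases h : AS (Q z.1)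
          · simp [h]
          · simp [h, (hσ z).1] }
    rw [← Nat.card_congr e, Nat.card_prod, Nat.card_eq_fintype_card (α := Bool), Fintype.card_bool, mul_comm]
  have h2 : Nat.card (LinearMap.ker (nil Q t)) = Nat.card L + Nat.card P := by
    rw [← Nat.card_sum]
    exact Nat.card_congr
      { toFun := fun z => if h : z.1 ∈ L then .inl ⟨z.1, h⟩ else .inr ⟨z.1, z.2, h⟩
        invFun := Sum.elim (fun l => ⟨l.1, hLK l.2⟩) fun z => ⟨z.1, z.2.1⟩
        left_inv := fun z => by by_cases h : z.1 ∈ L <;> simp [h]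
        right_inv := by
          rintro (l | z)
          · simp [l.2]
          · simp [z.2.2] }
  have h3 : Nat.card {a : V // nil Q t a = 0 ∧ AS (Q a)} =
      Nat.card L + Nat.card {z : P // AS (Q z.1)} := by
    rw [← Nat.card_sum]
    exact Nat.card_congr
      { toFun := fun z => if h : z.1 ∈ L then .inl ⟨z.1, h⟩ else .inr ⟨⟨z.1, z.2.1, h⟩, z.2.2⟩
        invFun := Sum.elim (fun l => ⟨l.1, hLK l.2, ⟨0, by simp [hL.1 _ l.2]⟩⟩)
          fun z => ⟨z.1.1, z.1.2.1, z.2⟩
        left_inv := fun z => by by_cases h : z.1 ∈ L <;> simp [h]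
        right_inv := by
          rintro (l | z)
          · simp [l.2]
          · simp [z.1.2.2] }
  omega

/-- Halving by the commutator subgroup. -/
theorem card_comm_of_fixed (h4 : Good F V) {a : V} (ha : nil Q t a = 0) (hqa : Q a ≠ 0) :
    Nat.card {h : orthGroup Q // h * t = t * h} =
      2 * Nat.card {h : orthGroup Q // h ∈ commutator (orthGroup Q) ∧ h * t = t * h} := by
  classical
  obtain ⟨κ, hκ⟩ := exists_dickson Q hQ
  have hmem := mem_commutator_two hQ h4 κ hκ
  let r := refl Q a
  have hrt : r * t = t * r := by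
    have h := conj_refl Q t a
    rw [show t.1 a = a by rw [apply_eq Q t a, ha, add_zero], mul_inv_eq_iff_eq_mul] at h
    exact h.symm
  have hcases : ∀ x : orthGroup Q, κ x = 1 ∨ κ x = Multiplicative.ofAdd 1 := by
    intro x
    have hone : Multiplicative.ofAdd (1 : F) * Multiplicative.ofAdd 1 = 1 := by
      rw [← ofAdd_add, CharTwo.add_self_eq_zero]; rfl
    have hx : x ∈ reflGroup Q := by rw [reflGroup_eq_top hQ h4]; trivial
    induction hx using Subgroup.closure_induction with
    | mem y hy =>
      obtain ⟨b, rfl⟩ := hy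
      by_cases hb : Q b = 0
      · left
        have : refl Q b = 1 := Subtype.ext (LinearEquiv.ext fun v => by rw [refl_apply, hb]; simp)
        rw [this, map_one]
      · right; exact hκ b hb
    | one => left; exact map_one κ
    | mul y z _ _ hy hz => rcases hy with h | h <;> rcases hz with h' | h' <;> simp [h, h', hone]
    | inv y _ hy =>
      rcases hy with h | h
      · left; simp [h]
      · right; rw [map_inv, h, ← ofAdd_neg, CharTwo.neg_eq]
  have hone : Multiplicative.ofAdd (1 : F) * Multiplicative.ofAdd 1 = 1 := by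
    rw [← ofAdd_add, CharTwo.add_self_eq_zero]; rfl
  have hflip : ∀ h : orthGroup Q, r * h ∈ commutator (orthGroup Q) ↔ h ∉ commutator (orthGroup Q) := by
    intro h
    have hne : Multiplicative.ofAdd (1 : F) ≠ 1 := fun e => one_ne_zero (congrArg Multiplicative.toAdd e)
    rw [hmem, hmem, map_mul, hκ a hqa]
    rcases hcases h with e | e
    · simp [e, hne]
    · simp [e, hone, hne]
  let e : {h : orthGroup Q // h ∈ commutator (orthGroup Q) ∧ h * t = t * h} × Bool ≃
      {h : orthGroup Q // h * t = t * h} :=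
    { toFun := fun p => if p.2 then ⟨r * p.1.1, by rw [mul_assoc, p.1.2.2, ← mul_assoc, hrt, mul_assoc]⟩
        else ⟨p.1.1, p.1.2.2⟩
      invFun := fun h => if hh : h.1 ∈ commutator (orthGroup Q) then (⟨h.1, hh, h.2⟩, false)
        else (⟨r * h.1, (hflip _).2 hh, by rw [mul_assoc, h.2, ← mul_assoc, hrt, mul_assoc]⟩, true)
      left_inv := fun ⟨⟨h, hh, hc⟩, b⟩ => by
        cases b
        · simp [hh]
        · have : r * h ∉ commutator (orthGroup Q) := fun h' => (hflip h).1 h' hh
          simp [this, r, ← mul_assoc, refl_mul_self]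
      right_inv := fun h => by
        by_cases hh : h.1 ∈ commutator (orthGroup Q)
        · simp [hh]
        · simp [hh, r, ← mul_assoc, refl_mul_self] }
  rw [← Nat.card_congr e, Nat.card_prod, Nat.card_eq_fintype_card (α := Bool), Fintype.card_bool, mul_comm]

theorem card_comm_of_lagrangian (h4 : Good F V) (hL : IsLagrangian Q (LinearMap.range (nil Q t))) :
    Nat.card {h : orthGroup Q // h * t = t * h} =
      Nat.card {h : orthGroup Q // h ∈ commutator (orthGroup Q) ∧ h * t = t * h} := by
  refine Nat.card_congr (Equiv.subtypeEquivRight fun h => ⟨fun hh => ⟨?_, hh⟩, fun hh => hh.2⟩)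
  rw [mem_commutator_iff_even_two hQ h4 hL,
    OrthInvolutionCount.range_conj (mul_inv_eq_iff_eq_mul.2 hh), lagDist_self]
  exact Even.zero

end CfsgLib.OrthCentralizer
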