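import Cfsg.Agent.Lib.KnownA.OrthCentralizer

/-!
Centraliser orders in `Ω⁺` of involutions, characteristic two.
-/

set_option autoImplicit false
set_option linter.unusedSectionVars false

namespace CfsgLib.OrthCentralizer

open Module QuadraticMap Matrix CfsgLib.Orth CfsgLib.KnownA.OrthInvolutions
open CfsgLib.SympCentralizer (spOrd expo oFac)

variable {F : Type*} [Field F] [Fintype F] [CharP F 2] {m : ℕ}

local notation "Vm" => Fin m ⊕ Fin m → F
local notation "Q" => plusForm F m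

theorem exists_lagrangian (U : Submodule F Vm) (hU : ∀ u ∈ U, Q u = 0) :
    ∃ L : Submodule F Vm, IsLagrangian Q L ∧ U ≤ L := by
  obtain ⟨d1, d2, d3, d4⟩ := OrthInvolutionCount.plus_data (F := F) m
  have hle : finrank F U ≤ m := OrthInvolutionCount.plus_sing m U hU
  let b := Module.finBasis F U
  obtain ⟨g, hg⟩ := witt_family' (plusForm_nondeg (F := F) m) (fun i => (b i : Vm))
    (fun i => OrthInvolutionCount.ePlus m (Fin.castLE hle i))
    (b.linearIndependent.map' U.subtype U.ker_subtype)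
    ((OrthInvolutionCount.ePlus_indep m).comp _ (Fin.castLE_injective hle))
    (fun i => by rw [hU _ (b i).2, d4])
    (fun i j => by
      rw [d3]
      simp [QuadraticMap.polar, hU _ (b i).2, hU _ (b j).2, hU _ (U.add_mem (b i).2 (b j).2)])
  let L₀ := Submodule.span F (Set.range (OrthInvolutionCount.ePlus (F := F) m))
  have hL₀ : IsLagrangian Q L₀ := by
    refine isLagrangian_of_finrank (plusForm_nondeg m) ?_ ?_
    · intro u hu
      obtain ⟨c, rfl⟩ := (Submodule.mem_span_range_iff_exists_fun F).1 hu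
      rw [OrthInvolutionCount.quad_sum _ _ d3]
      simp [d4]
    · rw [finrank_span_eq_card (OrthInvolutionCount.ePlus_indep m), Module.finrank_fintype_fun_eq_card,
        Fintype.card_sum, Fintype.card_fin, two_mul]
  refine ⟨_, isLagrangian_map hL₀ g⁻¹, fun u hu => ⟨g.1 u, ?_, ?_⟩⟩
  · have h1 : (⟨u, hu⟩ : U) = ∑ i, b.repr ⟨u, hu⟩ i • b i := (b.sum_repr _).symm
    have h2 := congrArg (fun z : U => g.1 (z : Vm)) h1
    simp only [AddSubmonoidClass.coe_finset_sum, Submodule.coe_smul, map_sum, map_smul, hg] at h2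
    rw [h2]
    exact Submodule.sum_mem _ fun i _ => Submodule.smul_mem _ _ (Submodule.subset_span ⟨_, rfl⟩)
  · exact g.1.symm_apply_apply u

theorem card_omega_cent (x : ↥(Cfsg.isometryGroup F (Cfsg.quadFormPlus m F))) :
    Nat.card {g : ↥(Cfsg.Omega F (Cfsg.quadFormPlus m F)) //
      (g : ↥(Cfsg.isometryGroup F (Cfsg.quadFormPlus m F))) * x =
        x * (g : ↥(Cfsg.isometryGroup F (Cfsg.quadFormPlus m F)))} =
    Nat.card {h : orthGroup Q // h ∈ commutator (orthGroup Q) ∧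
      h * toOrth Q (plusForm_apply m) x = toOrth Q (plusForm_apply m) x * h} := by
  let e := toOrth Q (plusForm_apply (F := F) m)
  exact Nat.card_congr
    { toFun := fun g => ⟨e g.1.1, (mem_Omega_iff Q (plusForm_apply m) g.1.1).1 g.1.2,
        (map_mul e _ _).symm.trans ((congrArg e g.2).trans (map_mul e _ _))⟩
      invFun := fun h => ⟨⟨e.symm h.1, (mem_Omega_iff Q (plusForm_apply m) _).2 (by
        show e (e.symm h.1) ∈ _
        rw [e.apply_symm_apply]; exact h.2.1)⟩, e.injective (by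
        show e (e.symm h.1 * x) = e (x * e.symm h.1)
        rw [map_mul, map_mul, e.apply_symm_apply]; exact h.2.2)⟩
      left_inv := fun g => Subtype.ext (Subtype.ext (e.symm_apply_apply g.1.1))
      right_inv := fun h => Subtype.ext (e.apply_symm_apply h.1) }

theorem setup {s : ℕ} (x : ↥(Cfsg.isometryGroup F (Cfsg.quadFormPlus m F))) (hx : x ^ 2 = 1)
    (hs : (((x : GL (Fin m ⊕ Fin m) F) : Matrix (Fin m ⊕ Fin m) (Fin m ⊕ Fin m) F) - 1).rank = s) :
    toOrth Q (plusForm_apply m) x * toOrth Q (plusForm_apply m) x = 1 ∧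
      finrank F (LinearMap.range (nil Q (toOrth Q (plusForm_apply m) x))) = s ∧ s ≤ m ∧
      finrank F Vm = 2 * s + 2 * (m - s) ∧
      finrank F (LinearMap.ker (nil Q (toOrth Q (plusForm_apply m) x))) = 2 * m - s ∧
      (Alt Q (toOrth Q (plusForm_apply m) x) ↔
        ∀ v, Cfsg.quadFormPlus m F
          ((((x : GL (Fin m ⊕ Fin m) F) : Matrix (Fin m ⊕ Fin m) (Fin m ⊕ Fin m) F) - 1) *ᵥ v) = 0) := by
  set t := toOrth Q (plusForm_apply (F := F) m) x with ht'
  have ht : t * t = 1 := by rw [ht', ← map_mul, ← _root_.sq, hx, map_one]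
  have hr : finrank F (LinearMap.range (nil Q t)) = s := by rw [ht', nil_toOrth]; exact hs
  have h1 := LinearMap.finrank_range_add_finrank_ker (nil Q t)
  have h2 : finrank F (LinearMap.range (nil Q t)) ≤ finrank F (LinearMap.ker (nil Q t)) :=
    Submodule.finrank_mono (by rintro _ ⟨v, rfl⟩; exact nil_nil ht v)
  have hV : finrank F Vm = 2 * m := by simp [two_mul]
  refine ⟨ht, hr, by omega, by omega, by omega, forall_congr' fun v => ?_⟩
  rw [ht', nil_toOrth, ← plusForm_apply]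
  rfl

theorem good_plus (h : Fintype.card F ≠ 2 ∨ m ≠ 2) : Good F Vm :=
  good_of (h.imp_right fun hm2 => by rw [Module.finrank_fintype_fun_eq_card]; simp; omega)

/-- Non-alternating case, in product form. -/
theorem nonalt_key {q s : ℕ} (hF : Fintype.card F = q) (h : Fintype.card F ≠ 2 ∨ m ≠ 2)
    (x : ↥(Cfsg.isometryGroup F (Cfsg.quadFormPlus m F))) (hx : x ^ 2 = 1)
    (hs : (((x : GL (Fin m ⊕ Fin m) F) : Matrix (Fin m ⊕ Fin m) (Fin m ⊕ Fin m) F) - 1).rank = s)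
    (ha : ¬ Alt Q (toOrth Q (plusForm_apply m) x)) :
    Nat.card {g : ↥(Cfsg.Omega F (Cfsg.quadFormPlus m F)) //
      (g : ↥(Cfsg.isometryGroup F (Cfsg.quadFormPlus m F))) * x =
        x * (g : ↥(Cfsg.isometryGroup F (Cfsg.quadFormPlus m F)))} * q ^ (2 * m - s) =
      q ^ expo (m - s) s * oFac q s * spOrd q (m - s) := by
  obtain ⟨ht, hr, hle, hV, hk, -⟩ := setup x hx hs
  set t := toOrth Q (plusForm_apply (F := F) m) x
  have hQ := plusForm_nondeg (F := F) m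
  obtain ⟨L, hL, -⟩ := exists_lagrangian (F := F) (m := m) ⊥ (by rintro u rfl; exact map_zero _)
  obtain ⟨v, hv⟩ := not_forall.1 ha
  have h1 := card_cent_eq hQ ht hL
  rw [SympCentralizer.card_cent_b (good_nil hQ ht) hr hV (fun h' => ha ((altN_iff ht).1 h')), hF,
    card_comm_of_fixed hQ (good_plus h) (nil_nil ht v) hv] at h1
  have h2 := count_nonalt hQ ht ha
  rw [Module.natCard_eq_pow_finrank (K := F) (V := LinearMap.ker (nil Q t)), Nat.card_eq_fintype_card (α := F), hF, hk] at h2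
  rw [card_omega_cent, h1, ← h2]
  ring

/-- Alternating case, in product form. -/
theorem alt_key {q s : ℕ} (hF : Fintype.card F = q) (h : Fintype.card F ≠ 2 ∨ m ≠ 2)
    (x : ↥(Cfsg.isometryGroup F (Cfsg.quadFormPlus m F))) (hx : x ^ 2 = 1)
    (hs : (((x : GL (Fin m ⊕ Fin m) F) : Matrix (Fin m ⊕ Fin m) (Fin m ⊕ Fin m) F) - 1).rank = s)
    (ha : Alt Q (toOrth Q (plusForm_apply m) x)) {a : ℕ} (hsa : s = 2 * a) :
    Nat.card {g : ↥(Cfsg.Omega F (Cfsg.quadFormPlus m F)) //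
      (g : ↥(Cfsg.isometryGroup F (Cfsg.quadFormPlus m F))) * x =
        x * (g : ↥(Cfsg.isometryGroup F (Cfsg.quadFormPlus m F)))} *
        (if s = m then q ^ m else q ^ (2 * m - s) + q ^ m) =
      q ^ expo (m - s) s * spOrd q a * spOrd q (m - s) := by
  obtain ⟨ht, hr, hle, hV, hk, -⟩ := setup x hx hs
  set t := toOrth Q (plusForm_apply (F := F) m) x
  have hQ := plusForm_nondeg (F := F) m
  have hR0 : ∀ u ∈ LinearMap.range (nil Q t), Q u = 0 := by rintro _ ⟨v, rfl⟩; exact ha v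
  obtain ⟨L, hL, hRL⟩ := exists_lagrangian (F := F) (m := m) _ hR0
  have hLd := finrank_of_isLagrangian hQ hL
  have h1 := card_cent_eq hQ ht hL
  rw [SympCentralizer.card_cent_a (a := a) (r := m - s) (good_nil hQ ht) ((altN_iff ht).2 ha)
    (hr.trans hsa) (by omega), hF, ← hsa] at h1
  have h2 := count_alt hQ ht hL hRL
  rw [Module.natCard_eq_pow_finrank (K := F) (V := LinearMap.ker (nil Q t)),
    Module.natCard_eq_pow_finrank (K := F) (V := L), Nat.card_eq_fintype_card (α := F), hF, hk,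
    show finrank F L = m by omega] at h2
  rw [card_omega_cent, h1]
  by_cases hsm : s = m
  · rw [if_pos hsm, ← card_comm_of_lagrangian hQ (good_plus h)
      (isLagrangian_of_finrank hQ hR0 (by omega)), mul_comm]
    congr 1
    have : 2 * m - s = m := by omega
    rw [this] at h2
    omega
  · obtain ⟨z, hz, hqz⟩ : ∃ z, nil Q t z = 0 ∧ Q z ≠ 0 := by
      by_contra hall
      push Not at hall
      have := OrthInvolutionCount.plus_sing (F := F) m (LinearMap.ker (nil Q t)) hall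
      omega
    rw [if_neg hsm, card_comm_of_fixed hQ (good_plus h) hz hqz, ← h2]
    ring

theorem omega_cent_b {q s : ℕ} (hF : Fintype.card F = q) (h : Fintype.card F ≠ 2 ∨ m ≠ 2)
    (x : ↥(Cfsg.isometryGroup F (Cfsg.quadFormPlus m F))) (hx : x ^ 2 = 1)
    (hs : (((x : GL (Fin m ⊕ Fin m) F) : Matrix (Fin m ⊕ Fin m) (Fin m ⊕ Fin m) F) - 1).rank = s)
    (hodd : Odd s) :
    Nat.card {g : ↥(Cfsg.Omega F (Cfsg.quadFormPlus m F)) //
      (g : ↥(Cfsg.isometryGroup F (Cfsg.quadFormPlus m F))) * x =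
        x * (g : ↥(Cfsg.isometryGroup F (Cfsg.quadFormPlus m F)))} =
      q ^ (2 * m * (s - 1) - (3 * s ^ 2 - 3 * s) / 2) * spOrd q ((s - 1) / 2) * spOrd q (m - s) := by
  obtain ⟨ht, hr, hle, hV, hk, -⟩ := setup x hx hs
  obtain ⟨k, rfl⟩ := hodd
  have ha : ¬ Alt Q (toOrth Q (plusForm_apply m) x) := fun ha => by
    have := (exists_top (plusForm_nondeg (F := F) m) ht hr).1 ha
    exact Nat.not_even_iff_odd.2 ⟨k, rfl⟩ this
  have hq : 0 < q := hF ▸ Fintype.card_pos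
  refine Nat.eq_of_mul_eq_mul_right (Nat.pow_pos (n := 2 * m - (2 * k + 1)) hq) ?_
  rw [nonalt_key hF h x hx hs ha, (SympCentralizer.oFac_spec q k).1,
    show (2 * k + 1 - 1) / 2 = k by omega]
  have e1 := SympCentralizer.two_mul_expo (m - (2 * k + 1)) (2 * k + 1)
  obtain ⟨r, rfl⟩ : ∃ r, m = r + (2 * k + 1) := ⟨m - (2 * k + 1), by omega⟩
  rw [Nat.add_sub_cancel] at e1 ⊢
  have e2 : 3 * (2 * k + 1) ^ 2 - 3 * (2 * k + 1) = 2 * (6 * k ^ 2 + 3 * k) := by
    rw [show 3 * (2 * k + 1) ^ 2 = 2 * (6 * k ^ 2 + 3 * k) + 3 * (2 * k + 1) by ring, Nat.add_sub_cancel]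
  rw [e2, Nat.mul_div_cancel_left _ two_pos, show 2 * (r + (2 * k + 1)) * (2 * k + 1 - 1) =
    4 * (r * k) + 8 * k ^ 2 + 4 * k by rw [Nat.add_sub_cancel]; ring]
  have he : expo r (2 * k + 1) =
      (4 * (r * k) + 8 * k ^ 2 + 4 * k - (6 * k ^ 2 + 3 * k)) + (2 * (r + (2 * k + 1)) - (2 * k + 1)) := by
    rw [show 4 * r * (2 * k + 1) + (2 * k + 1) * (2 * k + 1 + 1) =
      8 * (r * k) + 4 * r + (4 * k ^ 2 + 6 * k + 2) by ring] at e1
    omega
  rw [he, pow_add]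
  ring

theorem omega_cent_c {q s : ℕ} (hF : Fintype.card F = q) (h : Fintype.card F ≠ 2 ∨ m ≠ 2)
    (x : ↥(Cfsg.isometryGroup F (Cfsg.quadFormPlus m F))) (hx : x ^ 2 = 1)
    (hs : (((x : GL (Fin m ⊕ Fin m) F) : Matrix (Fin m ⊕ Fin m) (Fin m ⊕ Fin m) F) - 1).rank = s)
    (heven : Even s)
    (hna : ∃ v, Cfsg.quadFormPlus m F
      ((((x : GL (Fin m ⊕ Fin m) F) : Matrix (Fin m ⊕ Fin m) (Fin m ⊕ Fin m) F) - 1) *ᵥ v) ≠ 0) :
    Nat.card {g : ↥(Cfsg.Omega F (Cfsg.quadFormPlus m F)) //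
      (g : ↥(Cfsg.isometryGroup F (Cfsg.quadFormPlus m F))) * x =
        x * (g : ↥(Cfsg.isometryGroup F (Cfsg.quadFormPlus m F)))} =
      q ^ (2 * m * (s - 1) - (3 * s ^ 2 - 5 * s) / 2 - 1) * spOrd q ((s - 2) / 2) * spOrd q (m - s) := by
  obtain ⟨ht, hr, hle, hV, hk, hiff⟩ := setup x hx hs
  obtain ⟨v, hv⟩ := hna
  have ha : ¬ Alt Q (toOrth Q (plusForm_apply m) x) := fun ha => hv (hiff.1 ha v)
  have hs0 : s ≠ 0 := fun h0 => ha fun w => by
    rw [SympCentralizer.N_eq_zero (N := nil Q (toOrth Q (plusForm_apply m) x)) (hr.trans h0)]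
    exact map_zero _
  obtain ⟨k, rfl⟩ : ∃ k, s = 2 * k + 2 := by obtain ⟨c, rfl⟩ := heven; exact ⟨c - 1, by omega⟩
  have hq : 0 < q := hF ▸ Fintype.card_pos
  refine Nat.eq_of_mul_eq_mul_right (Nat.pow_pos (n := 2 * m - (2 * k + 2)) hq) ?_
  rw [nonalt_key hF h x hx hs ha, (SympCentralizer.oFac_spec q k).2,
    show (2 * k + 2 - 2) / 2 = k by omega]
  have e1 := SympCentralizer.two_mul_expo (m - (2 * k + 2)) (2 * k + 2)
  obtain ⟨r, rfl⟩ : ∃ r, m = r + (2 * k + 2) := ⟨m - (2 * k + 2), by omega⟩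
  rw [Nat.add_sub_cancel] at e1 ⊢
  have e2 : 3 * (2 * k + 2) ^ 2 - 5 * (2 * k + 2) = 2 * (6 * k ^ 2 + 7 * k + 1) := by
    rw [show 3 * (2 * k + 2) ^ 2 = 2 * (6 * k ^ 2 + 7 * k + 1) + 5 * (2 * k + 2) by ring, Nat.add_sub_cancel]
  rw [e2, Nat.mul_div_cancel_left _ two_pos, show 2 * (r + (2 * k + 2)) * (2 * k + 2 - 1) =
    4 * (r * k) + 2 * r + (8 * k ^ 2 + 12 * k + 4) by
      rw [show 2 * k + 2 - 1 = 2 * k + 1 by omega]; ring]
  have he : expo r (2 * k + 2) + (2 * k + 1) =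
      (4 * (r * k) + 2 * r + (8 * k ^ 2 + 12 * k + 4) - (6 * k ^ 2 + 7 * k + 1) - 1) +
        (2 * (r + (2 * k + 2)) - (2 * k + 2)) := by
    rw [show 4 * r * (2 * k + 2) + (2 * k + 2) * (2 * k + 2 + 1) =
      8 * (r * k) + 8 * r + (4 * k ^ 2 + 10 * k + 6) by ring] at e1
    omega
  rw [← mul_assoc, ← pow_add, he, pow_add]
  ring

theorem omega_cent_a {q s : ℕ} (hF : Fintype.card F = q) (h : Fintype.card F ≠ 2 ∨ m ≠ 2)
    (x : ↥(Cfsg.isometryGroup F (Cfsg.quadFormPlus m F))) (hx : x ^ 2 = 1)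
    (hs : (((x : GL (Fin m ⊕ Fin m) F) : Matrix (Fin m ⊕ Fin m) (Fin m ⊕ Fin m) F) - 1).rank = s)
    (heven : Even s)
    (halt : ∀ v, Cfsg.quadFormPlus m F
      ((((x : GL (Fin m ⊕ Fin m) F) : Matrix (Fin m ⊕ Fin m) (Fin m ⊕ Fin m) F) - 1) *ᵥ v) = 0) :
    Nat.card {g : ↥(Cfsg.Omega F (Cfsg.quadFormPlus m F)) //
      (g : ↥(Cfsg.isometryGroup F (Cfsg.quadFormPlus m F))) * x =
        x * (g : ↥(Cfsg.isometryGroup F (Cfsg.quadFormPlus m F)))} =
      q ^ (2 * m * s - (3 * s ^ 2 + s) / 2) * spOrd q (s / 2) *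
        (if s = m then 1 else q ^ ((m - s) * (m - s - 1)) * (q ^ (m - s) - 1) *
          ∏ i : Fin (m - s - 1), (q ^ (2 * ((i : ℕ) + 1)) - 1)) := by
  obtain ⟨ht, hr, hle, hV, hk, hiff⟩ := setup x hx hs
  obtain ⟨a, rfl⟩ : ∃ a, s = 2 * a := by obtain ⟨c, rfl⟩ := heven; exact ⟨c, by omega⟩
  have key := alt_key hF h x hx hs (hiff.2 halt) rfl
  have hq : 0 < q := hF ▸ Fintype.card_pos
  have e1 := SympCentralizer.two_mul_expo (m - 2 * a) (2 * a)
  have e2 : 3 * (2 * a) ^ 2 + 2 * a = 2 * (6 * a ^ 2 + a) := by ring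
  obtain ⟨r, rfl⟩ : ∃ r, m = r + 2 * a := ⟨m - 2 * a, by omega⟩
  rw [Nat.add_sub_cancel] at e1 key ⊢
  have hsq : a ≤ a ^ 2 := Nat.le_self_pow two_ne_zero a
  rw [show 4 * r * (2 * a) + 2 * a * (2 * a + 1) = 8 * (r * a) + (4 * a ^ 2 + 2 * a) by ring] at e1
  rw [e2, Nat.mul_div_cancel_left _ two_pos, show 2 * (r + 2 * a) * (2 * a) = 4 * (r * a) + 8 * a ^ 2 by ring,
    show 2 * a / 2 = a by omega]
  rcases r with _ | r'
  · rw [if_pos (by omega)] at key ⊢
    refine Nat.eq_of_mul_eq_mul_right (Nat.pow_pos (n := 0 + 2 * a) hq) ?_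
    rw [key, SympCentralizer.spOrd_zero,
      show expo 0 (2 * a) = (4 * (0 * a) + 8 * a ^ 2 - (6 * a ^ 2 + a)) + (0 + 2 * a) by omega, pow_add]
    ring
  · rw [if_neg (by omega)] at key ⊢
    refine Nat.eq_of_mul_eq_mul_right (Nat.add_pos_right (q ^ (2 * (r' + 1 + 2 * a) - 2 * a))
      (Nat.pow_pos (n := r' + 1 + 2 * a) hq)) ?_
    rw [key, show r' + 1 - 1 = r' by omega, show 2 * (r' + 1 + 2 * a) - 2 * a = (r' + 1) + (r' + 1 + 2 * a) by omega,
      pow_add q (r' + 1) (r' + 1 + 2 * a), ← Nat.succ_mul]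
    have hS : spOrd q (r' + 1) =
        q ^ ((r' + 1) * r') * q ^ (r' + 1) * ((∏ i : Fin r', (q ^ (2 * ((i : ℕ) + 1)) - 1)) *
          ((q ^ (r' + 1) - 1) * (q ^ (r' + 1) + 1))) := by
      rw [spOrd, Fin.prod_univ_castSucc, ← pow_add]
      simp only [Fin.val_castSucc, Fin.val_last]
      rw [show (r' + 1) * r' + (r' + 1) = (r' + 1) ^ 2 by ring,
        show 2 * (r' + 1) = (r' + 1) + (r' + 1) by ring, pow_add q (r' + 1) (r' + 1),
        mul_comm (q ^ (r' + 1) - 1) (q ^ (r' + 1) + 1)]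
      congr 2
      rw [← Nat.mul_self_sub_mul_self_eq, one_mul]
    have he : expo (r' + 1) (2 * a) + (r' + 1) =
        (4 * ((r' + 1) * a) + 8 * a ^ 2 - (6 * a ^ 2 + a)) + (r' + 1 + 2 * a) := by omega
    rw [hS, Nat.succ_eq_add_one]
    calc _ = q ^ (expo (r' + 1) (2 * a) + (r' + 1)) * (spOrd q a * (q ^ ((r' + 1) * r') *
          ((∏ i : Fin r', (q ^ (2 * ((i : ℕ) + 1)) - 1)) * ((q ^ (r' + 1) - 1) * (q ^ (r' + 1) + 1))))) := by
            rw [pow_add]; ring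
      _ = _ := by rw [he, pow_add]; ring

end CfsgLib.OrthCentralizer
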