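import Mathlib
import Cfsg.Prelude.Def_ClassicalGeometry
import Cfsg.Agent.Lib.Classical.SympMatrix
import Cfsg.Agent.Lib.KnownA.InvolutionForms

/-!
Involutions of symplectic groups in characteristic two.
-/

set_option autoImplicit false

namespace CfsgLib.KnownA.SympInvolutions

open Module Matrix CfsgLib.KnownA.HermitianForms CfsgLib.KnownA.InvolutionForms CfsgLib.KnownA.SquareZero

variable {F : Type*} [Field F] [CharP F 2] {m : ℕ}

local notation "V" => Fin m ⊕ Fin m → F

lemma sympForm_symm (u v : V) : Cfsg.sympForm m F v u = Cfsg.sympForm m F u v := by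
  rw [← CfsgLib.Classical.sympBil_apply, ← CfsgLib.Classical.sympBil_apply,
    CfsgLib.Classical.alt_swap (CfsgLib.Classical.sympBil_isAlt (F := F) (m := m)) v u, CharTwo.neg_eq]

/-- The symplectic form as a symmetric form. -/
noncomputable def spForm : HForm F V (RingHom.id F) where
  B := Cfsg.sympForm m F
  add_left x y z := by simp [Cfsg.sympForm, add_dotProduct]
  smul_left c x z := by simp [Cfsg.sympForm, smul_dotProduct]
  symm x y := sympForm_symm x y

lemma spForm_nondeg : (spForm (F := F) (m := m)).Nondeg := fun x h =>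
  (CfsgLib.Classical.sympBil_nondegenerate (F := F) (m := m)).1 x fun y => by
    rw [CfsgLib.Classical.sympBil_apply]; exact h y

/-- Symplectic Gram matrix in the ordering `e₁ … eₛ f₁ … fₛ`. -/
def sJ (r : ℕ) (i j : Fin r) : F := if i.val + r / 2 = j.val ∨ j.val + r / 2 = i.val then 1 else 0

omit [CharP F 2] in
lemma sJ_one {r : ℕ} {i j : Fin r} (h : i.val + r / 2 = j.val ∨ j.val + r / 2 = i.val) :
    sJ (F := F) r i j = 1 := if_pos h

omit [CharP F 2] in
lemma sJ_zero {r : ℕ} {i j : Fin r} (h : ¬ (i.val + r / 2 = j.val ∨ j.val + r / 2 = i.val)) :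
    sJ (F := F) r i j = 0 := if_neg h

lemma alt_basis {W : Type*} [AddCommGroup W] [Module F W] [FiniteDimensional F W]
    (g : HForm F W (RingHom.id F)) (hg : g.Nondeg) (ha : g.Alt) {k : ℕ} (hk : finrank F W = k) :
    Even k ∧ ∃ b : Basis (Fin k) F W, ∀ i j, g.B (b i) (b j) = sJ k i j := by
  obtain ⟨s, b, hb⟩ := exists_symplectic g hg ha
  obtain rfl : k = s + s := by rw [← hk, finrank_eq_card_basis b]; simp
  refine ⟨⟨s, rfl⟩, b.reindex finSumFinEquiv, fun i j => ?_⟩
  rw [Basis.reindex_apply, Basis.reindex_apply, hb]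
  obtain ⟨i, rfl⟩ := finSumFinEquiv.surjective i
  obtain ⟨j, rfl⟩ := finSumFinEquiv.surjective j
  rw [Equiv.symm_apply_apply, Equiv.symm_apply_apply]
  have h0 : (s + s) / 2 = s := by omega
  rcases i with i | i <;> rcases j with j | j <;> simp only [Sum.elim_inl, Sum.elim_inr]
  · exact (sJ_zero (by simp only [finSumFinEquiv_apply_left, Fin.val_castAdd]; omega)).symm
  · by_cases h : i = j
    · rw [if_pos h, sJ_one]
      simp only [finSumFinEquiv_apply_left, finSumFinEquiv_apply_right, Fin.val_castAdd, Fin.val_natAdd]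
      subst h; omega
    · rw [if_neg h, sJ_zero]
      rw [Fin.ext_iff] at h
      simp only [finSumFinEquiv_apply_left, finSumFinEquiv_apply_right, Fin.val_castAdd, Fin.val_natAdd]
      omega
  · by_cases h : i = j
    · rw [if_pos h, sJ_one]
      simp only [finSumFinEquiv_apply_left, finSumFinEquiv_apply_right, Fin.val_castAdd, Fin.val_natAdd]
      subst h; omega
    · rw [if_neg h, sJ_zero]
      rw [Fin.ext_iff] at h
      simp only [finSumFinEquiv_apply_left, finSumFinEquiv_apply_right, Fin.val_castAdd, Fin.val_natAdd]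
      omega
  · exact (sJ_zero (by simp only [finSumFinEquiv_apply_right, Fin.val_natAdd]; omega)).symm

lemma orth_basis [Finite F] {W : Type*} [AddCommGroup W] [Module F W] [FiniteDimensional F W]
    (g : HForm F W (RingHom.id F)) (hg : g.Nondeg) (ha : ¬ g.Alt) {k : ℕ} (hk : finrank F W = k) :
    ∃ b : Basis (Fin k) F W, ∀ i j, g.B (b i) (b j) = if i = j then 1 else 0 := by
  obtain ⟨b, hb⟩ := exists_orthonormal g (CharP.cast_eq_zero F 2) (fun t _ _ => by
    obtain ⟨c, hc⟩ := FiniteField.isSquare_of_char_two (F := F) (ringChar.eq F 2) t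
    exact ⟨c, hc.symm⟩) hg ha
  exact ⟨b.reindex (finCongr hk), fun i j => by simp [Basis.reindex_apply, hb, Fin.ext_iff]⟩

variable [Finite F]

/-- The square-zero map attached to an involution. -/
noncomputable def nil (a : symplecticGroup (Fin m) F) : V →ₗ[F] V :=
  toLin' ((a : Matrix (Fin m ⊕ Fin m) (Fin m ⊕ Fin m) F) - 1)

omit [CharP F 2] [Finite F] in
lemma nil_apply (a : symplecticGroup (Fin m) F) (v : V) :
    nil a v = (a : Matrix (Fin m ⊕ Fin m) (Fin m ⊕ Fin m) F) *ᵥ v - v := by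
  simp [nil, sub_mulVec]

omit [Finite F] in
lemma nil_props (a : symplecticGroup (Fin m) F) (ha : orderOf a = 2) :
    (∀ x : V, nil a (nil a x) = 0) ∧
      ∀ x y : V, Cfsg.sympForm m F (nil a x) y = Cfsg.sympForm m F x (nil a y) := by
  have hAA : (a : Matrix (Fin m ⊕ Fin m) (Fin m ⊕ Fin m) F) * a = 1 := by
    have h := pow_orderOf_eq_one a
    rw [ha, sq] at h
    exact congrArg (fun g : symplecticGroup (Fin m) F => (g : Matrix (Fin m ⊕ Fin m) (Fin m ⊕ Fin m) F)) h
  refine ⟨fun x => ?_, fun x y => ?_⟩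
  · rw [nil, ← LinearMap.comp_apply, ← toLin'_mul, sub_one_sq hAA, map_zero, LinearMap.zero_apply]
  · have h := (CfsgLib.Classical.mem_symplecticGroup_iff_preserves m).1 a.2 x
      ((a : Matrix (Fin m ⊕ Fin m) (Fin m ⊕ Fin m) F) *ᵥ y)
    rw [mulVec_mulVec, hAA, one_mulVec] at h
    have hl : ∀ u v w : V, Cfsg.sympForm m F (u - v) w = Cfsg.sympForm m F u w - Cfsg.sympForm m F v w :=
      (spForm (F := F) (m := m)).sub_left
    rw [nil_apply, nil_apply, sympForm_symm (_ - _) x, hl, hl, h,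
      sympForm_symm x (_ *ᵥ y), sympForm_symm x y]

theorem spConj (a b : symplecticGroup (Fin m) F) (ha : orderOf a = 2) (hb : orderOf b = 2)
    (hrank : ((a : Matrix (Fin m ⊕ Fin m) (Fin m ⊕ Fin m) F) - 1).rank =
      ((b : Matrix (Fin m ⊕ Fin m) (Fin m ⊕ Fin m) F) - 1).rank)
    (halt : Even ((a : Matrix (Fin m ⊕ Fin m) (Fin m ⊕ Fin m) F) - 1).rank →
      ((∀ v : V, Cfsg.sympForm m F v (nil a v) = 0) ↔ ∀ v : V, Cfsg.sympForm m F v (nil b v) = 0)) :
    IsConj a b := by
  classical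
  have h2 : (2 : F) = 0 := CharP.cast_eq_zero F 2
  set k := ((a : Matrix (Fin m ⊕ Fin m) (Fin m ⊕ Fin m) F) - 1).rank with hk
  obtain ⟨hNa, hAa⟩ := nil_props a ha
  obtain ⟨hNb, hAb⟩ := nil_props b hb
  have hdiag : ∀ x : V, ∃ c, c + RingHom.id F c = (spForm (F := F) (m := m)).B x x :=
    fun x => ⟨0, by simpa [spForm] using (CfsgLib.Classical.sympForm_self m x).symm⟩
  obtain ⟨Wa, hWa, hka, hta, htopa⟩ := exists_twist spForm (nil a) spForm_nondeg hAa
  obtain ⟨Wb, hWb, hkb, htb, htopb⟩ := exists_twist spForm (nil b) spForm_nondeg hAb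
  have hka' : finrank F Wa = k := hka
  have hkb' : finrank F Wb = k := hkb.trans hrank.symm
  have key : ∃ (Γ : Fin k → Fin k → F) (w : Fin k → V) (w' : Fin k → V),
      IsTop spForm (nil a) Γ w ∧ IsTop spForm (nil b) Γ w' := by
    have hflip : ∀ c : symplecticGroup (Fin m) F,
        (∀ v : V, Cfsg.sympForm m F (nil c v) v = 0) ↔ ∀ v : V, Cfsg.sympForm m F v (nil c v) = 0 :=
      fun c => forall_congr' fun v => by rw [sympForm_symm]
    by_cases hA : (twist spForm (nil a) hAa Wa).Alt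
    · obtain ⟨hev, ba, hba⟩ := alt_basis _ hWa hA hka'
      have hB : (twist spForm (nil b) hAb Wb).Alt :=
        htb.2 ((hflip b).2 ((halt hev).1 ((hflip a).1 (hta.1 hA))))
      obtain ⟨-, bb, hbb⟩ := alt_basis _ hWb hB hkb'
      exact ⟨_, _, _, htopa ba hba, htopb bb hbb⟩
    · have hB : ¬ (twist spForm (nil b) hAb Wb).Alt := by
        intro hB
        obtain ⟨hev, -⟩ := alt_basis _ hWb hB hkb'
        exact hA (hta.2 ((hflip a).2 ((halt hev).2 ((hflip b).1 (htb.1 hB)))))
      obtain ⟨ba, hba⟩ := orth_basis _ hWa hA hka'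
      obtain ⟨bb, hbb⟩ := orth_basis _ hWb hB hkb'
      exact ⟨_, _, _, htopa ba hba, htopb bb hbb⟩
  obtain ⟨Γ, w, w', hw, hw'⟩ := key
  have hclass : ∀ U : Submodule F V, ((spForm (F := F) (m := m)).restrict U).Nondeg →
      ∃ e : Basis (Fin (finrank F U)) F U, ∀ i j, Cfsg.sympForm m F (e i : V) (e j : V) = sJ _ i j :=
    fun U hU => (alt_basis _ hU (fun x => CfsgLib.Classical.sympForm_self m (x : V)) rfl).2
  obtain ⟨r, e, he⟩ := exists_adapted spForm (nil a) h2 spForm_nondeg hNa hAa hdiag hw sJ hclass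
  obtain ⟨r', e', he'⟩ := exists_adapted spForm (nil b) h2 spForm_nondeg hNb hAb hdiag hw' sJ hclass
  obtain rfl : r' = r := by
    have := card_idx e; have := card_idx e'; omega
  obtain ⟨hiso, hint⟩ := exists_isometry spForm (nil a) spForm (nil b) he he'
  set g := e.equiv e' (Equiv.refl _) with hg
  let C := LinearMap.toMatrix' g.toLinearMap
  have hC : ∀ v : V, C *ᵥ v = g v := fun v => by
    rw [← toLin'_apply, toLin'_toMatrix']; rfl
  have hCmem : C ∈ symplecticGroup (Fin m) F :=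
    (CfsgLib.Classical.mem_symplecticGroup_iff_preserves m).2 fun u v => by rw [hC, hC]; exact hiso u v
  refine isConj_iff.2 ⟨⟨C, hCmem⟩, mul_inv_eq_of_eq_mul (Subtype.ext ?_)⟩
  show C * (a : Matrix (Fin m ⊕ Fin m) (Fin m ⊕ Fin m) F) = (b : Matrix (Fin m ⊕ Fin m) (Fin m ⊕ Fin m) F) * C
  refine Matrix.ext_of_mulVec_single fun i => ?_
  rw [← mulVec_mulVec, ← mulVec_mulVec, hC, hC]
  have := hint (Pi.single i 1)
  rw [nil_apply, nil_apply, map_sub, sub_left_inj] at this
  exact this

end CfsgLib.KnownA.SympInvolutions
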