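import Mathlib
import Cfsg.Agent.Lib.KnownA.InvolutionForms
import Cfsg.Agent.Lib.KnownA.SympInvolutions
import Cfsg.Agent.Lib.Orth.Omega
import Cfsg.Agent.Lib.Orth.Parity
import Cfsg.Agent.Lib.Orth.WittIndex

/-!
Involutions of orthogonal groups in characteristic two: conjugacy, Dickson invariant, splitting.
-/

set_option autoImplicit false

namespace CfsgLib.KnownA.OrthInvolutions

open Module QuadraticMap CfsgLib.Orth CfsgLib.KnownA.HermitianForms CfsgLib.KnownA.InvolutionForms
  CfsgLib.KnownA.SympInvolutions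

variable {F V : Type*} [Field F] [Fintype F] [CharP F 2] [AddCommGroup V] [Module F V]
  [FiniteDimensional F V] (Q : QuadraticForm F V)

/-- The polar form as a symmetric form. -/
def polarForm : HForm F V (RingHom.id F) where
  B := polar Q
  add_left := polar_add_left Q
  smul_left := fun c x z => by rw [polar_smul_left, smul_eq_mul]
  symm := fun x y => polar_comm Q y x

/-- The map `v ↦ t v - v`. -/
def nil (t : orthGroup Q) : V →ₗ[F] V := (t.1 : V →ₗ[F] V) - LinearMap.id

lemma nil_apply (t : orthGroup Q) (v : V) : nil Q t v = t.1 v - v := rfl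

lemma apply_eq (t : orthGroup Q) (v : V) : t.1 v = v + nil Q t v := by rw [nil_apply]; abel

/-- All values `Q (t v - v)` vanish. -/
def Alt (t : orthGroup Q) : Prop := ∀ v, Q (nil Q t v) = 0

section Invol

variable {Q} {t : orthGroup Q} (ht : t * t = 1)
include ht

lemma apply_apply (v : V) : t.1 (t.1 v) = v := by
  have := congrArg (fun g : orthGroup Q => g.1 v) ht
  exact this

lemma nil_nil (v : V) : nil Q t (nil Q t v) = 0 := by
  rw [nil_apply, nil_apply, map_sub, apply_apply ht]
  have h2 : (2 : F) = 0 := CharP.cast_eq_zero F 2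
  calc v - t.1 v - (t.1 v - v) = (2 : F) • (v - t.1 v) := by module
    _ = 0 := by rw [h2, zero_smul]

lemma nil_adj (x y : V) : (polarForm Q).B (nil Q t x) y = (polarForm Q).B x (nil Q t y) := by
  show polar Q (nil Q t x) y = polar Q x (nil Q t y)
  rw [nil_apply, nil_apply, polar_sub_left, polar_sub_right]
  have h := polar_isom t x (t.1 y)
  rw [apply_apply ht] at h
  rw [h]

lemma quad_nil (v : V) : Q (nil Q t v) = polar Q (nil Q t v) v := by
  have h := apply_quad t v
  rw [apply_eq, quad_add', polar_comm] at h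
  have h0 : Q (nil Q t v) + polar Q (nil Q t v) v = 0 := by linear_combination h
  exact CharTwo.add_eq_zero.1 h0

end Invol

variable {Q}
variable (hQ : (QuadraticMap.polarBilin Q).Nondegenerate)
include hQ

lemma polarForm_nondeg : (polarForm Q).Nondeg := fun x hx => eq_zero_of_polar hQ hx

/-- The complement with standard twisted form. -/
lemma exists_top {t : orthGroup Q} (ht : t * t = 1) {k : ℕ} (hk : finrank F (LinearMap.range (nil Q t)) = k) :
    (Alt Q t → Even k) ∧
      ((Alt Q t → ∃ w, IsTop (polarForm Q) (nil Q t) (sJ (F := F) k) w) ∧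
        (¬ Alt Q t → ∃ w, IsTop (polarForm Q) (nil Q t) (fun i j : Fin k => if i = j then (1 : F) else 0) w)) := by
  obtain ⟨W, hW, hkW, hta, htop⟩ := exists_twist (polarForm Q) (nil Q t) (polarForm_nondeg hQ) (nil_adj ht)
  have hiff : (twist (polarForm Q) (nil Q t) (nil_adj ht) W).Alt ↔ Alt Q t :=
    hta.trans (forall_congr' fun v => by rw [quad_nil ht]; rfl)
  refine ⟨fun h => (alt_basis _ hW (hiff.2 h) (hkW.trans hk)).1, fun h => ?_, fun h => ?_⟩
  · obtain ⟨-, b, hb⟩ := alt_basis _ hW (hiff.2 h) (hkW.trans hk)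
    exact ⟨_, htop b hb⟩
  · obtain ⟨b, hb⟩ := orth_basis _ hW (fun h' => h (hiff.1 h')) (hkW.trans hk)
    exact ⟨_, htop b hb⟩

omit hQ in
lemma images_indep {N : V →ₗ[F] V} {f : HForm F V (RingHom.id F)} {k : ℕ} {Γ : Fin k → Fin k → F}
    {w : Fin k → V} (hw : IsTop f N Γ w) : LinearIndependent F (fun i => N (w i)) := by
  rw [Fintype.linearIndependent_iff]
  intro a ha i
  exact congrFun (hw.1 a (by simpa [map_sum] using ha)) i

omit hQ in
lemma nil_expand {N : V →ₗ[F] V} {f : HForm F V (RingHom.id F)} {k : ℕ} {Γ : Fin k → Fin k → F}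
    {w : Fin k → V} (hw : IsTop f N Γ w) (v : V) : ∃ a : Fin k → F, N v = ∑ i, a i • N (w i) := by
  obtain ⟨a, ha⟩ := hw.2.1 v
  refine ⟨a, ?_⟩
  rw [map_sub, sub_eq_zero, map_sum] at ha
  simpa using ha

/-- Equal twisted forms give conjugacy in the orthogonal group. -/
theorem conj_of_top {t s : orthGroup Q} (ht : t * t = 1) (hs : s * s = 1) {k : ℕ} {Γ : Fin k → Fin k → F}
    {w w' : Fin k → V} (hw : IsTop (polarForm Q) (nil Q t) Γ w) (hw' : IsTop (polarForm Q) (nil Q s) Γ w') :
    IsConj t s := by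
  have hNN : ∀ {r : orthGroup Q} (_ : r * r = 1) (x y : V), polar Q (nil Q r x) (nil Q r y) = 0 :=
    fun {r} hr x y => by
      have := nil_adj hr x (nil Q r y)
      rw [nil_nil hr, (polarForm Q).zero_right] at this
      exact this
  obtain ⟨g, hg⟩ := witt_family' hQ (fun i => nil Q t (w i)) (fun i => nil Q s (w' i))
    (images_indep hw) (images_indep hw')
    (fun i => by
      rw [quad_nil ht, quad_nil hs]
      exact (hw.2.2 i i).trans (hw'.2.2 i i).symm)
    (fun i j => by rw [hNN ht, hNN hs])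
  have hcomm : ∀ v, g.1 (nil Q t v) = nil Q s (g.1 v) := by
    intro v
    obtain ⟨a, ha⟩ := nil_expand hw v
    have hzero : nil Q s (g.1 v - ∑ i, a i • w' i) = 0 := by
      refine eq_zero_of_perp (polarForm Q) _ (polarForm_nondeg hQ) (nil_adj hs) hw'.2.1 fun i => ?_
      rw [nil_adj hs, (polarForm Q).sub_left, (polarForm Q).sum_left, sub_eq_zero]
      show polar Q (g.1 v) (nil Q s (w' i)) = _
      rw [← hg i, polar_isom]
      show (polarForm Q).B v (nil Q t (w i)) = _
      rw [← nil_adj ht, ha, (polarForm Q).sum_left]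
      refine Finset.sum_congr rfl fun l _ => ?_
      rw [(polarForm Q).smul_left, (polarForm Q).smul_left, hw.2.2 l i, hg i]
      congr 1
      exact (hw'.2.2 l i).symm.trans (nil_adj hs _ _)
    rw [map_sub, sub_eq_zero, map_sum] at hzero
    rw [hzero, ha, map_sum]
    exact Finset.sum_congr rfl fun i _ => by rw [map_smul, map_smul, hg i]
  refine isConj_iff.2 ⟨g, mul_inv_eq_of_eq_mul (Subtype.ext (LinearEquiv.ext fun v => ?_))⟩
  show g.1 (t.1 v) = s.1 (g.1 v)
  rw [apply_eq Q t v, apply_eq Q s (g.1 v), map_add, hcomm]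

/-- Conjugacy in the orthogonal group is decided in the symplectic group. -/
theorem conj_of_polar {t s : orthGroup Q} (ht : t * t = 1) (hs : s * s = 1) (g : V ≃ₗ[F] V)
    (hg : ∀ x y, polar Q (g x) (g y) = polar Q x y) (hgt : ∀ v, g (t.1 v) = s.1 (g v)) : IsConj t s := by
  have hnil : ∀ v, g (nil Q t v) = nil Q s (g v) := fun v => by rw [nil_apply, nil_apply, map_sub, hgt]
  have hr : LinearMap.range (nil Q s) = (LinearMap.range (nil Q t)).map (g : V →ₗ[F] V) := by
    ext x
    constructor
    · rintro ⟨y, rfl⟩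
      obtain ⟨v, rfl⟩ := g.surjective y
      exact ⟨_, ⟨v, rfl⟩, hnil v⟩
    · rintro ⟨_, ⟨v, rfl⟩, rfl⟩
      exact ⟨g v, (hnil v).symm⟩
  have hk : finrank F (LinearMap.range (nil Q s)) = finrank F (LinearMap.range (nil Q t)) := by
    rw [hr, LinearEquiv.finrank_map_eq]
  have halt : Alt Q t ↔ Alt Q s := by
    unfold Alt
    have key : ∀ v, Q (nil Q s (g v)) = Q (nil Q t v) := fun v => by
      rw [quad_nil ht, quad_nil hs, ← hnil, hg]
    refine ⟨fun h v => ?_, fun h v => ?_⟩
    · obtain ⟨u, rfl⟩ := g.surjective v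
      rw [key]; exact h u
    · rw [← key]; exact h _
  obtain ⟨-, h1, h2⟩ := exists_top hQ ht (k := finrank F (LinearMap.range (nil Q t))) rfl
  obtain ⟨-, h1', h2'⟩ := exists_top hQ hs hk
  by_cases h : Alt Q t
  · obtain ⟨w, hw⟩ := h1 h
    obtain ⟨w', hw'⟩ := h1' (halt.1 h)
    exact conj_of_top hQ ht hs hw hw'
  · obtain ⟨w, hw⟩ := h2 h
    obtain ⟨w', hw'⟩ := h2' (fun h' => h (halt.2 h'))
    exact conj_of_top hQ ht hs hw hw'

lemma prod_refl_apply {k : ℕ} (u : Fin k → V) (h1 : ∀ i, Q (u i) = 1)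
    (horth : ∀ i j, i ≠ j → polar Q (u i) (u j) = 0) (l : List (Fin k)) (hl : l.Nodup) (v : V) :
    ((l.map fun i => refl Q (u i)).prod).1 v = v + (l.map fun i => polar Q (u i) v • u i).sum := by
  induction l with
  | nil => simp
  | cons i l ih =>
    rw [List.nodup_cons] at hl
    rw [List.map_cons, List.prod_cons, List.map_cons, List.sum_cons]
    show (refl Q (u i)).1 ((l.map fun i => refl Q (u i)).prod.1 v) = _
    rw [ih hl.2, map_add, refl_apply, h1, inv_one, one_mul,
      refl_fix Q (v := (l.map fun i => polar Q (u i) v • u i).sum) ?_]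
    · have hneg : -(polar Q (u i) v • u i) = polar Q (u i) v • u i := by
        rw [← neg_smul, CharTwo.neg_eq]
      rw [sub_eq_add_neg, hneg, add_assoc]
    · show (polarBilin Q (u i)) _ = 0
      rw [map_list_sum, List.map_map]
      refine List.sum_eq_zero ?_
      rintro x hx
      obtain ⟨j, hj, rfl⟩ := List.mem_map.1 hx
      have hne : i ≠ j := fun e => hl.1 (e ▸ hj)
      simp [horth i j hne]

omit hQ in
lemma nil_mul_refl {t : orthGroup Q} (ht : t * t = 1) {a : V} (ha : nil Q t a = 0) :
    (t * refl Q a) * (t * refl Q a) = 1 ∧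
      ∀ v, nil Q (t * refl Q a) v = nil Q t v + ((Q a)⁻¹ * polar Q a v) • a := by
  have hc : refl Q a * t = t * refl Q a := by
    have h := conj_refl Q t a
    rw [mul_inv_eq_iff_eq_mul] at h
    rw [h, show t.1 a = a by rw [apply_eq Q t a, ha, add_zero]]
  refine ⟨?_, fun v => ?_⟩
  · rw [mul_assoc, ← mul_assoc (refl Q a), hc, mul_assoc, refl_mul_self, mul_one, ht]
  · rw [nil_apply, nil_apply]
    show t.1 ((refl Q a).1 v) - v = _
    rw [refl_apply, map_sub, map_smul, show t.1 a = a by rw [apply_eq Q t a, ha, add_zero]]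
    have hneg : -(((Q a)⁻¹ * polar Q a v) • a) = ((Q a)⁻¹ * polar Q a v) • a := by
      rw [← neg_smul, CharTwo.neg_eq]
    rw [sub_eq_add_neg (t.1 v) (_ • a), hneg]
    abel

lemma dickson_nonalt (κ : orthGroup Q →* Multiplicative F)
    (hκ : ∀ a, Q a ≠ 0 → κ (refl Q a) = Multiplicative.ofAdd 1) {t : orthGroup Q} (ht : t * t = 1)
    (ha : ¬ Alt Q t) : κ t = Multiplicative.ofAdd ((finrank F (LinearMap.range (nil Q t)) : ℕ) : F) := by
  obtain ⟨k, hk⟩ : ∃ k, finrank F (LinearMap.range (nil Q t)) = k := ⟨_, rfl⟩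
  rw [hk]
  obtain ⟨w, hw⟩ := (exists_top hQ ht hk).2.2 ha
  let u : Fin k → V := fun i => nil Q t (w i)
  have hu1 : ∀ i, Q (u i) = 1 := fun i => by
    show Q (nil Q t (w i)) = 1
    rw [quad_nil ht]
    exact (hw.2.2 i i).trans (if_pos rfl)
  have horth : ∀ i j, i ≠ j → polar Q (u i) (u j) = 0 := fun i j _ => by
    show (polarForm Q).B (nil Q t (w i)) (nil Q t (w j)) = 0
    rw [nil_adj ht, nil_nil ht, (polarForm Q).zero_right]
  have hte : t = ((List.finRange k).map fun i => refl Q (u i)).prod := by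
    refine Subtype.ext (LinearEquiv.ext fun v => ?_)
    rw [prod_refl_apply hQ u hu1 horth _ (List.nodup_finRange k), apply_eq Q t v]
    congr 1
    obtain ⟨a, ha'⟩ := nil_expand hw v
    rw [← List.sum_toFinset _ (List.nodup_finRange k), List.toFinset_finRange, ha']
    refine Finset.sum_congr rfl fun l _ => ?_
    congr 1
    have h' : polar Q (u l) v = (polarForm Q).B (nil Q t v) (w l) :=
      (nil_adj ht (w l) v).trans ((polarForm Q).symm _ _)
    rw [h', ha', (polarForm Q).sum_left]
    simp [(polarForm Q).smul_left, hw.2.2]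
  rw [hte, map_list_prod, List.map_map]
  rw [show ((List.finRange k).map (κ ∘ fun i => refl Q (u i))) =
    List.replicate k (Multiplicative.ofAdd (1 : F)) from List.eq_replicate_iff.2 ⟨by simp, fun x hx => by
      obtain ⟨i, -, rfl⟩ := List.mem_map.1 hx
      exact hκ _ (by rw [hu1]; exact one_ne_zero)⟩, List.prod_replicate, ← ofAdd_nsmul, nsmul_one]

/-- The Dickson invariant of an involution is the parity of the rank of `t - 1`. -/
theorem mem_commutator_iff_even (h4 : Good F V) {t : orthGroup Q} (ht : t * t = 1) :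
    t ∈ commutator (orthGroup Q) ↔ Even (finrank F (LinearMap.range (nil Q t))) := by
  classical
  obtain ⟨κ, hκ⟩ := exists_dickson Q hQ
  rw [mem_commutator_two hQ h4 κ hκ]
  obtain ⟨k, hk⟩ : ∃ k, finrank F (LinearMap.range (nil Q t)) = k := ⟨_, rfl⟩
  rw [hk]
  have heven : ∀ n : ℕ, Multiplicative.ofAdd (n : F) = 1 ↔ Even n := fun n => by
    rw [ofAdd_eq_one, CharP.cast_eq_zero_iff F 2, even_iff_two_dvd]
  by_cases ha : Alt Q t
  swap
  · rw [dickson_nonalt hQ κ hκ ht ha, hk, heven]
  have hkeven : Even k := (exists_top hQ ht hk).1 ha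
  refine iff_of_true ?_ hkeven
  have hR0 : ∀ x ∈ LinearMap.range (nil Q t), Q x = 0 := by rintro _ ⟨v, rfl⟩; exact ha v
  by_cases hex : ∃ a, nil Q t a = 0 ∧ Q a ≠ 0
  · obtain ⟨a, ha0, hqa⟩ := hex
    obtain ⟨ht', hN'⟩ := nil_mul_refl ht ha0
    obtain ⟨w, hw⟩ := (exists_top hQ ht hk).2.1 ha
    -- some vector of the kernel is not perpendicular to `a`
    obtain ⟨z, hz, hz'⟩ : ∃ z, nil Q t z = 0 ∧ polar Q a z ≠ 0 := by
      by_contra hall
      push Not at hall
      obtain ⟨c, hc⟩ := (functional_surjective (polarForm Q) _ (polarForm_nondeg hQ) (nil_adj ht) hw.1 hw.2.1).2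
        fun j => polar Q a (w j)
      have he : a = nil Q t (∑ i, c i • w i) := by
        refine sub_eq_zero.1 (eq_zero_of_polar hQ fun y => ?_)
        obtain ⟨b, hb⟩ := hw.2.1 y
        have hy : y = (y - ∑ i, b i • w i) + ∑ i, b i • w i := by abel
        rw [hy, polar_sub_left]
        show (polarForm Q).B a _ - (polarForm Q).B (nil Q t _) _ = 0
        rw [(polarForm Q).add_right, (polarForm Q).add_right, (polarForm Q).sum_right, (polarForm Q).sum_right]
        have e1 : (polarForm Q).B a (y - ∑ i, b i • w i) = 0 := hall _ hb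
        have e2 : (polarForm Q).B (nil Q t (∑ i, c i • w i)) (y - ∑ i, b i • w i) = 0 := by
          rw [nil_adj ht, hb, (polarForm Q).zero_right]
        rw [e1, e2, zero_add, zero_add, sub_eq_zero]
        refine Finset.sum_congr rfl fun j _ => ?_
        rw [(polarForm Q).smul_right, (polarForm Q).smul_right, hc j]
        rfl
      exact hqa (he ▸ ha _)
    have hnalt : ¬ Alt Q (t * refl Q a) := by
      intro h'
      have := h' z
      rw [hN', hz, zero_add, quad_smul'] at this
      simp [hqa, hz', inv_eq_zero] at this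
    have hrk : finrank F (LinearMap.range (nil Q (t * refl Q a))) = k + 1 := by
      have hane : a ∉ LinearMap.range (nil Q t) := fun h => hqa (hR0 a h)
      have hrange : LinearMap.range (nil Q (t * refl Q a)) = LinearMap.range (nil Q t) ⊔ (F ∙ a) := by
        refine le_antisymm ?_ ?_
        · rintro _ ⟨v, rfl⟩
          rw [hN']
          exact Submodule.add_mem_sup ⟨v, rfl⟩ (Submodule.smul_mem _ _ (Submodule.mem_span_singleton_self a))
        · have hamem : a ∈ LinearMap.range (nil Q (t * refl Q a)) :=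
            ⟨((Q a)⁻¹ * polar Q a z)⁻¹ • z, by
              rw [map_smul, hN', hz, zero_add, smul_smul,
                inv_mul_cancel₀ (mul_ne_zero (inv_ne_zero hqa) hz'), one_smul]⟩
          refine sup_le ?_ (by rwa [Submodule.span_singleton_le_iff_mem])
          rintro _ ⟨v, rfl⟩
          have : nil Q t v = nil Q (t * refl Q a) v - ((Q a)⁻¹ * polar Q a v) • a := by rw [hN']; abel
          rw [this]
          exact Submodule.sub_mem _ ⟨v, rfl⟩ (Submodule.smul_mem _ _ hamem)
      have hinf : LinearMap.range (nil Q t) ⊓ (F ∙ a) = ⊥ := by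
        rw [← disjoint_iff]
        exact ((Submodule.disjoint_span_singleton).2 fun x => absurd x hane)
      have h := Submodule.finrank_sup_add_finrank_inf_eq (LinearMap.range (nil Q t)) (F ∙ a)
      rw [← hrange, hinf, finrank_bot, finrank_span_singleton (fun h0 => hqa (by simp [h0])), hk] at h
      omega
    have h1 := dickson_nonalt hQ κ hκ ht' hnalt
    rw [map_mul, hκ a hqa, hrk, Nat.cast_add, Nat.cast_one, ofAdd_add] at h1
    rw [mul_right_cancel h1]
    exact (heven k).2 hkeven
  · push Not at hex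
    have hker : LinearMap.range (nil Q t) ≤ LinearMap.ker (nil Q t) := by
      rintro _ ⟨v, rfl⟩; exact nil_nil ht v
    have h1 := LinearMap.finrank_range_add_finrank_ker (nil Q t)
    have h2 := Submodule.finrank_mono hker
    have h3 := singular_finrank_le hQ (LinearMap.ker (nil Q t)) hex
    have hL : IsLagrangian Q (LinearMap.range (nil Q t)) := isLagrangian_of_finrank hQ hR0 (by omega)
    rw [← mem_commutator_two hQ h4 κ hκ, mem_commutator_iff_even_two hQ h4 hL]
    have hmap : (LinearMap.range (nil Q t)).map (t.1 : V →ₗ[F] V) = LinearMap.range (nil Q t) := by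
      ext x
      constructor
      · rintro ⟨_, ⟨v, rfl⟩, rfl⟩
        exact ⟨v, by rw [LinearEquiv.coe_coe, apply_eq Q t, nil_nil ht, add_zero]⟩
      · rintro ⟨v, rfl⟩
        exact ⟨_, ⟨v, rfl⟩, by rw [LinearEquiv.coe_coe, apply_eq Q t, nil_nil ht, add_zero]⟩
    rw [hmap, lagDist_self]
    exact Even.zero

/-- Conjugate involutions with a non-singular fixed vector are conjugate in the commutator subgroup. -/
theorem conj_commutator (h4 : Good F V) {t g : orthGroup Q} {a : V} (ha : nil Q t a = 0) (hqa : Q a ≠ 0) :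
    ∃ h ∈ commutator (orthGroup Q), h * t * h⁻¹ = g * t * g⁻¹ := by
  obtain ⟨κ, hκ⟩ := exists_dickson Q hQ
  by_cases hg : g ∈ commutator (orthGroup Q)
  · exact ⟨g, hg, rfl⟩
  have hcases : ∀ x : orthGroup Q, κ x = 1 ∨ κ x = Multiplicative.ofAdd 1 := by
    intro x
    have hx : x ∈ reflGroup Q := by rw [reflGroup_eq_top hQ h4]; trivial
    have hone : Multiplicative.ofAdd (1 : F) * Multiplicative.ofAdd 1 = 1 := by
      rw [← ofAdd_add, CharTwo.add_self_eq_zero]; rfl
    induction hx using Subgroup.closure_induction with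
    | mem y hy =>
      obtain ⟨b, rfl⟩ := hy
      by_cases hb : Q b = 0
      · left
        have : refl Q b = 1 := Subtype.ext (LinearEquiv.ext fun v => by rw [refl_apply, hb]; simp)
        rw [this, map_one]
      · right; exact hκ b hb
    | one => left; exact map_one κ
    | mul y z _ _ hy hz => rcases hy with h | h <;> rcases hz with h' | h' <;> simp [h, h', hone]
    | inv y _ hy =>
      rcases hy with h | h
      · left; simp [h]
      · right; rw [map_inv, h, ← ofAdd_neg, CharTwo.neg_eq]
  refine ⟨g * refl Q a, ?_, ?_⟩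
  · rw [mem_commutator_two hQ h4 κ hκ] at hg ⊢
    rw [map_mul, (hcases g).resolve_left hg, hκ a hqa, ← ofAdd_add, CharTwo.add_self_eq_zero]
    rfl
  · have h := conj_refl Q t a
    rw [show t.1 a = a by rw [apply_eq Q t a, ha, add_zero], mul_inv_eq_iff_eq_mul] at h
    rw [mul_inv_rev, mul_assoc g (refl Q a) t, ← h]
    group

/-- The class of an involution fixing a Lagrangian. -/
theorem conj_commutator_iff (h4 : Good F V) {t s : orthGroup Q} (ht : t * t = 1) (ha : Alt Q t)
    (hk : finrank F V = 2 * finrank F (LinearMap.range (nil Q t))) (hconj : IsConj t s) :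
    (∃ h ∈ commutator (orthGroup Q), h * t * h⁻¹ = s) ↔
      Even (finrank F ↥(LinearMap.range (nil Q t) ⊓ LinearMap.range (nil Q s))) := by
  have hL : IsLagrangian Q (LinearMap.range (nil Q t)) :=
    isLagrangian_of_finrank hQ (by rintro _ ⟨v, rfl⟩; exact ha v) hk
  have hev : Even (finrank F (LinearMap.range (nil Q t))) := (exists_top hQ ht rfl).1 ha
  have key : ∀ h : orthGroup Q, h * t * h⁻¹ = s → (h ∈ commutator (orthGroup Q) ↔
      Even (finrank F ↥(LinearMap.range (nil Q t) ⊓ LinearMap.range (nil Q s)))) := by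
    intro h hh
    rw [mem_commutator_iff_even_two hQ h4 hL]
    have hmap : (LinearMap.range (nil Q t)).map (h.1 : V →ₗ[F] V) = LinearMap.range (nil Q s) := by
      have hn : ∀ v, h.1 (nil Q t v) = nil Q s (h.1 v) := fun v => by
        have e : s * h = h * t := by rw [← hh, inv_mul_cancel_right]
        have e' : s.1 (h.1 v) = h.1 (t.1 v) := congrArg (fun x : orthGroup Q => x.1 v) e
        rw [nil_apply, nil_apply, map_sub, e']
      ext x
      constructor
      · rintro ⟨_, ⟨v, rfl⟩, rfl⟩; exact ⟨h.1 v, (hn v).symm⟩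
      · rintro ⟨y, rfl⟩
        obtain ⟨v, rfl⟩ := h.1.surjective y
        exact ⟨_, ⟨v, rfl⟩, hn v⟩
    rw [hmap, lagDist, Nat.even_sub (Submodule.finrank_mono inf_le_left)]
    exact iff_iff_implies_and_implies.2 ⟨fun e => e.1 hev, fun e => iff_of_true hev e⟩
  obtain ⟨g, hg⟩ := isConj_iff.1 hconj
  exact ⟨fun ⟨h, hh, hhs⟩ => (key h hhs).1 hh, fun he => ⟨g, (key g hg).2 he, hg⟩⟩

end CfsgLib.KnownA.OrthInvolutions
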