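import Mathlib
import Cfsg.Agent.Lib.KnownA.OrthInvolutions
import Cfsg.Agent.Lib.Orth.Bridge
import Cfsg.Agent.Lib.Orth.Standard

/-!
The results on involutions for the matrix isometry groups of the prelude.
-/

set_option autoImplicit false

namespace CfsgLib.KnownA.OrthInvolutions

open Module QuadraticMap CfsgLib.Orth Matrix

variable {F : Type*} [Field F] [Fintype F] [CharP F 2] {ι : Type} [Fintype ι] [DecidableEq ι]
variable {Qf : (ι → F) → F} (Q : QuadraticForm F (ι → F)) (hQf : ∀ v, Qf v = Q v)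
include hQf

omit [Fintype F] [CharP F 2] in
lemma sq_toOrth (t : ↥(Cfsg.isometryGroup F Qf)) (ht : orderOf t = 2) :
    toOrth Q hQf t * toOrth Q hQf t = 1 := by
  rw [← map_mul, ← _root_.sq, ← ht, pow_orderOf_eq_one, map_one]

lemma nil_toOrth (t : ↥(Cfsg.isometryGroup F Qf)) :
    nil Q (toOrth Q hQf t) = toLin' (((t : GL ι F) : Matrix ι ι F) - 1) := by
  refine LinearMap.ext fun v => ?_
  rw [nil_apply, toOrth_apply, toLin'_apply, sub_mulVec, one_mulVec]

theorem conj_iff (hQ : (QuadraticMap.polarBilin Q).Nondegenerate) (t s : ↥(Cfsg.isometryGroup F Qf))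
    (ht : orderOf t = 2) (hs : orderOf s = 2) :
    IsConj t s ↔ ∃ g ∈ Cfsg.preserving (Units.coeHom (Matrix ι ι F)) (fun u v => Qf (u + v) - Qf u - Qf v),
      g * (t : GL ι F) * g⁻¹ = (s : GL ι F) := by
  constructor
  · intro h
    obtain ⟨c, hc⟩ := isConj_iff.1 h
    refine ⟨c, fun u v => ?_, congrArg Subtype.val hc⟩
    simp only [Units.coeHom_apply]
    rw [← mulVec_add, hQf, hQf, hQf, ← toOrth_apply Q hQf, ← toOrth_apply Q hQf, ← toOrth_apply Q hQf,
      apply_quad, apply_quad, apply_quad, hQf, hQf, hQf]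
  · rintro ⟨g, hg, hgt⟩
    let e : (ι → F) ≃ₗ[F] (ι → F) := (Matrix.GeneralLinearGroup.toLin g).toLinearEquiv
    have he : ∀ v, e v = ((g : GL ι F) : Matrix ι ι F) *ᵥ v := fun v => rfl
    have h := conj_of_polar hQ (sq_toOrth Q hQf t ht) (sq_toOrth Q hQf s hs) e (fun x y => by
        have h := hg x y
        simp only [Units.coeHom_apply, hQf] at h
        rw [he, he]; exact h) (fun v => by
        rw [he, he, toOrth_apply, toOrth_apply, mulVec_mulVec, mulVec_mulVec, ← Units.val_mul, ← Units.val_mul]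
        congr 2
        rw [← hgt, inv_mul_cancel_right])
    obtain ⟨c, hc⟩ := isConj_iff.1 h
    refine isConj_iff.2 ⟨(toOrth Q hQf).symm c, (toOrth Q hQf).injective ?_⟩
    rw [map_mul, map_mul, map_inv, MulEquiv.apply_symm_apply, hc]

theorem mem_omega_iff_even (hQ : (QuadraticMap.polarBilin Q).Nondegenerate) (h4 : Good F (ι → F))
    (t : ↥(Cfsg.isometryGroup F Qf)) (ht : orderOf t = 2) :
    t ∈ Cfsg.Omega F Qf ↔ Even (((t : GL ι F) : Matrix ι ι F) - 1).rank := by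
  rw [mem_Omega_iff Q hQf, mem_commutator_iff_even hQ h4 (sq_toOrth Q hQf t ht), nil_toOrth]
  rfl

omit [Fintype F] [CharP F 2] in
lemma exists_omega (t s : ↥(Cfsg.isometryGroup F Qf)) :
    (∃ g ∈ Cfsg.Omega F Qf, g * t * g⁻¹ = s) ↔
      ∃ h ∈ commutator (orthGroup Q), h * toOrth Q hQf t * h⁻¹ = toOrth Q hQf s := by
  constructor
  · rintro ⟨g, hg, hgt⟩
    exact ⟨_, (mem_Omega_iff Q hQf g).1 hg, by rw [← map_inv, ← map_mul, ← map_mul, hgt]⟩
  · rintro ⟨h, hh, hht⟩
    refine ⟨(toOrth Q hQf).symm h, ?_, (toOrth Q hQf).injective ?_⟩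
    · rw [mem_Omega_iff Q hQf, MulEquiv.apply_symm_apply]; exact hh
    · rw [map_mul, map_mul, map_inv, MulEquiv.apply_symm_apply, hht]

theorem omega_conj_of_fixed (hQ : (QuadraticMap.polarBilin Q).Nondegenerate) (h4 : Good F (ι → F))
    (t s : ↥(Cfsg.isometryGroup F Qf)) (hconj : IsConj t s) {a : ι → F}
    (ha : nil Q (toOrth Q hQf t) a = 0) (hqa : Q a ≠ 0) : ∃ g ∈ Cfsg.Omega F Qf, g * t * g⁻¹ = s := by
  obtain ⟨c, hc⟩ := isConj_iff.1 hconj
  obtain ⟨h, hh, hht⟩ := conj_commutator hQ h4 (g := toOrth Q hQf c) ha hqa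
  refine (exists_omega Q hQf t s).2 ⟨h, hh, hht.trans ?_⟩
  rw [← map_inv, ← map_mul, ← map_mul, hc]

end CfsgLib.KnownA.OrthInvolutions
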