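import Cfsg.Agent.Lib.KnownA.SympInvolutions

/-!
The number of involution classes of `Sp_{2m}(q)`, `q` even.
-/

set_option autoImplicit false
set_option linter.unusedSectionVars false

namespace CfsgLib.SympInvolutionCount

open Module Matrix CfsgLib.KnownA.SympInvolutions CfsgLib.KnownA.InvolutionForms

variable {F : Type*} [Field F] [CharP F 2] {m : ℕ}

local notation "Sp" => symplecticGroup (Fin m) F

/-- The shear with symmetric block `C`. -/
def shear (C : Matrix (Fin m) (Fin m) F) (hC : Cᵀ = C) : Sp :=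
  ⟨fromBlocks 1 0 C 1, by
    rw [SymplecticGroup.mem_iff, Matrix.J, fromBlocks_transpose, fromBlocks_multiply,
      fromBlocks_multiply, hC]
    simp⟩

theorem shear_sub (C : Matrix (Fin m) (Fin m) F) (hC : Cᵀ = C) :
    (shear C hC).1 - 1 = fromBlocks 0 0 C 0 := by
  show fromBlocks 1 0 C 1 - 1 = _
  rw [← fromBlocks_one, sub_eq_add_neg, fromBlocks_neg, fromBlocks_add]
  simp

theorem shear_rank (C : Matrix (Fin m) (Fin m) F) (hC : Cᵀ = C) :
    ((shear C hC).1 - 1).rank = C.rank := by
  rw [shear_sub]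
  let ι : (Fin m → F) →ₗ[F] (Fin m ⊕ Fin m → F) :=
    { toFun := fun y => Sum.elim 0 y
      map_add' := fun x y => by ext (i | i) <;> simp
      map_smul' := fun c x => by ext (i | i) <;> simp }
  have hι : Function.Injective ι := fun x y h => funext fun i => congrFun h (Sum.inr i)
  have h : LinearMap.range (fromBlocks (0 : Matrix (Fin m) (Fin m) F) (0 : Matrix (Fin m) (Fin m) F) C
      (0 : Matrix (Fin m) (Fin m) F)).mulVecLin = (LinearMap.range C.mulVecLin).map ι := by
    ext z
    constructor
    · rintro ⟨v, rfl⟩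
      exact ⟨C *ᵥ (v ∘ Sum.inl), ⟨_, rfl⟩, by
        ext (i | i) <;> simp [ι, fromBlocks_mulVec]⟩
    · rintro ⟨_, ⟨x, rfl⟩, rfl⟩
      exact ⟨Sum.elim x 0, by ext (i | i) <;> simp [ι, fromBlocks_mulVec]⟩
  rw [Matrix.rank, h, Matrix.rank]
  exact (Submodule.equivMapOfInjective ι hι _).finrank_eq.symm

theorem shear_form (C : Matrix (Fin m) (Fin m) F) (hC : Cᵀ = C) (v : Fin m ⊕ Fin m → F) :
    Cfsg.sympForm m F v (nil (shear C hC) v) = (v ∘ Sum.inl) ⬝ᵥ (C *ᵥ (v ∘ Sum.inl)) := by
  rw [nil, toLin'_apply, shear_sub, fromBlocks_mulVec, Cfsg.sympForm, Matrix.J, fromBlocks_mulVec]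
  simp only [dotProduct, Fintype.sum_sum_type, Sum.elim_inl, Sum.elim_inr, Function.comp_def,
    zero_mulVec, add_zero, zero_add, neg_mulVec, one_mulVec, Pi.neg_apply, CharTwo.neg_eq,
    Pi.zero_apply, mul_zero, Finset.sum_const_zero]

theorem shear_order [Finite F] (C : Matrix (Fin m) (Fin m) F) (hC : Cᵀ = C) (h0 : C ≠ 0) :
    orderOf (shear C hC) = 2 := by
  refine orderOf_eq_prime ?_ ?_
  · rw [pow_two]
    apply Subtype.ext
    show fromBlocks 1 0 C 1 * fromBlocks 1 0 C 1 = (1 : Matrix (Fin m ⊕ Fin m) (Fin m ⊕ Fin m) F)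
    rw [fromBlocks_multiply, ← fromBlocks_one]
    simp [← two_smul F C, CharTwo.two_eq_zero]
  · intro h
    apply h0
    have h1 : fromBlocks 1 0 C 1 = (1 : Matrix (Fin m ⊕ Fin m) (Fin m ⊕ Fin m) F) := congrArg Subtype.val h
    rw [← fromBlocks_one, fromBlocks_inj] at h1
    exact h1.2.2.1

/-- `diag(1, …, 1, 0, …)` with `s` ones. -/
def diagC (F : Type*) [Field F] (m s : ℕ) : Matrix (Fin m) (Fin m) F :=
  diagonal fun i => if (i : ℕ) < s then 1 else 0

/-- Pairs `2 l ↔ 2 l + 1` below `s`. -/
def altC (F : Type*) [Field F] (m s : ℕ) : Matrix (Fin m) (Fin m) F :=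
  Matrix.of fun i j =>
    if (i : ℕ) < s ∧ (j : ℕ) < s ∧ (i : ℕ) ≠ j ∧ (i : ℕ) / 2 = j / 2 then 1 else 0

theorem rank_diagC [DecidableEq F] (s : ℕ) (hs : s ≤ m) : (diagC F m s).rank = s := by
  rw [diagC, rank_diagonal]
  rw [Fintype.card_subtype, show (Finset.univ.filter fun i : Fin m =>
    (if (i : ℕ) < s then (1 : F) else 0) ≠ 0) = (Finset.univ : Finset (Fin s)).map (Fin.castLEEmb hs) by
      ext j
      simp only [Finset.mem_filter, Finset.mem_univ, true_and, Finset.mem_map, ne_eq, ite_eq_right_iff,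
        one_ne_zero, imp_false, not_not]
      exact ⟨fun h => ⟨⟨j, h⟩, Fin.ext rfl⟩, fun ⟨k, hk⟩ => hk ▸ k.isLt⟩]
  simp

theorem altC_symm (s : ℕ) : (altC F m s)ᵀ = altC F m s := by
  ext i j
  simp only [altC, transpose_apply, of_apply]
  refine if_congr ⟨?_, ?_⟩ rfl rfl <;> rintro ⟨a, b, c, d⟩ <;> exact ⟨b, a, c.symm, d.symm⟩

theorem rank_altC [DecidableEq F] (s : ℕ) (hs : s ≤ m) (he : Even s) : (altC F m s).rank = s := by
  obtain ⟨k, hk⟩ := he
  apply le_antisymm
  · calc (altC F m s).rank = (diagC F m s * altC F m s).rank := by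
          congr 1
          ext i j
          rw [diagC, diagonal_mul]
          simp only [altC, of_apply]
          split_ifs with h1 h2 <;> simp_all
      _ ≤ (diagC F m s).rank := rank_mul_le_left _ _
      _ = s := rank_diagC s hs
  · have h : altC F m s * altC F m s = diagC F m s := by
      ext i j
      rw [mul_apply, diagC, diagonal_apply]
      simp only [altC, of_apply]
      by_cases hi : (i : ℕ) < s
      · let i' : Fin m := ⟨if (i : ℕ) % 2 = 0 then (i : ℕ) + 1 else (i : ℕ) - 1, by split_ifs <;> omega⟩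
        rw [Finset.sum_eq_single i']
        · rw [if_pos (show (i : ℕ) < s ∧ (i' : ℕ) < s ∧ (i : ℕ) ≠ i' ∧ (i : ℕ) / 2 = (i' : ℕ) / 2 by
            simp only [i']; split_ifs <;> omega), one_mul]
          by_cases hij : i = j
          · subst hij
            rw [if_pos rfl, if_pos hi, if_pos]
            simp only [i']; split_ifs <;> omega
          · rw [if_neg hij, if_neg]
            rw [Fin.ext_iff] at hij
            simp only [i']; split_ifs <;> omega
        · intro l _ hl
          rw [if_neg, zero_mul]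
          intro hc
          apply hl
          apply Fin.ext
          simp only [i']
          split_ifs <;> omega
        · exact fun h => absurd (Finset.mem_univ _) h
      · rw [Finset.sum_eq_zero fun l _ => by rw [if_neg (fun hc => hi hc.1), zero_mul]]
        simp [hi]
    calc s = (diagC F m s).rank := (rank_diagC s hs).symm
      _ = (altC F m s * altC F m s).rank := by rw [h]
      _ ≤ (altC F m s).rank := rank_mul_le_left _ _

theorem altC_form (s : ℕ) (x : Fin m → F) : x ⬝ᵥ (altC F m s *ᵥ x) = 0 := by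
  simp only [dotProduct, mulVec, Finset.mul_sum]
  rw [← Finset.sum_product']
  refine Finset.sum_involution (fun p _ => (p.2, p.1)) ?_ ?_ ?_ ?_
  · intro p _
    rw [show altC F m s p.2 p.1 = altC F m s p.1 p.2 from congrFun (congrFun (altC_symm s) p.1) p.2]
    linear_combination (x p.1 * altC F m s p.1 p.2 * x p.2) * CharTwo.two_eq_zero (R := F)
  · intro p _ hp h
    apply hp
    have h1 : p.2 = p.1 := congrArg Prod.fst h
    rw [h1]
    simp [altC]
  · intro p _; simp
  · intro p _; rfl

theorem card_classes [Fintype F] (hm : 1 ≤ m) :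
    Nat.card {C : ConjClasses Sp // ∃ g : Sp, ConjClasses.mk g = C ∧ orderOf g = 2} = m + m / 2 := by
  classical
  let s : Fin m ⊕ Fin (m / 2) → ℕ := Sum.elim (fun i => (i : ℕ) + 1) (fun j => 2 * ((j : ℕ) + 1))
  let Cm : Fin m ⊕ Fin (m / 2) → Matrix (Fin m) (Fin m) F := fun x =>
    Sum.elim (fun i : Fin m => diagC F m ((i : ℕ) + 1))
      (fun j : Fin (m / 2) => altC F m (2 * ((j : ℕ) + 1))) x
  have hsym : ∀ x, (Cm x)ᵀ = Cm x := by
    rintro (i | j)
    · exact diagonal_transpose _
    · exact altC_symm _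
  have hle : ∀ x, s x ≤ m := by
    rintro (i | j)
    · have := i.isLt; simp only [s, Sum.elim_inl]; omega
    · have := j.isLt; simp only [s, Sum.elim_inr]; omega
  have hrank : ∀ x, (Cm x).rank = s x := by
    rintro (i | j)
    · exact rank_diagC _ (hle (Sum.inl i))
    · exact rank_altC _ (hle (Sum.inr j)) (even_two_mul _)
  let R : Fin m ⊕ Fin (m / 2) → Sp := fun x => shear (Cm x) (hsym x)
  have hne : ∀ x, Cm x ≠ 0 := fun x h => by
    have h1 := hrank x
    rw [h, rank_zero] at h1
    rcases x with i | j <;> simp [s] at h1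
  have halt : ∀ x, (∀ v, Cfsg.sympForm m F v (nil (R x) v) = 0) ↔ x.isRight = true := by
    rintro (i | j)
    · simp only [Sum.isRight_inl, Bool.false_eq_true, iff_false]
      intro h
      have h1 := h (Sum.elim (Pi.single ⟨0, by omega⟩ 1) 0)
      rw [shear_form, Sum.elim_comp_inl] at h1
      simp [Cm, diagC] at h1
      rw [Fin.lt_def] at h1
      exact Nat.not_lt_zero _ h1
    · simp only [Sum.isRight_inr, iff_true]
      intro v
      rw [shear_form]
      exact altC_form _ _
  have hinv : ∀ {a b : Sp}, IsConj a b → (a.1 - 1).rank = (b.1 - 1).rank ∧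
      ((∀ v, Cfsg.sympForm m F v (nil a v) = 0) → ∀ v, Cfsg.sympForm m F v (nil b v) = 0) := by
    intro a b h
    obtain ⟨c, hc⟩ := isConj_iff.1 h
    have hmul : b * c = c * a := by rw [← hc]; group
    have hm' : b.1 * c.1 = c.1 * a.1 := congrArg Subtype.val hmul
    have hdet : IsUnit c.1.det := SymplecticGroup.symplectic_det c.2
    have hsub : (b.1 - 1) * c.1 = c.1 * (a.1 - 1) := by
      rw [Matrix.sub_mul, Matrix.mul_sub, Matrix.one_mul, Matrix.mul_one, hm']
    refine ⟨?_, fun ha v => ?_⟩
    · rw [← rank_mul_eq_right_of_isUnit_det c.1 _ hdet, ← hsub, rank_mul_eq_left_of_isUnit_det c.1 _ hdet]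
    · obtain ⟨w, rfl⟩ := mulVec_surjective_iff_isUnit.2 ((isUnit_iff_isUnit_det _).2 hdet) v
      have h1 : nil b (c.1 *ᵥ w) = c.1 *ᵥ nil a w := by
        simp only [nil, toLin'_apply, mulVec_mulVec, hsub]
      rw [h1, (CfsgLib.Classical.mem_symplecticGroup_iff_preserves m).1 c.2, ha]
  let Φ : Fin m ⊕ Fin (m / 2) → {C : ConjClasses Sp // ∃ g : Sp, ConjClasses.mk g = C ∧ orderOf g = 2} :=
    fun x => ⟨ConjClasses.mk (R x), _, rfl, shear_order _ _ (hne x)⟩
  have hbij : Function.Bijective Φ := by
    constructor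
    · intro x y h
      have hc := ConjClasses.mk_eq_mk_iff_isConj.1 (congrArg Subtype.val h)
      obtain ⟨h1, h2⟩ := hinv hc
      obtain ⟨-, h3⟩ := hinv hc.symm
      rw [shear_rank, shear_rank, hrank, hrank] at h1
      have h4 : x.isRight = true ↔ y.isRight = true := by rw [← halt, ← halt]; exact ⟨h2, h3⟩
      rcases x with i | i <;> rcases y with j | j <;> simp at h4
      · simp [s] at h1; exact congrArg Sum.inl (Fin.ext (by omega))
      · simp [s] at h1; exact congrArg Sum.inr (Fin.ext (by omega))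
    · rintro ⟨C, g, rfl, hg⟩
      obtain ⟨hN, hA⟩ := nil_props g hg
      set r := (g.1 - 1).rank with hr
      have hrm : r ≤ m := by
        have h1 : LinearMap.range (nil g) ≤ LinearMap.ker (nil g) := by
          rintro _ ⟨v, rfl⟩; exact hN v
        have h2 := Submodule.finrank_mono h1
        have h3 := LinearMap.finrank_range_add_finrank_ker (nil g)
        rw [Module.finrank_fintype_fun_eq_card, Fintype.card_sum, Fintype.card_fin] at h3
        have h4 : finrank F (LinearMap.range (nil g)) = r := by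
          rw [hr, Matrix.rank, nil]; rfl
        omega
      have hr1 : 1 ≤ r := by
        by_contra h
        have h0 : (g.1 - 1).rank = 0 := by omega
        rw [Matrix.rank, Submodule.finrank_eq_zero, LinearMap.range_eq_bot] at h0
        have h1 : g = 1 := Subtype.ext (by
          refine sub_eq_zero.mp (Matrix.ext_of_mulVec_single fun i => ?_)
          have := LinearMap.congr_fun h0 (Pi.single i 1)
          rw [mulVecLin_apply] at this
          rw [zero_mulVec]
          exact this)
        rw [h1, orderOf_one] at hg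
        exact absurd hg (by norm_num)
      suffices ∃ x, IsConj (R x) g by
        obtain ⟨x, hx⟩ := this
        exact ⟨x, Subtype.ext (ConjClasses.mk_eq_mk_iff_isConj.2 hx)⟩
      by_cases ha : ∀ v, Cfsg.sympForm m F v (nil g v) = 0
      · obtain ⟨W, hW, hk, ht, -⟩ := exists_twist spForm (nil g) spForm_nondeg hA
        have hWa : (twist spForm (nil g) hA W).Alt := ht.2 fun v => by
          show Cfsg.sympForm m F (nil g v) v = 0
          rw [sympForm_symm]; exact ha v
        obtain ⟨hev, -⟩ := alt_basis _ hW hWa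
          (hk.trans (show finrank F (LinearMap.range (nil g)) = r by rw [hr, Matrix.rank, nil]; rfl))
        obtain ⟨l, hl⟩ := hev
        let x : Fin m ⊕ Fin (m / 2) := Sum.inr ⟨l - 1, by omega⟩
        refine ⟨x, spConj _ _ (shear_order _ _ (hne x)) hg ?_ fun _ => ?_⟩
        · rw [shear_rank, hrank]; simp [s, x]; omega
        · exact iff_of_true ((halt x).2 rfl) ha
      · let x : Fin m ⊕ Fin (m / 2) := Sum.inl ⟨r - 1, by omega⟩
        refine ⟨x, spConj _ _ (shear_order _ _ (hne x)) hg ?_ fun _ => ?_⟩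
        · rw [shear_rank, hrank]; simp [s, x]; omega
        · exact iff_of_false (fun h => absurd ((halt x).1 h) (by simp [x])) ha
  rw [← Nat.card_congr (Equiv.ofBijective Φ hbij), Nat.card_sum, Nat.card_fin, Nat.card_fin]

end CfsgLib.SympInvolutionCount
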