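import Cfsg.Agent.Lib.KnownA.OrthInvolutions
import Cfsg.Agent.Lib.KnownA.OrthInvolutionsBridge
import Cfsg.Agent.Lib.KnownA.SympInvolutionCount

/-!
The number of involution classes of orthogonal groups in characteristic two, and of their
commutator subgroups.
-/

set_option autoImplicit false
set_option linter.unusedSectionVars false

namespace CfsgLib.OrthInvolutionCount

open Module Matrix QuadraticMap CfsgLib.Orth CfsgLib.KnownA.OrthInvolutions

/-- Classes of elements of order two. -/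
abbrev InvClasses (G : Type*) [Group G] : Type _ :=
  {C : ConjClasses G // ∃ g : G, ConjClasses.mk g = C ∧ orderOf g = 2}

theorem card_invClasses_congr {G H : Type*} [Group G] [Group H] (e : G ≃* H) :
    Nat.card (InvClasses G) = Nat.card (InvClasses H) := by
  let Φ : InvClasses G → InvClasses H := fun C => ⟨ConjClasses.map e.toMonoidHom C.1, by
    obtain ⟨g, hg, ho⟩ := C.2
    exact ⟨e g, by rw [← hg]; rfl, by rw [MulEquiv.orderOf_eq, ho]⟩⟩
  refine Nat.card_congr (Equiv.ofBijective Φ ⟨?_, ?_⟩)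
  · rintro ⟨_, g, rfl, hg⟩ ⟨_, g', rfl, hg'⟩ h
    obtain ⟨c, hc⟩ := isConj_iff.1 (ConjClasses.mk_eq_mk_iff_isConj.1 (congrArg Subtype.val h))
    obtain ⟨c, rfl⟩ := e.surjective c
    refine Subtype.ext (ConjClasses.mk_eq_mk_iff_isConj.2 (isConj_iff.2 ⟨c, e.injective ?_⟩))
    simpa using hc
  · rintro ⟨_, h, rfl, hh⟩
    obtain ⟨g, rfl⟩ := e.surjective h
    exact ⟨⟨ConjClasses.mk g, g, rfl, by rwa [MulEquiv.orderOf_eq] at hh⟩, Subtype.ext rfl⟩

/-- The classes are counted by a complete system of representatives. -/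
theorem card_invClasses {G : Type*} [Group G] {J : Type*} (R : J → G) (ho : ∀ x, orderOf (R x) = 2)
    (hinj : ∀ x y, IsConj (R x) (R y) → x = y) (hsurj : ∀ g, orderOf g = 2 → ∃ x, IsConj (R x) g) :
    Nat.card (InvClasses G) = Nat.card J := by
  refine (Nat.card_congr (Equiv.ofBijective
    (fun x => (⟨ConjClasses.mk (R x), _, rfl, ho x⟩ : InvClasses G)) ⟨?_, ?_⟩)).symm
  · intro x y h
    exact hinj x y (ConjClasses.mk_eq_mk_iff_isConj.1 (congrArg Subtype.val h))
  · rintro ⟨_, g, rfl, hg⟩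
    obtain ⟨x, hx⟩ := hsurj g hg
    exact ⟨x, Subtype.ext (ConjClasses.mk_eq_mk_iff_isConj.2 hx)⟩

variable {F V : Type*} [Field F] [Fintype F] [CharP F 2] [AddCommGroup V] [Module F V]
  [FiniteDimensional F V] {Q : QuadraticForm F V}

local notation "rk" => fun (t : orthGroup Q) => finrank F (LinearMap.range (nil Q t))

theorem quad_sum {ι : Type*} (s : Finset ι) (w : ι → V) (h : ∀ i j, polar Q (w i) (w j) = 0)
    (c : ι → F) : Q (∑ i ∈ s, c i • w i) = ∑ i ∈ s, c i * c i * Q (w i) := by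
  induction s using Finset.cons_induction with
  | empty => simp
  | cons i s hi ih =>
    rw [Finset.sum_cons, Finset.sum_cons, quad_add', quad_smul', ih]
    have : polar Q (c i • w i) (∑ j ∈ s, c j • w j) = 0 := by
      show polarBilin Q (c i • w i) (∑ j ∈ s, c j • w j) = 0
      simp [map_sum, h]
    rw [this, add_zero]

theorem order_two_iff (t : orthGroup Q) :
    orderOf t = 2 ↔ t * t = 1 ∧ finrank F (LinearMap.range (nil Q t)) ≠ 0 := by
  have h1 : finrank F (LinearMap.range (nil Q t)) = 0 ↔ t = 1 := by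
    rw [Submodule.finrank_eq_zero, LinearMap.range_eq_bot]
    constructor
    · intro h
      exact Subtype.ext (LinearEquiv.ext fun v => by
        have := LinearMap.congr_fun h v
        rw [nil_apply, LinearMap.zero_apply, sub_eq_zero] at this
        exact this)
    · rintro rfl
      exact LinearMap.ext fun v => by rw [nil_apply]; exact sub_self v
  rw [orderOf_eq_prime_iff, _root_.sq, ne_eq, ne_eq, h1]

variable (hQ : (QuadraticMap.polarBilin Q).Nondegenerate)
include hQ

/-- An involution with prescribed twisted form. -/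
theorem exists_rep {s : ℕ} (w : Fin s → V) (hw : LinearIndependent F w)
    (h0 : ∀ i j, polar Q (w i) (w j) = 0) (C : Matrix (Fin s) (Fin s) F) (hrk : C.rank = s)
    (hC : ∀ c : Fin s → F, ∑ i, (C *ᵥ c) i * (C *ᵥ c) i * Q (w i) = c ⬝ᵥ (C *ᵥ c)) :
    ∃ t : orthGroup Q, t * t = 1 ∧ finrank F (LinearMap.range (nil Q t)) = s ∧
      (Alt Q t ↔ ∀ c, c ⬝ᵥ (C *ᵥ c) = 0) := by
  let P : V →ₗ[F] (Fin s → F) := LinearMap.pi fun i => polarBilin Q (w i)
  have hP : Function.Surjective P := by
    rw [← LinearMap.range_eq_top]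
    by_contra hne
    obtain ⟨f, hf0, hf⟩ := Submodule.exists_le_ker_of_lt_top _ (lt_top_iff_ne_top.2 hne)
    refine hf0 (LinearMap.pi_ext' fun i => LinearMap.ext_ring ?_)
    have hfw : ∑ j, f (Pi.single j 1) • w j = 0 := eq_zero_of_polar hQ fun v => by
      have h1 : f (P v) = 0 := hf ⟨v, rfl⟩
      rw [show P v = ∑ j, P v j • Pi.single j (1 : F) from pi_eq_sum_univ' _, map_sum] at h1
      show polarBilin Q _ v = 0
      simp only [map_sum, LinearMap.sum_apply, map_smul, LinearMap.smul_apply, smul_eq_mul]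
      rw [← h1]
      exact Finset.sum_congr rfl fun j _ => by rw [map_smul, smul_eq_mul, mul_comm]; rfl
    simpa using Fintype.linearIndependent_iff.1 hw _ hfw i
  let L : (Fin s → F) →ₗ[F] V := Fintype.linearCombination F w
  let N : V →ₗ[F] V := L ∘ₗ C.mulVecLin ∘ₗ P
  have hN : ∀ v, N v = ∑ i, (C *ᵥ P v) i • w i := fun v => by
    simp [N, L, Fintype.linearCombination_apply]
  have hPN : ∀ v, P (N v) = 0 := fun v => _root_.funext fun i => by
    show polarBilin Q (w i) (N v) = 0
    simp [hN, map_sum, h0]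
  have hNN : ∀ v, N (N v) = 0 := fun v => by
    show L (C *ᵥ P (N v)) = 0
    rw [hPN, Matrix.mulVec_zero, map_zero]
  have hQN : ∀ v, Q (N v) = P v ⬝ᵥ (C *ᵥ P v) := fun v => by rw [hN, quad_sum _ w h0, hC]
  have hpol : ∀ v, polar Q v (N v) = P v ⬝ᵥ (C *ᵥ P v) := fun v => by
    rw [hN]
    show polarBilin Q v (∑ i, (C *ᵥ P v) i • w i) = _
    simp only [map_sum, map_smul, dotProduct, smul_eq_mul]
    refine Finset.sum_congr rfl fun i _ => ?_
    rw [mul_comm, polarBilin_apply_apply, polar_comm]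
    rfl
  let g := LinearMap.id (R := F) (M := V) + N
  have hg : Function.Involutive g := fun v => by
    show (v + N v) + N (v + N v) = v
    rw [map_add, hNN, add_zero, add_assoc, ← two_smul F (N v), CharTwo.two_eq_zero, zero_smul, add_zero]
  let t : orthGroup Q := ⟨LinearEquiv.ofInvolutive g hg, fun v => by
    show Q (v + N v) = Q v
    rw [quad_add', hQN, hpol, add_assoc, CharTwo.add_self_eq_zero, add_zero]⟩
  have hnil : nil Q t = N := LinearMap.ext fun v => by
    rw [nil_apply]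
    show v + N v - v = N v
    abel
  have hCs : Function.Surjective C.mulVecLin := by
    rw [← LinearMap.range_eq_top]
    exact Submodule.eq_top_of_finrank_eq (by rw [Module.finrank_fin_fun]; exact hrk)
  refine ⟨t, Subtype.ext (LinearEquiv.ext hg), ?_, ?_⟩
  · have : LinearMap.range (nil Q t) = LinearMap.range L := by
      rw [hnil]
      show LinearMap.range (L ∘ₗ C.mulVecLin ∘ₗ P) = _
      exact LinearMap.range_comp_of_range_eq_top _ (LinearMap.range_eq_top.2 (hCs.comp hP))
    rw [this, LinearMap.finrank_range_of_inj (Fintype.linearIndependent_iff.1 hw |> fun h => by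
      refine (injective_iff_map_eq_zero L).2 fun c hc => _root_.funext fun i => ?_
      exact h c (by simpa [L, Fintype.linearCombination_apply] using hc) i), Module.finrank_fin_fun]
  · unfold Alt
    simp only [hnil, hQN]
    exact ⟨fun h c => by obtain ⟨v, rfl⟩ := hP c; exact h v, fun h v => h _⟩

/-- Representatives of rank `s`, non-alternating. -/
theorem exists_rep_nonalt {m s : ℕ} (u : Fin m → V) (hu : LinearIndependent F u)
    (hu0 : ∀ i j, polar Q (u i) (u j) = 0) (hu1 : ∀ i, Q (u i) = 1) (h1 : 1 ≤ s) (hs : s ≤ m) :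
    ∃ t : orthGroup Q, t * t = 1 ∧ finrank F (LinearMap.range (nil Q t)) = s ∧ ¬ Alt Q t := by
  obtain ⟨t, h, h', h''⟩ := exists_rep hQ (u ∘ Fin.castLE hs) (hu.comp _ (Fin.castLE_injective hs))
    (fun i j => hu0 _ _) 1 (by simp) (fun c => by simp [hu1, dotProduct])
  refine ⟨t, h, h', fun ha => ?_⟩
  simpa using h''.1 ha (Pi.single ⟨0, h1⟩ 1)

/-- Representatives of rank `s`, alternating. -/
theorem exists_rep_alt {k s : ℕ} (e : Fin k → V) (he : LinearIndependent F e)
    (he0 : ∀ i j, polar Q (e i) (e j) = 0) (he1 : ∀ i, Q (e i) = 0) (hev : Even s) (hs : s ≤ k) :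
    ∃ t : orthGroup Q, t * t = 1 ∧ finrank F (LinearMap.range (nil Q t)) = s ∧ Alt Q t := by
  classical
  obtain ⟨t, h, h', h''⟩ := exists_rep hQ (e ∘ Fin.castLE hs) (he.comp _ (Fin.castLE_injective hs))
    (fun i j => he0 _ _) (SympInvolutionCount.altC F s s) (SympInvolutionCount.rank_altC s le_rfl hev)
    (fun c => by simp [he1, SympInvolutionCount.altC_form])
  exact ⟨t, h, h', h''.2 fun c => SympInvolutionCount.altC_form s c⟩

theorem isConj_of_invariants {t s : orthGroup Q} (ht : t * t = 1) (hs : s * s = 1)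
    (hr : finrank F (LinearMap.range (nil Q t)) = finrank F (LinearMap.range (nil Q s)))
    (ha : Alt Q t ↔ Alt Q s) : IsConj t s := by
  obtain ⟨-, h1, h2⟩ := exists_top hQ ht rfl
  obtain ⟨-, h1', h2'⟩ := exists_top hQ hs hr.symm
  by_cases h : Alt Q t
  · obtain ⟨w, hw⟩ := h1 h
    obtain ⟨w', hw'⟩ := h1' (ha.1 h)
    exact conj_of_top hQ ht hs hw hw'
  · obtain ⟨w, hw⟩ := h2 h
    obtain ⟨w', hw'⟩ := h2' (fun h' => h (ha.2 h'))
    exact conj_of_top hQ ht hs hw hw'

omit hQ in
theorem nil_conj {t s h : orthGroup Q} (hh : h * t * h⁻¹ = s) (v : V) :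
    h.1 (nil Q t v) = nil Q s (h.1 v) := by
  have e : s * h = h * t := by rw [← hh, inv_mul_cancel_right]
  have e' : s.1 (h.1 v) = h.1 (t.1 v) := congrArg (fun x : orthGroup Q => x.1 v) e
  rw [nil_apply, nil_apply, map_sub, e']

omit hQ in
theorem range_conj {t s h : orthGroup Q} (hh : h * t * h⁻¹ = s) :
    (LinearMap.range (nil Q t)).map (h.1 : V →ₗ[F] V) = LinearMap.range (nil Q s) := by
  ext x
  constructor
  · rintro ⟨_, ⟨v, rfl⟩, rfl⟩; exact ⟨h.1 v, (nil_conj hh v).symm⟩
  · rintro ⟨y, rfl⟩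
    obtain ⟨v, rfl⟩ := h.1.surjective y
    exact ⟨_, ⟨v, rfl⟩, nil_conj hh v⟩

omit hQ in
theorem invariants_of_isConj {t s : orthGroup Q} (h : IsConj t s) :
    finrank F (LinearMap.range (nil Q t)) = finrank F (LinearMap.range (nil Q s)) ∧
      (Alt Q t ↔ Alt Q s) := by
  obtain ⟨c, hc⟩ := isConj_iff.1 h
  refine ⟨by rw [← range_conj hc, LinearEquiv.finrank_map_eq], fun h v => ?_, fun h v => ?_⟩
  · obtain ⟨w, rfl⟩ := c.1.surjective v
    rw [← nil_conj hc, apply_quad]; exact h w
  · rw [← apply_quad c, nil_conj hc]; exact h _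

/-- Bound on the invariants. -/
theorem bounds {m k : ℕ} (hdim : finrank F V = 2 * m)
    (hsing : ∀ U : Submodule F V, (∀ u ∈ U, Q u = 0) → finrank F U ≤ k)
    {t : orthGroup Q} (ht : t * t = 1) :
    finrank F (LinearMap.range (nil Q t)) ≤ m ∧
      (Alt Q t → Even (finrank F (LinearMap.range (nil Q t))) ∧
        finrank F (LinearMap.range (nil Q t)) ≤ k) := by
  have h2 : finrank F (LinearMap.range (nil Q t)) ≤ finrank F (LinearMap.ker (nil Q t)) :=
    Submodule.finrank_mono (by rintro _ ⟨v, rfl⟩; exact nil_nil ht v)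
  have h1 := LinearMap.finrank_range_add_finrank_ker (nil Q t)
  exact ⟨by omega, fun ha => ⟨(exists_top hQ ht rfl).1 ha,
    hsing _ (by rintro _ ⟨v, rfl⟩; exact ha v)⟩⟩

/-- Classes in the orthogonal group. -/
theorem card_orth {m k : ℕ} (hdim : finrank F V = 2 * m)
    (hsing : ∀ U : Submodule F V, (∀ u ∈ U, Q u = 0) → finrank F U ≤ k)
    (u : Fin m → V) (hu : LinearIndependent F u) (hu0 : ∀ i j, polar Q (u i) (u j) = 0)
    (hu1 : ∀ i, Q (u i) = 1) (e : Fin k → V) (he : LinearIndependent F e)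
    (he0 : ∀ i j, polar Q (e i) (e j) = 0) (he1 : ∀ i, Q (e i) = 0) :
    Nat.card (InvClasses (orthGroup Q)) = m + k / 2 := by
  choose R1 a1 b1 c1 using fun i : Fin m =>
    exists_rep_nonalt hQ u hu hu0 hu1 (s := (i : ℕ) + 1) (by omega) (by omega)
  choose R2 a2 b2 c2 using fun j : Fin (k / 2) =>
    exists_rep_alt hQ e he he0 he1 (s := 2 * ((j : ℕ) + 1)) (even_two_mul _) (by omega)
  rw [card_invClasses (Sum.elim R1 R2), Nat.card_sum, Nat.card_fin, Nat.card_fin]
  · rintro (i | j) <;> refine (order_two_iff _).2 ⟨?_, ?_⟩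
    · exact a1 i
    · show finrank F (LinearMap.range (nil Q (R1 i))) ≠ 0
      rw [b1]; omega
    · exact a2 j
    · show finrank F (LinearMap.range (nil Q (R2 j))) ≠ 0
      rw [b2]; omega
  · rintro (i | i) (j | j) hc <;> obtain ⟨h1, h2⟩ := invariants_of_isConj hc
    · have : (i : ℕ) + 1 = (j : ℕ) + 1 := (b1 i).symm.trans (h1.trans (b1 j))
      exact congrArg Sum.inl (Fin.ext (by omega))
    · exact absurd (h2.2 (c2 j)) (c1 i)
    · exact absurd (h2.1 (c2 i)) (c1 j)
    · have : 2 * ((i : ℕ) + 1) = 2 * ((j : ℕ) + 1) := (b2 i).symm.trans (h1.trans (b2 j))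
      exact congrArg Sum.inr (Fin.ext (by omega))
  · intro g hg
    obtain ⟨hgg, hne⟩ := (order_two_iff g).1 hg
    obtain ⟨hle, halt⟩ := bounds hQ hdim hsing hgg
    by_cases ha : Alt Q g
    · obtain ⟨⟨l, hl⟩, hk⟩ := halt ha
      let j : Fin (k / 2) := ⟨l - 1, by omega⟩
      exact ⟨.inr j, isConj_of_invariants hQ (a2 j) hgg ((b2 j).trans (by simp only [j]; omega))
        (iff_of_true (c2 j) ha)⟩
    · let i : Fin m := ⟨finrank F (LinearMap.range (nil Q g)) - 1, by omega⟩
      exact ⟨.inl i, isConj_of_invariants hQ (a1 i) hgg ((b1 i).trans (by simp only [i]; omega))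
        (iff_of_false (c1 i) ha)⟩

/-- Classes in the commutator subgroup. -/
theorem card_omega (h4 : Good F V) {m k : ℕ} (hdim : finrank F V = 2 * m) (hkm : k ≤ m) (hm : 1 ≤ m)
    (hsing : ∀ U : Submodule F V, (∀ u ∈ U, Q u = 0) → finrank F U ≤ k)
    (u : Fin m → V) (hu : LinearIndependent F u) (hu0 : ∀ i j, polar Q (u i) (u j) = 0)
    (hu1 : ∀ i, Q (u i) = 1) (e : Fin k → V) (he : LinearIndependent F e)
    (he0 : ∀ i j, polar Q (e i) (e j) = 0) (he1 : ∀ i, Q (e i) = 0) :
    Nat.card (InvClasses (commutator (orthGroup Q))) =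
      m / 2 + k / 2 + if k = m ∧ Even m then 1 else 0 := by
  classical
  obtain ⟨κ, hκ⟩ := exists_dickson Q hQ
  have hmem := mem_commutator_two hQ h4 κ hκ
  have hone : Multiplicative.ofAdd (1 : F) * Multiplicative.ofAdd 1 = 1 := by
    rw [← ofAdd_add, CharTwo.add_self_eq_zero]; rfl
  have hcases : ∀ x : orthGroup Q, κ x = 1 ∨ κ x = Multiplicative.ofAdd 1 := by
    intro x
    have hx : x ∈ reflGroup Q := by rw [reflGroup_eq_top hQ h4]; trivial
    induction hx using Subgroup.closure_induction with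
    | mem y hy =>
      obtain ⟨b, rfl⟩ := hy
      by_cases hb : Q b = 0
      · left
        have : refl Q b = 1 := Subtype.ext (LinearEquiv.ext fun v => by rw [refl_apply, hb]; simp)
        rw [this, map_one]
      · right; exact hκ b hb
    | one => left; exact map_one κ
    | mul y z _ _ hy hz => rcases hy with h | h <;> rcases hz with h' | h' <;> simp [h, h', hone]
    | inv y _ hy =>
      rcases hy with h | h
      · left; simp [h]
      · right; rw [map_inv, h, ← ofAdd_neg, CharTwo.neg_eq]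
  let r : orthGroup Q := refl Q (u ⟨0, hm⟩)
  have hr : κ r = Multiplicative.ofAdd 1 := hκ _ (by rw [hu1]; exact one_ne_zero)
  have hrK : r ∉ commutator (orthGroup Q) := fun h => one_ne_zero (congrArg Multiplicative.toAdd
    (hr.symm.trans ((hmem r).1 h)) : (1 : F) = 0)
  have hnorm : ∀ (t h : orthGroup Q), t ∈ commutator (orthGroup Q) →
      h * t * h⁻¹ ∈ commutator (orthGroup Q) := fun t h ht =>
    Subgroup.Normal.conj_mem inferInstance t ht h
  choose R1 a1 b1 c1 using fun i : Fin (m / 2) =>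
    exists_rep_nonalt hQ u hu hu0 hu1 (s := 2 * ((i : ℕ) + 1)) (by omega) (by omega)
  choose R2 a2 b2 c2 using fun j : Fin (k / 2) =>
    exists_rep_alt hQ e he he0 he1 (s := 2 * ((j : ℕ) + 1)) (even_two_mul _) (by omega)
  let n := if k = m ∧ Even m then 1 else 0
  have hn : ∀ _ : Fin n, k = m ∧ Even m ∧ m / 2 - 1 < k / 2 := fun x => by
    have := x.isLt
    simp only [n] at this
    split_ifs at this with h
    · obtain ⟨h', l, hl⟩ := h; exact ⟨h', ⟨l, hl⟩, by omega⟩
    · omega
  let R3 : Fin n → orthGroup Q := fun x => r * R2 ⟨m / 2 - 1, (hn x).2.2⟩ * r⁻¹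
  let R : Fin (m / 2) ⊕ Fin (k / 2) ⊕ Fin n → orthGroup Q := Sum.elim R1 (Sum.elim R2 R3)
  have hbase : ∀ x, R x * R x = 1 ∧ finrank F (LinearMap.range (nil Q (R x))) =
      Sum.elim (fun i : Fin (m / 2) => 2 * ((i : ℕ) + 1))
        (Sum.elim (fun j : Fin (k / 2) => 2 * ((j : ℕ) + 1)) (fun _ : Fin n => m)) x ∧
      (Alt Q (R x) ↔ x.isRight = true) := by
    rintro (i | j | x)
    · exact ⟨a1 i, b1 i, by simp [R, c1]⟩
    · exact ⟨a2 j, b2 j, by simp [R, c2]⟩
    · let j : Fin (k / 2) := ⟨m / 2 - 1, (hn x).2.2⟩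
      have hc : IsConj (R2 j) (R3 x) := isConj_iff.2 ⟨r, rfl⟩
      obtain ⟨h1, h2⟩ := invariants_of_isConj hc
      refine ⟨?_, ?_, by simpa [R, h2] using (h2.1 (c2 j))⟩
      · show R3 x * R3 x = 1
        simp only [R3]
        rw [show ∀ a : orthGroup Q, r * a * r⁻¹ * (r * a * r⁻¹) = r * (a * a) * r⁻¹ from
          fun a => by group, a2, mul_one, mul_inv_cancel]
      · show finrank F (LinearMap.range (nil Q (R3 x))) = m
        rw [← h1, b2]
        obtain ⟨-, ⟨l, hl⟩, -⟩ := hn x
        simp only [j]; omega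
  have hK : ∀ x, R x ∈ commutator (orthGroup Q) := fun x =>
    (mem_commutator_iff_even hQ h4 (hbase x).1).2 (by
      rw [(hbase x).2.1]
      rcases x with i | j | x <;> simp
      exact (hn x).2.1)
  have hstab : ∀ {t h : orthGroup Q}, t * t = 1 → Alt Q t →
      finrank F (LinearMap.range (nil Q t)) = m → h * t * h⁻¹ = t → h ∈ commutator (orthGroup Q) := by
    intro t h ht ha hk hh
    have hL : IsLagrangian Q (LinearMap.range (nil Q t)) :=
      isLagrangian_of_finrank hQ (by rintro _ ⟨v, rfl⟩; exact ha v) (by omega)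
    rw [mem_commutator_iff_even_two hQ h4 hL, range_conj hh, lagDist_self]
    exact Even.zero
  rw [card_invClasses (fun x => (⟨R x, hK x⟩ : commutator (orthGroup Q)))]
  · simp only [Nat.card_sum, Nat.card_fin, n]; omega
  · intro x
    rw [← Subgroup.orderOf_coe]
    refine (order_two_iff _).2 ⟨(hbase x).1, ?_⟩
    rw [(hbase x).2.1]
    rcases x with i | j | x <;> simp
    omega
  · intro x y hc
    obtain ⟨c, hc⟩ := isConj_iff.1 hc
    have hc' : (c : orthGroup Q) * R x * (c : orthGroup Q)⁻¹ = R y := congrArg Subtype.val hc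
    obtain ⟨h1, h2⟩ := invariants_of_isConj (isConj_iff.2 ⟨_, hc'⟩)
    rw [(hbase x).2.1, (hbase y).2.1] at h1
    rw [(hbase x).2.2, (hbase y).2.2] at h2
    rcases x with i | j | x <;> rcases y with i' | j' | x' <;> simp at h1 h2
    · exact congrArg Sum.inl (Fin.ext (by omega))
    · exact congrArg (Sum.inr ∘ Sum.inl) (Fin.ext (by omega))
    · exfalso
      obtain rfl : j = ⟨m / 2 - 1, (hn x').2.2⟩ := Fin.ext (by simp; omega)
      have hh : ((c : orthGroup Q)⁻¹ * r) * R (.inr (.inl ⟨m / 2 - 1, (hn x').2.2⟩)) *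
          ((c : orthGroup Q)⁻¹ * r)⁻¹ = R (.inr (.inl ⟨m / 2 - 1, (hn x').2.2⟩)) := by
        calc _ = (c : orthGroup Q)⁻¹ * R (.inr (.inr x')) * (c : orthGroup Q) := by
              simp only [R, R3, Sum.elim_inr, Sum.elim_inl]; group
          _ = _ := by rw [← hc']; group
      have h3 := hstab (hbase _).1 ((hbase _).2.2.2 rfl) (by rw [(hbase _).2.1]; simp; omega) hh
      exact hrK (by simpa using mul_mem c.2 h3)
    · exfalso
      obtain rfl : j' = ⟨m / 2 - 1, (hn x).2.2⟩ := Fin.ext (by simp; omega)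
      have hh : ((c : orthGroup Q) * r) * R (.inr (.inl ⟨m / 2 - 1, (hn x).2.2⟩)) *
          ((c : orthGroup Q) * r)⁻¹ = R (.inr (.inl ⟨m / 2 - 1, (hn x).2.2⟩)) := by
        calc _ = (c : orthGroup Q) * R (.inr (.inr x)) * (c : orthGroup Q)⁻¹ := by
              simp only [R, R3, Sum.elim_inr, Sum.elim_inl]; group
          _ = _ := hc'
      have h3 := hstab (hbase _).1 ((hbase _).2.2.2 rfl) (by rw [(hbase _).2.1]; simp; omega) hh
      exact hrK (by simpa using mul_mem (inv_mem c.2) h3)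
    · have := x.isLt; have := x'.isLt
      exact congrArg (Sum.inr ∘ Sum.inr) (Fin.ext (by simp only [n] at *; split_ifs at * <;> omega))
  · rintro ⟨g, hgK⟩ hg
    rw [← Subgroup.orderOf_coe] at hg
    obtain ⟨hgg, hne⟩ := (order_two_iff g).1 hg
    obtain ⟨hle, halt⟩ := bounds hQ hdim hsing hgg
    obtain ⟨l, hl⟩ := (mem_commutator_iff_even hQ h4 hgg).1 hgK
    obtain ⟨x, hx⟩ : ∃ x, IsConj (R x) g := by
      by_cases ha : Alt Q g
      · obtain ⟨-, hk⟩ := halt ha
        refine ⟨.inr (.inl ⟨l - 1, by omega⟩), isConj_of_invariants hQ (hbase _).1 hgg ?_ ?_⟩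
        · rw [(hbase _).2.1]; simp; omega
        · exact iff_of_true ((hbase _).2.2.2 rfl) ha
      · refine ⟨.inl ⟨l - 1, by omega⟩, isConj_of_invariants hQ (hbase _).1 hgg ?_ ?_⟩
        · rw [(hbase _).2.1]; simp; omega
        · exact iff_of_false (fun h => by simpa using (hbase _).2.2.1 h) ha
    suffices ∃ y, ∃ c ∈ commutator (orthGroup Q), c * R y * c⁻¹ = g by
      obtain ⟨y, c, hc, he'⟩ := this
      exact ⟨y, isConj_iff.2 ⟨⟨c, hc⟩, Subtype.ext he'⟩⟩
    obtain ⟨c, hc⟩ := isConj_iff.1 hx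
    by_cases hfix : ∃ a, nil Q (R x) a = 0 ∧ Q a ≠ 0
    · obtain ⟨a, ha, hqa⟩ := hfix
      obtain ⟨h, hh, he'⟩ := conj_commutator hQ h4 (g := c) ha hqa
      exact ⟨x, h, hh, he'.trans hc⟩
    push Not at hfix
    have h1 := LinearMap.finrank_range_add_finrank_ker (nil Q (R x))
    have h2 : LinearMap.range (nil Q (R x)) ≤ LinearMap.ker (nil Q (R x)) := by
      rintro _ ⟨v, rfl⟩; exact nil_nil (hbase x).1 v
    have h3 := hsing (LinearMap.ker (nil Q (R x))) fun a ha => hfix a ha
    have h5 := (bounds hQ hdim hsing (hbase x).1).1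
    have halt' : Alt Q (R x) := fun v => hfix _ (h2 ⟨v, rfl⟩)
    have hrm : finrank F (LinearMap.range (nil Q (R x))) = m := by omega
    have hmev : Even m := hrm ▸ ((bounds hQ hdim hsing (hbase x).1).2 halt').1
    have hkeq : k = m := by omega
    by_cases hcK : c ∈ commutator (orthGroup Q)
    · exact ⟨x, c, hcK, hc⟩
    have hprod : ∀ {a b : orthGroup Q}, a ∉ commutator (orthGroup Q) → b ∉ commutator (orthGroup Q) →
        a * b⁻¹ ∈ commutator (orthGroup Q) := fun {a b} ha hb => by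
      rw [hmem] at ha hb ⊢
      rw [map_mul, map_inv, (hcases a).resolve_left ha, (hcases b).resolve_left hb, mul_inv_cancel]
    rcases x with i | j | x
    · exact absurd ((hbase (.inl i)).2.2.1 halt') (by simp)
    · have hn1 : n = 1 := if_pos ⟨hkeq, hmev⟩
      refine ⟨.inr (.inr ⟨0, by omega⟩), c * r⁻¹, hprod hcK hrK, ?_⟩
      rw [(hbase _).2.1] at hrm
      simp at hrm
      have hj : (⟨m / 2 - 1, (hn ⟨0, by omega⟩).2.2⟩ : Fin (k / 2)) = j := Fin.ext (by simp; omega)
      refine Eq.trans ?_ hc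
      simp only [R, R3, Sum.elim_inr, Sum.elim_inl, hj]
      group
    · refine ⟨.inr (.inl ⟨m / 2 - 1, (hn x).2.2⟩), c * r, ?_, ?_⟩
      · have := hprod hcK (b := r⁻¹) (fun h => hrK (inv_mem_iff.1 h))
        simpa using this
      · refine Eq.trans ?_ hc
        simp only [R, R3, Sum.elim_inr, Sum.elim_inl]
        group

end CfsgLib.OrthInvolutionCount
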