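import Cfsg.Agent.Lib.KnownA.SemisimpleClassesMatrix

/-!
Involution classes of `PGL_n(q)`, `q` odd.
-/

set_option autoImplicit false
set_option linter.unusedSectionVars false

namespace CfsgLib.PGLInvolutions

open Polynomial

variable {F : Type*} [Field F] {n : ℕ}

theorem exists_pow_mul_pow {A B : F[X]} : ∀ P : F[X], P.Monic →
    (∀ m : F[X], m.Monic → Irreducible m → m ∣ P → m = A ∨ m = B) →
    ∃ a b : ℕ, P = A ^ a * B ^ b := by
  intro P
  induction hd : P.natDegree using Nat.strong_induction_on generalizing P with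
  | _ d ih =>
    intro hP h
    rcases Nat.eq_zero_or_pos d with rfl | hpos
    · exact ⟨0, 0, by rw [eq_one_of_monic_natDegree_zero hP hd]; simp⟩
    obtain ⟨m, hmm, hm, Q, rfl⟩ := Polynomial.exists_monic_irreducible_factor P (by
      intro hu; rw [Polynomial.natDegree_eq_zero_of_isUnit hu] at hd; omega)
    have hQ : Q.Monic := hmm.of_mul_monic_left hP
    rw [hmm.natDegree_mul hQ] at hd
    have := hm.natDegree_pos
    obtain ⟨a, b, rfl⟩ := ih Q.natDegree (by omega) Q rfl hQ fun k hk hk' hkd =>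
      h k hk hk' (hkd.mul_left m)
    rcases h m hmm hm (dvd_mul_right _ _) with rfl | rfl
    · exact ⟨a + 1, b, by ring⟩
    · exact ⟨a, b + 1, by ring⟩

theorem semisimple_of_sq (h2 : (2 : F) ≠ 0) (M : Matrix (Fin n) (Fin n) F) {c : F} (hc : c ≠ 0)
    (hM : M * M = c • 1) : Module.End.IsSemisimple (Matrix.toLin' M) := by
  refine Module.End.isSemisimple_of_squarefree_aeval_eq_zero (p := (X : F[X]) ^ 2 - C c)
    (Polynomial.separable_X_pow_sub_C c (by simpa using h2) hc).squarefree ?_
  rw [show Matrix.toLin' M = Matrix.toLinAlgEquiv' M from rfl, Polynomial.aeval_algEquiv,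
    AlgHom.comp_apply, map_sub, aeval_X_pow, aeval_C, pow_two, hM, Algebra.algebraMap_eq_smul_one,
    sub_self, map_zero]

theorem isConj_of_charpoly (h2 : (2 : F) ≠ 0) (g h : GL (Fin n) F) {c : F} (hc : c ≠ 0)
    (hg : (g : Matrix (Fin n) (Fin n) F) * (g : Matrix (Fin n) (Fin n) F) = c • 1)
    (hh : (h : Matrix (Fin n) (Fin n) F) * (h : Matrix (Fin n) (Fin n) F) = c • 1)
    (he : (g : Matrix (Fin n) (Fin n) F).charpoly = (h : Matrix (Fin n) (Fin n) F).charpoly) :
    IsConj g h := by
  obtain ⟨P, hP⟩ := SemisimpleClasses.exists_intertwining (semisimple_of_sq h2 _ hc hg)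
    (semisimple_of_sq h2 _ hc hh) he
  refine isConj_iff.mpr ⟨P, ?_⟩
  have h1 : P * g = h * P := Units.ext hP
  rw [h1, mul_inv_cancel_right]

theorem dvd_quad (M : Matrix (Fin n) (Fin n) F) {c : F} (hM : M * M = c • 1) {m : F[X]}
    (hm : Irreducible m) (hd : m ∣ M.charpoly) : m ∣ (X : F[X]) ^ 2 - C c := by
  refine (SemisimpleClasses.dvd_minpoly_matrix M hm hd).trans (minpoly.dvd F M ?_)
  rw [map_sub, aeval_X_pow, aeval_C, pow_two, hM, Algebra.algebraMap_eq_smul_one, sub_self]

theorem charpoly_of_sq_one (M : Matrix (Fin n) (Fin n) F) (hM : M * M = (1 : F) • 1) :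
    ∃ a b : ℕ, a + b = n ∧ M.charpoly = (X + C 1) ^ a * (X - C 1) ^ b := by
  obtain ⟨a, b, hab⟩ := exists_pow_mul_pow (A := X + C (1 : F)) (B := X - C (1 : F)) M.charpoly
    (Matrix.charpoly_monic M) (by
      intro m hm hi hd
      have h := dvd_quad M hM hi hd
      rw [show (X : F[X]) ^ 2 - C 1 = (X + C 1) * (X - C 1) by simp; ring] at h
      rcases hi.prime.dvd_mul.mp h with h1 | h1
      · exact Or.inl (eq_of_monic_of_associated hm (monic_X_add_C 1)
          (hi.associated_of_dvd (by simpa using irreducible_X_sub_C (-1 : F)) h1))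
      · exact Or.inr (eq_of_monic_of_associated hm (monic_X_sub_C 1)
          (hi.associated_of_dvd (irreducible_X_sub_C 1) h1)))
  refine ⟨a, b, ?_, hab⟩
  have h := congrArg Polynomial.natDegree hab
  rw [Matrix.charpoly_natDegree_eq_dim, Fintype.card_fin,
    ((monic_X_add_C (1 : F)).pow a).natDegree_mul ((monic_X_sub_C (1 : F)).pow b),
    (monic_X_add_C (1 : F)).natDegree_pow, (monic_X_sub_C (1 : F)).natDegree_pow,
    natDegree_X_add_C, natDegree_X_sub_C] at h
  omega

theorem charpoly_of_sq_nonsquare (M : Matrix (Fin n) (Fin n) F) {c : F} (hc : ¬ IsSquare c)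
    (hM : M * M = c • 1) : ∃ b : ℕ, 2 * b = n ∧ M.charpoly = (X ^ 2 - C c) ^ b := by
  have hirr : Irreducible ((X : F[X]) ^ 2 - C c) :=
    X_pow_sub_C_irreducible_of_prime Nat.prime_two fun b hb => hc ⟨b, by rw [← hb, pow_two]⟩
  have hmon : ((X : F[X]) ^ 2 - C c).Monic := monic_X_pow_sub_C c two_ne_zero
  obtain ⟨a, b, hab⟩ := exists_pow_mul_pow (A := X ^ 2 - C c) (B := X ^ 2 - C c) M.charpoly
    (Matrix.charpoly_monic M) fun m hm hi hd =>
      Or.inl (eq_of_monic_of_associated hm hmon (hi.associated_of_dvd hirr (dvd_quad M hM hi hd)))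
  rw [← pow_add] at hab
  refine ⟨a + b, ?_, hab⟩
  have h := congrArg Polynomial.natDegree hab
  rw [Matrix.charpoly_natDegree_eq_dim, Fintype.card_fin, hmon.natDegree_pow, natDegree_X_pow_sub_C] at h
  omega

variable [Fintype F]

/-- The diagonal involution with `i` entries `-1`. -/
def diagInv (n i : ℕ) : GL (Fin n) F :=
  let M : Matrix (Fin n) (Fin n) F := Matrix.diagonal fun j => if (j : ℕ) < i then -1 else 1
  have h : M * M = 1 := by
    rw [Matrix.diagonal_mul_diagonal, ← Matrix.diagonal_one]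
    congr 1; funext j; split_ifs <;> simp
  ⟨M, M, h, h⟩

theorem diagInv_sq (n i : ℕ) :
    (diagInv n i : GL (Fin n) F).1 * (diagInv n i : GL (Fin n) F).1 = (1 : F) • 1 := by
  rw [one_smul]; exact (diagInv n i).val_inv

theorem charpoly_diagInv (n i : ℕ) (hi : i ≤ n) :
    (diagInv n i : GL (Fin n) F).1.charpoly = (X + C 1) ^ i * (X - C 1) ^ (n - i) := by
  classical
  show (Matrix.diagonal fun j : Fin n => if (j : ℕ) < i then (-1 : F) else 1).charpoly = _
  rw [Matrix.charpoly_diagonal, Finset.prod_congr rfl (fun (j : Fin n) _ =>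
    apply_ite (fun z : F => X - C z) ((j : ℕ) < i) (-1) 1), Finset.prod_ite, Finset.prod_const,
    Finset.prod_const]
  have h1 : (Finset.univ.filter fun j : Fin n => (j : ℕ) < i).card = i := by
    rw [show (Finset.univ.filter fun j : Fin n => (j : ℕ) < i) =
      (Finset.univ : Finset (Fin i)).map (Fin.castLEEmb hi) by
        ext j
        simp only [Finset.mem_filter, Finset.mem_univ, true_and, Finset.mem_map]
        exact ⟨fun h => ⟨⟨j, h⟩, Fin.ext rfl⟩, fun ⟨k, hk⟩ => hk ▸ k.isLt⟩]
    simp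
  have h2 : (Finset.univ.filter fun j : Fin n => ¬ (j : ℕ) < i).card = n - i := by
    have := Finset.card_filter_add_card_filter_not (s := (Finset.univ : Finset (Fin n)))
      (fun j : Fin n => (j : ℕ) < i)
    rw [h1, Finset.card_univ, Fintype.card_fin] at this
    omega
  rw [h1, h2, map_neg, sub_neg_eq_add]

theorem charpoly_neg_diagInv (n i : ℕ) (hi : i ≤ n) :
    ((-1 : F) • (diagInv n i : GL (Fin n) F).1).charpoly = (X + C 1) ^ (n - i) * (X - C 1) ^ i := by
  classical
  show ((-1 : F) • Matrix.diagonal fun j : Fin n => if (j : ℕ) < i then (-1 : F) else 1).charpoly = _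
  rw [← Matrix.diagonal_smul, Matrix.charpoly_diagonal, Finset.prod_congr rfl
    (fun (j : Fin n) _ => show X - C (((-1 : F) • fun j : Fin n =>
      if (j : ℕ) < i then (-1 : F) else 1) j) = if (j : ℕ) < i then X - C 1 else X + C 1 by
      split_ifs with hh <;> simp only [Pi.smul_apply, hh, if_true, if_false, smul_eq_mul] <;> simp),
    Finset.prod_ite, Finset.prod_const, Finset.prod_const]
  have h1 : (Finset.univ.filter fun j : Fin n => (j : ℕ) < i).card = i := by
    rw [show (Finset.univ.filter fun j : Fin n => (j : ℕ) < i) =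
      (Finset.univ : Finset (Fin i)).map (Fin.castLEEmb hi) by
        ext j
        simp only [Finset.mem_filter, Finset.mem_univ, true_and, Finset.mem_map]
        exact ⟨fun h => ⟨⟨j, h⟩, Fin.ext rfl⟩, fun ⟨k, hk⟩ => hk ▸ k.isLt⟩]
    simp
  have h2 := Finset.card_filter_add_card_filter_not (s := (Finset.univ : Finset (Fin n)))
    (fun j : Fin n => (j : ℕ) < i)
  rw [h1, Finset.card_univ, Fintype.card_fin] at h2
  rw [h1, mul_comm, show (Finset.univ.filter fun j : Fin n => ¬ (j : ℕ) < i).card = n - i by omega]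

theorem exists_nonsquare_rep {m : ℕ} (μ : F) (hμ : μ ≠ 0) (hn : 2 * m = n) :
    ∃ g : GL (Fin n) F, g.1 * g.1 = μ • 1 := by
  let A : Matrix (Fin 2) (Fin 2) F := !![0, μ; 1, 0]
  have hA : A * A = μ • 1 := by
    ext i j; fin_cases i <;> fin_cases j <;> simp [A, Matrix.mul_apply]
  let e : Fin 2 × Fin m ≃ Fin n := finProdFinEquiv.trans (finCongr hn)
  let M : Matrix (Fin n) (Fin n) F := Matrix.reindexAlgEquiv F F e (Matrix.blockDiagonal fun _ => A)
  have hM : M * M = μ • 1 := by
    rw [← map_mul, ← Matrix.blockDiagonal_mul, hA]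
    rw [show (fun _ : Fin m => μ • (1 : Matrix (Fin 2) (Fin 2) F)) = μ • 1 from rfl,
      Matrix.blockDiagonal_smul, Matrix.blockDiagonal_one, map_smul, map_one]
  exact ⟨⟨M, μ⁻¹ • M, by rw [mul_smul_comm, hM, smul_smul, inv_mul_cancel₀ hμ, one_smul],
    by rw [smul_mul_assoc, hM, smul_smul, inv_mul_cancel₀ hμ, one_smul]⟩, hM⟩

theorem mk_eq_mk_iff (g h : GL (Fin n) F) :
    (QuotientGroup.mk g : GL (Fin n) F ⧸ Subgroup.center (GL (Fin n) F)) = QuotientGroup.mk h ↔
      ∃ c : Fˣ, h.1 = (c : F) • g.1 := by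
  rw [QuotientGroup.eq, Matrix.GeneralLinearGroup.center_eq_range_scalar, MonoidHom.mem_range]
  constructor
  · rintro ⟨c, hc⟩
    refine ⟨c, ?_⟩
    have h1 : g * Matrix.GeneralLinearGroup.scalar (Fin n) c = h := by rw [hc, mul_inv_cancel_left]
    rw [← h1, Units.val_mul, Matrix.smul_eq_mul_diagonal]
    rfl
  · rintro ⟨c, hc⟩
    refine ⟨c, ?_⟩
    rw [eq_inv_mul_iff_mul_eq]
    apply Units.ext
    rw [Units.val_mul, hc, Matrix.smul_eq_mul_diagonal]
    rfl

theorem exists_rep_of_orderOf (g : GL (Fin n) F)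
    (hg : orderOf (QuotientGroup.mk g : GL (Fin n) F ⧸ Subgroup.center (GL (Fin n) F)) = 2) :
    ∃ c : F, c ≠ 0 ∧ g.1 * g.1 = c • 1 := by
  have h : (QuotientGroup.mk (1 : GL (Fin n) F) : GL (Fin n) F ⧸ Subgroup.center (GL (Fin n) F)) =
      QuotientGroup.mk (g * g) := by
    have h1 := pow_orderOf_eq_one (QuotientGroup.mk g : GL (Fin n) F ⧸ Subgroup.center (GL (Fin n) F))
    rw [hg, pow_two] at h1
    exact h1.symm
  obtain ⟨c, hc⟩ := (mk_eq_mk_iff _ _).mp h
  exact ⟨c, c.ne_zero, by simpa using hc⟩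

theorem orderOf_mk_two (g : GL (Fin n) F) {c : F} (hc : c ≠ 0) (hg : g.1 * g.1 = c • 1)
    (hns : ∀ d : F, g.1 ≠ d • 1) :
    orderOf (QuotientGroup.mk g : GL (Fin n) F ⧸ Subgroup.center (GL (Fin n) F)) = 2 := by
  have h1 : (QuotientGroup.mk g : GL (Fin n) F ⧸ Subgroup.center (GL (Fin n) F)) ^ 2 = 1 := by
    rw [pow_two, ← QuotientGroup.mk_mul]
    exact ((mk_eq_mk_iff 1 (g * g)).mpr ⟨Units.mk0 c hc, by simpa using hg⟩).symm
  refine (Nat.dvd_prime Nat.prime_two).mp (orderOf_dvd_of_pow_eq_one h1) |>.resolve_left fun h => ?_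
  obtain ⟨d, hd⟩ := (mk_eq_mk_iff 1 g).mp (orderOf_eq_one_iff.mp h).symm
  exact hns d (by simpa using hd)

/-- Conjugate in the quotient means conjugate up to a scalar. -/
theorem isConj_mk_iff (g h : GL (Fin n) F) :
    IsConj (QuotientGroup.mk g : GL (Fin n) F ⧸ Subgroup.center (GL (Fin n) F)) (QuotientGroup.mk h) ↔
      ∃ (u : GL (Fin n) F) (c : Fˣ), h.1 = (c : F) • (u * g * u⁻¹).1 := by
  rw [isConj_iff]
  constructor
  · rintro ⟨u, hu⟩
    obtain ⟨v, rfl⟩ := QuotientGroup.mk_surjective u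
    rw [← QuotientGroup.mk_inv, ← QuotientGroup.mk_mul, ← QuotientGroup.mk_mul] at hu
    exact ⟨v, (mk_eq_mk_iff _ _).mp hu⟩
  · rintro ⟨u, hu⟩
    exact ⟨QuotientGroup.mk u, (mk_eq_mk_iff _ _).mpr hu⟩

theorem two_ne_zero' (hq : Odd (Fintype.card F)) : (2 : F) ≠ 0 := by
  intro h
  have := CharTwo.of_one_ne_zero_of_two_eq_zero (R := F) one_ne_zero h
  have h2 := FiniteField.even_card_iff_char_two.mp (ringChar.eq F 2)
  have h3 := Nat.odd_iff.mp hq
  omega

theorem card_classes (hq : Odd (Fintype.card F)) (hn : 2 ≤ n) :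
    Nat.card {C : ConjClasses (GL (Fin n) F ⧸ Subgroup.center (GL (Fin n) F)) //
      ∃ g : GL (Fin n) F ⧸ Subgroup.center (GL (Fin n) F), ConjClasses.mk g = C ∧ orderOf g = 2} =
      n / 2 + (if Even n then 1 else 0) := by
  classical
  have h2 : (2 : F) ≠ 0 := two_ne_zero' hq
  obtain ⟨μ, hμ⟩ := FiniteField.exists_nonsquare (F := F) (fun h => by
    have := ringChar.charP F
    rw [h] at this
    exact h2 CharTwo.two_eq_zero)
  have hμ0 : μ ≠ 0 := fun h => hμ (h ▸ IsSquare.zero)
  have hJ : ∀ _ : Fin (if Even n then 1 else 0), ∃ g : GL (Fin n) F, g.1 * g.1 = μ • 1 := by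
    intro x
    split_ifs at x with h
    · obtain ⟨m, hm⟩ := h
      exact exists_nonsquare_rep (m := m) μ hμ0 (by omega)
    · exact x.elim0
  choose J hJ using hJ
  let R : Fin (n / 2) ⊕ Fin (if Even n then 1 else 0) → GL (Fin n) F :=
    Sum.elim (fun i => diagInv n ((i : ℕ) + 1)) J
  have hns : ∀ x (d : F), (R x).1 ≠ d • 1 := by
    rintro (i | j) d h
    · have hi := i.isLt
      have h0 := congrFun (congrFun h ⟨0, by omega⟩) ⟨0, by omega⟩
      have h1 := congrFun (congrFun h ⟨n - 1, by omega⟩) ⟨n - 1, by omega⟩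
      simp [R, diagInv, show ¬ (n - 1 < (i : ℕ) + 1) by omega, show ¬ n ≤ (i : ℕ) + 1 by omega] at h0 h1
      exact h2 (by linear_combination h1 - h0)
    · have hh := hJ j
      rw [show (J j).1 = d • 1 from h, smul_mul_assoc, one_mul, smul_smul] at hh
      have h0 := congrFun (congrFun hh ⟨0, by omega⟩) ⟨0, by omega⟩
      simp at h0
      exact hμ ⟨d, h0.symm⟩
  have hsq : ∀ x, ∃ c : F, c ≠ 0 ∧ (R x).1 * (R x).1 = c • 1 := by
    rintro (i | j)
    · exact ⟨1, one_ne_zero, diagInv_sq _ _⟩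
    · exact ⟨μ, hμ0, hJ j⟩
  let Φ : Fin (n / 2) ⊕ Fin (if Even n then 1 else 0) →
      {C : ConjClasses (GL (Fin n) F ⧸ Subgroup.center (GL (Fin n) F)) //
        ∃ g : GL (Fin n) F ⧸ Subgroup.center (GL (Fin n) F), ConjClasses.mk g = C ∧ orderOf g = 2} :=
    fun x => ⟨ConjClasses.mk (QuotientGroup.mk (R x)), _, rfl, by
      obtain ⟨c, hc, hc'⟩ := hsq x
      exact orderOf_mk_two _ hc hc' (hns x)⟩
  have hconj : ∀ (u g : GL (Fin n) F) (c : F) {e : F}, g.1 * g.1 = e • 1 →
      (c • (u * g * u⁻¹).1) * (c • (u * g * u⁻¹).1) = (c * c * e) • 1 := by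
    intro u g c e he
    have : (u * g * u⁻¹).1 * (u * g * u⁻¹).1 = e • 1 := by
      rw [← Units.val_mul, show u * g * u⁻¹ * (u * g * u⁻¹) = u * (g * g) * u⁻¹ by group,
        Units.val_mul, Units.val_mul, Units.val_mul, he, mul_smul_comm, mul_one, smul_mul_assoc,
        Units.mul_inv]
    rw [smul_mul_assoc, mul_smul_comm, smul_smul, this, smul_smul]
  have hzero : ∀ {a b : F}, a • (1 : Matrix (Fin n) (Fin n) F) = b • 1 → a = b := fun h => by
    have h0 := congrFun (congrFun h ⟨0, by omega⟩) ⟨0, by omega⟩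
    simpa using h0
  have hinj : Function.Injective Φ := by
    intro x y h
    obtain ⟨u, c, hc⟩ := (isConj_mk_iff _ _).mp
      (ConjClasses.mk_eq_mk_iff_isConj.mp (congrArg Subtype.val h))
    rcases x with i | i <;> rcases y with j | j <;>
      simp only [R, Sum.elim_inl, Sum.elim_inr] at hc
    · have hcc : (c : F) * c = 1 := by
        have h1 := (diagInv_sq (F := F) n ((j : ℕ) + 1)).symm
        rw [show (diagInv n ((j : ℕ) + 1) : GL (Fin n) F).1 = _ from hc,
          hconj _ _ _ (diagInv_sq _ _), mul_one] at h1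
        exact (hzero h1).symm
      have hi := i.isLt
      have hj := j.isLt
      have hP : ((diagInv n ((j : ℕ) + 1) : GL (Fin n) F).1).charpoly =
          ((c : F) • (diagInv n ((i : ℕ) + 1) : GL (Fin n) F).1).charpoly := by
        rw [show (diagInv n ((j : ℕ) + 1) : GL (Fin n) F).1 = _ from hc, Units.val_mul, Units.val_mul,
          Matrix.coe_units_inv, ← smul_mul_assoc, ← mul_smul_comm, Matrix.charpoly_units_conj]
      rw [charpoly_diagInv n _ (by omega)] at hP
      have hne : (1 : F) ≠ -1 := fun h => h2 (by linear_combination h)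
      have key : ∀ a b : ℕ, Multiset.count (-1 : F)
          (((X + C (1 : F)) ^ a * (X - C 1) ^ b).roots) = a := by
        intro a b
        rw [roots_mul (mul_ne_zero (pow_ne_zero _ (monic_X_add_C 1).ne_zero)
          (pow_ne_zero _ (monic_X_sub_C 1).ne_zero)), roots_pow, roots_pow, roots_X_sub_C,
          show (X : F[X]) + C 1 = X - C (-1) by simp, roots_X_sub_C]
        simp [Multiset.count_singleton, hne.symm]
      rcases mul_self_eq_one_iff.mp hcc with h1 | h1
      · rw [h1, one_smul, charpoly_diagInv n _ (by omega)] at hP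
        have h' := congrArg (fun p : F[X] => Multiset.count (-1 : F) p.roots) hP
        simp only [key] at h'
        exact congrArg Sum.inl (Fin.ext (by omega))
      · have hneg : ((c : F) • (diagInv n ((i : ℕ) + 1) : GL (Fin n) F).1).charpoly =
            (X + C 1) ^ (n - ((i : ℕ) + 1)) * (X - C 1) ^ ((i : ℕ) + 1) := by
          rw [h1]
          exact charpoly_neg_diagInv n _ (by omega)
        rw [hneg] at hP
        have h' := congrArg (fun p : F[X] => Multiset.count (-1 : F) p.roots) hP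
        simp only [key] at h'
        exact congrArg Sum.inl (Fin.ext (by omega))
    · exfalso
      have h1 := (hJ j).symm
      rw [show (J j).1 = _ from hc, hconj _ _ _ (diagInv_sq _ _), mul_one] at h1
      exact hμ ⟨c, hzero h1⟩
    · exfalso
      have h1 := (diagInv_sq (F := F) n ((j : ℕ) + 1)).symm
      rw [show (diagInv n ((j : ℕ) + 1) : GL (Fin n) F).1 = _ from hc, hconj _ _ _ (hJ i)] at h1
      refine hμ ⟨(c : F)⁻¹, ?_⟩
      have h3 := hzero h1
      field_simp
      linear_combination -h3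
    · exact congrArg Sum.inr (Fin.ext (by
        have hi := i.isLt; have hj := j.isLt
        split_ifs at hi hj <;> omega))
  have hsurj : Function.Surjective Φ := by
    rintro ⟨C', x, rfl, hx⟩
    obtain ⟨g, rfl⟩ := QuotientGroup.mk_surjective x
    obtain ⟨e, he0, he⟩ := exists_rep_of_orderOf g hx
    have hscal : ∀ (g' : GL (Fin n) F) (c : F) (hc : c ≠ 0),
        ∀ r, IsConj g' (R r) → g'.1 = c • g.1 → ∃ a, (Φ a).1 = ConjClasses.mk (QuotientGroup.mk g) := by
      intro g' c hc r hr hg'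
      refine ⟨r, ConjClasses.mk_eq_mk_iff_isConj.mpr ?_⟩
      obtain ⟨u, hu⟩ := isConj_iff.mp hr.symm
      refine (isConj_mk_iff _ _).mpr ⟨u, (Units.mk0 c hc)⁻¹, ?_⟩
      rw [hu, hg', smul_smul]
      simp [hc]
    suffices ∃ a, (Φ a).1 = ConjClasses.mk (QuotientGroup.mk g) by
      obtain ⟨a, ha⟩ := this; exact ⟨a, Subtype.ext ha⟩
    by_cases hes : IsSquare e
    · obtain ⟨c, rfl⟩ := hes
      have hc : c ≠ 0 := left_ne_zero_of_mul he0
      have hg2 : (c⁻¹ • g.1) * (c⁻¹ • g.1) = (1 : F) • 1 := by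
        rw [smul_mul_assoc, mul_smul_comm, smul_smul, he, smul_smul]
        congr 1; field_simp
      let g' : GL (Fin n) F := ⟨c⁻¹ • g.1, c⁻¹ • g.1, by rw [hg2, one_smul], by rw [hg2, one_smul]⟩
      obtain ⟨a, b, hab, hchar⟩ := charpoly_of_sq_one g'.1 hg2
      have hnsg : ∀ d : F, g.1 ≠ d • 1 := fun d hd => by
        have hd0 : d ≠ 0 := by
          rintro rfl
          rw [hd, zero_smul, mul_zero] at he
          exact he0 (hzero (he.symm.trans (zero_smul F _).symm))
        have : orderOf (QuotientGroup.mk g : GL (Fin n) F ⧸ Subgroup.center (GL (Fin n) F)) = 1 := by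
          rw [orderOf_eq_one_iff]
          exact ((mk_eq_mk_iff 1 g).mpr ⟨Units.mk0 d hd0, by simpa using hd⟩).symm
        omega
      have hneg2 : ((-c⁻¹) • g.1) * ((-c⁻¹) • g.1) = (1 : F) • 1 := by
        rw [← hg2, neg_smul, neg_mul_neg]
      let g'' : GL (Fin n) F :=
        ⟨(-c⁻¹) • g.1, (-c⁻¹) • g.1, by rw [hneg2, one_smul], by rw [hneg2, one_smul]⟩
      -- neither multiplicity vanishes
      have hne : a ≠ 0 ∧ b ≠ 0 := by
        constructor <;> intro h0
        · have hh := isConj_of_charpoly h2 g' (1 : GL (Fin n) F) one_ne_zero hg2 (by simp)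
            (by rw [hchar, Units.val_one, Matrix.charpoly_one, h0]; simp [show b = n by omega])
          rw [isConj_comm, isConj_one_right] at hh
          refine hnsg c ?_
          have := congrArg Units.val hh
          simp [g'] at this
          rw [← one_smul F g.1, ← mul_inv_cancel₀ hc, ← smul_smul, this]
        · have hh := isConj_of_charpoly h2 g' (diagInv n n) one_ne_zero hg2 (diagInv_sq n n)
            (by rw [hchar, charpoly_diagInv n n le_rfl, h0, show a = n by omega, Nat.sub_self])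
          have hm1 : (diagInv n n : GL (Fin n) F) = -1 := by
            apply Units.ext
            show Matrix.diagonal (fun j : Fin n => if (j : ℕ) < n then (-1 : F) else 1) = _
            rw [Units.val_neg, Units.val_one, ← Matrix.diagonal_one, Matrix.diagonal_neg]
            congr 1; funext j; simp [j.isLt]
          obtain ⟨u, hu⟩ := isConj_iff.mp hh.symm
          rw [hm1] at hu
          refine hnsg (-c) ?_
          have := congrArg Units.val hu
          simp [g'] at this
          rw [← one_smul F g.1, ← mul_inv_cancel₀ hc, ← smul_smul, ← this]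
          simp
      have ha_or : a ≤ n / 2 ∨ b ≤ n / 2 := by omega
      rcases ha_or with ha | hb
      · refine hscal g' c⁻¹ (inv_ne_zero hc) (Sum.inl ⟨a - 1, by omega⟩) ?_ rfl
        refine isConj_of_charpoly h2 _ _ one_ne_zero hg2 (diagInv_sq _ _) ?_
        show g'.1.charpoly = (diagInv n (a - 1 + 1) : GL (Fin n) F).1.charpoly
        rw [hchar, charpoly_diagInv n _ (by omega), show a - 1 + 1 = a by omega,
          show n - a = b by omega]
      · refine hscal g'' (-c⁻¹) (neg_ne_zero.mpr (inv_ne_zero hc)) (Sum.inl ⟨b - 1, by omega⟩) ?_ rfl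
        refine isConj_of_charpoly h2 _ _ one_ne_zero hneg2 (diagInv_sq _ _) ?_
        show g''.1.charpoly = (diagInv n (b - 1 + 1) : GL (Fin n) F).1.charpoly
        rw [charpoly_diagInv n _ (by omega), show b - 1 + 1 = b by omega]
        obtain ⟨u, hu⟩ := isConj_iff.mp (isConj_of_charpoly h2 (diagInv n a) g' one_ne_zero
          (diagInv_sq n a) hg2 (by rw [charpoly_diagInv n a (by omega), hchar, show n - a = b by omega]))
        have hg'' : g''.1 = u.1 * ((-1 : F) • (diagInv n a : GL (Fin n) F).1) * (u⁻¹).1 := by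
          rw [show g''.1 = (-1 : F) • g'.1 by simp [g'', g'], ← hu, Units.val_mul, Units.val_mul,
            mul_smul_comm, smul_mul_assoc]
        rw [hg'', Matrix.coe_units_inv, Matrix.charpoly_units_conj,
          charpoly_neg_diagInv n a (by omega), show n - a = b by omega, show n - b = a by omega]
    · obtain ⟨b, hb, hchar⟩ := charpoly_of_sq_nonsquare g.1 hes he
      have hsq' : IsSquare (e / μ) := by
        have hr : ringChar F ≠ 2 := fun h => by
          have := ringChar.charP F
          rw [h] at this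
          exact h2 CharTwo.two_eq_zero
        rw [FiniteField.isSquare_iff hr (div_ne_zero he0 hμ0), div_pow,
          (FiniteField.pow_dichotomy hr he0).resolve_left fun h => hes ((FiniteField.isSquare_iff hr he0).mpr h),
          (FiniteField.pow_dichotomy hr hμ0).resolve_left fun h => hμ ((FiniteField.isSquare_iff hr hμ0).mpr h),
          div_self (neg_ne_zero.mpr one_ne_zero)]
      obtain ⟨c, hc⟩ := hsq'
      have hc0 : c ≠ 0 := by
        rintro rfl
        rw [mul_zero, div_eq_zero_iff] at hc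
        exact hc.elim he0 hμ0
      have hec : e = c * c * μ := by rw [← hc]; field_simp
      have hg2 : (c⁻¹ • g.1) * (c⁻¹ • g.1) = μ • 1 := by
        rw [smul_mul_assoc, mul_smul_comm, smul_smul, he, smul_smul, hec]
        congr 1; field_simp
      have hinv : IsUnit (c⁻¹ • g.1) := by
        rw [Matrix.isUnit_iff_isUnit_det, Matrix.det_smul]
        exact ((inv_ne_zero hc0).isUnit.pow _).mul ((Matrix.isUnit_iff_isUnit_det _).mp g.isUnit)
      have hev : Even n := ⟨b, by omega⟩
      refine hscal hinv.unit c⁻¹ (inv_ne_zero hc0)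
        (Sum.inr ⟨0, by rw [if_pos hev]; exact Nat.one_pos⟩) ?_ rfl
      refine isConj_of_charpoly h2 _ _ hμ0 hg2 (hJ _) ?_
      obtain ⟨b₁, hb₁, hb₁'⟩ := charpoly_of_sq_nonsquare hinv.unit.1 hμ hg2
      obtain ⟨b₂, hb₂, hb₂'⟩ := charpoly_of_sq_nonsquare _ hμ (hJ ⟨0, by rw [if_pos hev]; exact Nat.one_pos⟩)
      show _ = (J _).1.charpoly
      rw [hb₁', hb₂', show b₁ = b₂ by omega]
  rw [← Nat.card_congr (Equiv.ofBijective Φ ⟨hinj, hsurj⟩), Nat.card_sum, Nat.card_fin, Nat.card_fin]

end CfsgLib.PGLInvolutions
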