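import Mathlib

/-!
Semisimple elements of general and special linear groups over finite fields: an element of order
prime to the characteristic is determined up to conjugacy by its characteristic polynomial.
-/

set_option autoImplicit false

namespace CfsgLib.SemisimpleClasses

open Polynomial LinearMap

variable {K : Type*} [Field K]

/-- An endomorphism with `f ^ N = 1`, `N` invertible in `K`, is semisimple. -/
theorem isSemisimple_of_pow_eq_one {V : Type*} [AddCommGroup V] [Module K V]
    [FiniteDimensional K V] (f : Module.End K V) {N : ℕ} (hN : (N : K) ≠ 0) (h : f ^ N = 1) :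
    f.IsSemisimple := by
  refine Module.End.isSemisimple_of_squarefree_aeval_eq_zero (p := (X : K[X]) ^ N - C 1) ?_ ?_
  · exact (Polynomial.separable_X_pow_sub_C (1 : K) hN one_ne_zero).squarefree
  · simp [h]

/-- An irreducible factor of the characteristic polynomial divides the minimal polynomial. -/
theorem dvd_minpoly_matrix {ι : Type*} [Fintype ι] [DecidableEq ι] (M : Matrix ι ι K)
    {m : K[X]} (hm : Irreducible m) (hdvd : m ∣ M.charpoly) : m ∣ minpoly K M := by
  have : Fact (Irreducible m) := ⟨hm⟩
  have hne : Nonempty ι := by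
    by_contra hc
    have : IsEmpty ι := not_nonempty_iff.mp hc
    rw [Matrix.charpoly, Matrix.det_isEmpty] at hdvd
    exact hm.not_isUnit (isUnit_of_dvd_one hdvd)
  let L := AdjoinRoot m
  let a : L := AdjoinRoot.root m
  let ML : Matrix ι ι L := (AlgHom.mapMatrix (Algebra.ofId K L)) M
  have hroot : ML.charpoly.IsRoot a := by
    have h1 : ML.charpoly = M.charpoly.map (algebraMap K L) := by
      rw [← Matrix.charpoly_map]; rfl
    obtain ⟨c, hc⟩ := hdvd
    rw [h1, hc, Polynomial.map_mul, Polynomial.IsRoot, Polynomial.eval_mul, Polynomial.eval_map,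
      show Polynomial.eval₂ (algebraMap K L) a m = 0 from AdjoinRoot.eval₂_root m, zero_mul]
  have hs : a ∈ spectrum L ML := Matrix.mem_spectrum_of_isRoot_charpoly hroot
  have h2 : Polynomial.eval a ((minpoly K M).map (algebraMap K L)) ∈
      spectrum L (aeval ML ((minpoly K M).map (algebraMap K L))) :=
    spectrum.subset_polynomial_aeval ML _ ⟨a, hs, rfl⟩
  have h3 : aeval ML ((minpoly K M).map (algebraMap K L)) = 0 := by
    rw [Polynomial.aeval_map_algebraMap]
    show aeval ((AlgHom.mapMatrix (Algebra.ofId K L)) M) (minpoly K M) = 0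
    rw [Polynomial.aeval_algHom_apply, minpoly.aeval, map_zero]
  rw [h3, spectrum.zero_eq, Set.mem_singleton_iff, Polynomial.eval_map] at h2
  have h4 : aeval (AdjoinRoot.root m) (minpoly K M) = 0 := h2
  rw [AdjoinRoot.aeval_eq] at h4
  exact AdjoinRoot.mk_eq_zero.mp h4

theorem dvd_minpoly {V : Type*} [AddCommGroup V] [Module K V]
    [FiniteDimensional K V] (f : Module.End K V)
    {m : K[X]} (hm : Irreducible m) (hdvd : m ∣ f.charpoly) : m ∣ minpoly K f := by
  let b := Module.finBasis K V
  rw [← LinearMap.minpoly_toMatrix b]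
  refine dvd_minpoly_matrix _ hm ?_
  rwa [LinearMap.charpoly_toMatrix]

/-- Multiplication by the root on `K[X]/(m)` has characteristic polynomial `m`. -/
theorem charpoly_mulLeft_root {m : K[X]} (hm : m.Monic) :
    haveI := hm.finite_adjoinRoot
    haveI := hm.free_adjoinRoot
    (LinearMap.mulLeft K (AdjoinRoot.root m)).charpoly = m := by
  have := hm.finite_adjoinRoot
  have := hm.free_adjoinRoot
  let pb := AdjoinRoot.powerBasis hm.ne_zero
  rw [← LinearMap.charpoly_toMatrix _ pb.basis]
  have h1 : (LinearMap.toMatrix pb.basis pb.basis) (LinearMap.mulLeft K (AdjoinRoot.root m)) =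
      Algebra.leftMulMatrix pb.basis pb.gen := rfl
  rw [h1, charpoly_leftMulMatrix]
  exact AdjoinRoot.minpoly_powerBasis_gen_of_monic hm

/-- The orbit map `K[X]/(m) → V` of a vector `v`. -/
noncomputable def orbitMap {V : Type*} [AddCommGroup V] [Module K V] (f : Module.End K V)
    {m : K[X]} (hm : m.Monic) (v : V) : AdjoinRoot m →ₗ[K] V :=
  ((LinearMap.applyₗ v).comp (Polynomial.aeval f).toLinearMap).comp (AdjoinRoot.modByMonicHom hm)

theorem orbitMap_mk {V : Type*} [AddCommGroup V] [Module K V] (f : Module.End K V)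
    {m : K[X]} (hm : m.Monic) (v : V) (hv : aeval f m v = 0) (p : K[X]) :
    orbitMap f hm v (AdjoinRoot.mk m p) = aeval f p v := by
  have h1 : p = p %ₘ m + (p /ₘ m) * m := by
    conv_lhs => rw [← Polynomial.modByMonic_add_div p m]
    ring
  have h2 : orbitMap f hm v (AdjoinRoot.mk m p) = aeval f (p %ₘ m) v := by
    simp [orbitMap, AdjoinRoot.modByMonicHom_mk]
  rw [h2]
  conv_rhs => rw [h1]
  rw [map_add, map_mul, LinearMap.add_apply, Module.End.mul_apply, hv, map_zero, add_zero]

/-- A semisimple endomorphism splits off a field extension for each irreducible factor of its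
characteristic polynomial. -/
theorem exists_split {V : Type*} [AddCommGroup V] [Module K V] [FiniteDimensional K V]
    (f : Module.End K V) (hf : f.IsSemisimple) {m : K[X]} (hm : Irreducible m) (hmm : m.Monic)
    (hdvd : m ∣ f.charpoly) :
    ∃ (W' : Submodule K V) (hW : W' ∈ f.invtSubmodule) (e : (AdjoinRoot m × W') ≃ₗ[K] V),
      (∀ z, e (AdjoinRoot.root m * z.1, f.restrict hW z.2) = f (e z)) ∧
      Module.End.IsSemisimple (f.restrict hW) ∧ f.charpoly = m * (f.restrict hW).charpoly := by
  have := hmm.finite_adjoinRoot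
  have := hmm.free_adjoinRoot
  obtain ⟨r, hr⟩ := dvd_minpoly f hm hdvd
  have hrne : aeval f r ≠ 0 := by
    intro h
    have h1 := minpoly.dvd K f h
    have hmp : minpoly K f ≠ 0 := minpoly.ne_zero (Algebra.IsIntegral.isIntegral _)
    rw [hr] at hmp
    have hr0 : r ≠ 0 := right_ne_zero_of_mul hmp
    have h2 : m * r ∣ 1 * r := by rw [one_mul, ← hr]; exact h1
    exact hm.not_isUnit (isUnit_of_dvd_one ((mul_dvd_mul_iff_right hr0).mp h2))
  obtain ⟨w, hw⟩ : ∃ w, aeval f r w ≠ 0 := by
    by_contra h; push Not at h; exact hrne (LinearMap.ext h)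
  let v : V := aeval f r w
  have hv : aeval f m v = 0 := by
    show aeval f m (aeval f r w) = 0
    rw [← Module.End.mul_apply, ← map_mul, ← hr, minpoly.aeval, LinearMap.zero_apply]
  let φ := orbitMap f hmm v
  have hφ : ∀ x, φ (AdjoinRoot.root m * x) = f (φ x) := by
    intro x
    induction x using AdjoinRoot.induction_on with
    | ih p =>
      rw [← AdjoinRoot.mk_X, ← map_mul]
      show orbitMap f hmm v _ = f (orbitMap f hmm v _)
      rw [orbitMap_mk f hmm v hv, orbitMap_mk f hmm v hv, map_mul, Polynomial.aeval_X,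
        Module.End.mul_apply]
  have hinj : Function.Injective φ := by
    rw [← LinearMap.ker_eq_bot, LinearMap.ker_eq_bot']
    intro x hx
    induction x using AdjoinRoot.induction_on with
    | ih p =>
      have hx' : aeval f p v = 0 := by rw [← orbitMap_mk f hmm v hv]; exact hx
      by_contra hne
      have hnd : ¬ m ∣ p := fun h => hne (AdjoinRoot.mk_eq_zero.mpr h)
      obtain ⟨a, b, hab⟩ := (hm.coprime_iff_not_dvd).mpr hnd
      have h1 := congrArg (fun q => aeval f q v) hab
      simp only [map_add, map_mul, LinearMap.add_apply, Module.End.mul_apply, hv, hx', map_zero,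
        add_zero, map_one, Module.End.one_apply] at h1
      exact hw h1.symm
  have hWi : LinearMap.range φ ∈ f.invtSubmodule := by
    rw [Module.End.mem_invtSubmodule]
    rintro y ⟨x, rfl⟩
    exact ⟨AdjoinRoot.root m * x, hφ x⟩
  obtain ⟨W', hW, hc⟩ := Module.End.isSemisimple_iff.mp hf _ hWi
  let g : (AdjoinRoot m × W') →ₗ[K] V := φ.coprod W'.subtype
  have hgb : Function.Bijective g := by
    constructor
    · rw [← LinearMap.ker_eq_bot, LinearMap.ker_coprod_of_disjoint_range,
        LinearMap.ker_eq_bot.mpr hinj, Submodule.ker_subtype, Submodule.prod_bot]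
      rw [Submodule.range_subtype]; exact hc.disjoint
    · rw [← LinearMap.range_eq_top, LinearMap.range_coprod, Submodule.range_subtype]
      exact hc.sup_eq_top
  let e := LinearEquiv.ofBijective g hgb
  have he : ∀ z, e (AdjoinRoot.root m * z.1, f.restrict hW z.2) = f (e z) := by
    intro z
    show g _ = f (g z)
    simp only [g, LinearMap.coprod_apply, Submodule.coe_subtype, map_add, hφ]
    rfl
  refine ⟨W', hW, e, he, hf.restrict hW, ?_⟩
  have h5 : e.conj ((LinearMap.mulLeft K (AdjoinRoot.root m)).prodMap (f.restrict hW)) = f := by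
    refine LinearMap.ext fun y => ?_
    obtain ⟨z, rfl⟩ := e.surjective y
    rw [LinearEquiv.conj_apply_apply, e.symm_apply_apply]
    exact he z
  conv_lhs => rw [← h5]
  rw [LinearEquiv.charpoly_conj, LinearMap.charpoly_prodMap, charpoly_mulLeft_root hmm]

universe u v in
theorem similar_aux {K : Type u} [Field K] (d : ℕ) : ∀ (V W : Type v) [AddCommGroup V]
    [Module K V] [FiniteDimensional K V] [AddCommGroup W] [Module K W] [FiniteDimensional K W]
    (f : Module.End K V) (g : Module.End K W), Module.finrank K V = d → f.IsSemisimple →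
    g.IsSemisimple → f.charpoly = g.charpoly → ∃ e : V ≃ₗ[K] W, ∀ x, e (f x) = g (e x) := by
  induction d using Nat.strong_induction_on with
  | _ d ih =>
  intro V W _ _ _ _ _ _ f g hd hf hg hc
  have hfr : Module.finrank K W = Module.finrank K V := by
    rw [← LinearMap.charpoly_natDegree f, hc, LinearMap.charpoly_natDegree]
  rcases Nat.eq_zero_or_pos d with h0 | h0
  · have : Subsingleton V := Module.finrank_zero_iff.mp (hd.trans h0)
    have : Subsingleton W := Module.finrank_zero_iff.mp (hfr.trans (hd.trans h0))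
    exact ⟨0, fun x => Subsingleton.elim _ _⟩
  have hdeg : 0 < f.charpoly.natDegree := by rw [LinearMap.charpoly_natDegree, hd]; exact h0
  obtain ⟨m, hmm, hm, hmd⟩ := Polynomial.exists_monic_irreducible_factor f.charpoly (by
    intro hu; rw [Polynomial.natDegree_eq_zero_of_isUnit hu] at hdeg; exact hdeg.false)
  obtain ⟨V', hV', e₁, he₁, hf', hcf⟩ := exists_split f hf hm hmm hmd
  obtain ⟨W', hW', e₂, he₂, hg', hcg⟩ := exists_split g hg hm hmm (hc ▸ hmd)
  have := hmm.finite_adjoinRoot
  have := hmm.free_adjoinRoot
  have hlt : Module.finrank K V' < d := by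
    have h1 := e₁.finrank_eq
    have h2 : 0 < Module.finrank K (AdjoinRoot m) := by
      rw [(AdjoinRoot.powerBasis hmm.ne_zero).finrank, AdjoinRoot.powerBasis_dim]
      exact hm.natDegree_pos
    rw [Module.finrank_prod, hd] at h1
    omega
  have hc' : (f.restrict hV').charpoly = (g.restrict hW').charpoly :=
    mul_left_cancel₀ hmm.ne_zero (hcf.symm.trans (hc.trans hcg))
  obtain ⟨e', he'⟩ := ih _ hlt V' W' _ _ rfl hf' hg' hc'
  refine ⟨e₁.symm.trans (((LinearEquiv.refl K (AdjoinRoot m)).prodCongr e').trans e₂), fun x => ?_⟩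
  obtain ⟨z, rfl⟩ := e₁.surjective x
  rw [← he₁ z]
  simp only [LinearEquiv.trans_apply, LinearEquiv.symm_apply_apply, LinearEquiv.prodCongr_apply,
    LinearEquiv.refl_apply, he']
  exact he₂ (z.1, e' z.2)

/-- The determinant is surjective on the centralizer of a semisimple endomorphism. -/
theorem exists_centralizer_det [Finite K] {V : Type*} [AddCommGroup V] [Module K V]
    [FiniteDimensional K V] (f : Module.End K V) (hf : f.IsSemisimple)
    (hV : 0 < Module.finrank K V) (c : K) :
    ∃ φ : Module.End K V, φ * f = f * φ ∧ LinearMap.det φ = c := by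
  have hdeg : 0 < f.charpoly.natDegree := by rw [LinearMap.charpoly_natDegree]; exact hV
  obtain ⟨m, hmm, hm, hmd⟩ := Polynomial.exists_monic_irreducible_factor f.charpoly (by
    intro hu; rw [Polynomial.natDegree_eq_zero_of_isUnit hu] at hdeg; exact hdeg.false)
  obtain ⟨V', hV', e, he, -, -⟩ := exists_split f hf hm hmm hmd
  have := hmm.finite_adjoinRoot
  have := hmm.free_adjoinRoot
  have : Fact (Irreducible m) := ⟨hm⟩
  have : Finite (AdjoinRoot m) := Module.finite_of_finite K
  obtain ⟨x, hx⟩ := FiniteField.norm_surjective K (AdjoinRoot m) c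
  refine ⟨e.conj ((LinearMap.mulLeft K x).prodMap LinearMap.id), ?_, ?_⟩
  · refine LinearMap.ext fun y => ?_
    obtain ⟨z, rfl⟩ := e.surjective y
    rw [Module.End.mul_apply, Module.End.mul_apply, ← he z]
    simp only [LinearEquiv.conj_apply_apply, e.symm_apply_apply, LinearMap.prodMap_apply,
      LinearMap.mulLeft_apply, LinearMap.id_apply]
    rw [← he (x * z.1, z.2)]
    simp only [mul_left_comm]
  · rw [LinearEquiv.conj_apply, LinearMap.comp_assoc, LinearMap.det_conj, LinearMap.det_prodMap, LinearMap.det_id, mul_one, ← hx,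
      Algebra.norm_apply]
    rfl

end CfsgLib.SemisimpleClasses
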