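import Cfsg.Agent.Lib.KnownC.MatOrder
import Cfsg.Agent.Lib.KnownC.PSLOrders
import Cfsg.Agent.Lib.KnownA.TorusSylow
import Cfsg.Agent.Lib.KnownA.SemisimpleClasses

/-!
The prime graph of `PSL_n(q)`: adjacency of two primes different from the characteristic, and of a
prime and the characteristic.
-/

set_option autoImplicit false
set_option linter.unusedSectionVars false

namespace CfsgLib.PSLPrimeGraph

open Polynomial CfsgLib.KnownC

variable {F : Type*} [Field F] [Fintype F] {n : ℕ}

local notation "PSL" => Matrix.ProjectiveSpecialLinearGroup (Fin n) F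
local notation "SL" => Matrix.SpecialLinearGroup (Fin n) F

theorem pow_card_sub_one_of_mem_center {z : SL} (hn : 1 ≤ n) (hz : z ∈ Subgroup.center SL) :
    z ^ (Fintype.card F - 1) = 1 := by
  obtain ⟨t, ht, hz'⟩ := PSLOrders.eq_smul_one_of_mem_center hz
  have ht0 : t ≠ 0 := fun h0 => by rw [h0, zero_pow (by omega)] at ht; exact zero_ne_one ht
  apply Subtype.ext
  rw [Matrix.SpecialLinearGroup.coe_pow, hz', _root_.smul_pow, one_pow,
    FiniteField.pow_card_sub_one_eq_one t ht0, one_smul]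
  rfl

theorem det_eq_one_of_coprime {N : ℕ} (hN : 0 < N) (hc : N.Coprime (Fintype.card F - 1))
    {A : Matrix (Fin n) (Fin n) F} (hA : orderOf A = N) : A.det = 1 := by
  have h1 : A.det ^ N = 1 := by rw [← Matrix.det_pow, ← hA, pow_orderOf_eq_one, Matrix.det_one]
  have h0 : A.det ≠ 0 := fun h => by rw [h, zero_pow hN.ne'] at h1; exact zero_ne_one h1
  have h2 := (pow_gcd_eq_one (m := N) (n := Fintype.card F - 1)).mpr
    ⟨h1, FiniteField.pow_card_sub_one_eq_one _ h0⟩
  rwa [hc, pow_one] at h2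

/-- Element orders prime to `q - 1` in `PSL_n` are matrix orders. -/
theorem psl_order_iff (hn : 1 ≤ n) {N : ℕ} (hN : 0 < N) (hc : N.Coprime (Fintype.card F - 1)) :
    N ∈ Set.range (orderOf : PSL → ℕ) ↔ ∃ A : Matrix (Fin n) (Fin n) F, orderOf A = N := by
  let ι : SL →* Matrix (Fin n) (Fin n) F :=
    { toFun := fun x => (x : Matrix (Fin n) (Fin n) F), map_one' := rfl, map_mul' := fun _ _ => rfl }
  constructor
  · rintro ⟨y, hy⟩
    obtain ⟨g, rfl⟩ := QuotientGroup.mk_surjective y
    have h1 : g ^ N ∈ Subgroup.center SL := by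
      rw [← QuotientGroup.eq_one_iff, QuotientGroup.mk_pow, ← hy, pow_orderOf_eq_one]
    refine ⟨ι (g ^ (Fintype.card F - 1)), ?_⟩
    rw [orderOf_injective ι Subtype.val_injective]
    refine Nat.dvd_antisymm (orderOf_dvd_of_pow_eq_one ?_) ?_
    · rw [← pow_mul, mul_comm, pow_mul, pow_card_sub_one_of_mem_center hn h1]
    · have h2 := orderOf_map_dvd (QuotientGroup.mk' (Subgroup.center SL))
        (g ^ (Fintype.card F - 1))
      rw [map_pow, Nat.Coprime.orderOf_pow] at h2
      · exact hy ▸ h2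
      · exact hy.symm ▸ hc
  · rintro ⟨A, hA⟩
    let g : SL := ⟨A, det_eq_one_of_coprime hN hc hA⟩
    refine ⟨QuotientGroup.mk g, ?_⟩
    have hg : orderOf g = N := by rw [← orderOf_injective ι Subtype.val_injective]; exact hA
    refine Nat.dvd_antisymm (hg ▸ orderOf_map_dvd (QuotientGroup.mk' (Subgroup.center SL)) g) ?_
    have h1 : g ^ orderOf (QuotientGroup.mk g : PSL) ∈ Subgroup.center SL := by
      rw [← QuotientGroup.eq_one_iff, QuotientGroup.mk_pow, pow_orderOf_eq_one]
    have h2 := pow_card_sub_one_of_mem_center hn h1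
    rw [← pow_mul] at h2
    exact hc.dvd_of_dvd_mul_right (hg ▸ orderOf_dvd_of_pow_eq_one h2)

theorem coprime_of_order_ge_two {r k : ℕ} [Fact r.Prime] (hk : k = orderOf ((Fintype.card F : ℕ) : ZMod r))
    (h2 : 2 ≤ k) : r.Coprime (Fintype.card F - 1) :=
  (Fact.out : r.Prime).coprime_iff_not_dvd.mpr fun h => by
    have h1 := (TorusSylow.dvd_pow_sub_iff (r := r) (Fintype.card_pos (α := F)) 1).mp (by rwa [pow_one])
    rw [← hk] at h1
    have := Nat.le_of_dvd Nat.one_pos h1
    omega

theorem order_le_of_dvd_card {r k : ℕ} [Fact r.Prime] (hrq : ¬ r ∣ Fintype.card F)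
    (hk : k = orderOf ((Fintype.card F : ℕ) : ZMod r)) (hr : r ∣ Nat.card PSL) : k ≤ n := by
  have h1 : r ∣ Nat.card (GL (Fin n) F) := by
    refine hr.trans ((Subgroup.card_quotient_dvd_card _).trans ?_)
    exact Subgroup.card_dvd_of_injective Matrix.SpecialLinearGroup.toGL
      Matrix.SpecialLinearGroup.toGL_injective
  rw [Matrix.card_GL_field] at h1
  obtain ⟨i, _, hi⟩ := (Nat.prime_iff.mp (Fact.out : r.Prime)).exists_mem_finset_dvd h1
  rw [show Fintype.card F ^ n - Fintype.card F ^ (i : ℕ) =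
    Fintype.card F ^ (i : ℕ) * (Fintype.card F ^ (n - (i : ℕ)) - 1) by
      rw [Nat.mul_sub, mul_one, ← pow_add, Nat.add_sub_cancel' i.isLt.le]] at hi
  have h2 := ((Fact.out : r.Prime).dvd_mul.mp hi).resolve_left
    fun h => hrq ((Fact.out : r.Prime).dvd_of_dvd_pow h)
  rw [TorusSylow.dvd_pow_sub_iff Fintype.card_pos, ← hk] at h2
  have := Nat.le_of_dvd (by have := i.isLt; omega) h2
  omega

theorem aeval_pow_sub_one (A : Matrix (Fin n) (Fin n) F) {j : ℕ} (h : A ^ j = 1) :
    minpoly F A ∣ (X : F[X]) ^ j - 1 := by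
  refine minpoly.dvd F A ?_
  rw [map_sub, aeval_X_pow, map_one, h, sub_self]

/-- A factor whose root has order divisible by `r`. -/
theorem order_dvd_natDegree {r s : ℕ} [hr : Fact r.Prime] {m : F[X]} (hm : Irreducible m)
    (h1 : m ∣ X ^ (r * s) - 1) (h2 : ¬ m ∣ X ^ s - 1) :
    orderOf ((Fintype.card F : ℕ) : ZMod r) ∣ m.natDegree := by
  have : Fact (Irreducible m) := ⟨hm⟩
  let K := AdjoinRoot m
  let pb := AdjoinRoot.powerBasis hm.ne_zero
  have : FiniteDimensional F K := pb.finite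
  have : Finite K := Module.finite_of_finite F
  have hroot : ∀ j, m ∣ (X : F[X]) ^ j - 1 ↔ AdjoinRoot.root m ^ j = 1 := fun j => by
    rw [← AdjoinRoot.mk_eq_zero, map_sub, map_pow, map_one, AdjoinRoot.mk_X, sub_eq_zero]
  rw [hroot] at h1 h2
  rcases Nat.eq_zero_or_pos s with rfl | hs
  · simp at h2
  let u : Kˣ := Units.ofPowEqOne _ _ h1 (Nat.mul_pos hr.out.pos hs).ne'
  have hu : orderOf u ∣ Fintype.card F ^ m.natDegree - 1 := by
    have h3 := orderOf_dvd_natCard u
    rwa [Nat.card_units, Module.natCard_eq_pow_finrank (K := F), Nat.card_eq_fintype_card,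
      pb.finrank, AdjoinRoot.powerBasis_dim] at h3
  rw [← orderOf_units, show ((u : Kˣ) : K) = AdjoinRoot.root m from rfl] at hu
  have h4 : r ∣ orderOf (AdjoinRoot.root m) := by
    by_contra hnd
    exact h2 (orderOf_dvd_iff_pow_eq_one.mp
      ((hr.out.coprime_iff_not_dvd.mpr hnd).symm.dvd_of_dvd_mul_left (orderOf_dvd_of_pow_eq_one h1)))
  exact (TorusSylow.dvd_pow_sub_iff Fintype.card_pos _).mp (h4.trans hu)

theorem exists_factor_not_dvd (A : Matrix (Fin n) (Fin n) F) {N j : ℕ} (hN : (N : F) ≠ 0)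
    (h : A ^ N = 1) (hj : A ^ j ≠ 1) :
    ∃ m : F[X], Irreducible m ∧ m ∣ minpoly F A ∧ ¬ m ∣ X ^ j - 1 := by
  by_contra hc
  push Not at hc
  apply hj
  have hsq : Squarefree (minpoly F A) :=
    ((X_pow_sub_one_separable_iff.2 hN).of_dvd (aeval_pow_sub_one A h)).squarefree
  have hint : IsIntegral F A := Algebra.IsIntegral.isIntegral A
  have hdvd : minpoly F A ∣ X ^ j - 1 :=
    (hsq.dvd_pow_iff_dvd (n := (minpoly F A).natDegree + 1) (Nat.succ_ne_zero _)).mp
      (MatOrder.dvd_of_forall_irreducible_factor (minpoly.ne_zero hint) hc (Nat.le_succ _))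
  obtain ⟨c, hc'⟩ := hdvd
  have := congrArg (aeval A) hc'
  rw [map_mul, minpoly.aeval, zero_mul, map_sub, aeval_X_pow, map_one, sub_eq_zero] at this
  exact this

theorem natDegree_minpoly_le (A : Matrix (Fin n) (Fin n) F) : (minpoly F A).natDegree ≤ n := by
  have := natDegree_le_of_dvd (Matrix.minpoly_dvd_charpoly A) A.charpoly_monic.ne_zero
  rwa [Matrix.charpoly_natDegree_eq_dim, Fintype.card_fin] at this

theorem exists_matrix_two_primes_iff {r s k l : ℕ} [hr : Fact r.Prime] [hs : Fact s.Prime]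
    (p : ℕ) [Fact p.Prime] [CharP F p] (hrp : r ≠ p) (hsp : s ≠ p) (hrs : r ≠ s)
    (hk : k = orderOf ((Fintype.card F : ℕ) : ZMod r)) (hl : l = orderOf ((Fintype.card F : ℕ) : ZMod s))
    (h2k : 2 ≤ k) (hkl : k ≤ l) (hln : l ≤ n) :
    (∃ A : Matrix (Fin n) (Fin n) F, orderOf A = r * s) ↔ (k + l ≤ n ∨ k ∣ l) := by
  constructor
  · rintro ⟨A, hA⟩
    have hN : ((r * s : ℕ) : F) ≠ 0 := by
      rw [Ne, CharP.cast_eq_zero_iff F p, (Fact.out : p.Prime).dvd_mul]
      rintro (h | h)
      · exact hrp ((Nat.prime_dvd_prime_iff_eq Fact.out hr.out).mp h).symm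
      · exact hsp ((Nat.prime_dvd_prime_iff_eq Fact.out hs.out).mp h).symm
    have h1 : A ^ (r * s) = 1 := hA ▸ pow_orderOf_eq_one A
    have hAs : A ^ s ≠ 1 := fun h => by
      have := Nat.le_of_dvd hs.out.pos (hA ▸ orderOf_dvd_of_pow_eq_one h)
      nlinarith [hr.out.two_le, hs.out.pos]
    have hAr : A ^ r ≠ 1 := fun h => by
      have := Nat.le_of_dvd hr.out.pos (hA ▸ orderOf_dvd_of_pow_eq_one h)
      nlinarith [hs.out.two_le, hr.out.pos]
    obtain ⟨m₁, hm₁, hd₁, hn₁⟩ := exists_factor_not_dvd A hN h1 hAs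
    obtain ⟨m₂, hm₂, hd₂, hn₂⟩ := exists_factor_not_dvd A hN h1 hAr
    have hk' := order_dvd_natDegree (r := r) hm₁ (hd₁.trans (aeval_pow_sub_one A h1)) hn₁
    have hl' := order_dvd_natDegree (r := s) (s := r) hm₂
      (hd₂.trans (by rw [mul_comm]; exact aeval_pow_sub_one A h1)) hn₂
    rw [← hk] at hk'; rw [← hl] at hl'
    have hne : minpoly F A ≠ 0 := minpoly.ne_zero (Algebra.IsIntegral.isIntegral A)
    have hle := natDegree_minpoly_le A
    have hd1' := Nat.le_of_dvd hm₁.natDegree_pos hk'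
    have hd2' := Nat.le_of_dvd hm₂.natDegree_pos hl'
    by_cases hass : Associated m₁ m₂
    · rw [Polynomial.natDegree_eq_of_degree_eq (degree_eq_degree_of_associated hass)] at hk'
      have h3 := natDegree_le_of_dvd hd₂ hne
      obtain ⟨c, hc⟩ := hl'
      rcases Nat.lt_or_ge c 2 with hc2 | hc2
      · right
        interval_cases c
        · simp [hm₂.natDegree_pos.ne'] at hc
        · rwa [hc, mul_one] at hk'
      · left; nlinarith
    · left
      have hcop : IsCoprime m₁ m₂ := hm₁.coprime_iff_not_dvd.mpr fun h =>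
        hass (hm₁.associated_of_dvd hm₂ h)
      have h3 := natDegree_le_of_dvd (hcop.mul_dvd hd₁ hd₂) hne
      rw [natDegree_mul hm₁.ne_zero hm₂.ne_zero] at h3
      omega
  · intro h
    have hrs' : Nat.Coprime r s := (Nat.coprime_primes hr.out hs.out).mpr hrs
    have hq : 1 ≤ Fintype.card F := Fintype.card_pos
    have : NeZero l := ⟨by omega⟩
    have : NeZero k := ⟨by omega⟩
    let K := FiniteField.Extension F p k
    let L := FiniteField.Extension F p l
    have hr' : r ∣ Fintype.card F ^ k - 1 := (TorusSylow.dvd_pow_sub_iff hq k).mpr (hk ▸ dvd_rfl)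
    have hs' : s ∣ Fintype.card F ^ l - 1 := (TorusSylow.dvd_pow_sub_iff hq l).mpr (hl ▸ dvd_rfl)
    by_cases hdl : k ∣ l
    · obtain ⟨x, hx⟩ := IsCyclic.exists_ofOrder_eq_natCard (α := Lˣ)
      rw [Nat.card_units, FiniteField.natCard_extension F p l, Nat.card_eq_fintype_card] at hx
      obtain ⟨t, ht⟩ : r * s ∣ Fintype.card F ^ l - 1 :=
        hrs'.mul_dvd_of_dvd_of_dvd ((TorusSylow.dvd_pow_sub_iff hq l).mpr (hk ▸ hdl)) hs'
      have ht0 : t ≠ 0 := by
        rintro rfl
        have := Nat.one_lt_pow (n := l) (by omega) (Fintype.one_lt_card (α := F))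
        omega
      obtain ⟨A, hA, -⟩ := MatOrder.exists_matrix_of_algebra_elem (F := F) (R := L) (n := n)
        (by rw [FiniteField.finrank_extension F p l]; exact hln) ((x ^ t : Lˣ) : L)
      refine ⟨A, ?_⟩
      rw [hA, orderOf_units, orderOf_pow_of_dvd ht0 (by rw [hx, ht]; exact dvd_mul_left _ _), hx, ht,
        Nat.mul_div_cancel _ (Nat.pos_of_ne_zero ht0)]
    · obtain ⟨x, hx⟩ : ∃ x : Kˣ, orderOf x = r := by
        haveI : Fintype Kˣ := Fintype.ofFinite _
        refine exists_prime_orderOf_dvd_card r ?_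
        rwa [← Nat.card_eq_fintype_card, Nat.card_units, FiniteField.natCard_extension F p k,
          Nat.card_eq_fintype_card]
      obtain ⟨y, hy⟩ : ∃ y : Lˣ, orderOf y = s := by
        haveI : Fintype Lˣ := Fintype.ofFinite _
        refine exists_prime_orderOf_dvd_card s ?_
        rwa [← Nat.card_eq_fintype_card, Nat.card_units, FiniteField.natCard_extension F p l,
          Nat.card_eq_fintype_card]
      obtain ⟨A, hA, -⟩ := MatOrder.exists_matrix_of_algebra_elem (F := F) (R := K × L) (n := n)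
        (by rw [Module.finrank_prod, FiniteField.finrank_extension F p k,
              FiniteField.finrank_extension F p l]; exact h.resolve_right hdl)
        ((x : K), (y : L))
      exact ⟨A, by rw [hA, Prod.orderOf, orderOf_units, orderOf_units, hx, hy, hrs'.lcm_eq_mul]⟩

/-! ### A prime and the characteristic -/

/-- `1 + x` in `F[X]/(X ^ 2)`. -/
theorem exists_unipotent_elem (p : ℕ) [Fact p.Prime] [CharP F p] :
    orderOf (1 + DualNumber.eps : DualNumber F) = p := by
  have hpow : ∀ j : ℕ, (1 + DualNumber.eps : DualNumber F) ^ j = 1 + (j : F) • DualNumber.eps := by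
    intro j
    induction j with
    | zero => simp
    | succ j ih =>
      rw [pow_succ, ih, Nat.cast_succ, add_smul, one_smul]
      rw [mul_add, mul_one, add_mul, one_mul, smul_mul_assoc, DualNumber.eps_mul_eps, smul_zero,
        add_zero]
      abel
  refine orderOf_eq_prime ?_ ?_
  · rw [hpow, CharP.cast_eq_zero F p, zero_smul, add_zero]
  · intro h
    rw [add_eq_left] at h
    exact one_ne_zero (congrArg TrivSqZeroExt.snd h)

theorem exists_matrix_prime_char_iff {r k : ℕ} [hr : Fact r.Prime] (p : ℕ) [hp : Fact p.Prime]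
    [CharP F p] (hrp : r ≠ p) (hk : k = orderOf ((Fintype.card F : ℕ) : ZMod r)) (h2k : 2 ≤ k) :
    (∃ A : Matrix (Fin n) (Fin n) F, orderOf A = r * p) ↔ k + 2 ≤ n := by
  constructor
  · rintro ⟨A, hA⟩
    have h1 : A ^ (r * p) = 1 := hA ▸ pow_orderOf_eq_one A
    have hrF : ((r : ℕ) : F) ≠ 0 := fun h =>
      hrp ((Nat.prime_dvd_prime_iff_eq hp.out hr.out).mp ((CharP.cast_eq_zero_iff F p r).mp h)).symm
    have hne : minpoly F A ≠ 0 := minpoly.ne_zero (Algebra.IsIntegral.isIntegral A)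
    have hdvd : minpoly F A ∣ ((X : F[X]) ^ r - 1) ^ p := by
      rw [sub_pow_char, one_pow, ← pow_mul]; exact aeval_pow_sub_one A h1
    have hnsq : ¬ Squarefree (minpoly F A) := fun hsq => by
      have hdvd' : minpoly F A ∣ (X : F[X]) ^ r - 1 := (hsq.dvd_pow_iff_dvd hp.out.ne_zero).mp hdvd
      obtain ⟨c, hc⟩ := hdvd'
      have := congrArg (aeval A) hc
      rw [map_mul, minpoly.aeval, zero_mul, map_sub, aeval_X_pow, map_one, sub_eq_zero] at this
      have h3 := Nat.le_of_dvd hr.out.pos (hA ▸ orderOf_dvd_of_pow_eq_one this)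
      nlinarith [hp.out.two_le, hr.out.pos]
    obtain ⟨m, hm, hm2⟩ : ∃ m : F[X], Irreducible m ∧ m * m ∣ minpoly F A := by
      rw [squarefree_iff_irreducible_sq_not_dvd_of_ne_zero hne] at hnsq
      push Not at hnsq
      exact hnsq
    obtain ⟨m', hm', hd', hn'⟩ : ∃ m' : F[X], Irreducible m' ∧ m' ∣ minpoly F A ∧
        ¬ m' ∣ X ^ p - 1 := by
      by_contra hc
      push Not at hc
      have h3 : ∀ π : F[X], Irreducible π → π ∣ minpoly F A → π ∣ X - 1 := fun π hπ hd => by
        have := hc π hπ hd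
        rw [show (X : F[X]) ^ p - 1 = (X - 1) ^ p by rw [sub_pow_char, one_pow]] at this
        exact hπ.prime.dvd_of_dvd_pow this
      have h4 := MatOrder.dvd_of_forall_irreducible_factor hne h3 (le_refl _)
      obtain ⟨e, he⟩ : ∃ e, (minpoly F A).natDegree ≤ p ^ e := ⟨_, (Nat.lt_pow_self hp.out.one_lt).le⟩
      have h5 : minpoly F A ∣ (X : F[X]) ^ (p ^ e) - 1 := by
        rw [show (X : F[X]) ^ (p ^ e) - 1 = (X - 1) ^ (p ^ e) by rw [sub_pow_char_pow, one_pow]]
        exact h4.trans (pow_dvd_pow _ he)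
      obtain ⟨c, hc'⟩ := h5
      have := congrArg (aeval A) hc'
      rw [map_mul, minpoly.aeval, zero_mul, map_sub, aeval_X_pow, map_one, sub_eq_zero] at this
      obtain ⟨i, _, hi⟩ := (Nat.dvd_prime_pow hp.out).mp (hA ▸ orderOf_dvd_of_pow_eq_one this)
      have : r ∣ p ^ i := hi ▸ dvd_mul_right r p
      exact hrp ((Nat.prime_dvd_prime_iff_eq hr.out hp.out).mp (hr.out.dvd_of_dvd_pow this))
    have hk' := Nat.le_of_dvd hm'.natDegree_pos
      (order_dvd_natDegree (r := r) (s := p) hm' (hd'.trans (aeval_pow_sub_one A h1)) hn')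
    rw [← hk] at hk'
    have hle := natDegree_minpoly_le A
    have hmpos := hm.natDegree_pos
    by_cases hass : Associated m m'
    · have h3 := natDegree_le_of_dvd hm2 hne
      rw [natDegree_mul hm.ne_zero hm.ne_zero,
        Polynomial.natDegree_eq_of_degree_eq (degree_eq_degree_of_associated hass)] at h3
      omega
    · have hcop : IsCoprime (m * m) m' := by
        have := hm.coprime_iff_not_dvd.mpr fun h => hass (hm.associated_of_dvd hm' h)
        exact this.mul_left this
      have h3 := natDegree_le_of_dvd (hcop.mul_dvd hm2 hd') hne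
      rw [natDegree_mul (mul_ne_zero hm.ne_zero hm.ne_zero) hm'.ne_zero,
        natDegree_mul hm.ne_zero hm.ne_zero] at h3
      omega
  · intro h
    have : NeZero k := ⟨by omega⟩
    let K := FiniteField.Extension F p k
    obtain ⟨x, hx⟩ : ∃ x : Kˣ, orderOf x = r := by
      haveI : Fintype Kˣ := Fintype.ofFinite _
      refine exists_prime_orderOf_dvd_card r ?_
      rw [← Nat.card_eq_fintype_card, Nat.card_units, FiniteField.natCard_extension F p k,
        Nat.card_eq_fintype_card]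
      exact (TorusSylow.dvd_pow_sub_iff (Fintype.card_pos (α := F)) k).mpr (hk ▸ dvd_rfl)
    have : FiniteDimensional F (DualNumber F) := inferInstanceAs (FiniteDimensional F (F × F))
    have hfr : Module.finrank F (DualNumber F) = 2 := by
      show Module.finrank F (F × F) = 2
      rw [Module.finrank_prod, Module.finrank_self]
    obtain ⟨A, hA, -⟩ := MatOrder.exists_matrix_of_algebra_elem (F := F) (R := K × DualNumber F) (n := n)
      (by rw [Module.finrank_prod, FiniteField.finrank_extension F p k, hfr]; exact h)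
      ((x : K), 1 + DualNumber.eps)
    exact ⟨A, by rw [hA, Prod.orderOf, orderOf_units, hx, exists_unipotent_elem p,
      ((Nat.coprime_primes hr.out hp.out).mpr hrp).lcm_eq_mul]⟩

/-- For `r ∣ q - 1`: the element `diag(c, c, c⁻², 1, …) · transvection`. -/
theorem exists_psl_rp {r : ℕ} (p : ℕ) [hp : Fact p.Prime] [CharP F p] (hn : 3 ≤ n)
    (hrp : r ≠ p) (hr : r.Prime) {c : F} (hc0 : c ≠ 0) (hcr : ∀ j, (c ^ j) ^ 3 = 1 → (4 ≤ n → c ^ j = 1) → r ∣ j)
    (hc3 : (c ^ r) ^ 3 = 1) (hc4 : 4 ≤ n → c ^ r = 1) :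
    r * p ∈ Set.range (orderOf : PSL → ℕ) := by
  classical
  let i0 : Fin n := ⟨0, by omega⟩
  let i1 : Fin n := ⟨1, by omega⟩
  let i2 : Fin n := ⟨2, by omega⟩
  let d : Fin n → F := fun i => if i = i0 ∨ i = i1 then c else if i = i2 then (c ^ 2)⁻¹ else 1
  have h01 : i0 ≠ i1 := by simp [i0, i1, Fin.ext_iff]
  let T : F → Matrix (Fin n) (Fin n) F := fun x => Matrix.transvection i0 i1 x
  let M : Matrix (Fin n) (Fin n) F := Matrix.diagonal d * T 1
  have hd0 : d i0 = c := if_pos (Or.inl rfl)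
  have hd1 : d i1 = c := if_pos (Or.inr rfl)
  have hd2 : d i2 = (c ^ 2)⁻¹ := by
    show (if i2 = i0 ∨ i2 = i1 then c else if i2 = i2 then (c ^ 2)⁻¹ else 1) = _
    rw [if_neg (by simp [i0, i1, i2, Fin.ext_iff]), if_pos rfl]
  have hcomm : ∀ x, Commute (Matrix.diagonal d) (T x) := fun x => by
    show _ * _ = _ * _
    ext i j
    simp only [T, Matrix.transvection, Matrix.diagonal_mul, Matrix.mul_diagonal, Matrix.add_apply,
      Matrix.single_apply, Matrix.one_apply]
    by_cases h : i0 = i ∧ i1 = j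
    · obtain ⟨rfl, rfl⟩ := h
      rw [hd0, hd1, mul_comm]
    · rw [if_neg h]
      by_cases hij : i = j
      · subst hij; simp [mul_comm]
      · simp [hij]
  have hT : ∀ j : ℕ, T 1 ^ j = T (j : F) := by
    intro j
    induction j with
    | zero => simp [T]
    | succ j ih =>
      rw [pow_succ, ih, Nat.cast_succ]
      exact Matrix.transvection_mul_transvection_same i0 i1 h01 _ _
  have hpow : ∀ j : ℕ, M ^ j = Matrix.diagonal (fun i => d i ^ j) * T (j : F) := fun j => by
    rw [(hcomm 1).mul_pow, Matrix.diagonal_pow, hT]; rfl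
  have hentry : ∀ (j : ℕ) (a b : Fin n), (M ^ j) a b =
      d a ^ j * ((if a = b then 1 else 0) + if i0 = a ∧ i1 = b then (j : F) else 0) := fun j a b => by
    rw [hpow, Matrix.diagonal_mul]
    simp [T, Matrix.transvection, Matrix.single_apply, Matrix.one_apply]
  have hdet : M.det = 1 := by
    rw [Matrix.det_mul, Matrix.det_transvection_of_ne i0 i1 h01, mul_one, Matrix.det_diagonal,
      ← Finset.prod_subset (Finset.subset_univ ({i0, i1, i2} : Finset (Fin n)))]
    · rw [Finset.prod_insert (by simp [i0, i1, i2, Fin.ext_iff]),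
        Finset.prod_insert (by simp [i1, i2, Fin.ext_iff]), Finset.prod_singleton, hd0, hd1, hd2]
      field_simp
    · intro i _ hi
      simp only [Finset.mem_insert, Finset.mem_singleton, not_or] at hi
      simp [d, hi.1, hi.2.1, hi.2.2]
  let g : SL := ⟨M, hdet⟩
  refine ⟨QuotientGroup.mk g, ?_⟩
  have key : ∀ j : ℕ, (QuotientGroup.mk g : PSL) ^ j = 1 ↔
      (p ∣ j ∧ (c ^ j) ^ 3 = 1 ∧ (4 ≤ n → c ^ j = 1)) := by
    intro j
    rw [PSLOrders.mk_pow_eq_one_iff]
    show (∃ t : F, M ^ j = t • 1) ↔ _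
    constructor
    · rintro ⟨t, ht⟩
      have h := fun a b => (hentry j a b).symm.trans (congrFun (congrFun ht a) b)
      have e01 := h i0 i1
      have e0 := h i0 i0
      have e2 := h i2 i2
      simp [h01, hd0, hc0, Matrix.one_apply] at e01
      simp [h01.symm, hd0, Matrix.one_apply] at e0
      simp [hd2, show ¬ (i0 = i2 ∧ i1 = i2) from fun h => h01 (h.1.trans h.2.symm), Matrix.one_apply]
        at e2
      refine ⟨(CharP.cast_eq_zero_iff F p j).mp e01, ?_, fun h4 => ?_⟩
      · rw [← e0] at e2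
        have h5 := e2
        rw [← pow_mul] at h5
        have : c ^ (2 * j) * c ^ j = 1 := by
          have hne : c ^ (2 * j) ≠ 0 := pow_ne_zero _ hc0
          rw [← h5]
          exact mul_inv_cancel₀ hne
        rw [← pow_add] at this
        rw [← pow_mul, ← this]
        ring_nf
      · let i3 : Fin n := ⟨3, by omega⟩
        have e3 := h i3 i3
        have hd3 : d i3 = 1 := by simp [d, i0, i1, i2, i3, Fin.ext_iff]
        simp [hd3, show ¬ (i0 = i3 ∧ i1 = i3) from fun h => h01 (h.1.trans h.2.symm),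
          Matrix.one_apply] at e3
        rw [e0, e3]
    · rintro ⟨hpj, h3, h4⟩
      refine ⟨c ^ j, ?_⟩
      rw [hpow, (CharP.cast_eq_zero_iff F p j).mpr hpj, show T 0 = 1 from Matrix.transvection_zero _ _,
        mul_one, Matrix.smul_one_eq_diagonal]
      congr 1
      funext i
      simp only [d]
      split_ifs with h h'
      · rfl
      · rw [inv_pow, ← pow_mul, inv_eq_of_mul_eq_one_right]
        rw [← pow_add, ← h3, ← pow_mul]
        ring_nf
      · have : 4 ≤ n := by
          have := i.isLt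
          simp only [i0, i1, i2, Fin.ext_iff, not_or] at h h'
          omega
        rw [one_pow, h4 this]
  refine Nat.dvd_antisymm (orderOf_dvd_of_pow_eq_one ((key _).mpr
    ⟨dvd_mul_left p r, by rw [pow_mul, ← pow_mul (c ^ r), mul_comm p 3, pow_mul, hc3, one_pow],
      fun h => by rw [pow_mul, hc4 h, one_pow]⟩)) ?_
  obtain ⟨h1, h2, h3⟩ := (key _).mp (pow_orderOf_eq_one (QuotientGroup.mk g : PSL))
  exact ((Nat.coprime_primes hr hp.out).mpr hrp).mul_dvd_of_dvd_of_dvd (hcr _ h2 h3) h1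

theorem not_psl_rp {r : ℕ} [hr : Fact r.Prime] (p : ℕ) [hp : Fact p.Prime] [CharP F p] (hrp : r ≠ p)
    (hn2 : 2 ≤ n)
    (h : n = 2 ∨ (n = 3 ∧ r = 3 ∧ ¬ 9 ∣ Fintype.card F - 1)) :
    r * p ∉ Set.range (orderOf : PSL → ℕ) := by
  classical
  rintro ⟨y, hy⟩
  obtain ⟨g, rfl⟩ := QuotientGroup.mk_surjective y
  set A := (g : Matrix (Fin n) (Fin n) F) with hA
  have hnot : ∀ j, 0 < j → j < r * p → ∀ t : F, A ^ j ≠ t • 1 := fun j hj hlt t ht => by
    have := orderOf_dvd_of_pow_eq_one ((PSLOrders.mk_pow_eq_one_iff g j).mpr ⟨t, ht⟩)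
    rw [hy] at this
    have := Nat.le_of_dvd hj this
    omega
  have hlt1 : r < r * p := lt_mul_of_one_lt_right hr.out.pos hp.out.one_lt
  have hlt2 : p < r * p := lt_mul_of_one_lt_left hp.out.pos hr.out.one_lt
  obtain ⟨t, ht⟩ := (PSLOrders.mk_pow_eq_one_iff g (r * p)).mp (hy ▸ pow_orderOf_eq_one _)
  change A ^ (r * p) = t • 1 at ht
  obtain ⟨τ, hτ⟩ := (Finite.injective_iff_surjective.mp
    (RingHom.injective (frobenius F p))) t
  rw [frobenius_def] at hτ
  have hdetA : A.det = 1 := g.2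
  have hτ0 : τ ≠ 0 := by
    rintro rfl
    rw [zero_pow hp.out.ne_zero] at hτ
    have h1 := congrArg Matrix.det ht
    rw [Matrix.det_pow, hdetA, one_pow, ← hτ, zero_smul] at h1
    have : Nonempty (Fin n) := ⟨⟨0, by omega⟩⟩
    rw [Matrix.det_zero] at h1
    exact one_ne_zero h1
  have hne : minpoly F A ≠ 0 := minpoly.ne_zero (Algebra.IsIntegral.isIntegral A)
  have hmon : (minpoly F A).Monic := minpoly.monic (Algebra.IsIntegral.isIntegral A)
  have hdvd : minpoly F A ∣ ((X : F[X]) ^ r - C τ) ^ p := by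
    rw [sub_pow_char, ← pow_mul, ← C_pow, hτ]
    refine minpoly.dvd F A ?_
    rw [map_sub, aeval_X_pow, aeval_C, ht, Algebra.algebraMap_eq_smul_one, sub_self]
  have hrF : ((r : ℕ) : F) ≠ 0 := fun h =>
    hrp ((Nat.prime_dvd_prime_iff_eq hp.out hr.out).mp ((CharP.cast_eq_zero_iff F p r).mp h)).symm
  have hsep : ((X : F[X]) ^ r - C τ).Separable := separable_X_pow_sub_C τ hrF hτ0
  have hsmall : ∀ a : F, ∀ e, minpoly F A ∣ (X - C a) ^ e → p ≤ e → minpoly F A ∣ (X - C a) ^ p →
      False := fun a e _ _ hd => by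
    rw [sub_pow_char, ← C_pow] at hd
    obtain ⟨c, hc⟩ := hd
    have h1 := congrArg (aeval A) hc
    rw [map_mul, minpoly.aeval, zero_mul, map_sub, aeval_X_pow, aeval_C,
      Algebra.algebraMap_eq_smul_one, sub_eq_zero] at h1
    exact hnot p hp.out.pos hlt2 _ h1
  have hnsq : ¬ Squarefree (minpoly F A) := fun hsq => by
    have hd := (hsq.dvd_pow_iff_dvd hp.out.ne_zero).mp hdvd
    obtain ⟨c, hc⟩ := hd
    have h1 := congrArg (aeval A) hc
    rw [map_mul, minpoly.aeval, zero_mul, map_sub, aeval_X_pow, aeval_C,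
      Algebra.algebraMap_eq_smul_one, sub_eq_zero] at h1
    exact hnot r hr.out.pos hlt1 _ h1
  obtain ⟨m, hm, hm2⟩ : ∃ m : F[X], Irreducible m ∧ m * m ∣ minpoly F A := by
    rw [squarefree_iff_irreducible_sq_not_dvd_of_ne_zero hne] at hnsq
    push Not at hnsq
    exact hnsq
  have hle := natDegree_minpoly_le A
  have hdm := natDegree_le_of_dvd hm2 hne
  rw [natDegree_mul hm.ne_zero hm.ne_zero] at hdm
  have hmpos := hm.natDegree_pos
  have hm1 : m.natDegree = 1 := by omega
  obtain ⟨a, ha⟩ := Polynomial.exists_root_of_degree_eq_one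
    (by rw [degree_eq_natDegree hm.ne_zero, hm1]; rfl : m.degree = 1)
  have ham : Associated (X - C a) m :=
    (irreducible_X_sub_C a).associated_of_dvd hm (dvd_iff_isRoot.mpr ha)
  have hsq2 : (X - C a) * (X - C a) ∣ minpoly F A := (ham.mul_mul ham).dvd.trans hm2
  have haτ : ∀ b, X - C b ∣ minpoly F A → b ^ r = τ := fun b hb => by
    have h1 := (irreducible_X_sub_C b).prime.dvd_of_dvd_pow (hb.trans hdvd)
    rw [dvd_iff_isRoot] at h1
    simpa [sub_eq_zero] using h1
  rcases h with rfl | ⟨rfl, rfl, h9⟩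
  · refine hsmall a p ?_ le_rfl ?_ <;>
    · have he := eq_of_monic_of_dvd_of_natDegree_le ((monic_X_sub_C a).mul (monic_X_sub_C a)) hmon hsq2
        (by rw [natDegree_mul (X_sub_C_ne_zero a) (X_sub_C_ne_zero a), natDegree_X_sub_C]; omega)
      rw [he, ← pow_two]
      exact pow_dvd_pow _ hp.out.two_le
  · obtain ⟨cc, hcc⟩ := hsq2.trans (Matrix.minpoly_dvd_charpoly A)
    have hccm : cc.Monic :=
      ((monic_X_sub_C a).mul (monic_X_sub_C a)).of_mul_monic_left (hcc ▸ A.charpoly_monic)
    have hcd : cc.natDegree = 1 := by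
      have h1 := congrArg natDegree hcc
      rw [Matrix.charpoly_natDegree_eq_dim, Fintype.card_fin,
        ((monic_X_sub_C a).mul (monic_X_sub_C a)).natDegree_mul hccm,
        (monic_X_sub_C a).natDegree_mul (monic_X_sub_C a), natDegree_X_sub_C] at h1
      omega
    obtain ⟨b, hb⟩ : ∃ b, cc = X - C b :=
      ⟨-cc.coeff 0, by rw [map_neg, sub_neg_eq_add]; exact hccm.eq_X_add_C hcd⟩
    subst hb
    have hbr : b ^ 3 = τ := haτ b
      (SemisimpleClasses.dvd_minpoly_matrix A (irreducible_X_sub_C b) (hcc ▸ dvd_mul_left _ _))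
    have har : a ^ 3 = τ := haτ a ((dvd_mul_right _ _).trans hsq2)
    have hprod : a * a * b = 1 := by
      have h1 := Matrix.det_eq_sign_charpoly_coeff A
      rw [hdetA, hcc, Fintype.card_fin] at h1
      simp [mul_coeff_zero] at h1
      linear_combination -h1
    have ha0 : a ≠ 0 := left_ne_zero_of_mul (left_ne_zero_of_mul (hprod ▸ one_ne_zero))
    have ha9 : a ^ 9 = 1 := by
      have h1 : (a * a * b) ^ 3 = 1 := by rw [hprod, one_pow]
      rw [mul_pow, hbr, ← har] at h1
      linear_combination h1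
    have ha3 : a ^ 3 = 1 := by
      obtain ⟨i, hi2, hi⟩ := (Nat.dvd_prime_pow (p := 3) (m := 2) hr.out).mp
        (Nat.gcd_dvd_left 9 (Fintype.card F - 1) : Nat.gcd 9 (Fintype.card F - 1) ∣ 3 ^ 2)
      have h1 := (pow_gcd_eq_one (m := 9) (n := Fintype.card F - 1)).mpr
        ⟨ha9, FiniteField.pow_card_sub_one_eq_one a ha0⟩
      rw [hi] at h1
      interval_cases i
      · rw [pow_zero, pow_one] at h1; rw [h1, one_pow]
      · simpa using h1
      · exact absurd (hi ▸ Nat.gcd_dvd_right 9 (Fintype.card F - 1) : 3 ^ 2 ∣ _) h9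
    have hba : b = a := by
      calc b = a ^ 3 * b := by rw [ha3, one_mul]
        _ = a * (a * a * b) := by ring
        _ = a := by rw [hprod, mul_one]
    subst hba
    obtain ⟨w, hw⟩ : X - C b ∣ (X : F[X]) ^ 3 - C τ := by
      rw [dvd_iff_isRoot]; simp [har]
    have hcop : IsCoprime (X - C b) w :=
      ((irreducible_X_sub_C b).coprime_iff_not_dvd).mpr fun hd => by
        have hdd : (X - C b) * (X - C b) ∣ (X : F[X]) ^ 3 - C τ := hw ▸ mul_dvd_mul_left _ hd
        exact (irreducible_X_sub_C b).not_isUnit (hsep.squarefree _ hdd)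
    have hd3 : minpoly F A ∣ (X - C b) ^ 3 := by
      refine (Matrix.minpoly_dvd_charpoly A).trans (dvd_of_eq ?_)
      rw [hcc]; ring
    rw [hw, mul_pow] at hdvd
    refine hsmall b p ?_ le_rfl ?_ <;>
      exact ((hcop.pow (m := 3) (n := p)).of_isCoprime_of_dvd_left hd3).dvd_of_dvd_mul_right hdvd

end CfsgLib.PSLPrimeGraph
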