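import Cfsg.Agent.Lib.KnownC.PSLOrders

/-!
The element orders of `PSL₃(q)`.
-/

set_option autoImplicit false
set_option linter.unusedSectionVars false

namespace CfsgLib.PSLThreeOrders

open Polynomial Matrix CfsgLib.KnownC.PSLOrders

variable {F : Type*} [Field F] [Fintype F]

local notation "q" => Fintype.card F
local notation "d" => Nat.gcd 3 (Fintype.card F - 1)
local notation "P3" => Matrix.ProjectiveSpecialLinearGroup (Fin 3) F

theorem one_lt_q : 1 < q := Fintype.one_lt_card

theorem d_dvd : d ∣ q - 1 := Nat.gcd_dvd_right _ _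

theorem d_dvd_sq : d ∣ q ^ 2 - 1 := d_dvd.trans (Nat.sub_one_dvd_pow_sub_one _ _)

theorem d_pos : 0 < d := Nat.gcd_pos_of_pos_left _ (by norm_num)

theorem dvd_of_root_pair {A : Matrix (Fin 3) (Fin 3) F} {u v : F[X]} (h : A.charpoly = u * v)
    (hc : IsCoprime u v) {N : ℕ} {c : F} (hu : u ∣ X ^ N - C c) (hv : v ∣ X ^ N - C c) :
    A ^ N = c • (1 : Matrix (Fin 3) (Fin 3) F) := by
  have hd' := hc.mul_dvd hu hv
  rw [← h] at hd'
  obtain ⟨w, hw⟩ := hd'
  have h2 := congrArg (aeval A) hw
  rw [map_mul, Matrix.aeval_self_charpoly, zero_mul, map_sub,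
    map_pow, aeval_X, aeval_C, sub_eq_zero, Algebra.algebraMap_eq_smul_one] at h2
  exact h2

/-- Every element order divides one of the numbers in the list. -/
theorem order_cases (p : ℕ) [Fact p.Prime] [CharP F p] (s : Matrix.SpecialLinearGroup (Fin 3) F) :
    orderOf (QuotientGroup.mk s : P3) ∣ (q ^ 2 + q + 1) / d ∨
    orderOf (QuotientGroup.mk s : P3) ∣ (q ^ 2 - 1) / d ∨
    orderOf (QuotientGroup.mk s : P3) ∣ q - 1 ∨
    orderOf (QuotientGroup.mk s : P3) ∣ p * (q - 1) / d ∨
    (p = 2 ∧ orderOf (QuotientGroup.mk s : P3) ∣ 4) := by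
  classical
  set A := (s : Matrix (Fin 3) (Fin 3) F) with hA
  have hp : p.Prime := Fact.out
  have hdet : A.det = 1 := s.2
  have hdeg : A.charpoly.natDegree = 3 := by rw [Matrix.charpoly_natDegree_eq_dim, Fintype.card_fin]
  have hm := A.charpoly_monic
  have h0 : A.charpoly.coeff 0 = -1 := by
    have := A.det_eq_sign_charpoly_coeff
    rw [hdet, Fintype.card_fin] at this
    linear_combination this
  have mk : ∀ (N : ℕ) (c : F), A ^ N = c • (1 : Matrix (Fin 3) (Fin 3) F) →
      orderOf (QuotientGroup.mk s : P3) ∣ N := fun N c h =>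
    orderOf_dvd_of_pow_eq_one ((mk_pow_eq_one_iff s N).2 ⟨c, h⟩)
  by_cases hroot : ∃ a, A.charpoly.IsRoot a
  · obtain ⟨a, ha⟩ := hroot
    obtain ⟨u, hu⟩ := dvd_iff_isRoot.2 ha
    have hum : u.Monic := (monic_X_sub_C a).of_mul_monic_left (hu ▸ hm)
    have hud : u.natDegree = 2 := by
      rw [hu, (monic_X_sub_C a).natDegree_mul hum, natDegree_X_sub_C] at hdeg
      omega
    have hau : a * u.coeff 0 = 1 := by
      rw [hu, mul_coeff_zero] at h0
      simp at h0
      linear_combination h0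
    have ha0 : a ≠ 0 := fun e => zero_ne_one (by rw [← hau, e, zero_mul])
    by_cases hroot2 : ∃ b, u.IsRoot b
    · obtain ⟨b, hb⟩ := hroot2
      obtain ⟨w, hw⟩ := dvd_iff_isRoot.2 hb
      have hwm : w.Monic := (monic_X_sub_C b).of_mul_monic_left (hw ▸ hum)
      have hwd : w.natDegree = 1 := by
        rw [hw, (monic_X_sub_C b).natDegree_mul hwm, natDegree_X_sub_C] at hud
        omega
      set c := -w.coeff 0 with hcd
      have hwc : w = X - C c := by
        rw [hcd, map_neg, sub_neg_eq_add]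
        exact hwm.eq_X_add_C hwd
      rw [hw, hwc] at hu
      have habc : a * b * c = 1 := by
        rw [hw, hwc, mul_coeff_zero] at hau
        simp at hau
        linear_combination hau
      have hb0 : b ≠ 0 := fun e => zero_ne_one (by rw [← habc, e, mul_zero, zero_mul])
      have hc0 : c ≠ 0 := fun e => zero_ne_one (by rw [← habc, e, mul_zero])
      have hpow : ∀ x : F, x ≠ 0 → X - C x ∣ (X ^ (q - 1) - C (1 : F)) := fun x hx =>
        dvd_iff_isRoot.2 (by simp [FiniteField.pow_card_sub_one_eq_one x hx])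
      -- two equal roots `x`, another `y`
      have two : ∀ x y : F, x ≠ y → x ≠ 0 → x * x * y = 1 →
          A.charpoly = (X - C x) ^ 2 * (X - C y) →
          orderOf (QuotientGroup.mk s : P3) ∣ p * (q - 1) / d := by
        intro x y hxy hx0 hxy1 hch
        rw [Nat.mul_div_assoc _ d_dvd]
        set M := (q - 1) / d with hM
        obtain ⟨e, he⟩ : d ∣ 3 := Nat.gcd_dvd_left _ _
        have hMd : q - 1 = M * d := (Nat.div_mul_cancel d_dvd).symm
        have h3 : x ^ (3 * M) = 1 := by
          rw [he, show d * e * M = (M * d) * e by ring, ← hMd, pow_mul,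
            FiniteField.pow_card_sub_one_eq_one x hx0, one_pow]
        have hy : y ^ M = x ^ M := by
          have : (x * x * y) ^ M = 1 := by rw [hxy1, one_pow]
          rw [mul_pow, mul_pow] at this
          apply mul_left_cancel₀ (mul_ne_zero (pow_ne_zero M hx0) (pow_ne_zero M hx0))
          rw [this, ← h3]
          ring
        refine mk _ (x ^ (p * M)) (dvd_of_root_pair hch
          (IsCoprime.pow_left (isCoprime_X_sub_C_of_isUnit_sub (sub_ne_zero.2 hxy).isUnit)) ?_ ?_)
        · have : (X : F[X]) ^ (p * M) - C (x ^ (p * M)) = (X ^ M - C (x ^ M)) ^ p := by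
            rw [sub_pow_char, ← pow_mul, ← C_pow, ← pow_mul, mul_comm]
          rw [this]
          exact (pow_dvd_pow_of_dvd (dvd_iff_isRoot.2 (by simp)) 2).trans (pow_dvd_pow _ hp.two_le)
        · refine dvd_iff_isRoot.2 ?_
          simp only [IsRoot, eval_sub, eval_pow, eval_X, eval_C]
          rw [mul_comm p, pow_mul, pow_mul, hy, sub_self]
      by_cases hab : a = b <;> by_cases hac : a = c
      · have hch : A.charpoly = (X - C a) ^ 3 := by rw [hu, ← hab, ← hac]; ring
        have hdvd : ∀ P, 3 ≤ P → (∃ k, P = p ^ k) → orderOf (QuotientGroup.mk s : P3) ∣ P := by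
          rintro P hP ⟨k, rfl⟩
          have : A.charpoly ∣ X ^ (p ^ k) - C (a ^ (p ^ k)) := by
            rw [hch, C_pow, ← sub_pow_char_pow]
            exact pow_dvd_pow _ hP
          obtain ⟨v, hv⟩ := this
          have h2 := congrArg (aeval A) hv
          rw [map_mul, Matrix.aeval_self_charpoly, zero_mul, map_sub, map_pow, aeval_X, aeval_C,
            sub_eq_zero, Algebra.algebraMap_eq_smul_one] at h2
          exact mk _ _ h2
        by_cases hp2 : p = 2
        · exact Or.inr (Or.inr (Or.inr (Or.inr ⟨hp2, hdvd 4 (by norm_num) ⟨2, by rw [hp2]; norm_num⟩⟩)))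
        · refine Or.inr (Or.inr (Or.inr (Or.inl ?_)))
          rw [Nat.mul_div_assoc _ d_dvd]
          have : 3 ≤ p := by have := hp.two_le; omega
          exact (hdvd p this ⟨1, (pow_one p).symm⟩).trans (dvd_mul_right _ _)
      · exact Or.inr (Or.inr (Or.inr (Or.inl (two a c hac ha0 (by rw [← hab] at habc; exact habc) (by rw [hu, ← hab]; ring)))))
      · exact Or.inr (Or.inr (Or.inr (Or.inl (two a b hab ha0 (by rw [← hac] at habc; linear_combination habc) (by rw [hu, ← hac]; ring)))))
      · by_cases hbc : b = c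
        · exact Or.inr (Or.inr (Or.inr (Or.inl (two b a (Ne.symm hab) hb0 (by rw [← hbc] at habc; linear_combination habc) (by rw [hu, ← hbc]; ring)))))
        · refine Or.inr (Or.inr (Or.inl (mk _ 1 (dvd_of_root_pair hu ?_ (hpow a ha0) ?_))))
          · exact (isCoprime_X_sub_C_of_isUnit_sub (sub_ne_zero.2 hab).isUnit).mul_right
              (isCoprime_X_sub_C_of_isUnit_sub (sub_ne_zero.2 hac).isUnit)
          · exact (isCoprime_X_sub_C_of_isUnit_sub (sub_ne_zero.2 hbc).isUnit).mul_dvd (hpow b hb0) (hpow c hc0)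
    · refine Or.inr (Or.inl ?_)
      have hirr : Irreducible u := by
        rw [hum.irreducible_iff_roots_eq_zero_of_degree_le_three hud.ge (by omega)]
        refine Multiset.eq_zero_of_forall_notMem fun b hb => hroot2 ⟨b, isRoot_of_mem_roots hb⟩
      haveI := Fact.mk hirr
      let K := AdjoinRoot u
      let pb := AdjoinRoot.powerBasis hirr.ne_zero
      haveI : FiniteDimensional F K := pb.finite
      haveI : Finite K := Module.finite_of_finite F
      letI : Fintype K := Fintype.ofFinite K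
      set α : K := AdjoinRoot.root u with hα
      have hKd : Module.finrank F K = 2 := by
        rw [PowerBasis.finrank pb, AdjoinRoot.powerBasis_dim, hud]
      have hN : α ^ (q + 1) = algebraMap F K a⁻¹ := by
        have h1 : Algebra.norm F α = a⁻¹ := by
          have h2 := Algebra.PowerBasis.norm_gen_eq_coeff_zero_minpoly pb
          rw [AdjoinRoot.powerBasis_gen, AdjoinRoot.powerBasis_dim, AdjoinRoot.minpoly_root hirr.ne_zero,
            hum.leadingCoeff, inv_one, map_one, mul_one, hud] at h2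
          rw [h2]
          rw [eq_inv_of_mul_eq_one_left (show u.coeff 0 * a = 1 by rw [mul_comm]; exact hau)]
          ring
        rw [← h1, FiniteField.algebraMap_norm_eq_pow_sum, hKd, Nat.card_eq_fintype_card]
        simp [Finset.sum_range_succ, add_comm]
      have hα0 : α ≠ 0 := fun e => by
        rw [e, zero_pow (by omega)] at hN
        exact inv_ne_zero ha0 ((map_eq_zero (algebraMap F K)).1 hN.symm)
      set M := (q ^ 2 - 1) / d with hM
      have hK : Fintype.card K = q ^ 2 := by rw [Module.card_eq_pow_finrank (K := F), hKd]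
      have h3 : α ^ (M * (q + 2)) = 1 := by
        obtain ⟨e, he⟩ : d ∣ q + 2 := by
          have h := one_lt_q (F := F)
          rw [show q + 2 = q - 1 + 3 by omega]
          exact dvd_add d_dvd (Nat.gcd_dvd_left _ _)
        rw [he, ← mul_assoc, hM, Nat.div_mul_cancel d_dvd_sq, pow_mul, ← hK,
          FiniteField.pow_card_sub_one_eq_one _ hα0, one_pow]
      have hαM : α ^ M = algebraMap F K (a ^ M) := by
        have h4 : α ^ ((q + 1) * M) = algebraMap F K (a⁻¹ ^ M) := by rw [pow_mul, hN, map_pow]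
        apply mul_right_cancel₀ (pow_ne_zero ((q + 1) * M) hα0)
        rw [← pow_add, show M + (q + 1) * M = M * (q + 2) by ring, h3, h4, ← map_mul, ← mul_pow,
          mul_inv_cancel₀ ha0, one_pow, map_one]
      refine mk _ (a ^ M) (dvd_of_root_pair hu ?_ (dvd_iff_isRoot.2 (by simp)) ?_)
      · refine (irreducible_X_sub_C a).coprime_iff_not_dvd.2 fun h => hroot2 ⟨a, dvd_iff_isRoot.1 h⟩
      · rw [← AdjoinRoot.mk_eq_zero, map_sub, map_pow, AdjoinRoot.mk_X, AdjoinRoot.mk_C, sub_eq_zero,
          ← AdjoinRoot.algebraMap_eq]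
        exact hαM
  · refine Or.inl ?_
    have hirr : Irreducible A.charpoly := by
      rw [hm.irreducible_iff_roots_eq_zero_of_degree_le_three (by omega) hdeg.le]
      refine Multiset.eq_zero_of_forall_notMem fun b hb => hroot ⟨b, isRoot_of_mem_roots hb⟩
    have hT : torusOrder F 3 = (q ^ 2 + q + 1) / d := by
      simp [torusOrder, Finset.sum_range_succ]
      ring_nf
    have h1 := orderOf_dvd_of_charpoly_pow p (by norm_num) s hirr hm (j := 1) (pow_one _).symm
    have h2 : orderOf (QuotientGroup.mk s : P3) ∣ q ^ 3 - 1 := by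
      have hX : ¬ A.charpoly ∣ X := fun h => by
        have := natDegree_le_of_dvd h X_ne_zero
        rw [hdeg, natDegree_X] at this
        omega
      have hq : 1 ≤ Nat.card F ^ 3 := Nat.one_le_pow _ _ Nat.card_pos
      have h3 : A.charpoly ∣ X ^ Nat.card F ^ A.charpoly.natDegree - X :=
        (hirr.natDegree_dvd_iff_dvd_X_pow_card_pow_sub_X).1 dvd_rfl
      rw [hdeg] at h3
      have h4 : A.charpoly ∣ X ^ (Nat.card F ^ 3 - 1) - 1 := by
        refine (hirr.prime.dvd_or_dvd ?_).resolve_left hX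
        rwa [mul_sub, mul_one, ← pow_succ', Nat.sub_add_cancel hq]
      obtain ⟨w, hw⟩ := h4
      have h5 := congrArg (aeval A) hw
      rw [map_mul, Matrix.aeval_self_charpoly, zero_mul, map_sub, map_pow, aeval_X, map_one,
        sub_eq_zero, Nat.card_eq_fintype_card] at h5
      exact mk _ 1 (by rw [h5, one_smul])
    have hco : Nat.Coprime (p ^ Nat.clog p 3) (orderOf (QuotientGroup.mk s : P3)) := by
      refine Nat.Coprime.pow_left _ (hp.coprime_iff_not_dvd.2 fun h => ?_)
      have h6 := h.trans h2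
      obtain ⟨n, hn', hq'⟩ := FiniteField.card F p
      have h7 : p ∣ q ^ 3 := dvd_pow (hq' ▸ dvd_pow_self p n.ne_zero) (by norm_num)
      have hone : 1 ≤ q ^ 3 := Nat.one_le_pow _ _ Fintype.card_pos
      exact hp.one_lt.ne' (Nat.dvd_one.1 ((Nat.dvd_add_right h6).1 (by rwa [Nat.sub_add_cancel hone])))
    rw [← hT]
    exact hco.symm.dvd_of_dvd_mul_left h1

/-- A `2 × 2` block completed to determinant one. -/
theorem exists_block (B : Matrix (Fin 2) (Fin 2) F) (hB : B.det ≠ 0) :
    ∃ y : P3, ∀ k, y ^ k = 1 → ∃ t : F, B ^ k = t • (1 : Matrix (Fin 2) (Fin 2) F) ∧ t * B.det ^ k = 1 := by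
  classical
  let e : Fin 2 ⊕ Fin 1 ≃ Fin 3 := finSumFinEquiv
  let φ := Matrix.reindexAlgEquiv F F e
  let M : Matrix (Fin 2 ⊕ Fin 1) (Fin 2 ⊕ Fin 1) F := Matrix.fromBlocks B 0 0 (B.det⁻¹ • 1)
  have hM : (φ M).det = 1 := by
    rw [Matrix.reindexAlgEquiv_apply, Matrix.det_reindex_self, Matrix.det_fromBlocks_zero₁₂,
      Matrix.det_smul, Matrix.det_one, mul_one, Fintype.card_fin, pow_one, mul_inv_cancel₀ hB]
  refine ⟨QuotientGroup.mk ⟨φ M, hM⟩, fun k hk => ?_⟩
  obtain ⟨t, ht⟩ := (mk_pow_eq_one_iff _ k).1 hk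
  change φ M ^ k = t • 1 at ht
  have hpow : ∀ k, M ^ k = Matrix.fromBlocks (B ^ k) 0 0 ((B.det ^ k)⁻¹ • 1) := by
    intro k
    induction k with
    | zero => simp [Matrix.fromBlocks_one]
    | succ k ih =>
      rw [pow_succ, ih, Matrix.fromBlocks_multiply]
      simp [pow_succ, smul_smul, mul_comm]
  rw [← map_pow, ← map_one φ, ← map_smul] at ht
  have h := φ.injective ht
  rw [hpow, ← Matrix.fromBlocks_one, Matrix.fromBlocks_smul, Matrix.fromBlocks_inj] at h
  refine ⟨t, h.1, ?_⟩
  have := congrFun (congrFun h.2.2.2 0) 0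
  simp at this
  rw [← this, inv_mul_cancel₀ (pow_ne_zero _ hB)]

theorem exists_sq (p : ℕ) [Fact p.Prime] [CharP F p] : ∃ y : P3, (q ^ 2 - 1) / d ∣ orderOf y := by
  obtain ⟨B, hB⟩ := CfsgLib.KnownC.MatOrder.exists_matrix_singer (F := F) p (n := 2) (by norm_num : 1 ≤ 2) le_rfl
  rw [Nat.card_eq_fintype_card] at hB
  have hq : 0 < q ^ 2 - 1 := by have := one_lt_q (F := F); have : 1 < q ^ 2 := by nlinarith
                                omega
  have hdet : B.det ≠ 0 := fun h => by
    have h1 := congrArg Matrix.det (pow_orderOf_eq_one B)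
    rw [Matrix.det_pow, h, zero_pow (by omega), Matrix.det_one] at h1
    exact zero_ne_one h1
  obtain ⟨y, hy⟩ := exists_block B hdet
  refine ⟨y, ?_⟩
  obtain ⟨t, ht, ht1⟩ := hy _ (pow_orderOf_eq_one y)
  set k := orderOf y
  have ht3 : t ^ 3 = 1 := by
    have := congrArg Matrix.det ht
    rw [Matrix.det_pow, Matrix.det_smul, Matrix.det_one, mul_one, Fintype.card_fin] at this
    rw [pow_succ', ← this]
    exact ht1
  have ht0 : t ≠ 0 := fun e => zero_ne_one (by rw [← ht1, e, zero_mul])
  have key : ∀ m, t ^ m = 1 → q ^ 2 - 1 ∣ k * m := fun m hm => by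
    rw [← hB]
    exact orderOf_dvd_of_pow_eq_one (by rw [pow_mul, ht, _root_.smul_pow, hm, one_pow, one_smul])
  have h := Nat.dvd_gcd (key 3 ht3) (key _ (FiniteField.pow_card_sub_one_eq_one t ht0))
  rw [Nat.gcd_mul_left] at h
  exact Nat.dvd_of_mul_dvd_mul_right d_pos (by rwa [Nat.div_mul_cancel d_dvd_sq])

theorem exists_split : ∃ y : P3, q - 1 ∣ orderOf y := by
  obtain ⟨g, hg⟩ := IsCyclic.exists_ofOrder_eq_natCard (α := Fˣ)
  rw [Nat.card_units, Nat.card_eq_fintype_card] at hg
  obtain ⟨y, hy⟩ := exists_block (Matrix.diagonal ![(g : F), (g : F)⁻¹]) (by simp [Matrix.det_diagonal])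
  refine ⟨y, ?_⟩
  obtain ⟨t, ht, ht1⟩ := hy _ (pow_orderOf_eq_one y)
  simp [Matrix.det_diagonal] at ht1
  rw [Matrix.diagonal_pow] at ht
  have := congrFun (congrFun ht 0) 0
  simp at this
  rw [← hg, ← orderOf_units]
  exact orderOf_dvd_of_pow_eq_one (this.trans ht1)

theorem exists_mixed (p : ℕ) [Fact p.Prime] [CharP F p] : ∃ y : P3, p * (q - 1) / d ∣ orderOf y := by
  obtain ⟨g, hg⟩ := IsCyclic.exists_ofOrder_eq_natCard (α := Fˣ)
  rw [Nat.card_units, Nat.card_eq_fintype_card] at hg
  set a := (g : F)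
  have ha : a ≠ 0 := g.ne_zero
  obtain ⟨y, hy⟩ := exists_block !![a, 1; 0, a] (by simp [Matrix.det_fin_two, ha])
  refine ⟨y, ?_⟩
  obtain ⟨t, ht, ht1⟩ := hy _ (pow_orderOf_eq_one y)
  set k := orderOf y
  have hpow : ∀ j : ℕ, (!![a, 1; 0, a] : Matrix (Fin 2) (Fin 2) F) ^ j =
      !![a ^ j, j * a ^ j / a; 0, a ^ j] := by
    intro j
    induction j with
    | zero => simp [Matrix.one_fin_two]
    | succ j ih =>
      rw [pow_succ, ih, Matrix.mul_fin_two]
      congr 1
      ext i i'
      fin_cases i <;> fin_cases i' <;> simp [pow_succ]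
      field_simp
      ring
  rw [hpow, Matrix.one_fin_two, Matrix.smul_of] at ht
  have e1 := congrFun (congrFun ht 0) 0
  have e2 := congrFun (congrFun ht 0) 1
  simp [ha] at e1 e2
  have hpk : p ∣ k := (CharP.cast_eq_zero_iff F p k).1 e2
  have h3 : a ^ (k * 3) = 1 := by
    rw [← e1, Matrix.det_fin_two] at ht1
    simp at ht1
    rw [← ht1, pow_mul, mul_pow]
    ring
  have h : q - 1 ∣ k * d := by
    rw [← Nat.gcd_mul_left]
    refine Nat.dvd_gcd ?_ (dvd_mul_left _ _)
    rw [← hg, ← orderOf_units]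
    exact orderOf_dvd_of_pow_eq_one h3
  have hM : (q - 1) / d ∣ k := Nat.dvd_of_mul_dvd_mul_right d_pos (by rwa [Nat.div_mul_cancel d_dvd])
  rw [Nat.mul_div_assoc _ d_dvd]
  refine Nat.Coprime.mul_dvd_of_dvd_of_dvd ?_ hpk hM
  refine (Fact.out : p.Prime).coprime_iff_not_dvd.2 fun h' => ?_
  obtain ⟨n, hn, hq⟩ := FiniteField.card F p
  have h6 : p ∣ q - 1 := h'.trans (Nat.div_dvd_of_dvd d_dvd)
  have h7 : p ∣ q := hq ▸ dvd_pow_self p n.ne_zero
  have h8 := one_lt_q (F := F)
  exact (Fact.out : p.Prime).one_lt.ne' (Nat.dvd_one.1 ((Nat.dvd_add_right h6).1 (by rwa [Nat.sub_add_cancel h8.le])))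

theorem orders (p : ℕ) [Fact p.Prime] [CharP F p] :
    Set.range (orderOf : P3 → ℕ) =
      {m : ℕ | m ∣ (q ^ 2 + q + 1) / d ∨ m ∣ (q ^ 2 - 1) / d ∨ m ∣ q - 1 ∨
        m ∣ p * (q - 1) / d ∨ (p = 2 ∧ m ∣ 4)} := by
  ext m
  constructor
  · rintro ⟨x, rfl⟩
    obtain ⟨s, rfl⟩ := QuotientGroup.mk_surjective x
    exact order_cases p s
  · intro h
    have key : ∀ N, (∃ y : P3, N ∣ orderOf y) → m ∣ N → m ∈ Set.range (orderOf : P3 → ℕ) := by
      rintro N ⟨y, hy⟩ hmN
      exact ⟨y ^ (orderOf y / m), orderOf_pow_orderOf_div (orderOf_pos y).ne' (hmN.trans hy)⟩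
    rcases h with h | h | h | h | ⟨hp2, h⟩
    · refine key _ ?_ h
      obtain ⟨y, hy⟩ := exists_psl_torus (F := F) (n := 3) p (by norm_num)
      refine ⟨y, ?_⟩
      convert hy using 1
      simp [torusOrder, Finset.sum_range_succ]
      ring_nf
    · exact key _ (exists_sq p) h
    · exact key _ exists_split h
    · exact key _ (exists_mixed p) h
    · refine key _ ?_ h
      obtain ⟨y, hy⟩ := exists_psl_unipotent (F := F) (n := 3) p (by norm_num)
      refine ⟨y, ?_⟩
      subst hp2
      rwa [show Nat.clog 2 3 = 2 by decide +kernel] at hy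

end CfsgLib.PSLThreeOrders
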