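import Cfsg.Agent.Lib.KnownA.StSLUniv
import Cfsg.Agent.Lib.KGroups.SLTwoMultiplier

/-!
# Central extensions of `SL n` over a finite field split

For `3 ≤ n` and `(n, q)` different from `(3, 2)`, `(3, 4)`, `(4, 2)`, lifts of the transvections in a
central extension satisfy the Steinberg relations.
-/

set_option autoImplicit false

open Matrix
open scoped commutatorElement

namespace CfsgLib.KnownA.SLMultiplier

universe uι uX

section Transv

variable {K : Type*} [Field K] {ι : Type uι} [Fintype ι] [DecidableEq ι]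

/-- The transvection, extended by one on the diagonal. -/
def tv (i j : ι) (t : K) : SpecialLinearGroup ι K :=
  if h : i ≠ j then SpecialLinearGroup.transvection h t else 1

theorem tv_eq {i j : ι} (h : i ≠ j) (t : K) : tv i j t = SpecialLinearGroup.transvection h t :=
  dif_pos h

theorem tv_coe {i j : ι} (h : i ≠ j) (t : K) :
    (tv i j t : Matrix ι ι K) = 1 + Matrix.single i j t := by
  rw [tv_eq h]; rfl

theorem tv_add {i j : ι} (h : i ≠ j) (t u : K) : tv i j t * tv i j u = tv i j (t + u) := by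
  rw [tv_eq h, tv_eq h, tv_eq h]
  exact Subtype.ext (transvection_mul_transvection_same i j h t u)

theorem tv_zero {i j : ι} (h : i ≠ j) : tv i j (0 : K) = 1 := by
  rw [tv_eq h]; exact SpecialLinearGroup.transvection_coeff_zero h

theorem tv_comm {i j k l : ι} (h1 : i ≠ j) (h2 : k ≠ l) (h3 : i ≠ l) (h4 : j ≠ k) (t u : K) :
    Commute (tv i j t) (tv k l u) := by
  apply Subtype.ext
  change (tv i j t : Matrix ι ι K) * (tv k l u : Matrix ι ι K) =
    (tv k l u : Matrix ι ι K) * (tv i j t : Matrix ι ι K)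
  rw [tv_coe h1, tv_coe h2]
  simp only [mul_add, add_mul, mul_one, one_mul,
    Matrix.single_mul_single_of_ne _ _ _ _ h4, Matrix.single_mul_single_of_ne _ _ _ _ h3.symm]
  abel

theorem tv_mix {i j k : ι} (h1 : i ≠ j) (h2 : j ≠ k) (h3 : i ≠ k) (t u : K) :
    ⁅tv i j t, tv j k u⁆ = tv i k (t * u) := by
  rw [tv_eq h1, tv_eq h2, tv_eq h3]
  exact CfsgLib.Classical.commutator_transvection h1 h2 h3 t u

/-- A diagonal matrix of determinant one. -/
def diagSL (d : ι → K) (hd : ∏ x, d x = 1) : SpecialLinearGroup ι K :=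
  ⟨Matrix.diagonal d, by rw [Matrix.det_diagonal, hd]⟩

theorem diag_conj (d : ι → K) (hd : ∏ x, d x = 1) {i j : ι} (h : i ≠ j) (t : K) :
    diagSL d hd * tv i j t * (diagSL d hd)⁻¹ = tv i j (d i / d j * t) := by
  have hj : d j ≠ 0 := fun e => by
    rw [Finset.prod_eq_zero (Finset.mem_univ j) e] at hd
    exact zero_ne_one hd
  rw [mul_inv_eq_iff_eq_mul]
  apply Subtype.ext
  change Matrix.diagonal d * (tv i j t : Matrix ι ι K) =
    (tv i j (d i / d j * t) : Matrix ι ι K) * Matrix.diagonal d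
  rw [tv_coe h, tv_coe h, mul_add, add_mul, one_mul, mul_one]
  congr 1
  ext a b
  simp only [Matrix.diagonal_mul, Matrix.mul_diagonal, Matrix.single_apply]
  split_ifs with hab
  · obtain ⟨rfl, rfl⟩ := hab
    field_simp
  · simp

/-- The swap of two disjoint pairs as an element of determinant one. -/
def swapSL {i j k l : ι} (hik : i ≠ k) (hjl : j ≠ l) : SpecialLinearGroup ι K :=
  ⟨(Equiv.swap i k * Equiv.swap j l).permMatrix K, by
    rw [Matrix.det_permutation, Equiv.Perm.sign_mul, Equiv.Perm.sign_swap hik,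
      Equiv.Perm.sign_swap hjl]
    simp⟩

theorem swap_conj {i j k l : ι} (hik : i ≠ k) (hjl : j ≠ l) (hij : i ≠ j) (hkl : k ≠ l)
    (hil : i ≠ l) (hjk : j ≠ k) (t : K) :
    swapSL hik hjl * tv i j t * (swapSL hik hjl)⁻¹ = tv k l t := by
  rw [mul_inv_eq_iff_eq_mul]
  apply Subtype.ext
  change (Equiv.swap i k * Equiv.swap j l).permMatrix K * (tv i j t : Matrix ι ι K) =
    (tv k l t : Matrix ι ι K) * (Equiv.swap i k * Equiv.swap j l).permMatrix K
  rw [tv_coe hij, tv_coe hkl, mul_add, add_mul, one_mul, mul_one]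
  congr 1
  have hσ : ∀ x, (Equiv.swap i k * Equiv.swap j l) ((Equiv.swap i k * Equiv.swap j l) x) = x := by
    intro x
    simp only [Equiv.Perm.coe_mul, Function.comp_apply, Equiv.swap_apply_def]
    split_ifs <;> simp_all
  have hi : (Equiv.swap i k * Equiv.swap j l) i = k := by
    simp [Equiv.swap_apply_of_ne_of_ne hij hil]
  have hl : (Equiv.swap i k * Equiv.swap j l) l = j := by
    simp [Equiv.swap_apply_of_ne_of_ne hij.symm hjk]
  ext a b
  simp only [Equiv.Perm.permMatrix, PEquiv.toMatrix_toPEquiv_mul,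
    PEquiv.mul_toMatrix_toPEquiv, Matrix.submatrix_apply, id_eq, Matrix.single_apply]
  set σ := Equiv.swap i k * Equiv.swap j l
  have hiff : (i = σ a ∧ j = b) ↔ (k = a ∧ l = σ.symm b) := by
    constructor
    · rintro ⟨h, rfl⟩
      exact ⟨σ.injective (by rw [← h, ← hi, hσ]), σ.eq_symm_apply.2 hl⟩
    · rintro ⟨rfl, h⟩
      exact ⟨by rw [← hi, hσ], by rw [← hl, h, Equiv.apply_symm_apply]⟩
  by_cases hc : i = σ a ∧ j = b
  · rw [if_pos hc, if_pos (hiff.1 hc)]
  · rw [if_neg hc, if_neg (fun h => hc (hiff.2 h))]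

end Transv

section Lift

variable {K : Type*} [Field K] {ι : Type uι} [Fintype ι] [DecidableEq ι]
variable {X : Type uX} [Group X] {ξ : X →* SpecialLinearGroup ι K}
variable (hs : Function.Surjective ξ) (hk : ξ.ker ≤ Subgroup.center X)

include hk in
theorem central_of_one {z : X} (hz : ξ z = 1) (w : X) : Commute z w :=
  (Subgroup.mem_center_iff.1 (hk hz) w).symm

include hk in
theorem comm_congr {a a' b b' : X} (ha : ξ a = ξ a') (hb : ξ b = ξ b') : ⁅a, b⁆ = ⁅a', b'⁆ := by
  have h1 : ξ (a'⁻¹ * a) = 1 := by rw [map_mul, map_inv, ha, inv_mul_cancel]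
  have h2 : ξ (b'⁻¹ * b) = 1 := by rw [map_mul, map_inv, hb, inv_mul_cancel]
  obtain ⟨z, hz, rfl⟩ : ∃ z, ξ z = 1 ∧ a = a' * z := ⟨_, h1, (mul_inv_cancel_left _ _).symm⟩
  obtain ⟨w, hw, rfl⟩ : ∃ w, ξ w = 1 ∧ b = b' * w := ⟨_, h2, (mul_inv_cancel_left _ _).symm⟩
  simp only [commutatorElement_def, _root_.mul_inv_rev]
  calc a' * z * (b' * w) * (z⁻¹ * a'⁻¹) * (w⁻¹ * b'⁻¹)
      = a' * (z * (b' * w) * z⁻¹) * a'⁻¹ * (w⁻¹ * b'⁻¹) := by group
    _ = a' * (b' * w) * a'⁻¹ * (w⁻¹ * b'⁻¹) := by
        rw [(central_of_one hk hz (b' * w)).eq, mul_inv_cancel_right]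
    _ = a' * b' * (w * a'⁻¹ * w⁻¹) * b'⁻¹ := by group
    _ = a' * b' * a'⁻¹ * b'⁻¹ := by rw [(central_of_one hk hw a'⁻¹).eq, mul_inv_cancel_right]

/-- A chosen lift. -/
noncomputable def lift (g : SpecialLinearGroup ι K) : X := Function.surjInv hs g

theorem lift_spec (g : SpecialLinearGroup ι K) : ξ (lift hs g) = g := Function.surjInv_eq hs g

/-- The commutator of lifts. -/
noncomputable def br (g h : SpecialLinearGroup ι K) : X := ⁅lift hs g, lift hs h⁆

theorem br_spec (g h : SpecialLinearGroup ι K) : ξ (br hs g h) = ⁅g, h⁆ := by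
  rw [br, map_commutatorElement, lift_spec, lift_spec]

include hk

theorem br_eq (a b : X) : ⁅a, b⁆ = br hs (ξ a) (ξ b) :=
  comm_congr hk (lift_spec hs _).symm (lift_spec hs _).symm

theorem commute_iff (a b : X) : Commute a b ↔ br hs (ξ a) (ξ b) = 1 := by
  rw [← br_eq hs hk, commutatorElement_eq_one_iff_mul_comm]
  rfl

theorem br_conj (D g h : SpecialLinearGroup ι K) :
    lift hs D * br hs g h * (lift hs D)⁻¹ = br hs (D * g * D⁻¹) (D * h * D⁻¹) := by
  rw [br, conjugate_commutatorElement, br_eq hs hk]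
  simp only [map_mul, map_inv, lift_spec]

theorem br_mul_left (g g' h : SpecialLinearGroup ι K) :
    br hs (g * g') h = lift hs g * br hs g' h * (lift hs g)⁻¹ * br hs g h := by
  have : ⁅lift hs g * lift hs g', lift hs h⁆ = br hs (g * g') h := by
    rw [br_eq hs hk, map_mul, lift_spec, lift_spec, lift_spec]
  rw [← this, br, br, commutatorElement_def, commutatorElement_def, commutatorElement_def]
  group

theorem br_mul_right (g h h' : SpecialLinearGroup ι K) :
    br hs g (h * h') = br hs g h * (lift hs h * br hs g h' * (lift hs h)⁻¹) := by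
  have : ⁅lift hs g, lift hs h * lift hs h'⁆ = br hs g (h * h') := by
    rw [br_eq hs hk, map_mul, lift_spec, lift_spec, lift_spec]
  rw [← this, br, br, commutatorElement_def, commutatorElement_def, commutatorElement_def]
  group

theorem br_central {g h : SpecialLinearGroup ι K} (hgh : Commute g h) (w : X) :
    Commute (br hs g h) w :=
  central_of_one hk (by rw [br_spec, commutatorElement_eq_one_iff_mul_comm]; exact hgh.eq) w

theorem br_conj_of_commute {g h : SpecialLinearGroup ι K} (hgh : Commute g h)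
    (D : SpecialLinearGroup ι K) : br hs (D * g * D⁻¹) (D * h * D⁻¹) = br hs g h := by
  rw [← br_conj hs hk, ← (br_central hs hk hgh (lift hs D)).eq, mul_inv_cancel_right]

theorem commute_of_br {g h : SpecialLinearGroup ι K} (h1 : br hs g h = 1) {a b : X}
    (ha : ξ a = g) (hb : ξ b = h) : Commute a b := by
  rw [commute_iff hs hk, ha, hb, h1]

/-- Commuting with both factors of a commutator. -/
theorem br_one_of_factor {g p r : SpecialLinearGroup ι K} (hp : Commute g p) (hr : Commute g r) :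
    br hs g ⁅p, r⁆ = 1 := by
  have e : lift hs g * br hs p r * (lift hs g)⁻¹ = br hs p r := by
    rw [br_conj hs hk, hp.eq, mul_inv_cancel_right, hr.eq, mul_inv_cancel_right]
  have hc : Commute (lift hs g) (br hs p r) := mul_inv_eq_iff_eq_mul.1 e
  have := (commute_iff hs hk _ _).1 hc
  rwa [lift_spec, br_spec] at this

/-- Two commuting root subgroups with a fifth index have commuting lifts. -/
theorem br_tv_of_third {i j k l m : ι} (h1 : i ≠ j) (h2 : k ≠ l) (h3 : i ≠ l) (h4 : j ≠ k)
    (hm : m ∉ ({i, j, k, l} : Finset ι)) (t u : K) :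
    br hs (tv i j t) (tv k l u) = 1 := by
  simp only [Finset.mem_insert, Finset.mem_singleton, not_or] at hm
  obtain ⟨hmi, hmj, hmk, hml⟩ := hm
  rw [show tv k l u = ⁅tv k m u, tv m l (1 : K)⁆ by
    rw [tv_mix (Ne.symm hmk) hml h2, mul_one]]
  exact br_one_of_factor hs hk (tv_comm h1 (Ne.symm hmk) (Ne.symm hmi) h4 t u)
    (tv_comm h1 hml h3 (Ne.symm hmj) t 1)

theorem br_biadd_left {i j k l : ι} (h1 : i ≠ j) (h2 : k ≠ l) (h3 : i ≠ l) (h4 : j ≠ k)
    (t t' u : K) : br hs (tv i j (t + t')) (tv k l u) =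
      br hs (tv i j t) (tv k l u) * br hs (tv i j t') (tv k l u) := by
  rw [← tv_add h1, br_mul_left hs hk,
    ← (br_central hs hk (tv_comm h1 h2 h3 h4 t' u) (lift hs (tv i j t))).eq, mul_inv_cancel_right]
  exact (br_central hs hk (tv_comm h1 h2 h3 h4 t' u) _).eq

theorem br_biadd_right {i j k l : ι} (h1 : i ≠ j) (h2 : k ≠ l) (h3 : i ≠ l) (h4 : j ≠ k)
    (t u u' : K) : br hs (tv i j t) (tv k l (u + u')) =
      br hs (tv i j t) (tv k l u) * br hs (tv i j t) (tv k l u') := by
  rw [← tv_add h2, br_mul_right hs hk,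
    ← (br_central hs hk (tv_comm h1 h2 h3 h4 t u') (lift hs (tv k l u))).eq, mul_inv_cancel_right]

/-- A torus element moving the second root only kills the pairing. -/
theorem br_one_of_torus {i j k l : ι} (h1 : i ≠ j) (h2 : k ≠ l) (h3 : i ≠ l) (h4 : j ≠ k)
    (d : ι → K) (hd : ∏ x, d x = 1) (hij : d i = d j) (hkl : d k / d l ≠ 1) (t u : K) :
    br hs (tv i j t) (tv k l u) = 1 := by
  have hne : d j ≠ 0 := fun e => by
    rw [Finset.prod_eq_zero (Finset.mem_univ j) e] at hd
    exact zero_ne_one hd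
  set v := u / (d k / d l - 1) with hv
  have e := br_conj_of_commute hs hk (tv_comm h1 h2 h3 h4 t v) (diagSL d hd)
  rw [diag_conj d hd h1, diag_conj d hd h2, hij, div_self hne, one_mul,
    show d k / d l * v = u + v by
      rw [hv]; field_simp [sub_ne_zero.2 hkl]; ring,
    br_biadd_right hs hk h1 h2 h3 h4] at e
  exact mul_eq_right.1 e

/-- For a field of three elements two disjoint root subgroups have commuting lifts. -/
theorem br_one_of_swap [Fintype K] (hK : Fintype.card K = 3) {i j k l : ι} (h1 : i ≠ j)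
    (h2 : k ≠ l) (h3 : i ≠ l) (h4 : j ≠ k) (hik : i ≠ k) (hjl : j ≠ l) (t u : K) :
    br hs (tv i j t) (tv k l u) = 1 := by
  classical
  set f : K → K → X := fun t u => br hs (tv i j t) (tv k l u) with hf
  have hanti : ∀ t u, f t u = (f u t)⁻¹ := by
    intro t u
    have e := br_conj_of_commute hs hk (tv_comm h1 h2 h3 h4 t u) (swapSL hik hjl)
    rw [swap_conj hik hjl h1 h2 h3 h4] at e
    have e2 : swapSL hik hjl * tv k l u * (swapSL hik hjl)⁻¹ = tv i j u := by
      have := swap_conj (K := K) hik.symm hjl.symm h2 h1 h4.symm h3.symm u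
      rw [show swapSL (K := K) hik.symm hjl.symm = swapSL hik hjl from
        Subtype.ext (by simp only [swapSL]; rw [Equiv.swap_comm k i, Equiv.swap_comm l j])] at this
      exact this
    rw [e2] at e
    simp only [hf]
    rw [← e, br, br, commutatorElement_inv]
  have h3' : (3 : K) = 0 := by
    have := FiniteField.cast_card_eq_zero K
    rw [hK] at this
    exact_mod_cast this
  have haddl : ∀ t t' u, f (t + t') u = f t u * f t' u := fun t t' u =>
    br_biadd_left hs hk h1 h2 h3 h4 t t' u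
  have haddr : ∀ t u u', f t (u + u') = f t u * f t u' := fun t u u' =>
    br_biadd_right hs hk h1 h2 h3 h4 t u u'
  have h0r : ∀ t, f t 0 = 1 := fun t => by
    have := haddr t 0 0; rwa [add_zero, left_eq_mul] at this
  have h11 : f 1 1 = 1 := by
    have e2 : f 1 1 * f 1 1 = 1 := by
      conv_lhs => arg 2; rw [hanti]
      exact mul_inv_cancel _
    have e3 : f 1 1 * f 1 1 * f 1 1 = 1 := by
      rw [← haddr, ← haddr, show (1 : K) + 1 + 1 = 0 by linear_combination h3', h0r]
    rwa [e2, one_mul] at e3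
  have hall : ∀ x : K, x = 0 ∨ x = 1 ∨ x = 1 + 1 := by
    have hne : (1 : K) + 1 ≠ 0 := fun h => one_ne_zero (α := K) (by linear_combination h3' - h)
    have hcard : ({0, 1, 1 + 1} : Finset K).card = Fintype.card K := by
      rw [hK, Finset.card_insert_of_notMem (by simp [Ne.symm hne]),
        Finset.card_insert_of_notMem (by simp), Finset.card_singleton]
    intro x
    have := Finset.eq_univ_of_card _ hcard ▸ Finset.mem_univ x
    simpa using this
  have h1u : ∀ u, f 1 u = 1 := fun u => by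
    rcases hall u with rfl | rfl | rfl
    · exact h0r 1
    · exact h11
    · rw [haddr, h11, mul_one]
  rcases hall t with rfl | rfl | rfl
  · have : f 0 u = 1 := by rw [hanti, h0r, inv_one]
    exact this
  · exact h1u u
  · have : f (1 + 1) u = 1 := by rw [haddl, h1u, mul_one]
    exact this

omit hk hs in
theorem card_four (a b c d : ι) : ({a, b, c, d} : Finset ι).card ≤ 4 := Finset.card_le_four

/-- The fields allowed. -/
def Allowed (K : Type*) [Field K] [Fintype K] (n : ℕ) : Prop :=
  3 ≤ n ∧ (n = 3 → Fintype.card K ≠ 2 ∧ Fintype.card K ≠ 4) ∧ (n = 4 → Fintype.card K ≠ 2)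

omit hk hs in
theorem exists_unit_cube_ne_one [Fintype K] (h2 : Fintype.card K ≠ 2) (h4 : Fintype.card K ≠ 4) :
    ∃ a : Kˣ, a ^ 3 ≠ 1 := by
  by_contra! h
  have hdvd : Monoid.exponent Kˣ ∣ 3 := Monoid.exponent_dvd_of_forall_pow_eq_one h
  rw [IsCyclic.exponent_eq_card, Nat.card_units, Nat.card_eq_fintype_card] at hdvd
  have := Fintype.one_lt_card (α := K)
  rcases (Nat.dvd_prime Nat.prime_three).1 hdvd with h | h <;> omega

omit hk hs in
theorem exists_unit_sq_ne_one [Fintype K] (h2 : Fintype.card K ≠ 2) (h3 : Fintype.card K ≠ 3) :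
    ∃ a : Kˣ, a ^ 2 ≠ 1 := by
  by_contra! h
  have hdvd : Monoid.exponent Kˣ ∣ 2 := Monoid.exponent_dvd_of_forall_pow_eq_one h
  rw [IsCyclic.exponent_eq_card, Nat.card_units, Nat.card_eq_fintype_card] at hdvd
  have := Fintype.one_lt_card (α := K)
  rcases (Nat.dvd_prime Nat.prime_two).1 hdvd with h | h <;> omega

theorem br_tv_comm [Fintype K] (hA : Allowed K (Fintype.card ι)) {i j k l : ι} (h1 : i ≠ j)
    (h2 : k ≠ l) (h3 : i ≠ l) (h4 : j ≠ k) (t u : K) : br hs (tv i j t) (tv k l u) = 1 := by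
  classical
  by_cases hex : ∃ m, m ∉ ({i, j, k, l} : Finset ι)
  · obtain ⟨m, hm⟩ := hex
    exact br_tv_of_third hs hk h1 h2 h3 h4 hm t u
  push Not at hex
  have huniv : (Finset.univ : Finset ι) = {i, j, k, l} :=
    Finset.eq_univ_of_forall hex |>.symm
  have hn : Fintype.card ι = ({i, j, k, l} : Finset ι).card := by
    rw [← Finset.card_univ, huniv]
  by_cases hik : i = k
  · subst hik
    have hjl : j ≠ l := by
      rintro rfl
      have : ({i, j, i, j} : Finset ι) = {i, j} := by
        ext x; simp only [Finset.mem_insert, Finset.mem_singleton]; tauto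
      rw [this, Finset.card_pair h1] at hn
      have := hA.1
      omega
    have hset : ({i, j, i, l} : Finset ι) = {i, j, l} := by
        ext x; simp only [Finset.mem_insert, Finset.mem_singleton]; tauto
    have hc : ({i, j, l} : Finset ι).card = 3 :=
      Finset.card_eq_three.2 ⟨i, j, l, h1, h3, hjl, rfl⟩
    rw [hset, hc] at hn
    obtain ⟨μ, hμ⟩ := exists_unit_cube_ne_one (hA.2.1 hn).1 (hA.2.1 hn).2
    refine br_one_of_torus hs hk h1 h2 h3 h4
      (fun x => if x = l then ((μ : K) ^ 2)⁻¹ else (μ : K)) ?_ (by simp [h3, hjl]) ?_ t u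
    · rw [huniv, hset, Finset.prod_insert (by simp [h1, h3]), Finset.prod_insert (by simp [hjl]),
        Finset.prod_singleton, if_neg h3, if_neg hjl, if_pos rfl]
      field_simp
    · simp only [if_neg h3, if_pos, div_inv_eq_mul]
      intro e
      exact hμ (Units.ext (by rw [Units.val_pow_eq_pow_val, Units.val_one]; linear_combination e))
  by_cases hjl : j = l
  · subst hjl
    have hset : ({i, j, k, j} : Finset ι) = {i, j, k} := by
        ext x; simp only [Finset.mem_insert, Finset.mem_singleton]; tauto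
    have hc : ({i, j, k} : Finset ι).card = 3 :=
      Finset.card_eq_three.2 ⟨i, j, k, h1, hik, h4, rfl⟩
    rw [hset, hc] at hn
    obtain ⟨μ, hμ⟩ := exists_unit_cube_ne_one (hA.2.1 hn).1 (hA.2.1 hn).2
    refine br_one_of_torus hs hk h1 h2 h3 h4
      (fun x => if x = k then ((μ : K) ^ 2)⁻¹ else (μ : K)) ?_ (by simp [hik, h4]) ?_ t u
    · rw [huniv, hset, Finset.prod_insert (by simp [h1, hik]), Finset.prod_insert (by simp [h4]),
        Finset.prod_singleton, if_neg hik, if_neg h4, if_pos rfl]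
      field_simp
    · simp only [if_neg h4, if_pos]
      intro e
      field_simp at e
      exact hμ (Units.ext (by rw [Units.val_pow_eq_pow_val, Units.val_one]; linear_combination -e))
  have hc : ({i, j, k, l} : Finset ι).card = 4 := by
    rw [Finset.card_insert_of_notMem (by simp [h1, hik, h3]),
      Finset.card_insert_of_notMem (by simp [h4, hjl]), Finset.card_pair h2]
  rw [hc] at hn
  by_cases h3K : Fintype.card K = 3
  · exact br_one_of_swap hs hk h3K h1 h2 h3 h4 hik hjl t u
  obtain ⟨μ, hμ⟩ := exists_unit_sq_ne_one (hA.2.2 hn) h3K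
  refine br_one_of_torus hs hk h1 h2 h3 h4
    (fun x => if x = k then (μ : K) else if x = l then (μ : K)⁻¹ else 1) ?_
    (by simp [hik, h3, h4, hjl]) ?_ t u
  · rw [huniv, Finset.prod_insert (by simp [h1, hik, h3]), Finset.prod_insert (by simp [h4, hjl]),
      Finset.prod_insert (by simp [h2]), Finset.prod_singleton]
    simp [hik, h3, h4, hjl, Ne.symm h2]
  · simp only [if_pos, if_neg (Ne.symm h2), div_inv_eq_mul]
    intro e
    exact hμ (Units.ext (by rw [Units.val_pow_eq_pow_val, Units.val_one]; linear_combination e))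

include hs in
theorem commute_lift_tv [Fintype K] (hA : Allowed K (Fintype.card ι)) {i j k l : ι} (h1 : i ≠ j)
    (h2 : k ≠ l) (h3 : i ≠ l) (h4 : j ≠ k) {a b : X} {t u : K} (ha : ξ a = tv i j t)
    (hb : ξ b = tv k l u) : Commute a b :=
  commute_of_br hs hk (br_tv_comm hs hk hA h1 h2 h3 h4 t u) ha hb

theorem phi_add_left [Fintype K] (hA : Allowed K (Fintype.card ι)) {i m k : ι} (h1 : i ≠ m)
    (h2 : m ≠ k) (h3 : i ≠ k) (t t' u : K) : br hs (tv i m (t + t')) (tv m k u) =
      br hs (tv i m t) (tv m k u) * br hs (tv i m t') (tv m k u) := by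
  have e : ∀ t'', ξ (br hs (tv i m t'') (tv m k u)) = tv i k (t'' * u) := fun t'' => by
    rw [br_spec, tv_mix h1 h2 h3]
  rw [← tv_add h1, br_mul_left hs hk,
    (commute_lift_tv hs hk hA h1 h3 h3 h1.symm (lift_spec hs _) (e t')).eq, mul_inv_cancel_right]
  exact (commute_lift_tv hs hk hA h3 h3 h3 h3.symm (e t') (e t)).eq

theorem phi_add_right [Fintype K] (hA : Allowed K (Fintype.card ι)) {i m k : ι} (h1 : i ≠ m)
    (h2 : m ≠ k) (h3 : i ≠ k) (t u u' : K) : br hs (tv i m t) (tv m k (u + u')) =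
      br hs (tv i m t) (tv m k u) * br hs (tv i m t) (tv m k u') := by
  have e : ξ (br hs (tv i m t) (tv m k u')) = tv i k (t * u') := by rw [br_spec, tv_mix h1 h2 h3]
  rw [← tv_add h2, br_mul_right hs hk,
    (commute_lift_tv hs hk hA h2 h3 h2 h3.symm (lift_spec hs _) e).eq, mul_inv_cancel_right]

/-- The Hall–Witt shift of the middle index. -/
theorem phi_shift [Fintype K] (hA : Allowed K (Fintype.card ι)) {i m m' k : ι} (him : i ≠ m)
    (hmk : m ≠ k) (hik : i ≠ k) (him' : i ≠ m') (hm'k : m' ≠ k) (hmm' : m ≠ m') (t u v : K) :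
    br hs (tv i m t) (tv m k (u * v)) = br hs (tv i m' (t * u)) (tv m' k v) := by
  set A := lift hs (tv i m t) with hAd
  set B := lift hs (tv m m' u)
  set C := lift hs (tv m' k v)
  set D := lift hs (tv i m' (t * u))
  have hBC : ξ ⁅B, C⁆ = tv m k (u * v) := by
    rw [map_commutatorElement, lift_spec, lift_spec, tv_mix hmm' hm'k hmk]
  have hDC : ξ ⁅D, C⁆ = tv i k (t * u * v) := by
    rw [map_commutatorElement, lift_spec, lift_spec, tv_mix him' hm'k hik]
  have e1 : br hs (tv i m t) (tv m k (u * v)) = ⁅A, ⁅B, C⁆⁆ := by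
    rw [br_eq hs hk A, hAd, lift_spec, hBC]
  have e2 : br hs (tv i m' (t * u)) (tv m' k v) = ⁅D, C⁆ := by
    rw [br_eq hs hk D, lift_spec, lift_spec]
  rw [e1, e2]
  have hAC : Commute A C :=
    commute_lift_tv hs hk hA him hm'k hik hmm' (lift_spec hs _) (lift_spec hs _)
  have hDBC : Commute D ⁅B, C⁆ :=
    commute_lift_tv hs hk hA him' hmk hik hmm'.symm (lift_spec hs _) hBC
  have hBCDC : Commute ⁅B, C⁆ ⁅D, C⁆ :=
    commute_lift_tv hs hk hA hmk hik hmk hik.symm hBC hDC
  have e3 : A * ⁅B, C⁆ * A⁻¹ = ⁅B, C⁆ * ⁅D, C⁆ := by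
    have hc : ξ (A * B * A⁻¹) = ξ (D * B) := by
      simp only [map_mul, map_inv, A, B, D, lift_spec]
      have := tv_mix (K := K) him hmm' him' t u
      rwa [commutatorElement_def, mul_inv_eq_iff_eq_mul] at this
    rw [conjugate_commutatorElement, show A * C * A⁻¹ = C by rw [hAC.eq, mul_inv_cancel_right],
      comm_congr hk hc (rfl : ξ C = ξ C)]
    calc ⁅D * B, C⁆ = D * ⁅B, C⁆ * D⁻¹ * ⁅D, C⁆ := by
          simp only [commutatorElement_def]; group
      _ = _ := by rw [hDBC.eq, mul_inv_cancel_right]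
  calc ⁅A, ⁅B, C⁆⁆ = A * ⁅B, C⁆ * A⁻¹ * ⁅B, C⁆⁻¹ := rfl
    _ = ⁅D, C⁆ := by rw [e3, hBCDC.eq, mul_inv_cancel_right]

theorem phi_normal [Fintype K] (hA : Allowed K (Fintype.card ι)) {i m m' k : ι} (him : i ≠ m)
    (hmk : m ≠ k) (hik : i ≠ k) (him' : i ≠ m') (hm'k : m' ≠ k) (t u : K) :
    br hs (tv i m t) (tv m k u) = br hs (tv i m' (t * u)) (tv m' k 1) := by
  classical
  by_cases hex : ∃ p, p ≠ m ∧ p ≠ i ∧ p ≠ k
  · obtain ⟨p, hpm, hpi, hpk⟩ := hex
    have key : ∀ {m p : ι}, i ≠ m → m ≠ k → i ≠ p → p ≠ k → m ≠ p → ∀ t u : K,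
        br hs (tv i m t) (tv m k u) = br hs (tv i p (t * u)) (tv p k 1) := by
      intro m p a b c d e t u
      have := phi_shift hs hk hA a b hik c d e t u 1
      rwa [mul_one] at this
    by_cases hmm' : m = m'
    · subst hmm'
      rw [key him hmk (Ne.symm hpi) hpk (Ne.symm hpm) t u,
        key (Ne.symm hpi) hpk him hmk hpm (t * u) 1, mul_one]
    · exact key him hmk him' hm'k hmm' t u
  push Not at hex
  obtain rfl : m' = m := by
    by_contra h
    exact hm'k (hex m' h (Ne.symm him'))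
  have huniv : (Finset.univ : Finset ι) = {i, m', k} := by
    ext x
    simp only [Finset.mem_univ, Finset.mem_insert, Finset.mem_singleton, true_iff]
    by_cases hx : x = m'
    · exact Or.inr (Or.inl hx)
    by_cases hxi : x = i
    · exact Or.inl hxi
    exact Or.inr (Or.inr (hex x hx hxi))
  have hn : Fintype.card ι = 3 := by
    rw [← Finset.card_univ, huniv]
    exact Finset.card_eq_three.2 ⟨i, m', k, him, hik, hmk, rfl⟩
  obtain ⟨μ, hμ⟩ := exists_unit_cube_ne_one (hA.2.1 hn).1 (hA.2.1 hn).2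
  set d : ι → K := fun x => if x = i then ((μ : K) ^ 2)⁻¹ else (μ : K) with hd
  have hprod : ∏ x, d x = 1 := by
    rw [huniv, Finset.prod_insert (by simp [him, hik]), Finset.prod_insert (by simp [hmk]),
      Finset.prod_singleton, hd]
    simp only [if_pos, if_neg (Ne.symm him), if_neg (Ne.symm hik)]
    field_simp
  set a := d i / d m' with ha
  have ha1 : a - 1 ≠ 0 := by
    rw [sub_ne_zero, ha, hd]
    simp only [if_pos, if_neg (Ne.symm him)]
    intro e
    field_simp at e
    exact hμ (Units.ext (by rw [Units.val_pow_eq_pow_val, Units.val_one]; linear_combination -e))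
  set f : K → K → X := fun t u => br hs (tv i m' t) (tv m' k u) with hf
  have hfimg : ∀ t u, ξ (f t u) = tv i k (t * u) := fun t u => by
    rw [hf, br_spec, tv_mix him hmk hik]
  have hscale : ∀ t u, lift hs (diagSL d hprod) * f t u * (lift hs (diagSL d hprod))⁻¹ =
      f (a * t) u := by
    intro t u
    simp only [hf]
    rw [br_conj hs hk, diag_conj d hprod him, diag_conj d hprod hmk]
    have : d m' / d k = 1 := by
      rw [hd]; simp only [if_neg (Ne.symm him), if_neg (Ne.symm hik)]; exact div_self μ.ne_zero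
    rw [this, one_mul]
  set ψ : K → K → X := fun t u => f t u * (f (t * u) 1)⁻¹ with hψ
  have hψc : ∀ t u w, Commute (ψ t u) w := fun t u w => central_of_one hk
    (by rw [hψ, map_mul, map_inv, hfimg, hfimg, mul_one, mul_inv_cancel]) w
  have hψa : ∀ t u, ψ (a * t) u = ψ t u := by
    intro t u
    calc ψ (a * t) u = f (a * t) u * (f (a * (t * u)) 1)⁻¹ := by simp only [hψ, mul_assoc]
      _ = lift hs (diagSL d hprod) * ψ t u * (lift hs (diagSL d hprod))⁻¹ := by
          rw [← hscale, ← hscale]; simp only [hψ]; group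
      _ = ψ t u := by rw [← (hψc t u _).eq, mul_inv_cancel_right]
  have hψadd : ∀ t t' u, ψ (t + t') u = ψ t u * ψ t' u := by
    intro t t' u
    simp only [hψ]
    have e1 : f (t + t') u = f t u * f t' u := phi_add_left hs hk hA him hmk hik t t' u
    have e2 : f ((t + t') * u) 1 = f (t * u) 1 * f (t' * u) 1 := by
      rw [add_mul]; exact phi_add_left hs hk hA him hmk hik _ _ 1
    rw [e1, e2]
    have hc := hψc t' u (f (t * u) 1)⁻¹
    simp only [hψ] at hc
    calc f t u * f t' u * (f (t * u) 1 * f (t' * u) 1)⁻¹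
        = f t u * (f t' u * (f (t' * u) 1)⁻¹ * (f (t * u) 1)⁻¹) := by group
      _ = _ := by rw [hc.eq]; group
  have hψ1 : ψ t u = 1 := by
    have e := hψa (t / (a - 1)) u
    rw [show a * (t / (a - 1)) = t + t / (a - 1) by field_simp; ring, hψadd] at e
    exact mul_eq_right.1 e
  exact mul_inv_eq_one.1 hψ1

include hs in
/-- Central extensions of `SL n` split. -/
theorem exists_section [Fintype K] (hA : Allowed K (Fintype.card ι)) :
    ∃ s : SpecialLinearGroup ι K →* X, ∀ g, ξ (s g) = g := by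
  classical
  have hmid : ∀ i j : ι, ∃ m, i ≠ j → i ≠ m ∧ m ≠ j := by
    intro i j
    obtain ⟨m, hm⟩ : ∃ m, m ∉ ({i, j} : Finset ι) := by
      by_contra h
      push Not at h
      have := Finset.card_le_card (fun x (_ : x ∈ Finset.univ) => h x)
      have := Finset.card_le_two (a := i) (b := j)
      have := hA.1
      rw [Finset.card_univ] at *
      omega
    simp only [Finset.mem_insert, Finset.mem_singleton, not_or] at hm
    exact ⟨m, fun _ => ⟨Ne.symm hm.1, hm.2⟩⟩
  choose mid hmid using hmid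
  let y : ι → ι → K → X := fun i j t => br hs (tv i (mid i j) t) (tv (mid i j) j 1)
  have hy : ∀ {i j : ι}, i ≠ j → ∀ t, ξ (y i j t) = tv i j t := by
    intro i j h t
    simp only [y]
    rw [br_spec, tv_mix (hmid i j h).1 (hmid i j h).2 h, mul_one]
  have hS : StSL.PreSt y := by
    refine ⟨?_, ?_, ?_⟩
    · intro i j t u h
      exact (phi_add_left hs hk hA (hmid i j h).1 (hmid i j h).2 h t u 1).symm
    · intro i j k l t u h1 h2 h3 h4
      exact commute_lift_tv hs hk hA h1 h2 h3 h4 (hy h1 t) (hy h2 u)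
    · intro i j k t u h1 h2 h3
      rw [br_eq hs hk, hy h1, hy h2]
      exact phi_normal hs hk hA h1 h2 h3 (hmid i k h3).1 (hmid i k h3).2 t u
  obtain ⟨s, hs'⟩ := StSL.exists_hom hA.1 hS
  refine ⟨s, fun g => ?_⟩
  induction g using CfsgLib.Classical.sl_transvection_induction with
  | h1 => rw [map_one, map_one]
  | htransvec i j h t => rw [hs', hy h, tv_eq h]
  | hmul A B hA hB => rw [map_mul, map_mul, hA, hB]

end Lift

end CfsgLib.KnownA.SLMultiplier
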