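import Cfsg.Agent.Lib.KnownC.AutPSU.Main
import Cfsg.Agent.Lib.Components.QdRankTwo

/-!
`Qd(p)` is not involved in `PSU₃(q)`: a `p`-local subgroup fixes an isotropic point, so its derived
subgroup is a `p`-group.
-/

set_option autoImplicit false
set_option linter.unusedSectionVars false

namespace CfsgLib.KnownA.QdNotInPSU

open CfsgLib.Classical CfsgLib.KnownC.AutPSU Module
open scoped commutatorElement

variable {F : Type*} [Field F] {V : Type*} [AddCommGroup V] [Module F V] {σ : F →+* F}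
  {B : V →ₛₗ[σ] V →ₗ[F] F} [hB : UCtx B] {p : ℕ} [Fact p.Prime] [CharP F p]

/-- The underlying endomorphism. -/
def endHom (B : V →ₛₗ[σ] V →ₗ[F] F) : sIsom B →* Module.End F V where
  toFun g := g.1.1.toLinearMap
  map_one' := rfl
  map_mul' _ _ := rfl

theorem endHom_injective : Function.Injective (endHom B) := fun _ _ h =>
  Subtype.ext (Subtype.ext (LinearEquiv.toLinearMap_injective h))

open CfsgLib.Components.QdRankTwo in
set_option maxHeartbeats 1000000 in
theorem trace_comm_xy {p : ℕ} [Fact p.Prime] :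
    (((⁅(tX 1 : SL3 p), tY 1⁆ : SL3 p) : Matrix (Fin 3) (Fin 3) (ZMod p)) - 1).trace = 1 := by
  rw [commutatorElement_def,
    inv_eq_of_mul_eq_one_right (show (tX 1 : SL3 p) * tX (-1) = 1 by rw [tX_mul, add_neg_cancel, tX_zero]),
    inv_eq_of_mul_eq_one_right (show (tY 1 : SL3 p) * tY (-1) = 1 by rw [tY_mul, add_neg_cancel, tY_zero])]
  rw [Matrix.SpecialLinearGroup.coe_mul, Matrix.SpecialLinearGroup.coe_mul, Matrix.SpecialLinearGroup.coe_mul]
  simp only [tX, tY, Matrix.trace, Matrix.diag, Fin.sum_univ_three,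
    Matrix.mul_apply, Matrix.sub_apply, Matrix.one_apply]
  simp

include hB


theorem eq_one_of_pow_char {c : F} (h : c ^ p = 1) : c = 1 := by
  have : (c - 1) ^ p = 0 := by rw [sub_pow_char, h, one_pow, sub_self]
  exact sub_eq_zero.1 (pow_eq_zero_iff'.1 this).1

/-- The common perpendicular of two independent vectors is a line. -/
theorem finrank_perp_two (h3 : finrank F V = 3) {r s : V} (hli : LinearIndependent F ![r, s]) :
    finrank F (LinearMap.ker ((B r).prod (B s))) = 1 := by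
  haveI := hB.fin; haveI := hB.findim
  have hsurj : LinearMap.range ((B r).prod (B s)) = ⊤ := by
    by_contra hne
    obtain ⟨φ, hφ0, hφ⟩ := Submodule.exists_dual_map_eq_bot_of_lt_top (lt_top_iff_ne_top.2 hne) inferInstance
    have hd : ∀ u v : F, φ (u, v) = u * φ (1, 0) + v * φ (0, 1) := fun u v => by
      rw [show (u, v) = u • ((1 : F), (0 : F)) + v • ((0 : F), (1 : F)) by ext <;> simp, map_add, map_smul,
        map_smul, smul_eq_mul, smul_eq_mul]
    have hkill : ∀ x, B r x * φ (1, 0) + B s x * φ (0, 1) = 0 := fun x => by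
      rw [← hd]
      have : φ (((B r).prod (B s)) x) ∈ (LinearMap.range ((B r).prod (B s))).map φ :=
        Submodule.mem_map_of_mem (LinearMap.mem_range_self _ x)
      rw [hφ, Submodule.mem_bot] at this
      exact this
    have hz : σ (φ (1, 0)) • r + σ (φ (0, 1)) • s = 0 := by
      refine hB.nd _ fun x => ?_
      rw [← hB.herm.symm, map_add, LinearMap.add_apply, map_smulₛₗ, map_smulₛₗ, LinearMap.smul_apply,
        LinearMap.smul_apply, smul_eq_mul, smul_eq_mul, hB.herm.conj.invol, hB.herm.conj.invol,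
        mul_comm (φ (1, 0)), mul_comm (φ (0, 1)), hkill, map_zero]
    obtain ⟨h1, h2⟩ := LinearIndependent.pair_iff.1 hli _ _ hz
    refine hφ0 (LinearMap.ext fun x => ?_)
    rw [show x = (x.1, x.2) from rfl, hd, (map_eq_zero σ).1 h1, (map_eq_zero σ).1 h2]
    simp
  have h := LinearMap.finrank_range_add_finrank_ker ((B r).prod (B s))
  rw [hsurj, finrank_top, Module.finrank_prod, Module.finrank_self, h3] at h
  omega

theorem exists_fixed {g : sIsom B} (hg : g ^ p = 1) (hg1 : g ≠ 1) :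
    ∃ r, r ≠ 0 ∧ B r r = 0 ∧ g.1.1 r = r := by
  set N : Module.End F V := endHom B g - 1 with hN
  haveI : Nontrivial V := Module.nontrivial_of_finrank_pos (R := F) (by have := hB.three; omega)
  haveI : CharP (Module.End F V) p :=
    charP_of_injective_algebraMap (algebraMap F (Module.End F V)).injective p
  have hNp : N ^ p = 0 := by
    rw [hN, sub_pow_char_of_commute p (Commute.one_right _), ← map_pow, hg, map_one, one_pow, sub_self]
  have hN0 : N ≠ 0 := fun h => hg1 (endHom_injective (by rw [map_one]; exact sub_eq_zero.1 h))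
  classical
  have hex : ∃ m, N ^ m = 0 := ⟨p, hNp⟩
  obtain ⟨m, hm⟩ : ∃ m, Nat.find hex = m + 2 := by
    refine ⟨Nat.find hex - 2, ?_⟩
    have h0 : Nat.find hex ≠ 0 := fun h => by
      have := Nat.find_spec hex
      rw [h, pow_zero] at this
      exact one_ne_zero this
    have h1 : Nat.find hex ≠ 1 := fun h => by
      have := Nat.find_spec hex
      rw [h, pow_one] at this
      exact hN0 this
    omega
  have hm1 : N ^ (m + 1) ≠ 0 := Nat.find_min hex (by omega)
  obtain ⟨y, hy⟩ : ∃ y, (N ^ (m + 1)) y ≠ 0 := by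
    by_contra h
    push Not at h
    exact hm1 (LinearMap.ext h)
  set w := (N ^ (m + 1)) y
  have hNw : N w = 0 := by
    show (N * N ^ (m + 1)) y = 0
    rw [← pow_succ', show m + 1 + 1 = Nat.find hex by omega, Nat.find_spec hex]
    rfl
  have hgw : g.1.1 w = w := by
    have : g.1.1 w - w = 0 := hNw
    exact sub_eq_zero.1 this
  refine ⟨w, hy, ?_, hgw⟩
  have hw : w = g.1.1 ((N ^ m) y) - (N ^ m) y := by
    show (N ^ (m + 1)) y = _
    rw [pow_succ']
    rfl
  calc B w w = B w (g.1.1 ((N ^ m) y) - (N ^ m) y) := by rw [← hw]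
    _ = B w (g.1.1 ((N ^ m) y)) - B w ((N ^ m) y) := map_sub _ _ _
    _ = 0 := by
      conv_lhs => arg 1; rw [← hgw]
      rw [g.1.2, sub_self]

theorem fixed_unique (h3 : finrank F V = 3) {g : sIsom B} (hg : g ^ p = 1) (hg1 : g ≠ 1) {r s : V}
    (hr0 : r ≠ 0) (hr : B r r = 0) (hgr : g.1.1 r = r) (hs : B s s = 0) (hgs : g.1.1 s = s) :
    ∃ a : F, s = a • r := by
  haveI := hB.fin; haveI := hB.findim
  by_contra hne
  push Not at hne
  have hli : LinearIndependent F ![r, s] := (LinearIndependent.pair_iff' hr0).2 fun a h => hne a h.symm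
  set W := LinearMap.ker ((B r).prod (B s))
  have hW := finrank_perp_two (B := B) h3 hli
  have hmem : ∀ x, x ∈ W ↔ B r x = 0 ∧ B s x = 0 := fun x => by simp [W, Prod.ext_iff]
  by_cases hrs : B r s = 0
  · have hsr : B s r = 0 := by rw [← hB.herm.symm, hrs, map_zero]
    have hle : Submodule.span F (Set.range ![r, s]) ≤ W := by
      rw [Submodule.span_le]
      rintro _ ⟨i, rfl⟩
      fin_cases i
      · exact (hmem r).2 ⟨hr, hsr⟩
      · exact (hmem s).2 ⟨hrs, hs⟩
    have := Submodule.finrank_mono hle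
    rw [hW, finrank_span_eq_card hli, Fintype.card_fin] at this
    omega
  have hsr : B s r ≠ 0 := by rw [← hB.herm.symm]; simpa using hrs
  obtain ⟨⟨z, hzW⟩, hz0, hz1⟩ := finrank_eq_one_iff'.1 hW
  obtain ⟨hrz, hsz⟩ := (hmem z).1 hzW
  have hgz : g.1.1 z ∈ W := by
    refine (hmem _).2 ⟨?_, ?_⟩
    · have := g.1.2 r z
      rw [hgr] at this
      rw [this, hrz]
    · have := g.1.2 s z
      rw [hgs] at this
      rw [this, hsz]
  obtain ⟨c, hc⟩ := hz1 ⟨_, hgz⟩
  have hc' : g.1.1 z = c • z := (congrArg Subtype.val hc).symm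
  have hcp : ∀ j : ℕ, (endHom B (g ^ j)) z = c ^ j • z := by
    intro j
    induction j with
    | zero => simp
    | succ j ih =>
      rw [pow_succ, map_mul, Module.End.mul_apply]
      show (endHom B (g ^ j)) (g.1.1 z) = _
      rw [hc', map_smul, ih, smul_smul, pow_succ']
  have hz0' : z ≠ 0 := fun e => hz0 (Subtype.ext e)
  have hc1 : c = 1 := by
    have := hcp p
    rw [hg, map_one, Module.End.one_apply] at this
    refine eq_one_of_pow_char (B := B) (p := p) ?_
    exact smul_left_injective F hz0' (this.symm.trans (one_smul F z).symm)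
  have hli3 : LinearIndependent F ![r, s, z] := by
    rw [Fintype.linearIndependent_iff]
    intro f hf
    simp [Fin.sum_univ_three] at hf
    have e1 := congrArg (B r) hf
    have e2 := congrArg (B s) hf
    simp [hr, hs, hrz, hsz, hrs, hsr] at e1 e2
    rw [e1, e2, zero_smul, zero_smul, zero_add, zero_add, smul_eq_zero] at hf
    intro i
    fin_cases i
    · exact e2
    · exact e1
    · exact hf.resolve_right hz0'
  have hspan := hli3.span_eq_top_of_card_eq_finrank (by simp [h3])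
  apply hg1
  refine endHom_injective (LinearMap.ext_on hspan ?_)
  rintro _ ⟨i, rfl⟩
  rw [map_one]
  fin_cases i
  · exact hgr
  · exact hgs
  · show g.1.1 z = z
    rw [hc', hc1, one_smul]

set_option maxHeartbeats 1000000 in
/-- Lifts normalising a nontrivial central subgroup fix the isotropic line, and their commutators are `p`-elements. -/
theorem commutator_pow (h3 : finrank F V = 3) (X : Subgroup (PG B)) (hX : IsPGroup p X) (hX1 : X ≠ ⊥)
    (y₁ y₂ : PG B) (hy₁ : ∀ x ∈ X, y₁ * x * y₁⁻¹ ∈ X ∧ y₁⁻¹ * x * y₁ ∈ X)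
    (hy₂ : ∀ x ∈ X, y₂ * x * y₂⁻¹ ∈ X ∧ y₂⁻¹ * x * y₂ ∈ X) :
    ⁅y₁, y₂⁆ ^ (p ^ 2) = 1 := by
  haveI := hB.fin; haveI := hB.findim
  haveI : Finite V := Module.finite_of_finite F
  haveI : Finite (V ≃ₗ[F] V) := Finite.of_injective (fun g => (g : V → V)) DFunLike.coe_injective
  haveI : Nontrivial X := (Subgroup.nontrivial_iff_ne_bot X).2 hX1
  have hp : p.Prime := Fact.out
  -- a central element of order `p`
  obtain ⟨⟨⟨x, hxX⟩, hxc⟩, hxo⟩ : ∃ x : Subgroup.center X, orderOf x = p := by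
    haveI := hX.center_nontrivial
    obtain ⟨k, hk⟩ := IsPGroup.iff_card.1 (hX.to_subgroup (Subgroup.center X))
    refine exists_prime_orderOf_dvd_card' p ?_
    rw [hk]
    refine dvd_pow_self p fun h => ?_
    rw [h, pow_zero] at hk
    exact absurd hk (Finite.one_lt_card).ne'
  have hxp : x ^ p = 1 := by
    have := pow_orderOf_eq_one (⟨⟨x, hxX⟩, hxc⟩ : Subgroup.center X)
    rw [hxo] at this
    exact congrArg (fun t : Subgroup.center X => t.1.1) this
  have hx1 : x ≠ 1 := fun h => by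
    have : (⟨⟨x, hxX⟩, hxc⟩ : Subgroup.center X) = 1 := Subtype.ext (Subtype.ext h)
    rw [this, orderOf_one] at hxo
    exact hp.one_lt.ne hxo
  have hxcomm : ∀ w ∈ X, Commute x w := fun w hw =>
    (congrArg Subtype.val (Subgroup.mem_center_iff.1 hxc ⟨w, hw⟩)).symm
  obtain ⟨g, rfl, hg⟩ := exists_lift hxp
  have hg1 : g ≠ 1 := fun h => hx1 (by rw [h, QuotientGroup.mk_one])
  obtain ⟨r, hr0, hr, hgr⟩ := exists_fixed (p := p) hg hg1
  -- lifts of normalisers fix the line
  have key : ∀ y : PG B, (∀ w ∈ X, y * w * y⁻¹ ∈ X ∧ y⁻¹ * w * y ∈ X) → ∀ h : sIsom B,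
      QuotientGroup.mk h = y → ∃ a : F, h.1.1 r = a • r := by
    intro y hy h hh
    subst hh
    set g' := h * g * h⁻¹ with hg'
    have hg'p : g' ^ p = 1 := by rw [hg', conj_pow, hg, mul_one, mul_inv_cancel]
    have hg'1 : g' ≠ 1 := fun e => hg1 (by rw [hg', conj_eq_one_iff] at e; exact e)
    have hc : Commute (QuotientGroup.mk g : PG B) (QuotientGroup.mk g') := by
      rw [hg', QuotientGroup.mk_mul, QuotientGroup.mk_mul, QuotientGroup.mk_inv]
      exact hxcomm _ (hy _ hxX).1
    -- lifts commute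
    set z := g'⁻¹ * (g * g' * g⁻¹) with hz
    have hzc : z ∈ Subgroup.center (sIsom B) := by
      rw [← QuotientGroup.eq_one_iff, hz, QuotientGroup.mk_mul, QuotientGroup.mk_mul, QuotientGroup.mk_mul,
        QuotientGroup.mk_inv, QuotientGroup.mk_inv, hc.eq, mul_inv_cancel_right, inv_mul_cancel]
    have hconj : g * g' * g⁻¹ = g' * z := by rw [hz, mul_inv_cancel_left]
    have hzp : z ^ p = 1 := by
      have h1 : (g' * z) ^ p = 1 := by rw [← hconj, conj_pow, hg'p, mul_one, mul_inv_cancel]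
      have hcm : Commute g' z := Subgroup.mem_center_iff.1 hzc g'
      rwa [hcm.mul_pow, hg'p, one_mul] at h1
    rw [center_pow_eq_one (B := B) hzc hzp, mul_one, mul_inv_eq_iff_eq_mul] at hconj
    have hfix : g.1.1 (g'.1.1 r) = g'.1.1 r := by
      have h2 := congrArg (fun t : sIsom B => t.1.1 r) hconj
      exact h2.trans (congrArg g'.1.1 hgr)
    obtain ⟨a, ha⟩ := fixed_unique (p := p) h3 hg hg1 hr0 hr hgr (s := g'.1.1 r) (by rw [g'.1.2, hr]) hfix
    have hap : ∀ j : ℕ, (endHom B (g' ^ j)) r = a ^ j • r := by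
      intro j
      induction j with
      | zero => simp
      | succ j ih =>
        rw [pow_succ, map_mul, Module.End.mul_apply]
        show (endHom B (g' ^ j)) (g'.1.1 r) = _
        rw [ha, map_smul, ih, smul_smul, pow_succ']
    have ha1 : a = 1 := by
      have := hap p
      rw [hg'p, map_one, Module.End.one_apply] at this
      exact eq_one_of_pow_char (B := B) (p := p) (smul_left_injective F hr0 (this.symm.trans (one_smul F r).symm))
    rw [ha1, one_smul] at ha
    have hhr : g'.1.1 (h.1.1 r) = h.1.1 r := by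
      show h.1.1 (g.1.1 (h.1.1.symm (h.1.1 r))) = h.1.1 r
      rw [h.1.1.symm_apply_apply, hgr]
    exact fixed_unique (p := p) h3 hg'p hg'1 hr0 hr ha (s := h.1.1 r) (by rw [h.1.2, hr]) hhr
  -- the perpendicular plane
  obtain ⟨s, hs, hrs⟩ : ∃ s, B r s = 0 ∧ ∀ a : F, s ≠ a • r := by
    by_contra hall
    push Not at hall
    have hle : LinearMap.ker (B r) ≤ F ∙ r := fun x hx => by
      obtain ⟨a, ha⟩ := hall x hx
      exact Submodule.mem_span_singleton.2 ⟨a, ha.symm⟩
    have h1 := LinearMap.finrank_range_add_finrank_ker (B r)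
    have h2 := Submodule.finrank_le (LinearMap.range (B r))
    rw [Module.finrank_self] at h2
    have h4 := Submodule.finrank_mono hle
    rw [finrank_span_singleton hr0] at h4
    omega
  have hplane : ∀ x, B r x = 0 → ∃ c e : F, x = c • s + e • r := by
    intro x hx
    have hli : LinearIndependent F ![r, s] := (LinearIndependent.pair_iff' hr0).2 fun a h => hrs a h.symm
    have hsur : Submodule.span F (Set.range ![r, s]) = LinearMap.ker (B r) := by
      refine Submodule.eq_of_le_of_finrank_le ?_ ?_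
      · rw [Submodule.span_le]
        rintro _ ⟨i, rfl⟩
        fin_cases i
        · exact hr
        · exact hs
      · rw [finrank_span_eq_card hli, Fintype.card_fin]
        have h1 := LinearMap.finrank_range_add_finrank_ker (B r)
        have hne : LinearMap.range (B r) ≠ ⊥ := fun h => by
          apply hr0
          refine hB.nd _ fun x => ?_
          rw [← hB.herm.symm]
          have : B r x ∈ LinearMap.range (B r) := LinearMap.mem_range_self _ x
          rw [h, Submodule.mem_bot] at this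
          rw [this, map_zero]
        have h2 : 1 ≤ finrank F (LinearMap.range (B r)) := Submodule.one_le_finrank_iff.2 hne
        omega
    have : x ∈ Submodule.span F (Set.range ![r, s]) := hsur ▸ hx
    obtain ⟨f, rfl⟩ := (Submodule.mem_span_range_iff_exists_fun F).1 this
    exact ⟨f 1, f 0, by simp [Fin.sum_univ_two, add_comm]⟩
  obtain ⟨h₁, hh₁⟩ := QuotientGroup.mk_surjective y₁
  obtain ⟨h₂, hh₂⟩ := QuotientGroup.mk_surjective y₂
  -- the triangular action
  let P : sIsom B → F → F → Prop := fun h a c => a ≠ 0 ∧ c ≠ 0 ∧ h.1.1 r = a • r ∧ ∃ e : F, h.1.1 s = c • s + e • r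
  have hP : ∀ h : sIsom B, (∃ a : F, h.1.1 r = a • r) → ∃ a c, P h a c := by
    rintro h ⟨a, ha⟩
    have ha0 : a ≠ 0 := fun e => hr0 (h.1.1.injective (by rw [ha, e, zero_smul, map_zero]))
    have h0 : B r (h.1.1 s) = 0 := by
      have := h.1.2 r s
      rw [ha, map_smulₛₗ, LinearMap.smul_apply, smul_eq_mul, hs, mul_eq_zero] at this
      exact this.resolve_left ((map_ne_zero σ).2 ha0)
    obtain ⟨c, e, hce⟩ := hplane _ h0
    refine ⟨a, c, ha0, fun hc => hrs (e / a) ?_, ha, e, hce⟩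
    refine h.1.1.injective ?_
    rw [hce, hc, zero_smul, zero_add, map_smul, ha, smul_smul, div_mul_cancel₀ _ ha0]
  have hmul : ∀ {h k : sIsom B} {a c a' c' : F}, P h a c → P k a' c' → P (h * k) (a * a') (c * c') := by
    rintro h k a c a' c' ⟨ha, hc, hr1, e, he⟩ ⟨ha', hc', hr2, e', he'⟩
    refine ⟨mul_ne_zero ha ha', mul_ne_zero hc hc', ?_, c' * e + e' * a, ?_⟩
    · show h.1.1 (k.1.1 r) = _
      rw [hr2, map_smul, hr1, smul_smul, mul_comm]
    · show h.1.1 (k.1.1 s) = _
      rw [he', map_add, map_smul, map_smul, he, hr1]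
      module
  have hinv : ∀ {h : sIsom B} {a c : F}, P h a c → P h⁻¹ a⁻¹ c⁻¹ := by
    rintro h a c ⟨ha, hc, hr1, e, he⟩
    refine ⟨inv_ne_zero ha, inv_ne_zero hc, ?_, -(c⁻¹ * e * a⁻¹), ?_⟩
    · show h.1.1.symm r = _
      rw [LinearEquiv.symm_apply_eq, map_smul, hr1, smul_smul, inv_mul_cancel₀ ha, one_smul]
    · show h.1.1.symm s = _
      rw [LinearEquiv.symm_apply_eq, map_add, map_smul, map_smul, he, hr1]
      match_scalars <;> field_simp
      ring
  obtain ⟨a₁, c₁, p₁⟩ := hP h₁ (key y₁ hy₁ h₁ hh₁)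
  obtain ⟨a₂, c₂, p₂⟩ := hP h₂ (key y₂ hy₂ h₂ hh₂)
  have hk := hmul (hmul (hmul p₁ p₂) (hinv p₁)) (hinv p₂)
  obtain ⟨ha1, hc1, -⟩ := p₁
  obtain ⟨ha2, hc2, -⟩ := p₂
  rw [show a₁ * a₂ * a₁⁻¹ * a₂⁻¹ = 1 by field_simp, show c₁ * c₂ * c₁⁻¹ * c₂⁻¹ = 1 by field_simp] at hk
  set k := h₁ * h₂ * h₁⁻¹ * h₂⁻¹ with hkd
  obtain ⟨-, -, hkr, e, hks⟩ := hk
  rw [one_smul] at hkr hks
  haveI : Nontrivial V := Module.nontrivial_of_finrank_pos (R := F) (by omega)
  haveI : CharP (Module.End F V) p :=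
    charP_of_injective_algebraMap (algebraMap F (Module.End F V)).injective p
  set N : Module.End F V := endHom B k - 1 with hN
  have hNr : N r = 0 := by
    show k.1.1 r - r = 0
    rw [hkr, sub_self]
  have hN3 : N ^ 3 = 0 := by
    refine LinearMap.ext fun x => ?_
    have h1 : B r (N x) = 0 := by
      show B r (k.1.1 x - x) = 0
      rw [map_sub]
      conv_lhs => arg 1; rw [← hkr]
      rw [k.1.2, sub_self]
    obtain ⟨c, d, hcd⟩ := hplane _ h1
    have h2 : N (N x) = (c * e) • r := by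
      rw [hcd, map_add, map_smul, map_smul, hNr]
      show c • (k.1.1 s - s) + _ = _
      rw [hks]
      module
    rw [pow_succ, pow_two]
    show N (N (N x)) = 0
    rw [h2, map_smul, hNr, smul_zero]
  have hkp : k ^ (p ^ 2) = 1 := endHom_injective (B := B) (by
    rw [map_pow, map_one]
    have h9 : N ^ (p ^ 2) = 0 := by
      refine pow_eq_zero_of_le ?_ hN3
      have := hp.two_le
      nlinarith
    rw [hN, sub_pow_char_pow_of_commute p 2 (Commute.one_right _), one_pow, sub_eq_zero] at h9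
    exact h9)
  rw [commutatorElement_def, ← hh₁, ← hh₂, ← QuotientGroup.mk_inv, ← QuotientGroup.mk_inv,
    ← QuotientGroup.mk_mul, ← QuotientGroup.mk_mul, ← QuotientGroup.mk_mul, ← QuotientGroup.mk_pow, ← hkd, hkp,
    QuotientGroup.mk_one]

open CfsgLib.Components.QdRankTwo Subgroup in
set_option maxHeartbeats 1000000 in
/-- `Qd(p)` is not involved. -/
theorem not_involves (h3 : finrank F V = 3) : ¬ Cfsg.Involves ↥(Cfsg.qd p) (PG B) := by
  haveI := hB.fin; haveI := hB.findim
  haveI : Finite V := Module.finite_of_finite F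
  haveI : Finite (V ≃ₗ[F] V) := Finite.of_injective (fun g => (g : V → V)) DFunLike.coe_injective
  have hp : p.Prime := Fact.out
  rintro ⟨K, R, hR, ⟨e⟩⟩
  let π : K →* ↥(Cfsg.qd p) := e.toMonoidHom.comp (QuotientGroup.mk' _)
  have hπ : Function.Surjective π := e.surjective.comp (QuotientGroup.mk'_surjective _)
  let E : Subgroup ↥(Cfsg.qd p) := (trans p).subgroupOf (Cfsg.qd p)
  haveI : E.Normal := ⟨fun n hn g => by
    obtain ⟨a, b, hab⟩ := (mem_subgroupOf.1 hn : (n : SL3 p) ∈ trans p)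
    refine mem_subgroupOf.2 ?_
    show (g : SL3 p) * (n : SL3 p) * (g : SL3 p)⁻¹ ∈ trans p
    rw [hab, conj_tV (qd_le_affine g.2) a b]
    exact ⟨_, _, rfl⟩⟩
  have hEp : IsPGroup p E := by
    intro x
    obtain ⟨k, hk⟩ := isPGroup_trans (p := p) ⟨_, mem_subgroupOf.1 x.2⟩
    exact ⟨k, Subtype.ext (Subtype.ext (congrArg Subtype.val hk :))⟩
  haveI : (E.comap π).Normal := inferInstance
  obtain ⟨P₀⟩ : Nonempty (Sylow p ↥(E.comap π)) := inferInstance
  set Pm := (P₀ : Subgroup ↥(E.comap π)).map (E.comap π).subtype with hPm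
  set N := normalizer (Pm : Set ↥K)
  have htop : N ⊔ E.comap π = ⊤ := Sylow.normalizer_sup_eq_top P₀
  -- the image of the Sylow subgroup
  let πE : ↥(E.comap π) →* E := (π.comp (E.comap π).subtype).codRestrict E fun x => x.2
  have hπE : Function.Surjective πE := by
    rintro ⟨x, hx⟩
    obtain ⟨w, rfl⟩ := hπ x
    exact ⟨⟨w, hx⟩, rfl⟩
  have himg : ∀ x ∈ E, ∃ w ∈ Pm, π w = x := by
    intro x hx
    have htopE : ((P₀.mapSurjective hπE : Sylow p E) : Subgroup E) = ⊤ :=
      top_unique (Sylow.is_maximal' _ (hEp.to_subgroup ⊤) le_top).le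
    have : (⟨x, hx⟩ : E) ∈ ((P₀.mapSurjective hπE : Sylow p E) : Subgroup E) := by rw [htopE]; trivial
    obtain ⟨w, hw, hwx⟩ := this
    exact ⟨w.1, ⟨w, hw, rfl⟩, congrArg Subtype.val hwx⟩
  have hNtop : N.map π = ⊤ := by
    rw [eq_top_iff, ← MonoidHom.range_eq_top.2 hπ, MonoidHom.range_eq_map, ← htop, Subgroup.map_sup]
    refine sup_le le_rfl ?_
    rintro _ ⟨w, hw, rfl⟩
    obtain ⟨w', hw', he⟩ := himg _ hw
    exact ⟨w', le_normalizer hw', he⟩
  let X : Subgroup (PG B) := Pm.map K.subtype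
  have hXp : IsPGroup p X := (P₀.isPGroup'.map _).map _
  have hXne : X ≠ ⊥ := by
    intro h
    have hX : Pm = ⊥ := (map_eq_bot_iff_of_injective _ K.subtype_injective).1 h
    have hmem : (⟨tV 1 0, tV_mem 1 0⟩ : ↥(Cfsg.qd p)) ∈ E := mem_subgroupOf.2 ⟨1, 0, rfl⟩
    obtain ⟨w, hw, he⟩ := himg _ hmem
    rw [hX, mem_bot] at hw
    rw [hw, map_one] at he
    have := congrArg Subtype.val he
    exact one_ne_zero (tV_injective ((show tV (0 : ZMod p) 0 = tV 1 0 from tV_zero.trans this))).1.symm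
  obtain ⟨u, hu, huX⟩ : (⟨tX 1, tX_mem 1⟩ : ↥(Cfsg.qd p)) ∈ N.map π := by rw [hNtop]; trivial
  obtain ⟨v, hv, hvY⟩ : (⟨tY 1, tY_mem 1⟩ : ↥(Cfsg.qd p)) ∈ N.map π := by rw [hNtop]; trivial
  have hnorm : ∀ w ∈ N, ∀ x ∈ X, (w : PG B) * x * (w : PG B)⁻¹ ∈ X ∧ (w : PG B)⁻¹ * x * (w : PG B) ∈ X := by
    rintro w hw _ ⟨x, hx, rfl⟩
    refine ⟨⟨w * x * w⁻¹, (mem_normalizer_iff.1 hw x).1 hx, rfl⟩, ⟨w⁻¹ * x * w, ?_, rfl⟩⟩
    have := (mem_normalizer_iff.1 (inv_mem hw) x).1 hx
    rwa [inv_inv] at this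
  have hc := commutator_pow h3 X hXp hXne _ _ (hnorm u hu) (hnorm v hv)
  have hK : ⁅u, v⁆ ^ (p ^ 2) = 1 := by
    refine K.subtype_injective ?_
    rw [map_pow, map_commutatorElement, map_one]
    exact hc
  have hq : ⁅(⟨tX 1, tX_mem 1⟩ : ↥(Cfsg.qd p)), (⟨tY 1, tY_mem 1⟩ : ↥(Cfsg.qd p))⁆ ^ (p ^ 2) = 1 := by
    rw [← huX, ← hvY, ← map_commutatorElement, ← map_pow, hK, map_one]
  have hM : ((⁅(tX 1 : SL3 p), tY 1⁆ : SL3 p) : Matrix (Fin 3) (Fin 3) (ZMod p)) ^ (p ^ 2) = 1 := by
    have h := congrArg Subtype.val hq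
    simp only [SubmonoidClass.coe_pow, commutatorElement_def, Subgroup.coe_mul, Subgroup.coe_inv,
      Subgroup.coe_one] at h
    rw [← Matrix.SpecialLinearGroup.coe_pow, commutatorElement_def, h, Matrix.SpecialLinearGroup.coe_one]
  set M := ((⁅(tX 1 : SL3 p), tY 1⁆ : SL3 p) : Matrix (Fin 3) (Fin 3) (ZMod p))
  have htr : (M - 1).trace = 1 := trace_comm_xy
  clear_value M
  haveI : CharP (Matrix (Fin 3) (Fin 3) (ZMod p)) p := inferInstance
  have hnil : IsNilpotent (M - 1) := by
    refine ⟨p ^ 2, ?_⟩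
    have h2 := sub_pow_char_pow_of_commute (R := Matrix (Fin 3) (Fin 3) (ZMod p)) p 2 (Commute.one_right M)
    rw [h2, hM, one_pow, sub_self]
  have h0 := (Matrix.isNilpotent_trace_of_isNilpotent hnil).eq_zero
  rw [htr] at h0
  exact one_ne_zero h0

end CfsgLib.KnownA.QdNotInPSU
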