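import Mathlib
import Cfsg.Agent.Lib.KnownA.SquareZero

/-!
Involutions of special linear groups in characteristic two.
-/

set_option autoImplicit false

namespace CfsgLib.KnownA.SquareZero

open Module Matrix

theorem sl_conj {F : Type*} [Field F] [CharP F 2] (hsq : ∀ x : F, ∃ r, x = r * r) {n : ℕ}
    (a b : Matrix.SpecialLinearGroup (Fin n) F) (ha : orderOf a = 2) (hb : orderOf b = 2)
    (hrank : ((a : Matrix (Fin n) (Fin n) F) - 1).rank = ((b : Matrix (Fin n) (Fin n) F) - 1).rank) :
    IsConj a b := by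
  classical
  have hinv : ∀ x : Matrix.SpecialLinearGroup (Fin n) F, orderOf x = 2 →
      ∀ v, toLin' ((x : Matrix (Fin n) (Fin n) F) - 1) (toLin' ((x : Matrix (Fin n) (Fin n) F) - 1) v) = 0 := by
    intro x hx v
    have h : (x : Matrix (Fin n) (Fin n) F) * x = 1 := by
      have := pow_orderOf_eq_one x
      rw [hx, sq] at this
      simpa using congrArg (fun g : Matrix.SpecialLinearGroup (Fin n) F => (g : Matrix (Fin n) (Fin n) F)) this
    rw [← LinearMap.comp_apply, ← toLin'_mul, sub_one_sq h, map_zero, LinearMap.zero_apply]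
  set k := ((a : Matrix (Fin n) (Fin n) F) - 1).rank with hk
  obtain ⟨r, e, he⟩ := exists_split _ (hinv a ha) (k := k) rfl
  obtain ⟨r', e', he'⟩ := exists_split _ (hinv b hb) (k := k) hrank.symm
  obtain rfl : r' = r := by
    have := card_idx e; have := card_idx e'; omega
  have hkpos : 0 < k := by
    refine Nat.pos_of_ne_zero fun h0 => ?_
    have : toLin' ((a : Matrix (Fin n) (Fin n) F) - 1) = 0 :=
      LinearMap.range_eq_bot.1 (Submodule.finrank_eq_zero.1 (hk.symm.trans h0))
    rw [LinearEquiv.map_eq_zero_iff, sub_eq_zero] at this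
    have : a = 1 := Subtype.ext (this.trans Matrix.SpecialLinearGroup.coe_one.symm)
    simp [this] at ha
  set g := (e.equiv e' (Equiv.refl _)).toLinearMap with hg
  have hdet : LinearMap.det g ≠ 0 := ((e.equiv e' (Equiv.refl _)).isUnit_det').ne_zero
  obtain ⟨μ, hμ⟩ := hsq (LinearMap.det g)⁻¹
  set d : Fin k → F := Function.update (fun _ => 1) ⟨0, hkpos⟩ μ with hd
  set h := g ∘ₗ diagEnd e d with hh
  have hhdet : LinearMap.det h = 1 := by
    rw [hh, LinearMap.det_comp, det_diagEnd, hd, Finset.prod_update_of_mem (Finset.mem_univ _)]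
    simp [sq, ← hμ, hdet]
  have hcomm : h ∘ₗ toLin' ((a : Matrix (Fin n) (Fin n) F) - 1) = toLin' ((b : Matrix (Fin n) (Fin n) F) - 1) ∘ₗ h := by
    refine LinearMap.ext fun v => ?_
    simp only [hh, LinearMap.comp_apply, diagEnd_comm he]
    exact intertwine he he' _
  let c : Matrix.SpecialLinearGroup (Fin n) F := ⟨LinearMap.toMatrix' h, by rw [LinearMap.det_toMatrix', hhdet]⟩
  refine isConj_iff.2 ⟨c, mul_inv_eq_of_eq_mul (Subtype.ext ?_)⟩
  have hm := congrArg LinearMap.toMatrix' hcomm
  simp only [LinearMap.toMatrix'_comp, LinearMap.toMatrix'_toLin', Matrix.mul_sub, Matrix.sub_mul,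
    Matrix.mul_one, Matrix.one_mul, sub_left_inj] at hm
  show LinearMap.toMatrix' h * (a : Matrix (Fin n) (Fin n) F) =
    (b : Matrix (Fin n) (Fin n) F) * LinearMap.toMatrix' h
  simpa [hh, LinearMap.toMatrix'_comp] using hm

end CfsgLib.KnownA.SquareZero
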