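import Cfsg.Agent.S2426
import Mathlib.GroupTheory.NoncommPiCoprod

/-!
# Steinberg systems of root elements in type A over a finite field

A group generated by elements `y i j t` subject to the Steinberg relations (and, for each pair of
indices, the rank one relation) maps injectively to the matrices.
-/

set_option autoImplicit false

open Matrix
open scoped commutatorElement

namespace CfsgLib.KnownA.StSL

universe uι uG

variable {K : Type*} [Field K]

/-- Steinberg relations for a family of root elements indexed by ordered pairs. -/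
structure StRel {ι : Type uι} {G : Type uG} [Group G] (y : ι → ι → K → G) : Prop where
  add : ∀ i j t u, i ≠ j → y i j t * y i j u = y i j (t + u)
  comm : ∀ i j k l t u, i ≠ j → k ≠ l → i ≠ l → j ≠ k → Commute (y i j t) (y k l u)
  mix : ∀ i j k t u, i ≠ j → j ≠ k → i ≠ k → ⁅y i j t, y j k u⁆ = y i k (t * u)
  wconj : ∀ a b t u, a ≠ b → t ≠ 0 →
    (y a b t * y b a (-t⁻¹) * y a b t) * y a b u * (y a b t * y b a (-t⁻¹) * y a b t)⁻¹ =
      y b a (-(t⁻¹ ^ 2 * u))

/-- The set of root elements. -/
def rootSet {ι : Type uι} {G : Type uG} (y : ι → ι → K → G) : Set G :=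
  {g | ∃ i j t, i ≠ j ∧ g = y i j t}

theorem injective_two [Finite K] {ι : Type uι} [Fintype ι] [DecidableEq ι]
    (hι : Fintype.card ι = 2) {G : Type uG} [Group G] {y : ι → ι → K → G} (S : StRel y)
    (hgen : Subgroup.closure (rootSet y) = ⊤) (π : G →* Matrix ι ι K)
    (hπ : ∀ i j t, i ≠ j → π (y i j t) = transvection i j t) : Function.Injective π := by
  classical
  let e2 : Fin 2 ≃ ι := (Fintype.equivFinOfCardEq hι).symm
  have h01 : e2 0 ≠ e2 1 := e2.injective.ne (by decide)
  obtain ⟨e, he1, he0⟩ := Cfsg.Agent.S2426.result (K := K)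
  let f : Bool × K → G := fun p => if p.1 then y (e2 0) (e2 1) p.2 else y (e2 1) (e2 0) p.2
  have hrel : ∀ r ∈ ({g : FreeGroup (Bool × K) | ∃ (b : Bool) (t u : K), g = FreeGroup.of (b, t) * FreeGroup.of (b, u) * (FreeGroup.of (b, t + u))⁻¹} ∪
          {g | ∃ (b : Bool) (t u : K), t ≠ 0 ∧
            g = (FreeGroup.of (b, t) * FreeGroup.of (!b, -t⁻¹) * FreeGroup.of (b, t)) * FreeGroup.of (b, u) *
                  (FreeGroup.of (b, t) * FreeGroup.of (!b, -t⁻¹) * FreeGroup.of (b, t))⁻¹ * (FreeGroup.of (!b, -(t⁻¹ ^ 2 * u)))⁻¹}),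
      FreeGroup.lift f r = 1 := by
    rintro r (⟨b, t, u, rfl⟩ | ⟨b, t, u, ht, rfl⟩)
    · simp only [map_mul, map_inv, FreeGroup.lift_apply_of, mul_inv_eq_one]
      cases b
      · exact S.add _ _ t u h01.symm
      · exact S.add _ _ t u h01
    · simp only [map_mul, map_inv, FreeGroup.lift_apply_of, mul_inv_eq_one]
      cases b
      · exact S.wconj _ _ t u h01.symm ht
      · exact S.wconj _ _ t u h01 ht
  let ψ := PresentedGroup.toGroup (h := hrel)
  have hψ : ∀ p, ψ (PresentedGroup.of p) = f p := fun p => PresentedGroup.toGroup.of hrel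
  have hsurj : Function.Surjective ψ := by
    rw [← MonoidHom.range_eq_top, eq_top_iff, ← hgen, Subgroup.closure_le]
    rintro g ⟨i, j, t, hij, rfl⟩
    obtain ⟨a, rfl⟩ := e2.surjective i
    obtain ⟨b, rfl⟩ := e2.surjective j
    have hab : a ≠ b := fun h => hij (by rw [h])
    fin_cases a <;> fin_cases b
    · exact absurd rfl hab
    · exact ⟨PresentedGroup.of (true, t), by rw [hψ]; rfl⟩
    · exact ⟨PresentedGroup.of (false, t), by rw [hψ]; rfl⟩
    · exact absurd rfl hab
  have key : ∀ z, π (ψ z) = Matrix.reindexAlgEquiv K K e2 (e z : Matrix (Fin 2) (Fin 2) K) := by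
    let h1 := π.comp ψ
    let h2 : _ →* Matrix ι ι K :=
      { toFun := fun z => Matrix.reindexAlgEquiv K K e2 (e z : Matrix (Fin 2) (Fin 2) K)
        map_one' := by rw [map_one]; exact map_one (Matrix.reindexAlgEquiv K K e2)
        map_mul' := fun z w => by rw [map_mul]; exact map_mul (Matrix.reindexAlgEquiv K K e2) _ _ }
    suffices h : h1 = h2 from fun z => DFunLike.congr_fun h z
    refine MonoidHom.eq_of_eqOn_dense (PresentedGroup.closure_range_of _) ?_
    rintro _ ⟨p, rfl⟩
    obtain ⟨b, t⟩ := p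
    change π (ψ (PresentedGroup.of (b, t))) =
      Matrix.reindexAlgEquiv K K e2 (e (PresentedGroup.of (b, t)) : Matrix (Fin 2) (Fin 2) K)
    rw [hψ]
    cases b
    · change π (y (e2 1) (e2 0) t) = _
      rw [hπ _ _ _ h01.symm, he0]
      ext i j
      obtain ⟨a, rfl⟩ := e2.surjective i
      obtain ⟨b, rfl⟩ := e2.surjective j
      fin_cases a <;> fin_cases b <;> simp [transvection, Matrix.single]
    · change π (y (e2 0) (e2 1) t) = _
      rw [hπ _ _ _ h01, he1]
      ext i j
      obtain ⟨a, rfl⟩ := e2.surjective i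
      obtain ⟨b, rfl⟩ := e2.surjective j
      fin_cases a <;> fin_cases b <;> simp [transvection, Matrix.single]
  rw [injective_iff_map_eq_one]
  intro g hg
  obtain ⟨z, rfl⟩ := hsurj g
  rw [key, map_eq_one_iff _ (Matrix.reindexAlgEquiv K K e2).injective] at hg
  have : e z = 1 := Subtype.ext hg
  rw [(map_eq_one_iff _ e.injective).1 this, map_one]

namespace Step

variable {ι : Type uι} [Fintype ι] [DecidableEq ι] {G : Type uG} [Group G]
variable {y : ι → ι → K → G} (S : StRel y) (π : G →* Matrix ι ι K)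
variable (a : ι)

/-- The indices other than `a`. -/
abbrev Idx (a : ι) : Type uι := {i : ι // i ≠ a}

/-- The root elements not involving `a`. -/
def subSet (y : ι → ι → K → G) (a : ι) : Set G :=
  {g | ∃ i j t, i ≠ a ∧ j ≠ a ∧ i ≠ j ∧ g = y i j t}

/-- The subgroup generated by the root elements not involving `a`. -/
abbrev Sub (y : ι → ι → K → G) (a : ι) : Subgroup G := Subgroup.closure (subSet y a)

/-- Matrices fixing the `a`-th row and column. -/
def Fixes (a : ι) (M : Matrix ι ι K) : Prop :=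
  ∀ x, M a x = (1 : Matrix ι ι K) a x ∧ M x a = (1 : Matrix ι ι K) x a

variable (hπ : ∀ i j t, i ≠ j → π (y i j t) = transvection i j t)

theorem fixes_mul {M N : Matrix ι ι K} (hM : Fixes a M) (hN : Fixes a N) : Fixes a (M * N) := by
  intro x
  constructor
  · rw [Matrix.mul_apply, Finset.sum_eq_single a]
    · rw [(hM a).1, Matrix.one_apply_eq, one_mul, (hN x).1]
    · intro b _ hb
      rw [(hM b).1, Matrix.one_apply_ne hb.symm, zero_mul]
    · simp
  · rw [Matrix.mul_apply, Finset.sum_eq_single a]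
    · rw [(hN a).2, Matrix.one_apply_eq, mul_one, (hM x).2]
    · intro b _ hb
      rw [(hN b).2, Matrix.one_apply_ne hb, mul_zero]
    · simp

theorem fixes_inv {M N : Matrix ι ι K} (h₁ : M * N = 1) (h₂ : N * M = 1) (hM : Fixes a M) :
    Fixes a N := by
  intro x
  constructor
  · have := congrFun (congrFun h₁ a) x
    rwa [Matrix.mul_apply, Finset.sum_eq_single a, (hM a).1, Matrix.one_apply_eq, one_mul] at this
    · intro b _ hb
      rw [(hM b).1, Matrix.one_apply_ne hb.symm, zero_mul]
    · simp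
  · have := congrFun (congrFun h₂ x) a
    rwa [Matrix.mul_apply, Finset.sum_eq_single a, (hM a).2, Matrix.one_apply_eq, mul_one] at this
    · intro b _ hb
      rw [(hM b).2, Matrix.one_apply_ne hb, mul_zero]
    · simp

include hπ in
theorem fixes_of_mem {g : G} (hg : g ∈ Sub y a) : Fixes a (π g) := by
  induction hg using Subgroup.closure_induction with
  | mem g hg =>
    obtain ⟨i, j, t, hi, hj, hij, rfl⟩ := hg
    rw [hπ i j t hij]
    intro x
    constructor <;> simp [transvection, Matrix.single, hi, hj]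
  | one => rw [map_one]; intro x; simp
  | mul g h _ _ ihg ihh => rw [map_mul]; exact fixes_mul a ihg ihh
  | inv g _ ih =>
    exact fixes_inv a (M := π g) (by rw [← map_mul, mul_inv_cancel, map_one])
      (by rw [← map_mul, inv_mul_cancel, map_one]) ih

/-- The submatrix representation of the subgroup. -/
def subRep (hπ : ∀ i j t, i ≠ j → π (y i j t) = transvection i j t) :
    Sub y a →* Matrix (Idx a) (Idx a) K where
  toFun g := (π g.1).submatrix Subtype.val Subtype.val
  map_one' := by
    rw [Subgroup.coe_one, map_one]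
    exact Matrix.submatrix_one _ Subtype.val_injective
  map_mul' g h := by
    ext i j
    simp only [Subgroup.coe_mul, map_mul, Matrix.submatrix_apply, Matrix.mul_apply]
    rw [← Finset.sum_subtype (Finset.univ.erase a) (fun x => by simp)
      (fun x => π g.1 i x * π h.1 x j)]
    rw [← Finset.add_sum_erase _ _ (Finset.mem_univ a), (fixes_of_mem π a hπ g.2 i).2,
      Matrix.one_apply_ne i.2, zero_mul, zero_add]

theorem subRep_gen (i j : Idx a) (t : K) (h : i ≠ j) (hm : y i j t ∈ Sub y a) :
    subRep π a hπ ⟨_, hm⟩ = transvection i j t := by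
  have hij : (i : ι) ≠ j := fun e => h (Subtype.ext e)
  ext p q
  simp [subRep, hπ _ _ _ hij, transvection, Matrix.single, Matrix.one_apply, Subtype.ext_iff]

/-- The root elements of the subgroup. -/
def subY (y : ι → ι → K → G) (a : ι) (i j : Idx a) (t : K) : Sub y a :=
  if h : i ≠ j then
    ⟨y i j t, Subgroup.subset_closure ⟨i, j, t, i.2, j.2, fun e => h (Subtype.ext e), rfl⟩⟩
  else 1

theorem subY_coe {i j : Idx a} (h : i ≠ j) (t : K) : (subY y a i j t : G) = y i j t := by
  rw [subY, dif_pos h]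

include S in
theorem subY_rel : StRel (subY y a) := by
  have ne : ∀ {i j : Idx a}, i ≠ j → (i : ι) ≠ j := fun h e => h (Subtype.ext e)
  refine ⟨?_, ?_, ?_, ?_⟩
  · intro i j t u h
    apply Subtype.ext
    simp only [Subgroup.coe_mul, subY_coe a h]
    exact S.add _ _ t u (ne h)
  · intro i j k l t u h1 h2 h3 h4
    apply Subtype.ext
    simp only [Subgroup.coe_mul, subY_coe a h1, subY_coe a h2]
    exact S.comm _ _ _ _ t u (ne h1) (ne h2) (ne h3) (ne h4)
  · intro i j k t u h1 h2 h3
    apply Subtype.ext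
    simp only [commutatorElement_def, Subgroup.coe_mul, InvMemClass.coe_inv, subY_coe a h1,
      subY_coe a h2, subY_coe a h3]
    rw [← commutatorElement_def]
    exact S.mix _ _ _ t u (ne h1) (ne h2) (ne h3)
  · intro i j t u h ht
    apply Subtype.ext
    simp only [Subgroup.coe_mul, InvMemClass.coe_inv, subY_coe a h, subY_coe a h.symm]
    exact S.wconj _ _ t u (ne h) ht

theorem subY_gen : Subgroup.closure (rootSet (subY y a)) = ⊤ := by
  refine top_unique ((Subgroup.closure_closure_coe_preimage (k := subSet y a)).symm.le.trans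
    (Subgroup.closure_mono ?_))
  rintro x ⟨i, j, t, hi, hj, hij, hx⟩
  refine ⟨⟨i, hi⟩, ⟨j, hj⟩, t, fun e => hij (congrArg Subtype.val e), Subtype.ext ?_⟩
  rw [subY_coe a (fun e => hij (congrArg Subtype.val e))]
  exact hx

include S

theorem y_zero {i j : ι} (h : i ≠ j) : y i j 0 = 1 := by
  have := S.add i j 0 0 h
  rw [add_zero] at this
  exact mul_eq_right.1 this

theorem y_neg {i j : ι} (h : i ≠ j) (t : K) : y i j (-t) = (y i j t)⁻¹ :=
  eq_inv_of_mul_eq_one_left (by rw [S.add i j _ _ h, neg_add_cancel, y_zero S h])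

/-- One root subgroup as a homomorphism. -/
def rootHom {i j : ι} (h : i ≠ j) : Multiplicative K →* G where
  toFun t := y i j t.toAdd
  map_one' := y_zero S h
  map_mul' t u := (S.add i j _ _ h).symm

theorem col_comm : Pairwise fun i k : Idx a =>
    ∀ t u, Commute (rootHom S i.2 t) (rootHom S k.2 u) := fun i k _ t u =>
  S.comm _ _ _ _ t.toAdd u.toAdd i.2 k.2 i.2 k.2.symm

theorem row_comm : Pairwise fun i k : Idx a =>
    ∀ t u, Commute (rootHom S i.2.symm t) (rootHom S k.2.symm u) := fun i k _ t u =>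
  S.comm _ _ _ _ t.toAdd u.toAdd i.2.symm k.2.symm k.2.symm i.2

/-- The column `a`. -/
def colD (v : Idx a → K) : G :=
  MonoidHom.noncommPiCoprod (fun i : Idx a => rootHom S i.2) (col_comm S a)
    fun i => Multiplicative.ofAdd (v i)

/-- The row `a`. -/
def rowR (r : Idx a → K) : G :=
  MonoidHom.noncommPiCoprod (fun i : Idx a => rootHom S i.2.symm) (row_comm S a)
    fun i => Multiplicative.ofAdd (r i)

theorem colD_add (v w : Idx a → K) : colD S a (v + w) = colD S a v * colD S a w := by
  simp only [colD, ← map_mul]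
  rfl

theorem rowR_add (v w : Idx a → K) : rowR S a (v + w) = rowR S a v * rowR S a w := by
  simp only [rowR, ← map_mul]
  rfl

theorem colD_zero : colD S a 0 = 1 := by
  exact map_one (MonoidHom.noncommPiCoprod (fun i : Idx a => rootHom S i.2) (col_comm S a))

theorem rowR_zero : rowR S a 0 = 1 := by
  exact map_one (MonoidHom.noncommPiCoprod (fun i : Idx a => rootHom S i.2.symm) (row_comm S a))

theorem colD_neg (v : Idx a → K) : colD S a (-v) = (colD S a v)⁻¹ :=
  eq_inv_of_mul_eq_one_left (by rw [← colD_add, neg_add_cancel, colD_zero])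

theorem rowR_neg (v : Idx a → K) : rowR S a (-v) = (rowR S a v)⁻¹ :=
  eq_inv_of_mul_eq_one_left (by rw [← rowR_add, neg_add_cancel, rowR_zero])

theorem colD_single (i : Idx a) (t : K) : colD S a (Pi.single i t) = y i a t := by
  have : (fun k => Multiplicative.ofAdd ((Pi.single i t : Idx a → K) k)) =
      Pi.mulSingle i (Multiplicative.ofAdd t) := by
    funext k
    by_cases h : k = i
    · subst h; simp
    · simp [h]
  rw [colD, this, MonoidHom.noncommPiCoprod_mulSingle]
  rfl

theorem rowR_single (i : Idx a) (t : K) : rowR S a (Pi.single i t) = y a i t := by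
  have : (fun k => Multiplicative.ofAdd ((Pi.single i t : Idx a → K) k)) =
      Pi.mulSingle i (Multiplicative.ofAdd t) := by
    funext k
    by_cases h : k = i
    · subst h; simp
    · simp [h]
  rw [rowR, this, MonoidHom.noncommPiCoprod_mulSingle]
  rfl

omit S in
@[elab_as_elim]
theorem pi_induction {ι' : Type uι} [Fintype ι'] [DecidableEq ι'] {P : (ι' → K) → Prop}
    (v : ι' → K) (h0 : P 0) (hadd : ∀ v w, P v → P w → P (v + w))
    (hs : ∀ i t, P (Pi.single i t)) : P v := by
  rw [← Finset.univ_sum_single v]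
  exact Finset.sum_induction _ P hadd h0 fun i _ => hs i _

omit S in
theorem transvection_mulVec_single {i j : Idx a} (t c : K) (k : Idx a) :
    transvection i j t *ᵥ Pi.single k c =
      Pi.single k c + if j = k then Pi.single i (t * c) else 0 := by
  rw [transvection, Matrix.add_mulVec, Matrix.one_mulVec]
  congr 1
  ext x
  simp only [Matrix.mulVec_single, Matrix.single, Matrix.col_apply, Matrix.of_apply, Pi.smul_apply,
    MulOpposite.smul_eq_mul_unop, MulOpposite.unop_op]
  split_ifs with h1 h2 h3 <;> simp_all [Pi.single_apply]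

omit S in
theorem single_vecMul_transvection {i j : Idx a} (t c : K) (k : Idx a) :
    Pi.single k c ᵥ* transvection i j t =
      Pi.single k c + if i = k then Pi.single j (c * t) else 0 := by
  rw [transvection, Matrix.vecMul_add, Matrix.vecMul_one]
  congr 1
  ext x
  simp only [Matrix.single_vecMul, Matrix.single, Matrix.row_apply, Matrix.of_apply, Pi.smul_apply,
    smul_eq_mul]
  split_ifs with h1 h2 h3 <;> simp_all [Pi.single_apply]

include hπ

theorem colD_conj (g : Sub y a) (v : Idx a → K) :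
    g.1 * colD S a v * g.1⁻¹ = colD S a (subRep π a hπ g *ᵥ v) := by
  obtain ⟨g, hg⟩ := g
  induction hg using Subgroup.closure_induction generalizing v with
  | mem g hg =>
    obtain ⟨i, j, t, hi, hj, hij, rfl⟩ := hg
    have hne : (⟨i, hi⟩ : Idx a) ≠ ⟨j, hj⟩ := fun e => hij (congrArg Subtype.val e)
    rw [subRep_gen π a hπ ⟨i, hi⟩ ⟨j, hj⟩ t hne]
    refine pi_induction v ?_ ?_ ?_
    · rw [colD_zero, Matrix.mulVec_zero, colD_zero, mul_one, mul_inv_cancel]
    · intro v w hv hw
      rw [colD_add, ← conj_mul, hv, hw, ← colD_add, ← Matrix.mulVec_add]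
    · intro k c
      rw [transvection_mulVec_single, colD_add, colD_single]
      split_ifs with h
      · subst h
        rw [colD_single]
        have e := S.mix i j a t c hij hj hi
        rw [commutatorElement_def, mul_inv_eq_iff_eq_mul] at e
        rw [e]
        exact (S.comm _ _ _ _ _ _ hi hj hi hj.symm).eq
      · rw [colD_zero, mul_one]
        have hjk : j ≠ k.1 := fun e => h (Subtype.ext e)
        rw [(S.comm i j k.1 a t c hij k.2 hi hjk).eq, mul_inv_cancel_right]
  | one =>
    rw [show (⟨1, _⟩ : Sub y a) = 1 from rfl, map_one, Matrix.one_mulVec]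
    simp
  | mul g h hg hh ihg ihh =>
    rw [show (⟨g * h, _⟩ : Sub y a) = ⟨g, hg⟩ * ⟨h, hh⟩ from rfl, map_mul, ← Matrix.mulVec_mulVec,
      ← ihg, ← ihh]
    simp [mul_assoc]
  | inv g hg ih =>
    rw [show (⟨g⁻¹, _⟩ : Sub y a) = (⟨g, hg⟩)⁻¹ from rfl]
    have e := ih (subRep π a hπ (⟨g, hg⟩)⁻¹ *ᵥ v)
    rw [Matrix.mulVec_mulVec, ← map_mul, mul_inv_cancel, map_one, Matrix.one_mulVec] at e
    simp only [InvMemClass.coe_inv] at e ⊢
    conv_lhs => rw [← e]
    group

theorem rowR_conj (g : Sub y a) (r : Idx a → K) :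
    g.1 * rowR S a r * g.1⁻¹ = rowR S a (r ᵥ* subRep π a hπ g⁻¹) := by
  obtain ⟨g, hg⟩ := g
  induction hg using Subgroup.closure_induction generalizing r with
  | mem g hg =>
    obtain ⟨i, j, t, hi, hj, hij, rfl⟩ := hg
    have hne : (⟨i, hi⟩ : Idx a) ≠ ⟨j, hj⟩ := fun e => hij (congrArg Subtype.val e)
    have hm : y i j (-t) ∈ Sub y a :=
      Subgroup.subset_closure ⟨i, j, -t, hi, hj, hij, rfl⟩
    have hinv : (⟨y i j t, Subgroup.subset_closure ⟨i, j, t, hi, hj, hij, rfl⟩⟩ : Sub y a)⁻¹ =
        ⟨y i j (-t), hm⟩ := Subtype.ext (y_neg S hij t).symm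
    rw [hinv, subRep_gen π a hπ ⟨i, hi⟩ ⟨j, hj⟩ (-t) hne]
    refine pi_induction r ?_ ?_ ?_
    · rw [rowR_zero, Matrix.zero_vecMul, rowR_zero, mul_one, mul_inv_cancel]
    · intro v w hv hw
      rw [rowR_add, ← conj_mul, hv, hw, ← rowR_add, ← Matrix.add_vecMul]
    · intro k c
      rw [single_vecMul_transvection, rowR_add, rowR_single]
      split_ifs with h
      · subst h
        rw [rowR_single, mul_neg, y_neg S hj.symm]
        have e := S.mix a i j c t hi.symm hij hj.symm
        rw [commutatorElement_def] at e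
        rw [(S.comm a i a j c (c * t) hi.symm hj.symm hj.symm hi).inv_right.eq, ← e]
        group
      · rw [rowR_zero, mul_one]
        have hik : i ≠ k.1 := fun e => h (Subtype.ext e)
        rw [(S.comm i j a k.1 t c hij k.2.symm hik hj).eq, mul_inv_cancel_right]
  | one =>
    rw [show (⟨1, _⟩ : Sub y a) = 1 from rfl, inv_one, map_one, Matrix.vecMul_one]
    simp
  | mul g h hg hh ihg ihh =>
    rw [show (⟨g * h, _⟩ : Sub y a) = ⟨g, hg⟩ * ⟨h, hh⟩ from rfl, _root_.mul_inv_rev, map_mul,
      ← Matrix.vecMul_vecMul, ← ihg, ← ihh]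
    simp [mul_assoc]
  | inv g hg ih =>
    rw [show (⟨g⁻¹, _⟩ : Sub y a) = (⟨g, hg⟩)⁻¹ from rfl, inv_inv]
    have e := ih (r ᵥ* subRep π a hπ ⟨g, hg⟩)
    rw [Matrix.vecMul_vecMul, ← map_mul, mul_inv_cancel, map_one, Matrix.vecMul_one] at e
    simp only [InvMemClass.coe_inv] at e ⊢
    conv_lhs => rw [← e]
    group

/-- The key relation between a row and an orthogonal column. -/
def Good (v r : Idx a → K) : Prop :=
  ∃ g : Sub y a, colD S a (-v) * rowR S a r * colD S a v = rowR S a r * g.1 ∧
    subRep π a hπ g = 1 - vecMulVec v r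

omit S in
theorem inv_eq_of {v r : Idx a → K} (hvr : r ⬝ᵥ v = 0) {g : Sub y a}
    (hg : subRep π a hπ g = 1 - vecMulVec v r) : subRep π a hπ g⁻¹ = 1 + vecMulVec v r := by
  have h1 : (1 - vecMulVec v r) * (1 + vecMulVec v r) = 1 := by
    rw [sub_mul, one_mul, mul_add, mul_one, Matrix.vecMulVec_mul_vecMulVec, hvr]
    simp
  calc subRep π a hπ g⁻¹ = subRep π a hπ g⁻¹ * (subRep π a hπ g * (1 + vecMulVec v r)) := by
        rw [hg, h1, mul_one]
    _ = _ := by rw [← mul_assoc, ← map_mul, inv_mul_cancel, map_one, one_mul]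

theorem good_add {v r s : Idx a → K} (hr : r ⬝ᵥ v = 0) (hs : s ⬝ᵥ v = 0)
    (h1 : Good S π a hπ v r) (h2 : Good S π a hπ v s) : Good S π a hπ v (r + s) := by
  obtain ⟨g, hg1, hg2⟩ := h1
  obtain ⟨h, hh1, hh2⟩ := h2
  refine ⟨g * h, ?_, ?_⟩
  · have e := rowR_conj S π a hπ g s
    rw [inv_eq_of π a hπ hr hg2, Matrix.vecMul_add, Matrix.vecMul_one, Matrix.vecMul_vecMulVec,
      hs, zero_smul, add_zero] at e
    calc colD S a (-v) * rowR S a (r + s) * colD S a v
        = (colD S a (-v) * rowR S a r * colD S a v) *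
            (colD S a (-v) * rowR S a s * colD S a v) := by
          rw [rowR_add, colD_neg]; group
      _ = rowR S a r * g.1 * (rowR S a s * h.1) := by rw [hg1, hh1]
      _ = rowR S a r * (g.1 * rowR S a s * g.1⁻¹) * (g.1 * h.1) := by group
      _ = _ := by rw [e, rowR_add, Subgroup.coe_mul]
  · rw [map_mul, hg2, hh2, sub_mul, mul_sub, mul_sub, Matrix.vecMulVec_mul_vecMulVec, hr]
    simp [Matrix.vecMulVec_add]
    abel

theorem good_zero (v : Idx a → K) : Good S π a hπ v 0 :=
  ⟨1, by simp [rowR_zero, colD_neg], by simp⟩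

theorem good_col {v w r : Idx a → K} (hv : r ⬝ᵥ v = 0) (hw : r ⬝ᵥ w = 0)
    (h1 : Good S π a hπ v r) (h2 : Good S π a hπ w r) : Good S π a hπ (v + w) r := by
  obtain ⟨g, hg1, hg2⟩ := h1
  obtain ⟨h, hh1, hh2⟩ := h2
  refine ⟨h * g, ?_, ?_⟩
  · have e := colD_conj S π a hπ g⁻¹ (-w)
    rw [inv_eq_of π a hπ hv hg2, Matrix.add_mulVec, Matrix.one_mulVec, Matrix.vecMulVec_mulVec,
      dotProduct_neg, hw, neg_zero, MulOpposite.op_zero, zero_smul, add_zero, InvMemClass.coe_inv,
      inv_inv] at e
    calc colD S a (-(v + w)) * rowR S a r * colD S a (v + w)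
        = colD S a (-w) * (colD S a (-v) * rowR S a r * colD S a v) * colD S a w := by
          rw [colD_neg, colD_neg, colD_neg, colD_add]
          group
      _ = colD S a (-w) * rowR S a r * colD S a w * (colD S a (-w) * g.1 * colD S a w) := by
          rw [hg1, colD_neg]; group
      _ = rowR S a r * h.1 * (g.1 * (g.1⁻¹ * colD S a (-w) * g.1) * colD S a w) := by
          rw [hh1]; group
      _ = _ := by
          rw [e, Subgroup.coe_mul, mul_assoc g.1, ← colD_add, neg_add_cancel, colD_zero]; group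
  · rw [map_mul, hg2, hh2, sub_mul, mul_sub, mul_sub, Matrix.vecMulVec_mul_vecMulVec, hv]
    simp [Matrix.add_vecMulVec]
    abel

theorem good_single {v : Idx a → K} (k : Idx a) (α : K) (hk : v k = 0) :
    Good S π a hπ v (Pi.single k α) := by
  suffices ∀ w : Idx a → K, w k = 0 → Good S π a hπ w (Pi.single k α) from this v hk
  intro w hw
  have key : ∀ w : Idx a → K, Good S π a hπ (Function.update w k 0) (Pi.single k α) := by
    intro w
    refine pi_induction w ?_ ?_ ?_
    · rw [show Function.update (0 : Idx a → K) k 0 = 0 by simp]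
      exact ⟨1, by simp [colD_neg, colD_zero], by simp⟩
    · intro v w hv hw
      rw [show Function.update (v + w) k 0 = Function.update v k 0 + Function.update w k 0 by
        funext x; by_cases hx : x = k <;> simp [Function.update, hx]]
      exact good_col S π a hπ (by simp) (by simp) hv hw
    · intro i c
      by_cases hik : i = k
      · subst hik
        rw [show Function.update (Pi.single i c : Idx a → K) i 0 = 0 by
          funext x; by_cases hx : x = i <;> simp [Function.update, hx]]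
        exact ⟨1, by simp [colD_neg, colD_zero], by simp⟩
      · rw [show Function.update (Pi.single i c : Idx a → K) k 0 = Pi.single i c by
          funext x; by_cases hx : x = k <;> simp [Function.update, hx, Ne.symm hik]]
        have hik' : (i : ι) ≠ k := fun e => hik (Subtype.ext e)
        have hm : y i k (-(c * α)) ∈ Sub y a :=
          Subgroup.subset_closure ⟨i, k, _, i.2, k.2, hik', rfl⟩
        refine ⟨⟨_, hm⟩, ?_, ?_⟩
        · rw [← Pi.single_neg, colD_single, colD_single, rowR_single]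
          have e := S.mix i.1 a k.1 (-c) α i.2 k.2.symm hik'
          rw [commutatorElement_def, ← y_neg S i.2, neg_neg, mul_inv_eq_iff_eq_mul, neg_mul] at e
          rw [e]
          exact (S.comm _ _ _ _ _ _ hik' k.2.symm hik' k.2).eq
        · rw [subRep_gen π a hπ i k _ hik]
          ext p q
          simp only [transvection, Matrix.add_apply, Matrix.sub_apply, vecMulVec_apply,
            Matrix.single_apply, Pi.single_apply]
          rcases em (i = p) with h | h <;> rcases em (k = q) with h' | h'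
          · subst h h'; simp [sub_eq_add_neg]
          · subst h; simp [h', Ne.symm h']
          · subst h'; simp [h, Ne.symm h]
          · simp [h, h', Ne.symm h, Ne.symm h']
  have := key w
  rwa [← hw, Function.update_eq_self] at this

theorem good_conj (g : Sub y a) {v r : Idx a → K} (h : Good S π a hπ v r) :
    Good S π a hπ (subRep π a hπ g *ᵥ v) (r ᵥ* subRep π a hπ g⁻¹) := by
  obtain ⟨x, hx1, hx2⟩ := h
  refine ⟨g * x * g⁻¹, ?_, ?_⟩
  · rw [← Matrix.mulVec_neg, ← colD_conj S π a hπ g (-v), ← colD_conj S π a hπ g v,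
      ← rowR_conj S π a hπ g r]
    calc g.1 * colD S a (-v) * g.1⁻¹ * (g.1 * rowR S a r * g.1⁻¹) * (g.1 * colD S a v * g.1⁻¹)
        = g.1 * (colD S a (-v) * rowR S a r * colD S a v) * g.1⁻¹ := by group
      _ = _ := by rw [hx1, Subgroup.coe_mul, Subgroup.coe_mul, InvMemClass.coe_inv]; group
  · rw [map_mul, map_mul, hx2, mul_sub, sub_mul, mul_one, ← map_mul, mul_inv_cancel, map_one,
      Matrix.mul_vecMulVec, Matrix.vecMulVec_mul]

theorem good_of_orth {v r : Idx a → K} (h : r ⬝ᵥ v = 0) : Good S π a hπ v r := by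
  by_cases hv : v = 0
  · subst hv
    exact ⟨1, by simp [colD_neg, colD_zero], by simp⟩
  obtain ⟨l, hl⟩ := Function.ne_iff.1 hv
  rw [Pi.zero_apply] at hl
  have hdec : r = ∑ k, (Pi.single k (r k) - Pi.single l (r k * (v k / v l))) := by
    rw [Finset.sum_sub_distrib, Finset.univ_sum_single]
    funext x
    have h0 : ∑ k, r k * (v k / v l) = 0 := by
      simp only [← mul_div_assoc, ← Finset.sum_div]
      rw [show ∑ k, r k * v k = 0 from h, zero_div]
    by_cases hx : x = l
    · subst hx; simp [Finset.sum_apply, h0]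
    · simp [Finset.sum_apply, hx]
  rw [hdec]
  refine (Finset.sum_induction _ (fun s => s ⬝ᵥ v = 0 ∧ Good S π a hπ v s) ?_ ?_ ?_).2
  · exact fun s t hs ht => ⟨by rw [add_dotProduct, hs.1, ht.1, add_zero],
      good_add S π a hπ hs.1 ht.1 hs.2 ht.2⟩
  · exact ⟨zero_dotProduct v, good_zero S π a hπ v⟩
  · intro k _
    refine ⟨?_, ?_⟩
    · rw [sub_dotProduct, single_dotProduct, single_dotProduct, mul_assoc, div_mul_cancel₀ _ hl,
        sub_self]
    by_cases hkl : k = l
    · subst hkl
      rw [div_self hl, mul_one, sub_self]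
      exact good_zero S π a hπ v
    have hkl' : (k : ι) ≠ l := fun e => hkl (Subtype.ext e)
    set c := v k / v l with hc
    have hm : y k l c ∈ Sub y a := Subgroup.subset_closure ⟨k, l, c, k.2, l.2, hkl', rfl⟩
    have hm' : y k l (-c) ∈ Sub y a := Subgroup.subset_closure ⟨k, l, -c, k.2, l.2, hkl', rfl⟩
    have hinv : (⟨y k l c, hm⟩ : Sub y a)⁻¹ = ⟨y k l (-c), hm'⟩ :=
      Subtype.ext (y_neg S hkl' c).symm
    have := good_conj S π a hπ ⟨_, hm⟩
      (good_single S π a hπ (v := Function.update v k 0) k (r k) (by simp))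
    rw [hinv, subRep_gen π a hπ k l c hkl, subRep_gen π a hπ k l (-c) hkl,
      single_vecMul_transvection, if_pos rfl] at this
    convert this using 1
    · funext x
      rw [transvection, Matrix.add_mulVec, Matrix.one_mulVec]
      by_cases hx : x = k
      · subst hx
        simp [Matrix.single_mulVec, Function.update, hc, hl, Ne.symm hkl]
      · simp [Matrix.single_mulVec, Function.update, hx]
    · rw [sub_eq_add_neg, ← Pi.single_neg, mul_neg]

/-- Products of a row and an element of the subgroup. -/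
def InQ (x : G) : Prop := ∃ r, ∃ g : Sub y a, x = rowR S a r * g.1

theorem inQ_mul {x z : G} (hx : InQ S a x) (hz : InQ S a z) : InQ S a (x * z) := by
  obtain ⟨r, g, rfl⟩ := hx
  obtain ⟨s, h, rfl⟩ := hz
  refine ⟨r + s ᵥ* subRep π a hπ g⁻¹, g * h, ?_⟩
  rw [rowR_add, ← rowR_conj S π a hπ g s, Subgroup.coe_mul]
  group

omit hπ π in
theorem inQ_sub (g : Sub y a) : InQ S a g.1 := ⟨0, g, by rw [rowR_zero, one_mul]⟩

/-- The double coset of the row. -/
def InR (x : G) : Prop := ∃ r v q, InQ S a q ∧ x = rowR S a r * colD S a v * q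

theorem move_rel {w s : Idx a → K} (h : s ⬝ᵥ w = 0) :
    ∃ g : Sub y a, rowR S a s * colD S a w = colD S a w * (rowR S a s * g.1) := by
  obtain ⟨g, hg, -⟩ := good_of_orth S π a hπ h
  refine ⟨g, ?_⟩
  rw [← hg, colD_neg]
  group

theorem coset {r r' v : Idx a → K} (h : r ⬝ᵥ v = r' ⬝ᵥ v) :
    ∃ q, InQ S a q ∧ rowR S a r * colD S a v = rowR S a r' * colD S a v * q := by
  obtain ⟨g, hg⟩ := move_rel S π a hπ (w := v) (s := r - r') (by rw [sub_dotProduct, h, sub_self])
  refine ⟨_, ⟨r - r', g, rfl⟩, ?_⟩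
  rw [mul_assoc, ← hg, ← mul_assoc, ← rowR_add, add_sub_cancel]

theorem move {u r v : Idx a → K} (q : G) (hq : InQ S a q) {r' : Idx a → K}
    (h1 : r' ⬝ᵥ v = r ⬝ᵥ v) (h2 : r' ⬝ᵥ u = 0) :
    ∃ q', InQ S a q' ∧ colD S a u * rowR S a r * colD S a v * q =
      rowR S a r' * colD S a (v + (1 + r ⬝ᵥ v) • u) * q' := by
  obtain ⟨q1, hq1, e1⟩ := coset S π a hπ h1.symm
  obtain ⟨g, hg, hg2⟩ := good_of_orth S π a hπ (v := -u) (r := r')
    (by rw [dotProduct_neg, h2, neg_zero])
  rw [neg_neg] at hg
  refine ⟨g.1 * q1 * q, inQ_mul S π a hπ (inQ_mul S π a hπ (inQ_sub S a g) hq1) hq, ?_⟩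
  have e2 : colD S a u * rowR S a r' = rowR S a r' * g.1 * colD S a u := by
    rw [← hg, colD_neg]; group
  have e3 : g.1 * colD S a (u + v) = colD S a (v + (1 + r ⬝ᵥ v) • u) * g.1 := by
    have := colD_conj S π a hπ g (u + v)
    rw [hg2, Matrix.neg_vecMulVec, sub_neg_eq_add, Matrix.add_mulVec, Matrix.one_mulVec,
      Matrix.vecMulVec_mulVec, dotProduct_add, h2, zero_add, h1, op_smul_eq_smul] at this
    rw [show v + (1 + r ⬝ᵥ v) • u = u + v + (r ⬝ᵥ v) • u by rw [add_smul, one_smul]; abel, ← this]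
    group
  calc colD S a u * rowR S a r * colD S a v * q
      = colD S a u * (rowR S a r * colD S a v) * q := by group
    _ = colD S a u * (rowR S a r' * colD S a v * q1) * q := by rw [e1]
    _ = colD S a u * rowR S a r' * (colD S a v * q1 * q) := by group
    _ = rowR S a r' * (g.1 * (colD S a u * colD S a v)) * q1 * q := by rw [e2]; group
    _ = _ := by rw [← colD_add, e3]; group

omit S π hπ in
theorem exists_dual {u v : Idx a → K} (hu : ∀ c : K, u ≠ c • v) (hv : v ≠ 0) (ρ : K) :
    ∃ r : Idx a → K, r ⬝ᵥ v = ρ ∧ r ⬝ᵥ u = 0 := by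
  obtain ⟨l, hl⟩ := Function.ne_iff.1 hv
  rw [Pi.zero_apply] at hl
  obtain ⟨k, hk⟩ := Function.ne_iff.1 (hu (u l / v l))
  rw [Pi.smul_apply, smul_eq_mul] at hk
  have hΔ : v k * u l - v l * u k ≠ 0 := fun h => hk (by field_simp; linear_combination (-1 : K) * h)
  refine ⟨(ρ / (v k * u l - v l * u k)) • (Pi.single k (u l) - Pi.single l (u k)), ?_, ?_⟩
  · rw [smul_dotProduct, sub_dotProduct, single_dotProduct, single_dotProduct, smul_eq_mul]
    rw [show u l * v k - u k * v l = v k * u l - v l * u k by ring, div_mul_cancel₀ _ hΔ]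
  · rw [smul_dotProduct, sub_dotProduct, single_dotProduct, single_dotProduct, smul_eq_mul]
    rw [show u l * u k - u k * u l = 0 by ring, mul_zero]

theorem move_indep {u r v : Idx a → K} (q : G) (hq : InQ S a q) (hu : ∀ c : K, u ≠ c • v) :
    ∃ r' q', InQ S a q' ∧ r' ⬝ᵥ (v + (1 + r ⬝ᵥ v) • u) = r ⬝ᵥ v ∧
      colD S a u * rowR S a r * colD S a v * q =
        rowR S a r' * colD S a (v + (1 + r ⬝ᵥ v) • u) * q' := by
  by_cases h0 : r ⬝ᵥ v = 0
  · obtain ⟨q', hq', e⟩ := move S π a hπ (u := u) (r := r) (v := v) (r' := 0) q hq (by rw [zero_dotProduct, h0])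
      (zero_dotProduct _)
    exact ⟨0, q', hq', by rw [zero_dotProduct, h0], e⟩
  · have hv : v ≠ 0 := fun h => h0 (by rw [h, dotProduct_zero])
    obtain ⟨r', h1, h2⟩ := exists_dual a hu hv (r ⬝ᵥ v)
    obtain ⟨q', hq', e⟩ := move S π a hπ q hq h1 h2
    exact ⟨r', q', hq', by rw [dotProduct_add, dotProduct_smul, h1, h2, smul_zero, add_zero], e⟩

omit S π hπ in
theorem exists_not_line (hcard : 2 ≤ Fintype.card (Idx a)) (v : Idx a → K) :
    ∃ w : Idx a → K, ∀ c : K, w ≠ c • v := by
  obtain ⟨k, l, hkl⟩ := Fintype.exists_pair_of_one_lt_card (by omega : 1 < Fintype.card (Idx a))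
  by_contra! h
  obtain ⟨c, hc⟩ := h (Pi.single k 1)
  obtain ⟨d, hd⟩ := h (Pi.single l 1)
  have h1 := congrFun hc k
  have h2 := congrFun hd k
  have h3 := congrFun hd l
  simp [hkl] at h1 h2 h3
  rcases h2 with h2 | h2
  · simp [h2] at h3
  · simp [h2] at h1

/-- Either in the double coset, or of the special shape. -/
theorem reduce (hcard : 2 ≤ Fintype.card (Idx a)) (u r v : Idx a → K) (q : G) (hq : InQ S a q) :
    InR S a (colD S a u * rowR S a r * colD S a v * q) ∨
      ∃ c : K, u = c • v ∧ r ⬝ᵥ v ≠ 0 ∧ 1 + (1 + r ⬝ᵥ v) * c = 0 := by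
  by_cases h0 : r ⬝ᵥ v = 0
  · left
    obtain ⟨q', hq', e⟩ := move S π a hπ (u := u) (r := r) (v := v) (r' := 0) q hq (by rw [zero_dotProduct, h0])
      (zero_dotProduct _)
    exact ⟨_, _, q', hq', e⟩
  by_cases hu : ∀ c : K, u ≠ c • v
  · left
    obtain ⟨r', q', hq', -, e⟩ := move_indep S π a hπ q hq hu
    exact ⟨_, _, q', hq', e⟩
  push Not at hu
  obtain ⟨c, rfl⟩ := hu
  by_cases hs : 1 + (1 + r ⬝ᵥ v) * c = 0
  · exact Or.inr ⟨c, rfl, h0, hs⟩
  left
  have hv : v ≠ 0 := fun h => h0 (by rw [h, dotProduct_zero])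
  obtain ⟨w, hw⟩ := exists_not_line a hcard v
  have hw' : ∀ d : K, c • v - w ≠ d • v := fun d h => hw (c - d) (by rw [sub_smul, ← h]; abel)
  obtain ⟨r', q', hq', hr', e⟩ := move_indep S π a hπ (r := r) q hq hw'
  have key : ∀ d : K, w ≠ d • (v + (1 + r ⬝ᵥ v) • (c • v - w)) := by
    intro d h
    have h2 : (1 + d * (1 + r ⬝ᵥ v)) • w = (d * (1 + (1 + r ⬝ᵥ v) * c)) • v := by
      conv_lhs => rw [add_smul, one_smul]; arg 1; rw [h]
      simp only [smul_add, smul_sub, smul_smul]
      module
    by_cases hd : 1 + d * (1 + r ⬝ᵥ v) = 0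
    · rw [hd, zero_smul, eq_comm, smul_eq_zero] at h2
      rcases h2 with h2 | h2
      · rcases mul_eq_zero.1 h2 with h3 | h3
        · simp [h3] at hd
        · exact hs h3
      · exact hv h2
    · refine hw ((1 + d * (1 + r ⬝ᵥ v))⁻¹ * (d * (1 + (1 + r ⬝ᵥ v) * c))) ?_
      rw [← smul_smul, ← h2, smul_smul, inv_mul_cancel₀ hd, one_smul]
  obtain ⟨r'', q'', hq'', -, e'⟩ := move_indep S π a hπ (r := r') q' hq' key
  have e4 : colD S a (c • v) * rowR S a r * colD S a v * q =
      colD S a w * rowR S a r' * colD S a (v + (1 + r ⬝ᵥ v) • (c • v - w)) * q' := by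
    rw [show colD S a (c • v) = colD S a w * colD S a (c • v - w) by
      rw [← colD_add, add_sub_cancel]]
    simp only [mul_assoc] at e ⊢
    rw [e]
  exact ⟨_, _, q'', hq'', e4.trans e'⟩

/-- The set which is everything. -/
def InW (x : G) : Prop := ∃ u r v q, InQ S a q ∧ x = colD S a u * rowR S a r * colD S a v * q

theorem inW_colD {x : G} (w : Idx a → K) (hx : InW S a x) : InW S a (colD S a w * x) := by
  obtain ⟨u, r, v, q, hq, rfl⟩ := hx
  exact ⟨w + u, r, v, q, hq, by rw [colD_add]; group⟩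

theorem inW_sub {x : G} (g : Sub y a) (hx : InW S a x) : InW S a (g.1 * x) := by
  obtain ⟨u, r, v, q, hq, rfl⟩ := hx
  refine ⟨subRep π a hπ g *ᵥ u, r ᵥ* subRep π a hπ g⁻¹, subRep π a hπ g *ᵥ v, g.1 * q,
    inQ_mul S π a hπ (inQ_sub S a g) hq, ?_⟩
  rw [← colD_conj S π a hπ g u, ← colD_conj S π a hπ g v, ← rowR_conj S π a hπ g r]
  group

omit π hπ in
theorem inW_of_inR {x : G} (hx : InR S a x) : InW S a x := by
  obtain ⟨r, v, q, hq, rfl⟩ := hx
  exact ⟨0, r, v, q, hq, by rw [colD_zero, one_mul]⟩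

theorem inW_rowR (hcard : 2 ≤ Fintype.card (Idx a)) {x : G} (s : Idx a → K) (hx : InW S a x) :
    InW S a (rowR S a s * x) := by
  have base : ∀ s z, InR S a z → InR S a (rowR S a s * z) := by
    rintro s z ⟨r, v, q, hq, rfl⟩
    exact ⟨s + r, v, q, hq, by rw [rowR_add]; group⟩
  obtain ⟨u, r, v, q, hq, rfl⟩ := hx
  rcases reduce S π a hπ hcard u r v q hq with h | ⟨c, rfl, h0, hs⟩
  · exact inW_of_inR S a (base s _ h)
  obtain ⟨w, hw0, hsw⟩ : ∃ w : Idx a → K, w ≠ 0 ∧ s ⬝ᵥ w = 0 := by
    obtain ⟨k, l, hkl⟩ := Fintype.exists_pair_of_one_lt_card (by omega : 1 < Fintype.card (Idx a))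
    by_cases hsk : s k = 0
    · exact ⟨Pi.single k 1, by simp, by rw [dotProduct_single, hsk, zero_mul]⟩
    · refine ⟨Pi.single k (s l) - Pi.single l (s k), fun h => hsk ?_, ?_⟩
      · simpa [hkl, Ne.symm hkl] using congrFun h l
      · rw [dotProduct_sub, dotProduct_single, dotProduct_single, mul_comm, sub_self]
  have hρ : 1 + r ⬝ᵥ v ≠ 0 := fun h => by simp [h] at hs
  have hR : InR S a (colD S a w * (colD S a (c • v) * rowR S a r * colD S a v * q)) := by
    rw [← mul_assoc, ← mul_assoc, ← mul_assoc, ← colD_add]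
    rcases reduce S π a hπ hcard (w + c • v) r v q hq with h | ⟨d, hd, -, hd'⟩
    · exact h
    · exfalso
      have hv : v ≠ 0 := fun h => h0 (by rw [h, dotProduct_zero])
      have : d = c := mul_left_cancel₀ hρ (by linear_combination hd' - hs)
      subst this
      exact hw0 (add_right_cancel (hd.trans (zero_add _).symm))
  obtain ⟨g, hg⟩ := move_rel S π a hπ (w := -w) (s := s) (by rw [dotProduct_neg, hsw, neg_zero])
  rw [show rowR S a s * (colD S a (c • v) * rowR S a r * colD S a v * q) =
      colD S a (-w) * (rowR S a s *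
        (g.1 * (colD S a w * (colD S a (c • v) * rowR S a r * colD S a v * q)))) by
    rw [← mul_assoc (rowR S a s) g.1, ← mul_assoc (colD S a (-w)), ← hg, colD_neg]; group]
  refine inW_colD S π a hπ _ (inW_of_inR S a (base s _ ?_))
  obtain ⟨r', v', q', hq', e⟩ := hR
  rw [e]
  refine ⟨r' ᵥ* subRep π a hπ g⁻¹, subRep π a hπ g *ᵥ v', g.1 * q',
    inQ_mul S π a hπ (inQ_sub S a g) hq', ?_⟩
  rw [← colD_conj S π a hπ g v', ← rowR_conj S π a hπ g r']
  group

theorem inW_all (hcard : 2 ≤ Fintype.card (Idx a))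
    (hgen : Subgroup.closure (rootSet y) = ⊤) (x : G) : InW S a x := by
  have hgy : ∀ i j t, i ≠ j → ∀ z, InW S a z → InW S a (y i j t * z) := by
    intro i j t hij z hz
    by_cases hi : i = a
    · subst hi
      rw [← rowR_single S i ⟨j, hij.symm⟩ t]
      exact inW_rowR S π i hπ hcard _ hz
    by_cases hj : j = a
    · subst hj
      rw [← colD_single S j ⟨i, hi⟩ t]
      exact inW_colD S π j hπ _ hz
    exact inW_sub S π a hπ ⟨_, Subgroup.subset_closure ⟨i, j, t, hi, hj, hij, rfl⟩⟩ hz
  have hx : x ∈ Subgroup.closure (rootSet y) := hgen ▸ Subgroup.mem_top x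
  induction hx using Subgroup.closure_induction_left with
  | one => exact ⟨0, 0, 0, 1, ⟨0, 1, by simp [rowR_zero]⟩, by simp [colD_zero, rowR_zero]⟩
  | mul_left x hx z _ hz =>
    obtain ⟨i, j, t, hij, rfl⟩ := hx
    exact hgy i j t hij z hz
  | inv_mul_cancel x hx z _ hz =>
    obtain ⟨i, j, t, hij, rfl⟩ := hx
    rw [← y_neg S hij]
    exact hgy i j (-t) hij z hz

omit S π hπ in
/-- Extension of a vector by zero. -/
def ext0 (a : ι) (v : Idx a → K) : ι → K := fun i => if h : i ≠ a then v ⟨i, h⟩ else 0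

omit S π hπ in
theorem ext0_coe (v : Idx a → K) (i : Idx a) : ext0 a v i = v i := by
  simp [ext0, i.2]

omit S π hπ in
theorem ext0_self (v : Idx a → K) : ext0 a v a = 0 := by simp [ext0]

omit S π hπ in
theorem ext0_add (v w : Idx a → K) : ext0 a (v + w) = ext0 a v + ext0 a w := by
  funext i; by_cases h : i = a <;> simp [ext0, h]

omit S π hπ in
theorem ext0_single (i : Idx a) (t : K) : ext0 a (Pi.single i t) = Pi.single i.1 t := by
  funext x
  by_cases h : x = a
  · subst h; simp [ext0, Ne.symm i.2]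
  · simp [ext0, h, Pi.single_apply, Subtype.ext_iff]

theorem pi_colD (v : Idx a → K) :
    π (colD S a v) = 1 + vecMulVec (ext0 a v) (Pi.single a 1) := by
  refine pi_induction v ?_ ?_ ?_
  · rw [colD_zero, map_one, show ext0 a (0 : Idx a → K) = 0 by funext i; simp [ext0]]
    simp
  · intro v w hv hw
    rw [colD_add, map_mul, hv, hw, ext0_add, Matrix.add_vecMulVec, add_mul, one_mul, mul_add,
      mul_one, Matrix.vecMulVec_mul_vecMulVec, single_dotProduct, ext0_self]
    simp
    abel
  · intro i t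
    rw [colD_single, hπ _ _ _ i.2, ext0_single]
    ext p q
    simp [transvection, Matrix.single, vecMulVec_apply, Pi.single_apply]
    split_ifs <;> simp_all

theorem pi_rowR (v : Idx a → K) :
    π (rowR S a v) = 1 + vecMulVec (Pi.single a 1) (ext0 a v) := by
  refine pi_induction v ?_ ?_ ?_
  · rw [rowR_zero, map_one, show ext0 a (0 : Idx a → K) = 0 by funext i; simp [ext0]]
    simp
  · intro v w hv hw
    rw [rowR_add, map_mul, hv, hw, ext0_add, Matrix.vecMulVec_add, add_mul, one_mul, mul_add,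
      mul_one, Matrix.vecMulVec_mul_vecMulVec, dotProduct_single, ext0_self]
    simp
    abel
  · intro i t
    rw [rowR_single, hπ _ _ _ i.2.symm, ext0_single]
    ext p q
    simp [transvection, Matrix.single, vecMulVec_apply, Pi.single_apply]
    split_ifs <;> simp_all

omit S π hπ in
theorem ext0_dotProduct (r v : Idx a → K) : ext0 a r ⬝ᵥ ext0 a v = r ⬝ᵥ v := by
  simp only [dotProduct]
  rw [← Finset.add_sum_erase _ _ (Finset.mem_univ a), ext0_self, zero_mul, zero_add,
    Finset.sum_subtype (p := fun x => x ≠ a) (Finset.univ.erase a) (fun x => by simp)]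
  exact Finset.sum_congr rfl fun i _ => by rw [ext0_coe, ext0_coe]

theorem injective_step (hcard : 2 ≤ Fintype.card (Idx a))
    (hgen : Subgroup.closure (rootSet y) = ⊤)
    (ih : Function.Injective (subRep π a hπ)) : Function.Injective π := by
  rw [injective_iff_map_eq_one]
  intro g hg
  obtain ⟨u, r, v, q, ⟨s, h, rfl⟩, rfl⟩ := inW_all S π a hπ hcard hgen g
  have he : π h.1 *ᵥ Pi.single a 1 = Pi.single a 1 := by
    funext x
    rw [Matrix.mulVec_single_one, Matrix.col_apply, (fixes_of_mem π a hπ h.2 x).2]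
    simp [Matrix.one_apply, Pi.single_apply]
  have hcol := congrArg (fun M : Matrix ι ι K => M *ᵥ Pi.single a 1) hg
  simp only [map_mul, ← Matrix.mulVec_mulVec, he, Matrix.one_mulVec] at hcol
  simp only [pi_colD S π a hπ, pi_rowR S π a hπ, Matrix.add_mulVec, Matrix.one_mulVec,
    Matrix.mulVec_add, Matrix.vecMulVec_mulVec, op_smul_eq_smul, dotProduct_single, ext0_self,
    zero_mul, one_mul, zero_smul, add_zero, Pi.single_eq_same, one_smul, dotProduct_add,
    ext0_dotProduct, single_dotProduct, zero_add, mul_one] at hcol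
  have hρ : r ⬝ᵥ v = 0 := by
    have := congrFun hcol a
    simpa [ext0_self, Pi.single_eq_same] using this
  have huv : v = -u := by
    funext i
    have := congrFun hcol i.1
    simp [ext0_coe, i.2, hρ] at this
    rw [Pi.neg_apply]
    linear_combination this
  subst huv
  obtain ⟨g1, hg1, -⟩ := good_of_orth S π a hπ (v := -u) (r := r) hρ
  rw [neg_neg] at hg1
  rw [hg1] at hg ⊢
  obtain ⟨t, k, hk⟩ := inQ_mul S π a hπ (⟨r, g1, rfl⟩ : InQ S a (rowR S a r * g1.1))
    (⟨s, h, rfl⟩ : InQ S a (rowR S a s * h.1))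
  rw [hk] at hg ⊢
  have hR : π (rowR S a t) = π (k⁻¹).1 := by
    calc π (rowR S a t) = π (rowR S a t) * (π k.1 * π (k⁻¹).1) := by
          rw [← map_mul π k.1, InvMemClass.coe_inv, mul_inv_cancel, map_one, mul_one]
      _ = π (k⁻¹).1 := by rw [← mul_assoc, ← map_mul, hg, one_mul]
  have ht : t = 0 := by
    funext i
    have := congrFun (congrFun hR a) i.1
    rw [pi_rowR S π a hπ, (fixes_of_mem π a hπ (k⁻¹).2 i.1).1] at this
    simpa [vecMulVec_apply, ext0_coe] using this
  subst ht
  rw [rowR_zero, one_mul] at hg ⊢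
  have : k = 1 := ih (by
    rw [map_one]
    change (π k.1).submatrix _ _ = 1
    rw [hg]
    exact Matrix.submatrix_one _ Subtype.val_injective)
  rw [this, Subgroup.coe_one]

end Step

theorem injective_aux [Finite K] (m : ℕ) : ∀ (ι : Type uι) [Fintype ι] [DecidableEq ι],
    Fintype.card ι = m + 2 → ∀ (G : Type uG) [Group G] (y : ι → ι → K → G), StRel y →
      Subgroup.closure (rootSet y) = ⊤ → ∀ π : G →* Matrix ι ι K,
        (∀ i j t, i ≠ j → π (y i j t) = transvection i j t) → Function.Injective π := by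
  induction m with
  | zero =>
    intro ι _ _ hι G _ y S hgen π hπ
    exact injective_two hι S hgen π hπ
  | succ m ih =>
    intro ι _ _ hι G _ y S hgen π hπ
    obtain ⟨a⟩ : Nonempty ι := Fintype.card_pos_iff.1 (by omega)
    have hc : Fintype.card (Step.Idx a) = m + 2 := by
      rw [Fintype.card_subtype_compl, Fintype.card_subtype_eq]
      omega
    refine Step.injective_step S π a hπ (by omega) hgen (ih (Step.Idx a) hc _ (Step.subY y a)
      (Step.subY_rel S a) (Step.subY_gen a) _ ?_)
    intro i j t hij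
    rw [← Step.subRep_gen π a hπ i j t hij
      (Subgroup.subset_closure ⟨i, j, t, i.2, j.2, fun e => hij (Subtype.ext e), rfl⟩)]
    congr 1
    exact Subtype.ext (Step.subY_coe a hij t)

/-- A group with a generating Steinberg system of rank at least two embeds into the matrices. -/
theorem injective_of_stRel [Finite K] {ι : Type uι} [Fintype ι] [DecidableEq ι]
    (hι : 2 ≤ Fintype.card ι) {G : Type uG} [Group G] {y : ι → ι → K → G} (S : StRel y)
    (hgen : Subgroup.closure (rootSet y) = ⊤) (π : G →* Matrix ι ι K)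
    (hπ : ∀ i j t, i ≠ j → π (y i j t) = transvection i j t) : Function.Injective π :=
  injective_aux (Fintype.card ι - 2) ι (by omega) G y S hgen π hπ

end CfsgLib.KnownA.StSL
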