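import Cfsg.Agent.Lib.Chevalley.SteinbergKernel
import Cfsg.Prelude.Def_SteinbergCover

/-!
The group presented by Steinberg's relators (R1), (R2) only: the map onto the Chevalley group, Bruhat
decomposition and centrality of the kernel (the relators (R3) are never used).
-/

set_option autoImplicit false

namespace CfsgLib.Chevalley.Tbl

section

variable (T : Tbl) (F : Type*) [Field F]

/-- The generator of the presented group. -/
noncomputable def cX (r : ℕ) (t : F) : T.datum.SteinbergCover F := T.datum.scGen F r t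

/-- `n` in the presented group. -/
noncomputable def cN (r : ℕ) (t : F) : T.datum.SteinbergCover F :=
  T.cX F r t * T.cX F (T.neg r) (-t⁻¹) * T.cX F r t

/-- `h` in the presented group. -/
noncomputable def cH (r : ℕ) (t : F) : T.datum.SteinbergCover F := T.cN F r t * T.cN F r (-1)

/-- The subgroup generated by the root elements of the roots with a property. -/
def cGen (P : ℕ → Prop) : Subgroup (T.datum.SteinbergCover F) :=
  Subgroup.closure {g | ∃ r < T.n, P r ∧ ∃ t, g = T.cX F r t}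

variable {T} {F}

theorem cX_mem_cGen {P : ℕ → Prop} {r : ℕ} (hr : r < T.n) (hP : P r) (t : F) :
    T.cX F r t ∈ T.cGen F P :=
  Subgroup.subset_closure ⟨r, hr, hP, t, rfl⟩

theorem cGen_le {P : ℕ → Prop} {K : Subgroup (T.datum.SteinbergCover F)}
    (h : ∀ r < T.n, P r → ∀ t, T.cX F r t ∈ K) : T.cGen F P ≤ K :=
  (Subgroup.closure_le _).mpr (by rintro _ ⟨r, hr, hP, t, rfl⟩; exact h r hr hP t)

theorem cGen_mono {P Q : ℕ → Prop} (h : ∀ r < T.n, P r → Q r) : T.cGen F P ≤ T.cGen F Q :=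
  cGen_le fun r hr hP t => cX_mem_cGen hr (h r hr hP) t

theorem mk_cWord (w : List (ℕ × F)) :
    PresentedGroup.mk (T.datum.steinbergRelsAB F) (T.datum.stWord w) =
      (w.map fun p => T.cX F p.1 p.2).prod := by
  rw [Cfsg.Lie.ChevalleyDatum.stWord, map_list_prod, List.map_map]
  rfl

variable (hT : T.Valid)
include hT

theorem cX_add {r : ℕ} (hr : r < T.n) (s t : F) : T.cX F r s * T.cX F r t = T.cX F r (s + t) := by
  have h : (T.datum.stX r s * T.datum.stX r t * (T.datum.stX r (s + t))⁻¹) ∈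
      T.datum.steinbergRelsAB F := Or.inl ⟨r, s, t, hr, rfl⟩
  have := PresentedGroup.mk_eq_mk_of_mul_inv_mem h
  rw [map_mul] at this
  exact this

theorem cX_zero {r : ℕ} (hr : r < T.n) : T.cX F r 0 = 1 := by
  have := cX_add (F := F) hT hr 0 0
  rw [add_zero] at this
  exact mul_eq_left.mp this

theorem cX_inv {r : ℕ} (hr : r < T.n) (t : F) : (T.cX F r t)⁻¹ = T.cX F r (-t) :=
  inv_eq_of_mul_eq_one_right (by rw [cX_add hT hr, add_neg_cancel, cX_zero hT hr])

/-- The commutator relation. -/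
theorem ccomm {r s : ℕ} (hr : r < T.n) (hs : s < T.n) (hrs : s ≠ r) (hneg : s ≠ T.neg r) (t u : F) :
    T.cX F s u * T.cX F r t = T.cX F r t * T.cX F s u *
      ((T.commT r s).map fun c =>
        T.cX F c.1 ((c.2.1 : F) * (-t) ^ c.2.2.1 * u ^ c.2.2.2)).prod := by
  have h : (T.datum.stX s u)⁻¹ * (T.datum.stX r t)⁻¹ * T.datum.stX s u * T.datum.stX r t *
      (T.datum.stWord (T.datum.commWord F r s t u))⁻¹ ∈ T.datum.steinbergRelsAB F :=
    Or.inr ⟨r, s, t, u, hr, hs, hrs, by rwa [datum_neg hr], rfl⟩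
  have h' := PresentedGroup.mk_eq_mk_of_mul_inv_mem h
  rw [mk_cWord] at h'
  simp only [Cfsg.Lie.ChevalleyDatum.commWord, datum_commTerms hT hr hs, List.map_map,
    map_mul, map_inv] at h'
  have h2 : (T.cX F s u)⁻¹ * (T.cX F r t)⁻¹ * T.cX F s u * T.cX F r t =
      ((T.commT r s).map fun c =>
        T.cX F c.1 ((c.2.1 : F) * (-t) ^ c.2.2.1 * u ^ c.2.2.2)).prod := by
    simpa [Function.comp_def, cX, Cfsg.Lie.ChevalleyDatum.scGen] using h'
  rw [← h2]; group

theorem cX_mem_normalizer {P : ℕ → Prop} {r : ℕ} (hr : r < T.n)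
    (h : ∀ s < T.n, P s → s ≠ r → s ≠ T.neg r ∧ ∀ c ∈ T.commT r s, P c.1) (t : F) :
    T.cX F r t ∈ Subgroup.normalizer (T.cGen F P : Set (T.datum.SteinbergCover F)) := by
  have key : ∀ a : F, ∀ g ∈ T.cGen F P, (T.cX F r a)⁻¹ * g * T.cX F r a ∈ T.cGen F P := by
    intro a g hg
    induction hg using Subgroup.closure_induction with
    | mem x hx =>
      obtain ⟨s, hs, hP, u, rfl⟩ := hx
      by_cases hsr : s = r
      · subst hsr
        rw [cX_inv hT hr, cX_add hT hr, cX_add hT hr]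
        exact cX_mem_cGen hr hP _
      obtain ⟨hn, hc⟩ := h s hs hP hsr
      rw [mul_assoc, ccomm hT hr hs hsr hn, ← mul_assoc, ← mul_assoc, inv_mul_cancel, one_mul]
      refine mul_mem (cX_mem_cGen hs hP u) (list_prod_mem fun y hy => ?_)
      obtain ⟨c, hc', rfl⟩ := List.mem_map.mp hy
      exact cX_mem_cGen (commT_lt hT hr hs c hc') (hc c hc') _
    | one => simp
    | mul x y _ _ hx hy => simpa [mul_assoc] using mul_mem hx hy
    | inv x _ hx => simpa [mul_assoc] using inv_mem hx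
  refine Subgroup.mem_normalizer_iff.mpr fun g => ⟨fun hg => ?_, fun hg => ?_⟩
  · have := key (-t) g hg
    rwa [← cX_inv hT hr, inv_inv] at this
  · have := key t _ hg
    simpa [mul_assoc] using this

theorem exists_cX_of_mem_single {r : ℕ} (hr : r < T.n) {x : T.datum.SteinbergCover F}
    (hx : x ∈ T.cGen F (fun s => s = r)) : ∃ t, x = T.cX F r t := by
  induction hx using Subgroup.closure_induction with
  | mem z hz => obtain ⟨s, -, rfl, t, rfl⟩ := hz; exact ⟨t, rfl⟩
  | one => exact ⟨0, (cX_zero hT hr).symm⟩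
  | mul a b _ _ iha ihb =>
    obtain ⟨t, rfl⟩ := iha
    obtain ⟨t', rfl⟩ := ihb
    exact ⟨t + t', cX_add hT hr t t'⟩
  | inv a _ iha =>
    obtain ⟨t, rfl⟩ := iha
    exact ⟨-t, cX_inv hT hr t⟩

variable (hC : T.chkComm = true)
include hC

/-- The map onto the Chevalley group, into the general linear group. -/
noncomputable def covHom : T.datum.SteinbergCover F →* GL T.I F :=
  PresentedGroup.toGroup (f := fun p : Fin T.datum.nroots × F => T.xU F p.1.val p.2) (by
    have hX : ∀ r < T.n, ∀ t : F,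
        FreeGroup.lift (fun p : Fin T.datum.nroots × F => T.xU F p.1.val p.2) (T.datum.stX r t) =
          T.xU F r t := by
      intro r hr t
      rw [Cfsg.Lie.ChevalleyDatum.stX, dif_pos hr, FreeGroup.lift_apply_of]
    have hW : ∀ w : List (ℕ × F), (∀ p ∈ w, p.1 < T.n) →
        FreeGroup.lift (fun p : Fin T.datum.nroots × F => T.xU F p.1.val p.2) (T.datum.stWord w) =
          (w.map fun p => T.xU F p.1 p.2).prod := by
      intro w hw
      rw [Cfsg.Lie.ChevalleyDatum.stWord, map_list_prod, List.map_map]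
      exact congrArg List.prod (List.map_congr_left fun p hp => hX p.1 (hw p hp) p.2)
    rintro g (⟨r, t₁, t₂, hr, rfl⟩ | ⟨r, s, t, u, hr, hs, hrs, hneg, rfl⟩)
    · have hr' : r < T.n := hr
      simp only [map_mul, map_inv, hX r hr', xU_add hT hr', mul_inv_cancel]
    · have hr' : r < T.n := hr
      have hs' : s < T.n := hs
      rw [datum_neg hr'] at hneg
      simp only [map_mul, map_inv, hX r hr', hX s hs']
      rw [hW _ (by
        intro p hp
        simp only [Cfsg.Lie.ChevalleyDatum.commWord, datum_commTerms hT hr' hs', List.mem_map] at hp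
        obtain ⟨c, hc, rfl⟩ := hp
        exact commT_lt hT hr' hs' c hc)]
      simp only [Cfsg.Lie.ChevalleyDatum.commWord, datum_commTerms hT hr' hs', List.map_map,
        Function.comp_def]
      rw [mul_assoc _ (T.xU F s u) (T.xU F r t), comm_xU hT hC hr' hs' hrs hneg t u]
      group)

theorem covHom_cX {r : ℕ} (hr : r < T.n) (t : F) : covHom hT hC (T.cX F r t) = T.xU F r t := by
  rw [cX, Cfsg.Lie.ChevalleyDatum.scGen, Cfsg.Lie.ChevalleyDatum.stX, dif_pos hr]
  exact PresentedGroup.toGroup.of _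

theorem covHom_cN {r : ℕ} (hr : r < T.n) (t : F) : covHom hT hC (T.cN F r t) = T.nU F r t := by
  rw [cN, nU, map_mul, map_mul, covHom_cX hT hC hr, covHom_cX hT hC (neg_lt' hr)]

theorem covHom_cH {r : ℕ} (hr : r < T.n) (t : F) : covHom hT hC (T.cH F r t) = T.hU F r t := by
  rw [cH, hU, map_mul, covHom_cN hT hC hr, covHom_cN hT hC hr]

theorem covHom_cGen (P : ℕ → Prop) :
    (T.cGen F P).map (covHom hT hC) = T.rootGen F P := by
  rw [cGen, rootGen, MonoidHom.map_closure]
  refine congrArg _ (Set.ext fun g => ⟨?_, ?_⟩)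
  · rintro ⟨_, ⟨r, hr, hP, t, rfl⟩, rfl⟩
    exact ⟨r, hr, hP, t, covHom_cX hT hC hr t⟩
  · rintro ⟨r, hr, hP, t, rfl⟩
    exact ⟨_, ⟨r, hr, hP, t, rfl⟩, covHom_cX hT hC hr t⟩

/-- The map is injective on the unipotent subgroup of a positive system. -/
theorem covHom_inj_sys (hS : T.chkSorted = true) {n : GL T.I F} {π : Equiv.Perm (Fin T.n)} (hπ : π ∈ T.WP hT)
    (hm : T.Mono n π) {g : T.datum.SteinbergCover F}
    (hg : g ∈ T.cGen F (fun r => ∃ h : r < T.n, T.half ≤ (π ⟨r, h⟩).val))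
    (h1 : covHom hT hC g = 1) : g = 1 := by
  let P : ℕ → ℕ → Prop := fun k r => ∃ h : r < T.n, k ≤ (π ⟨r, h⟩).val
  have hnorm : ∀ k, T.half ≤ k → ∀ r : Fin T.n, T.half ≤ (π r).val → ∀ t : F,
      T.cX F r t ∈ Subgroup.normalizer (T.cGen F (P k) : Set (T.datum.SteinbergCover F)) := by
    intro k hk r hr t
    refine cX_mem_normalizer hT r.2 (fun s hs ⟨_, hks⟩ hne => ⟨fun e => ?_, fun c hc => ?_⟩) t
    · subst e
      have h2 : (π (T.negF r)).val < T.half := by rw [WP_negF hT hπ]; exact negF_lt hr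
      have h3 : (π (T.negF r)).val = (π ⟨T.neg r.val, hs⟩).val := rfl
      omega
    · refine ⟨commT_lt hT r.2 hs c hc, ?_⟩
      set w := π ⟨c.1, commT_lt hT r.2 hs c hc⟩ with hw
      have hco : ∀ j < T.rank, T.co w.val j =
          c.2.2.1 * T.co (π r).val j + c.2.2.2 * T.co (π ⟨s, hs⟩).val j := fun j hj =>
        commT_image hT hπ (r := r) (s := ⟨s, hs⟩) hc hj
      have hs' : T.half ≤ (π ⟨s, hs⟩).val := le_trans hk hks
      obtain ⟨hi, hj0, -⟩ := commT_co hT r.2 hs c hc
      exact le_trans hks (le_of_lt (index_lt_of_co hT hS (π r) (π ⟨s, hs⟩) w hr hs' c.2.2.1 c.2.2.2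
        hi hj0 hco))
  have main : ∀ m k, k + m = T.n → T.half ≤ k → ∀ g ∈ T.cGen F (P k), covHom hT hC g = 1 → g = 1 := by
    intro m
    induction m with
    | zero =>
      intro k hkm _ g hg _
      have : T.cGen F (P k) ≤ ⊥ := cGen_le fun r hr ⟨_, h⟩ => by
        have := (π ⟨r, hr⟩).2
        omega
      exact Subgroup.mem_bot.mp (this hg)
    | succ m ih =>
      intro k hkm hk g hg hg1
      have hkn : k < T.n := by omega
      set r := π⁻¹ ⟨k, hkn⟩ with hr
      have hπr : π r = ⟨k, hkn⟩ := π.apply_symm_apply _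
      have hle : T.cGen F (P k) ≤ T.cGen F (fun s => s = r.val) ⊔ T.cGen F (P (k + 1)) := by
        refine cGen_le fun s hs ⟨_, hks⟩ t => ?_
        rcases Nat.lt_or_ge k (π ⟨s, hs⟩).val with h | h
        · exact Subgroup.mem_sup_right (cX_mem_cGen (P := P (k + 1)) hs ⟨hs, h⟩ t)
        · refine Subgroup.mem_sup_left (cX_mem_cGen (P := fun s => s = r.val) hs ?_ t)
          have : (⟨s, hs⟩ : Fin T.n) = r := π.injective (by rw [hπr]; exact Fin.ext (by simp; omega))
          exact congrArg Fin.val this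
      have hn : T.cGen F (fun s => s = r.val) ≤
          Subgroup.normalizer (T.cGen F (P (k + 1)) : Set (T.datum.SteinbergCover F)) :=
        cGen_le fun s hs e t => by
          subst e
          exact hnorm (k + 1) (by omega) r (by rw [hπr]; exact hk) t
      have := hle hg
      rw [← SetLike.mem_coe, Subgroup.coe_mul_of_left_le_normalizer_right _ _ hn] at this
      obtain ⟨x, hx, y, hy, rfl⟩ := this
      have hsingle : ∃ t, x = T.cX F r t := exists_cX_of_mem_single hT r.2 hx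
      obtain ⟨t, rfl⟩ := hsingle
      obtain ⟨c, hc⟩ := hm.conj r
      rw [map_mul, covHom_cX hT hC r.2] at hg1
      have hy' : covHom hT hC y ∈ T.rootGen F (P (k + 1)) := by
        rw [← covHom_cGen hT hC]; exact ⟨y, hy, rfl⟩
      have hconj := conj_mem_rootGen hT hm (Q := fun s => k + 1 ≤ s)
        (fun s ⟨_, h⟩ => h) hy'
      have e : T.xU F k ((c : F) * t) * (n * covHom hT hC y * n⁻¹) = T.xU F k 0 * 1 := by
        have h2 := (hc t).1
        rw [hπr] at h2
        rw [xU_zero hT hkn, one_mul, show T.xU F k ((c : F) * t) * (n * covHom hT hC y * n⁻¹) =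
          T.xU F k ((c : F) * t) * n * covHom hT hC y * n⁻¹ by group, ← h2,
          mul_assoc n, hg1, mul_one, mul_inv_cancel]
      obtain ⟨ht, hy1⟩ := xU_mul_inj hT hC hk hkn hconj (one_mem _) e
      rw [conj_eq_one_iff] at hy1
      rw [mul_eq_zero, or_iff_right c.ne_zero] at ht
      show T.cX F r.val t * y = 1
      rw [ht, cX_zero hT r.2, one_mul]
      exact ih (k + 1) (by omega) (by omega) y hy hy1
  exact main T.half T.half (Nat.two_mul _).symm le_rfl g hg h1

end

section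

variable {T : Tbl} {F : Type*} [Field F] (hO : T.StOk)

/-- The map onto the Chevalley group. -/
noncomputable def StOk.chom (hO : T.StOk) (F : Type*) [Field F] :
    T.datum.SteinbergCover F →* GL T.I F :=
  covHom hO.valid hO.comm

/-- `g` moves root elements as its image does. -/
structure CLifts (hO : T.StOk) (g : T.datum.SteinbergCover F) (π : Equiv.Perm (Fin T.n)) : Prop where
  mono : T.Mono (hO.chom F g) π
  mem : π ∈ T.WP hO.valid
  conj : ∀ (s : Fin T.n) (t t' : F),
    hO.chom F g * T.xU F s t = T.xU F (π s) t' * hO.chom F g → g * T.cX F s t = T.cX F (π s) t' * g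

include hO

omit hO in
theorem CLifts.one {hO : T.StOk} : CLifts hO (1 : T.datum.SteinbergCover F) 1 where
  mono := by rw [map_one]; exact Mono.one
  mem := one_mem _
  conj s t t' h := by
    rw [map_one, one_mul, mul_one] at h
    rw [one_mul, mul_one]
    rw [Equiv.Perm.one_apply] at h ⊢
    rw [xU_inj hO.valid s.2 h]

omit hO in
theorem CLifts.mul {hO : T.StOk} {g g' : T.datum.SteinbergCover F} {π π' : Equiv.Perm (Fin T.n)}
    (h : CLifts hO g π) (h' : CLifts hO g' π') : CLifts hO (g * g') (π * π') where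
  mono := by rw [map_mul]; exact h.mono.mul h'.mono
  mem := mul_mem h.mem h'.mem
  conj s t t' e := by
    obtain ⟨c, hc⟩ := h'.mono.conj s
    have e1 := h'.conj s t _ (hc t).1
    rw [map_mul, mul_assoc, (hc t).1, ← mul_assoc, ← mul_assoc] at e
    have e2 := h.conj (π' s) _ t' (mul_right_cancel e)
    rw [mul_assoc, e1, ← mul_assoc, e2, mul_assoc]
    rfl

omit hO in
theorem CLifts.inv {hO : T.StOk} {g : T.datum.SteinbergCover F} {π : Equiv.Perm (Fin T.n)}
    (h : CLifts hO g π) : CLifts hO g⁻¹ π⁻¹ where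
  mono := by rw [map_inv]; exact h.mono.inv
  mem := inv_mem h.mem
  conj s t t' e := by
    have hs : π (π⁻¹ s) = s := π.apply_symm_apply s
    have := h.conj (π⁻¹ s) t' t (by
      rw [map_inv, inv_mul_eq_iff_eq_mul, ← mul_assoc, eq_mul_inv_iff_mul_eq] at e
      rw [hs]; exact e.symm)
    rw [hs] at this
    rw [inv_mul_eq_iff_eq_mul, ← mul_assoc, eq_mul_inv_iff_mul_eq]
    exact this.symm

omit hO in
theorem CLifts.conj_gen {hO : T.StOk} {g : T.datum.SteinbergCover F} {π : Equiv.Perm (Fin T.n)}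
    (h : CLifts hO g π) {P Q : ℕ → Prop} (hPQ : ∀ s : Fin T.n, P s.val → Q (π s).val)
    {x : T.datum.SteinbergCover F} (hx : x ∈ T.cGen F P) : g * x * g⁻¹ ∈ T.cGen F Q := by
  induction hx using Subgroup.closure_induction with
  | mem x hx =>
    obtain ⟨r, hr, hP, t, rfl⟩ := hx
    obtain ⟨c, hc⟩ := h.mono.conj ⟨r, hr⟩
    rw [h.conj ⟨r, hr⟩ t _ (hc t).1, mul_inv_cancel_right]
    exact cX_mem_cGen (π _).2 (hPQ ⟨r, hr⟩ hP) _
  | one => simp
  | mul x y _ _ hx hy => simpa [mul_assoc] using mul_mem hx hy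
  | inv x _ hx => simpa [mul_assoc] using inv_mem hx

/-- Two elements of the unipotent group of a positive system with the same image are equal. -/
theorem ceq_of_sys {n : GL T.I F} {π : Equiv.Perm (Fin T.n)} (hπ : π ∈ T.WP hO.valid)
    (hm : T.Mono n π) {x y : T.datum.SteinbergCover F} {P : ℕ → Prop}
    (hP : ∀ r : Fin T.n, P r.val → T.half ≤ (π r).val) (hx : x ∈ T.cGen F P) (hy : y ∈ T.cGen F P)
    (h : hO.chom F x = hO.chom F y) : x = y := by
  refine mul_inv_eq_one.mp (covHom_inj_sys hO.valid hO.comm hO.sorted hπ hm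
    (cGen_mono (fun r hr hp => ⟨hr, hP ⟨r, hr⟩ hp⟩) (mul_mem hx (inv_mem hy))) ?_)
  rw [map_mul, map_inv, show covHom hO.valid hO.comm x = hO.chom F y from h]
  exact mul_inv_cancel _

theorem chom_cX {r : ℕ} (hr : r < T.n) (t : F) : hO.chom F (T.cX F r t) = T.xU F r t :=
  covHom_cX hO.valid hO.comm hr t

theorem chom_cN {r : ℕ} (hr : r < T.n) (t : F) : hO.chom F (T.cN F r t) = T.nU F r t :=
  covHom_cN hO.valid hO.comm hr t

theorem chom_cH {r : ℕ} (hr : r < T.n) (t : F) : hO.chom F (T.cH F r t) = T.hU F r t :=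
  covHom_cH hO.valid hO.comm hr t

theorem cN_neg {r : ℕ} (hr : r < T.n) (t : F) : T.cN F r (-t) = (T.cN F r t)⁻¹ := by
  rw [cN, cN, mul_inv_rev, mul_inv_rev, cX_inv hO.valid hr, cX_inv hO.valid (neg_lt' hr), mul_assoc,
    inv_neg, _root_.neg_neg]

theorem cH_eq {r : ℕ} (hr : r < T.n) (t : F) : T.cN F r t = T.cH F r t * T.cN F r 1 := by
  rw [cH, cN_neg hO hr (1 : F), inv_mul_cancel_right]

/-- `Ū_p` is normalised by `X̄_{±p}`, for either sign. -/
theorem cX_simple_normalizer {i r : ℕ} (hi : i < T.rank)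
    (hr : r = T.simple i ∨ r = T.neg (T.simple i)) (t : F) :
    T.cX F r t ∈ Subgroup.normalizer
      (T.cGen F (fun s => T.half ≤ s ∧ s ≠ T.simple i) : Set (T.datum.SteinbergCover F)) ∧
    T.cX F r t ∈ Subgroup.normalizer
      (T.cGen F (fun s => s < T.half ∧ s ≠ T.neg (T.simple i)) : Set (T.datum.SteinbergCover F)) := by
  have hT := hO.valid
  have hp := simple_lt hT hi
  have hpp := simple_pos' hT hi
  have hrn : r < T.n := by rcases hr with rfl | rfl; exacts [hp, neg_lt' hp]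
  have hr0 : ∀ k < T.rank, k ≠ i → T.co r k = 0 := by
    intro k hk hki
    rcases hr with rfl | rfl
    · rw [co_simple hT hi hk, if_neg hki]
    · rw [co_neg hT hp hk, co_simple hT hi hk, if_neg hki, _root_.neg_zero]
  constructor
  · refine cX_mem_normalizer hT hrn (fun s hs ⟨hsp, hsne⟩ hsr => ⟨?_, fun c hc => ?_⟩) t
    · rcases hr with rfl | rfl
      · unfold neg n at *; omega
      · rw [neg_neg' hp]; exact hsne
    obtain ⟨k, hk, hki, hpos⟩ := ne_simple_neg hT hi hs hsp hsne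
    obtain ⟨-, hj, hco⟩ := commT_co hT hrn hs c hc
    have hck : 0 < T.co c.1 k := by
      rw [hco k hk, hr0 k hk hki, mul_zero, zero_add]
      exact mul_pos (by exact_mod_cast hj) hpos
    refine ⟨half_le_of_co hT (commT_lt hT hrn hs c hc) hk hck, fun e => ?_⟩
    rw [e, co_simple hT hi hk, if_neg hki] at hck
    exact lt_irrefl _ hck
  · refine cX_mem_normalizer hT hrn (fun s hs ⟨hsp, hsne⟩ hsr => ⟨?_, fun c hc => ?_⟩) t
    · rcases hr with rfl | rfl
      · exact hsne
      · rw [neg_neg' hp]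
        intro e; rw [e] at hsp; omega
    have hns : T.neg s ≠ T.simple i := fun e => hsne (by rw [← e, neg_neg' hs])
    obtain ⟨k, hk, hki, hpos⟩ := ne_simple_neg hT hi (neg_lt' hs) (le_negF (s := ⟨s, hs⟩) hsp) hns
    obtain ⟨-, hj, hco⟩ := commT_co hT hrn hs c hc
    have hcn := commT_lt hT hrn hs c hc
    have hck : 0 < T.co (T.neg c.1) k := by
      rw [co_neg hT hs hk] at hpos
      rw [co_neg hT hcn hk, hco k hk, hr0 k hk hki, mul_zero, zero_add, ← mul_neg]
      exact mul_pos (by exact_mod_cast hj) hpos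
    have h1 : T.half ≤ T.neg c.1 := half_le_of_co hT (neg_lt' hcn) hk hck
    refine ⟨by unfold neg n at *; omega, fun e => ?_⟩
    rw [e, neg_neg' hp, co_simple hT hi hk, if_neg hki] at hck
    exact lt_irrefl _ hck

/-- The fundamental `n`'s lift. -/
theorem lifts_cN (i : Fin T.rank) {t₀ : F} (ht₀ : t₀ ≠ 0) :
    CLifts hO (T.cN F (T.simple i) t₀) (T.refP hO.valid i) := by
  have hT := hO.valid
  have hp := simple_lt hT i.2
  have hmem : T.refP hT i ∈ T.WP hT := Subgroup.subset_closure ⟨i, rfl⟩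
  -- other roots
  have hother : ∀ t₀ : F, t₀ ≠ 0 → ∀ s : Fin T.n, s ≠ T.simpF hT i → s ≠ T.negF (T.simpF hT i) →
      ∀ t t' : F, T.nU F (T.simple i) t₀ * T.xU F s t =
        T.xU F (T.refP hT i s) t' * T.nU F (T.simple i) t₀ →
      T.cN F (T.simple i) t₀ * T.cX F s t = T.cX F (T.refP hT i s) t' * T.cN F (T.simple i) t₀ := by
    intro t₀ ht₀ s hne hne' t t' e
    have hN : ∀ Q : ℕ → Prop, (∀ r z, r = T.simple i ∨ r = T.neg (T.simple i) →
        T.cX F r z ∈ Subgroup.normalizer (T.cGen F Q : Set (T.datum.SteinbergCover F))) →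
        T.cN F (T.simple i) t₀ ∈ Subgroup.normalizer (T.cGen F Q : Set (T.datum.SteinbergCover F)) :=
      fun Q h => mul_mem (mul_mem (h _ _ (Or.inl rfl)) (h _ _ (Or.inr rfl))) (h _ _ (Or.inl rfl))
    suffices H : T.cN F (T.simple i) t₀ * T.cX F s t * (T.cN F (T.simple i) t₀)⁻¹ =
        T.cX F (T.refP hT i s) t' by
      rw [← H, inv_mul_cancel_right]
    have himg : hO.chom F (T.cN F (T.simple i) t₀ * T.cX F s t * (T.cN F (T.simple i) t₀)⁻¹) =
        hO.chom F (T.cX F (T.refP hT i s) t') := by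
      rw [map_mul, map_mul, map_inv, chom_cN hO hp, chom_cX hO s.2, chom_cX hO (T.refP hT i s).2, e,
        mul_inv_cancel_right]
    have hne2 : T.refP hT i s ≠ T.simpF hT i := fun h => hne' (by
      apply (T.refP hT i).injective
      rw [h, WP_negF hT hmem, refP_simpF, negF_negF])
    rcases Nat.lt_or_ge s.val T.half with hs | hs
    · obtain ⟨n, hn, w, hm, hw⟩ := exists_longest (F := F) hT
      obtain ⟨w', hw', hm'⟩ := exists_mono hT hn
      obtain rfl := hm.unique hm'
      have hneg : ∀ r : Fin T.n, r.val < T.half → T.half ≤ (w r).val := by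
        intro r hr
        have h1 := hw (T.negF r) (le_negF hr)
        rw [hm.negEq] at h1
        by_contra h2
        exact absurd h1 (not_lt.mpr (le_negF (not_le.mp h2)))
      refine ceq_of_sys hO hw' hm (P := fun r => r < T.half ∧ r ≠ T.neg (T.simple i))
        (fun r hr => hneg r hr.1) ?_ ?_ himg
      · refine (Subgroup.mem_normalizer_iff.mp (hN _ fun r z hr =>
          (cX_simple_normalizer hO i.2 hr z).2) _).mp ?_
        exact cX_mem_cGen (P := fun r => r < T.half ∧ r ≠ T.neg (T.simple i)) s.2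
          ⟨hs, fun h => hne' (Fin.ext h)⟩ t
      · refine cX_mem_cGen (P := fun r => r < T.half ∧ r ≠ T.neg (T.simple i)) (T.refP hT i s).2
          ⟨?_, fun h => hne ?_⟩ t'
        · have h1 := refP_pos hT (i := i) (le_negF hs) (fun h => hne' (by rw [← h, negF_negF]))
          rw [WP_negF hT hmem] at h1
          by_contra h2
          exact absurd h1 (not_le.mpr (negF_lt (not_lt.mp h2)))
        · apply (T.refP hT i).injective
          rw [refP_simpF]; exact Fin.ext h
    · refine ceq_of_sys hO (one_mem _) Mono.one (P := fun r => T.half ≤ r ∧ r ≠ T.simple i)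
        (fun r hr => hr.1) ?_ ?_ himg
      · refine (Subgroup.mem_normalizer_iff.mp (hN _ fun r z hr =>
          (cX_simple_normalizer hO i.2 hr z).1) _).mp ?_
        exact cX_mem_cGen (P := fun r => T.half ≤ r ∧ r ≠ T.simple i) s.2
          ⟨hs, fun h => hne (Fin.ext h)⟩ t
      · exact cX_mem_cGen (P := fun r => T.half ≤ r ∧ r ≠ T.simple i) (T.refP hT i s).2
          ⟨refP_pos hT hs hne, fun h => hne2 (Fin.ext h)⟩ t'
  -- the root itself
  have hself : ∀ t₀ : F, t₀ ≠ 0 → ∀ v t' : F, T.nU F (T.simple i) t₀ * T.xU F (T.simple i) v =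
        T.xU F (T.neg (T.simple i)) t' * T.nU F (T.simple i) t₀ →
      T.cN F (T.simple i) t₀ * T.cX F (T.simple i) v =
        T.cX F (T.neg (T.simple i)) t' * T.cN F (T.simple i) t₀ := by
    intro t₀ ht₀ v t' e
    obtain ⟨k, hki, hpos, hsplit⟩ := exists_split (F := F) hO i
    let Q : ℕ → Prop := fun r =>
      ∃ h : r < T.n, T.half ≤ (T.refP hT k ⟨r, h⟩).val ∧ r ≠ T.simple i
    let P : ℕ → Prop := fun r => ∃ h : r < T.n, T.half ≤ (T.refP hT k ⟨r, h⟩).val
    let P' : ℕ → Prop := fun r => ∃ h : r < T.n, T.half ≤ ((T.refP hT k * T.refP hT i) ⟨r, h⟩).val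
    have hkmem : T.refP hT k ∈ T.WP hT := Subgroup.subset_closure ⟨k, rfl⟩
    obtain ⟨y, hy, hye⟩ : ∃ y ∈ T.cGen F Q, hO.chom F y = T.xU F (T.simple i) v := by
      have h := hsplit v
      rw [← covHom_cGen hT hO.comm] at h
      exact h
    have hyx : y = T.cX F (T.simple i) v := by
      refine ceq_of_sys hO hkmem (mono_nU_simple (F := F) hT k) (P := P) (fun r ⟨_, h⟩ => h)
        (cGen_mono (fun r _ ⟨h, h', _⟩ => ⟨h, h'⟩) hy)
        (cX_mem_cGen (P := P) hp ⟨hp, hpos⟩ v) ?_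
      rw [hye, chom_cX hO hp]
    set N := T.cN F (T.simple i) t₀ with hN
    have hmN := mono_nU_simple_t hO i ht₀
    have hgen : ∀ z ∈ T.cGen F Q, N * z * N⁻¹ ∈ T.cGen F P' := by
      intro z hz
      induction hz using Subgroup.closure_induction with
      | mem x hx =>
        obtain ⟨r, hr, ⟨_, hrk, hra⟩, a, rfl⟩ := hx
        obtain ⟨c, hc⟩ := hmN.conj ⟨r, hr⟩
        have hne' : (⟨r, hr⟩ : Fin T.n) ≠ T.negF (T.simpF hT i) := fun h => by
          rw [h, WP_negF hT hkmem] at hrk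
          exact absurd hrk (not_le.mpr (negF_lt hpos))
        rw [hN, hother t₀ ht₀ ⟨r, hr⟩ (fun h => hra (congrArg Fin.val h)) hne' a _ (hc a).1,
          mul_inv_cancel_right]
        refine cX_mem_cGen (P := P') (T.refP hT i ⟨r, hr⟩).2 ⟨(T.refP hT i ⟨r, hr⟩).2, ?_⟩ _
        rw [Equiv.Perm.mul_apply, show T.refP hT i (T.refP hT i ⟨r, hr⟩) = ⟨r, hr⟩ from
          Fin.ext (refl_refl hT i.2 hr)]
        exact hrk
      | one => simp
      | mul x y _ _ hx hy => simpa [mul_assoc] using mul_mem hx hy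
      | inv x _ hx => simpa [mul_assoc] using inv_mem hx
    have h1 : N * T.cX F (T.simple i) v * N⁻¹ = T.cX F (T.neg (T.simple i)) t' := by
      refine ceq_of_sys hO (mul_mem hkmem hmem)
        ((mono_nU_simple (F := F) hT k).mul (mono_nU_simple (F := F) hT i)) (P := P')
        (fun r ⟨_, h⟩ => h) ?_ ?_ ?_
      · have := hgen y hy
        rwa [hyx] at this
      · refine cX_mem_cGen (P := P') (neg_lt' hp) ⟨neg_lt' hp, ?_⟩ t'
        show T.half ≤ ((T.refP hT k * T.refP hT i) (T.negF (T.simpF hT i))).val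
        rw [Equiv.Perm.mul_apply, WP_negF hT hmem, refP_simpF, negF_negF]
        exact hpos
      · rw [map_mul, map_mul, map_inv, hN, chom_cN hO hp, chom_cX hO hp, chom_cX hO (neg_lt' hp), e,
          mul_inv_cancel_right]
    rw [← h1, inv_mul_cancel_right]
  refine ⟨?_, hmem, fun s t t' e => ?_⟩
  · rw [chom_cN hO hp]; exact mono_nU_simple_t hO i ht₀
  rw [chom_cN hO hp] at e
  by_cases h1 : s = T.simpF hT i
  · subst h1
    rw [refP_simpF] at e ⊢
    exact hself t₀ ht₀ t t' e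
  by_cases h2 : s = T.negF (T.simpF hT i)
  · subst h2
    rw [WP_negF hT hmem, refP_simpF, negF_negF] at e ⊢
    have hneg : T.nU F (T.simple i) (-t₀) = (T.nU F (T.simple i) t₀)⁻¹ := by
      rw [← chom_cN hO hp, cN_neg hO hp, map_inv, chom_cN hO hp]
    have h3 := hself (-t₀) (neg_ne_zero.mpr ht₀) t' t (by
      rw [hneg, inv_mul_eq_iff_eq_mul, ← mul_assoc, eq_mul_inv_iff_mul_eq]
      exact e.symm)
    rw [cN_neg hO hp, inv_mul_eq_iff_eq_mul, ← mul_assoc, eq_mul_inv_iff_mul_eq] at h3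
    exact h3.symm
  exact hother t₀ ht₀ s h1 h2 t t' e

end

section

variable {T : Tbl} {F : Type*} [Field F]

/-- Word in the fundamental `n`'s. -/
noncomputable def cnw (T : Tbl) (F : Type*) [Field F] (l : List (Fin T.rank)) :
    T.datum.SteinbergCover F :=
  (l.map fun i => T.cN F (T.simple i.val) 1).prod

/-- The subgroup generated by the fundamental `h`'s. -/
def cDiag (T : Tbl) (F : Type*) [Field F] : Subgroup (T.datum.SteinbergCover F) :=
  Subgroup.closure {h | ∃ i < T.rank, ∃ t : F, t ≠ 0 ∧ h = T.cH F (T.simple i) t}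

/-- `B̄ = Ū H̄`. -/
def cBorel (T : Tbl) (F : Type*) [Field F] : Subgroup (T.datum.SteinbergCover F) :=
  T.cGen F (fun r => T.half ≤ r) ⊔ T.cDiag F

/-- `N̄`. -/
def cMon (T : Tbl) (F : Type*) [Field F] : Subgroup (T.datum.SteinbergCover F) :=
  Subgroup.closure {n | ∃ i < T.rank, ∃ t : F, t ≠ 0 ∧ n = T.cN F (T.simple i) t}

variable (hO : T.StOk)
include hO

theorem cH_mem_cDiag (i : Fin T.rank) {t : F} (ht : t ≠ 0) : T.cH F (T.simple i) t ∈ T.cDiag F :=
  Subgroup.subset_closure ⟨i, i.2, t, ht, rfl⟩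

theorem cDiag_le_cMon : T.cDiag F ≤ T.cMon F := by
  refine (Subgroup.closure_le _).mpr ?_
  rintro _ ⟨i, hi, t, ht, rfl⟩
  exact mul_mem (Subgroup.subset_closure ⟨i, hi, t, ht, rfl⟩)
    (Subgroup.subset_closure ⟨i, hi, -1, neg_ne_zero.mpr one_ne_zero, rfl⟩)

theorem exists_clifts {g : T.datum.SteinbergCover F} (hg : g ∈ T.cMon F) : ∃ π, CLifts hO g π := by
  induction hg using Subgroup.closure_induction with
  | mem x hx =>
    obtain ⟨i, hi, t, ht, rfl⟩ := hx
    exact ⟨_, lifts_cN hO ⟨i, hi⟩ ht⟩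
  | one => exact ⟨1, CLifts.one⟩
  | mul x y _ _ hx hy =>
    obtain ⟨π, h⟩ := hx
    obtain ⟨π', h'⟩ := hy
    exact ⟨_, h.mul h'⟩
  | inv x _ hx =>
    obtain ⟨π, h⟩ := hx
    exact ⟨_, h.inv⟩

theorem lifts_cDiag {g : T.datum.SteinbergCover F} (hg : g ∈ T.cDiag F) : CLifts hO g 1 := by
  induction hg using Subgroup.closure_induction with
  | mem x hx =>
    obtain ⟨i, hi, t, ht, rfl⟩ := hx
    have := (lifts_cN hO ⟨i, hi⟩ ht).mul
      (lifts_cN hO ⟨i, hi⟩ (F := F) (neg_ne_zero.mpr one_ne_zero))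
    rwa [refP_mul_self] at this
  | one => exact CLifts.one
  | mul x y _ _ hx hy => simpa using hx.mul hy
  | inv x _ hx => simpa using hx.inv

theorem chom_cDiag {g : T.datum.SteinbergCover F} (hg : g ∈ T.cDiag F) :
    hO.chom F g ∈ T.datum.diagonalSubgroup F := by
  induction hg using Subgroup.closure_induction with
  | mem x hx =>
    obtain ⟨i, hi, t, ht, rfl⟩ := hx
    rw [chom_cH hO (simple_lt hO.valid hi), show t = ((Units.mk0 t ht : Fˣ) : F) from rfl,
      hU_eq hO.valid (simple_lt hO.valid hi), diagonalSubgroup_eq hO.valid]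
    exact Subgroup.subset_closure ⟨_, simple_lt hO.valid hi, _, rfl⟩
  | one => rw [map_one]; exact one_mem _
  | mul x y _ _ hx hy => rw [map_mul]; exact mul_mem hx hy
  | inv x _ hx => rw [map_inv]; exact inv_mem hx

/-- CLifts transport a fundamental `n` to another. -/
theorem CLifts.conj_cN {g : T.datum.SteinbergCover F} {π : Equiv.Perm (Fin T.n)} (h : CLifts hO g π)
    {i j : Fin T.rank} (hij : π (T.simpF hO.valid i) = T.simpF hO.valid j) :
    ∃ c : Fˣ, ∀ t : F, g * T.cN F (T.simple i) t = T.cN F (T.simple j) ((c : F) * t) * g := by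
  have hT := hO.valid
  obtain ⟨c, hc⟩ := h.mono.conj (T.simpF hT i)
  refine ⟨c, fun t => ?_⟩
  have e1 := fun u => h.conj (T.simpF hT i) u _ (hc u).1
  have e2 : ∀ u, g * T.cX F (T.neg (T.simple i)) u =
      T.cX F (T.neg (T.simple j)) (((c⁻¹ : Fˣ) : F) * u) * g := by
    intro u
    have h1 := (hc u).2
    have hn : π (T.negF (T.simpF hT i)) = T.negF (T.simpF hT j) := by rw [h.mono.negEq, hij]
    have := h.conj (T.negF (T.simpF hT i)) u (((c⁻¹ : Fˣ) : F) * u) (by
      rw [hn]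
      rw [hij] at h1
      exact h1)
    rw [hn] at this
    exact this
  rw [hij] at e1
  change ∀ u, g * T.cX F (T.simple i) u = T.cX F (T.simple j) ((c : F) * u) * g at e1
  rw [cN, cN, ← mul_assoc, ← mul_assoc, e1, mul_assoc (T.cX F (T.simple j) _) g, e2,
    ← mul_assoc (T.cX F (T.simple j) _),
    mul_assoc (T.cX F (T.simple j) _ * T.cX F (T.neg (T.simple j)) _) g, e1, ← mul_assoc,
    show ((c⁻¹ : Fˣ) : F) * -t⁻¹ = -((c : F) * t)⁻¹ by
      rw [Units.val_inv_eq_inv_val, _root_.mul_inv, mul_neg]]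

/-- `H̄` is normalised by `N̄`. -/
theorem cN_conj_cDiag (i : Fin T.rank) {t : F} (ht : t ≠ 0) {g : T.datum.SteinbergCover F}
    (hg : g ∈ T.cDiag F) :
    T.cN F (T.simple i) t * g * (T.cN F (T.simple i) t)⁻¹ ∈ T.cDiag F := by
  have hT := hO.valid
  obtain ⟨c, hc⟩ := (lifts_cDiag hO hg).conj_cN hO (i := i) (j := i) rfl
  have e : T.cN F (T.simple i) t * g * (T.cN F (T.simple i) t)⁻¹ =
      T.cN F (T.simple i) t * (T.cN F (T.simple i) ((c : F) * t))⁻¹ * g := by
    have h1 := hc t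
    rw [← eq_mul_inv_iff_mul_eq] at h1
    calc _ = T.cN F (T.simple i) t * (T.cN F (T.simple i) ((c : F) * t))⁻¹ *
        (T.cN F (T.simple i) ((c : F) * t) * g) * (T.cN F (T.simple i) t)⁻¹ := by group
      _ = _ := by rw [← hc t]; group
  rw [e, cH_eq hO (simple_lt hT i.2) t, cH_eq hO (simple_lt hT i.2) ((c : F) * t)]
  refine mul_mem ?_ hg
  rw [mul_inv_rev, ← mul_assoc, mul_inv_cancel_right]
  exact mul_mem (cH_mem_cDiag hO i ht) (inv_mem (cH_mem_cDiag hO i (mul_ne_zero c.ne_zero ht)))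

theorem cMon_normalizer {n g : T.datum.SteinbergCover F} (hn : n ∈ T.cMon F) (hg : g ∈ T.cDiag F) :
    n * g * n⁻¹ ∈ T.cDiag F := by
  have key : n * g * n⁻¹ ∈ T.cDiag F ∧ n⁻¹ * g * n ∈ T.cDiag F := by
    clear * - hn hg hO
    induction hn using Subgroup.closure_induction generalizing g with
    | mem x hx =>
      obtain ⟨i, hi, t, ht, rfl⟩ := hx
      refine ⟨cN_conj_cDiag hO ⟨i, hi⟩ ht hg, ?_⟩
      have := cN_conj_cDiag hO ⟨i, hi⟩ (neg_ne_zero.mpr ht) hg
      rwa [cN_neg hO (simple_lt hO.valid hi), inv_inv] at this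
    | one => simpa using hg
    | mul x y _ _ hx hy =>
      exact ⟨by simpa [mul_assoc] using (hx (hy hg).1).1, by simpa [mul_assoc] using (hy (hx hg).2).2⟩
    | inv x _ hx => exact ⟨by simpa using (hx hg).2, by simpa using (hx hg).1⟩
  exact key.1

theorem cnw_mem (l : List (Fin T.rank)) : T.cnw F l ∈ T.cMon F := by
  refine list_prod_mem fun x hx => ?_
  obtain ⟨i, -, rfl⟩ := List.mem_map.mp hx
  exact Subgroup.subset_closure ⟨i, i.2, 1, one_ne_zero, rfl⟩

theorem lifts_cnw (l : List (Fin T.rank)) : CLifts hO (T.cnw F l) (T.pw hO.valid l) := by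
  induction l with
  | nil => exact CLifts.one
  | cons i l ih => exact (lifts_cN hO i one_ne_zero).mul ih

theorem cN_sq_mem (i : Fin T.rank) : T.cN F (T.simple i) 1 * T.cN F (T.simple i) 1 ∈ T.cDiag F := by
  have h := cH_mem_cDiag (F := F) hO i (neg_ne_zero.mpr (one_ne_zero (α := F)))
  rw [cH, cN_neg hO (simple_lt hO.valid i.2), ← mul_inv_rev] at h
  simpa using inv_mem h

theorem exists_cnw {g : T.datum.SteinbergCover F} (hg : g ∈ T.cMon F) :
    ∃ h ∈ T.cDiag F, ∃ l, g = h * T.cnw F l := by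
  have hstep : ∀ (i : Fin T.rank) (t : F), t ≠ 0 → ∀ h ∈ T.cDiag F, ∀ l,
      ∃ h' ∈ T.cDiag F, T.cN F (T.simple i) t * (h * T.cnw F l) = h' * T.cnw F (i :: l) := by
    intro i t ht h hh l
    refine ⟨T.cH F (T.simple i) t * (T.cN F (T.simple i) 1 * h * (T.cN F (T.simple i) 1)⁻¹),
      mul_mem (cH_mem_cDiag hO i ht) (cN_conj_cDiag hO i one_ne_zero hh), ?_⟩
    rw [cH_eq hO (simple_lt hO.valid i.2) t,
      show T.cnw F (i :: l) = T.cN F (T.simple i) 1 * T.cnw F l from rfl]
    group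
  induction hg using Subgroup.closure_induction_left with
  | one => exact ⟨1, one_mem _, [], by simp [cnw]⟩
  | mul_left x hx y hy ih =>
    obtain ⟨i, hi, t, ht, rfl⟩ := hx
    obtain ⟨h, hh, l, rfl⟩ := ih
    obtain ⟨h', hh', e⟩ := hstep ⟨i, hi⟩ t ht h hh l
    exact ⟨h', hh', _, e⟩
  | inv_mul_cancel x hx y hy ih =>
    obtain ⟨i, hi, t, ht, rfl⟩ := hx
    obtain ⟨h, hh, l, rfl⟩ := ih
    obtain ⟨h', hh', e⟩ := hstep ⟨i, hi⟩ (-t) (neg_ne_zero.mpr ht) h hh l
    rw [cN_neg hO (simple_lt hO.valid hi)] at e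
    exact ⟨h', hh', _, e⟩

theorem cnw_mem_cDiag : ∀ k, ∀ l : List (Fin T.rank), l.length = k → T.pw hO.valid l = 1 →
    T.cnw F l ∈ T.cDiag F := by
  intro k
  induction k using Nat.strong_induction_on with
  | _ k IH =>
  intro l hl hw
  have hT := hO.valid
  rcases List.eq_nil_or_concat l with rfl | ⟨l0, i, rfl⟩
  · simp [cnw]
  rw [List.concat_eq_append] at hl hw ⊢
  have hneg : (T.pw hT l0 (T.simpF hT i)).val < T.half := by
    rw [pw_append, mul_eq_one_iff_eq_inv] at hw
    rw [hw, show T.pw hT [i] = T.refP hT i by simp [pw], refP_inv, refP_simpF]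
    exact negF_lt (half_le_simpF hT i)
  obtain ⟨l1, j, l2, rfl, hj, h, hh, e⟩ := deletion (F := F) hT i l0 hneg
  have e2 : T.pw hT (l1 ++ l2) = 1 := by
    rw [← pw_of_nw hT hh i e, show T.refP hT i = T.pw hT [i] by simp [pw], ← pw_append]
    exact hw
  have hrec := IH (l1 ++ l2).length (by simp at hl ⊢; omega) _ rfl e2
  obtain ⟨c, hc⟩ := (lifts_cnw (F := F) hO l2).conj_cN hO hj
  have h1 : T.cnw F (l1 ++ j :: l2 ++ [i]) = T.cnw F l1 *
      (T.cN F (T.simple j) 1 * T.cN F (T.simple j) (c : F)) * (T.cnw F l1)⁻¹ * T.cnw F (l1 ++ l2) := by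
    have := hc 1
    rw [mul_one] at this
    simp only [cnw, List.map_append, List.map_cons, List.map_nil, List.prod_append, List.prod_cons,
      List.prod_nil, mul_one] at this ⊢
    rw [mul_assoc, mul_assoc (T.cN F (T.simple j) 1), this]
    group
  rw [h1]
  refine mul_mem (cMon_normalizer hO (cnw_mem hO l1) ?_) hrec
  rw [cH_eq hO (simple_lt hT j.2) (c : F)]
  have h2 := cN_conj_cDiag hO j (one_ne_zero (α := F)) (cH_mem_cDiag hO j c.ne_zero)
  have h3 := mul_mem h2 (cN_sq_mem (F := F) hO j)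
  simpa [mul_assoc] using h3

theorem mem_cDiag_of_lifts_one {g : T.datum.SteinbergCover F} (hg : g ∈ T.cMon F)
    (h : CLifts hO g 1) : g ∈ T.cDiag F := by
  obtain ⟨k, hk, l, rfl⟩ := exists_cnw hO hg
  refine mul_mem hk (cnw_mem_cDiag hO _ l rfl ?_)
  have h1 := ((lifts_cDiag hO hk).mul (lifts_cnw hO l)).mono.unique h.mono
  rwa [one_mul] at h1

theorem cDiag_le_normalizer (P : ℕ → Prop) :
    T.cDiag F ≤ Subgroup.normalizer (T.cGen F P : Set (T.datum.SteinbergCover F)) := by
  intro g hg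
  refine Subgroup.mem_normalizer_iff.mpr fun x => ⟨fun hx => ?_, fun hx => ?_⟩
  · exact (lifts_cDiag hO hg).conj_gen (fun s h => h) hx
  · have := (lifts_cDiag hO hg).inv.conj_gen (P := P) (Q := P) (fun s h => by simpa using h) hx
    simpa [mul_assoc] using this

theorem mem_cBorel_iff {g : T.datum.SteinbergCover F} :
    g ∈ T.cBorel F ↔ ∃ u ∈ T.cGen F (fun r => T.half ≤ r), ∃ h ∈ T.cDiag F, g = u * h := by
  show g ∈ T.cGen F _ ⊔ T.cDiag F ↔ _
  rw [← SetLike.mem_coe, Subgroup.coe_mul_of_right_le_normalizer_left _ _ (cDiag_le_normalizer hO _)]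
  simp only [Set.mem_mul, SetLike.mem_coe]
  exact ⟨fun ⟨u, hu, h, hh, e⟩ => ⟨u, hu, h, hh, e.symm⟩, fun ⟨u, hu, h, hh, e⟩ => ⟨u, hu, h, hh, e.symm⟩⟩

/-- The axiom `s B̄ n ⊆ B̄ s n B̄ ∪ B̄ n B̄`. -/
theorem cbn_axiom (i : Fin T.rank) {n b : T.datum.SteinbergCover F} (hn : n ∈ T.cMon F)
    (hb : b ∈ T.cBorel F) :
    ∃ a ∈ T.cBorel F, ∃ m ∈ T.cMon F, ∃ c ∈ T.cBorel F,
      T.cN F (T.simple i) 1 * b * n = a * m * c := by
  have hT := hO.valid
  obtain ⟨u, hu, h, hh, rfl⟩ := (mem_cBorel_iff hO).mp hb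
  have hp := simple_lt hT i.2
  have hpp : T.half ≤ T.simple i := simple_pos' hT i.2
  have hpB : ∀ {r : ℕ}, r < T.n → T.half ≤ r → ∀ t, T.cX F r t ∈ T.cBorel F := fun hr h t =>
    Subgroup.mem_sup_left (cX_mem_cGen (P := fun r => T.half ≤ r) hr h t)
  have hnorm : T.cGen F (fun s => s = T.simple i) ≤ Subgroup.normalizer
      (T.cGen F (fun s => T.half ≤ s ∧ s ≠ T.simple i) : Set (T.datum.SteinbergCover F)) :=
    cGen_le fun r _ e t => (cX_simple_normalizer hO i.2 (Or.inl e) t).1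
  have hle : T.cGen F (fun r => T.half ≤ r) ≤
      T.cGen F (fun s => T.half ≤ s ∧ s ≠ T.simple i) ⊔ T.cGen F (fun s => s = T.simple i) :=
    cGen_le fun r hr hrp t => by
      by_cases e : r = T.simple i
      · exact Subgroup.mem_sup_right (cX_mem_cGen (P := fun s => s = T.simple i) hr e t)
      · exact Subgroup.mem_sup_left
          (cX_mem_cGen (P := fun s => T.half ≤ s ∧ s ≠ T.simple i) hr ⟨hrp, e⟩ t)
  have hu2 := hle hu
  rw [← SetLike.mem_coe, Subgroup.coe_mul_of_right_le_normalizer_left _ _ hnorm] at hu2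
  obtain ⟨u', hu', x, hx, rfl⟩ := hu2
  obtain ⟨t, rfl⟩ := exists_cX_of_mem_single hT hp hx
  set s := T.cN F (T.simple i) 1 with hs
  have hsM : s ∈ T.cMon F := Subgroup.subset_closure ⟨i, i.2, 1, one_ne_zero, rfl⟩
  have hLs := lifts_cN hO i (one_ne_zero (α := F))
  have hu'' : s * u' * s⁻¹ ∈ T.cBorel F := by
    refine Subgroup.mem_sup_left (hLs.conj_gen (fun r ⟨h1, h2⟩ => ?_) hu')
    exact refP_pos hT h1 (fun e => h2 (congrArg Fin.val e))
  have hh' : n⁻¹ * h * n ∈ T.cDiag F := by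
    simpa using cMon_normalizer hO (inv_mem hn) hh
  obtain ⟨w, hL⟩ := exists_clifts hO hn
  set v := w⁻¹ (T.simpF hT i) with hv
  have hwv : w v = T.simpF hT i := w.apply_symm_apply _
  by_cases hcase : t = 0 ∨ T.half ≤ v.val
  · refine ⟨s * u' * s⁻¹, hu'', s * n, mul_mem hsM hn,
      n⁻¹ * T.cX F (T.simple i) t * n * (n⁻¹ * h * n),
      mul_mem ?_ (Subgroup.mem_sup_right hh'), by group⟩
    rcases hcase with rfl | hpos
    · simp [cX_zero hT hp]
    · obtain ⟨c, hc⟩ := hL.inv.mono.conj (T.simpF hT i)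
      have e := hL.inv.conj (T.simpF hT i) t _ (hc t).1
      change n⁻¹ * T.cX F (T.simple i) t = _ at e
      rw [e, inv_mul_cancel_right]
      exact hpB v.2 hpos _
  · push Not at hcase
    obtain ⟨ht, hneg⟩ := hcase
    set a : F := t⁻¹ with ha
    have hat : a⁻¹ = t := inv_inv t
    have hane : a ≠ 0 := inv_ne_zero ht
    have hx : s * T.cX F (T.simple i) t = T.cX F (T.neg (T.simple i)) (-t) * s := by
      have h1 := hLs.conj (T.simpF hT i) t (-t) (by
        rw [refP_simpF, chom_cN hO hp]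
        exact nU_conj hT hp t)
      rw [refP_simpF] at h1
      exact h1
    have hy : T.cX F (T.neg (T.simple i)) (-t) =
        T.cX F (T.simple i) (-a) * (T.cH F (T.simple i) a * s) * T.cX F (T.simple i) (-a) := by
      rw [hs, ← cH_eq hO hp, cN, hat, ← cX_inv hT hp]
      group
    have hL2 := (hLs.mul hL).inv
    obtain ⟨c, hc⟩ := hL2.mono.conj (T.simpF hT i)
    have hw : (T.refP hT i * w)⁻¹ (T.simpF hT i) = T.negF v := by
      apply (T.refP hT i * w).injective
      rw [show (T.refP hT i * w) ((T.refP hT i * w)⁻¹ (T.simpF hT i)) = T.simpF hT i from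
        (T.refP hT i * w).apply_symm_apply _, Equiv.Perm.mul_apply, hL.mono.negEq, hwv,
        ← refP_simpF hT i]
      exact (Fin.ext (refl_refl hT i.2 hp)).symm
    have hd := hL2.conj (T.simpF hT i) (-a) _ (hc (-a)).1
    rw [hw] at hd
    change (s * n)⁻¹ * T.cX F (T.simple i) (-a) =
      T.cX F (T.neg v.val) ((c : F) * -a) * (s * n)⁻¹ at hd
    refine ⟨s * u' * s⁻¹ * T.cX F (T.simple i) (-a) * T.cH F (T.simple i) a * (s * s),
      mul_mem (mul_mem (mul_mem hu'' (hpB hp hpp _))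
        (Subgroup.mem_sup_right (cH_mem_cDiag hO i hane))) (Subgroup.mem_sup_right (cN_sq_mem hO i)),
      n, hn, T.cX F (T.neg v.val) ((c : F) * -a) * (n⁻¹ * h * n),
      mul_mem (hpB (neg_lt' v.2) (le_negF hneg) _) (Subgroup.mem_sup_right hh'), ?_⟩
    have hd' : T.cX F (T.simple i) (-a) * (s * n) = (s * n) * T.cX F (T.neg v.val) ((c : F) * -a) := by
      rw [inv_mul_eq_iff_eq_mul, ← mul_assoc, eq_mul_inv_iff_mul_eq] at hd
      exact hd
    calc s * (u' * T.cX F (T.simple i) t * h) * n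
        = (s * u' * s⁻¹) * (s * T.cX F (T.simple i) t) * n * (n⁻¹ * h * n) := by group
      _ = (s * u' * s⁻¹) * T.cX F (T.simple i) (-a) * T.cH F (T.simple i) a * s *
          (T.cX F (T.simple i) (-a) * (s * n)) * (n⁻¹ * h * n) := by rw [hx, hy]; group
      _ = _ := by rw [hd']; group

theorem exists_cbruhat (g : T.datum.SteinbergCover F) :
    ∃ a ∈ T.cBorel F, ∃ m ∈ T.cMon F, ∃ c ∈ T.cBorel F, g = a * m * c := by
  have hT := hO.valid
  let S : Set (T.datum.SteinbergCover F) :=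
    {g | ∃ a ∈ T.cBorel F, ∃ m ∈ T.cMon F, ∃ c ∈ T.cBorel F, g = a * m * c}
  let M : Subgroup (T.datum.SteinbergCover F) :=
    { carrier := {g | (∀ x ∈ S, g * x ∈ S) ∧ ∀ x ∈ S, g⁻¹ * x ∈ S}
      one_mem' := ⟨fun x h => by simpa using h, fun x h => by simpa using h⟩
      mul_mem' := fun {p q} hp hq => ⟨fun x h => by rw [mul_assoc]; exact hp.1 _ (hq.1 x h),
        fun x h => by rw [mul_inv_rev, mul_assoc]; exact hq.2 _ (hp.2 x h)⟩
      inv_mem' := fun {p} hp => ⟨hp.2, by simpa using hp.1⟩ }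
  have hB : ∀ b ∈ T.cBorel F, b ∈ M := fun b hb =>
    ⟨fun x ⟨a, ha, m, hm, c, hc, e⟩ => ⟨b * a, mul_mem hb ha, m, hm, c, hc, by rw [e]; group⟩,
      fun x ⟨a, ha, m, hm, c, hc, e⟩ =>
        ⟨b⁻¹ * a, mul_mem (inv_mem hb) ha, m, hm, c, hc, by rw [e]; group⟩⟩
  have hs1 : ∀ (i : Fin T.rank), ∀ x ∈ S, T.cN F (T.simple i) 1 * x ∈ S := by
    rintro i _ ⟨a, ha, m, hm, c, hc, rfl⟩
    obtain ⟨a', ha', m', hm', c', hc', e⟩ := cbn_axiom hO i hm ha
    exact ⟨a', ha', m', hm', c' * c, mul_mem hc' hc, by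
      rw [show T.cN F (T.simple i) 1 * (a * m * c) = T.cN F (T.simple i) 1 * a * m * c by group, e]
      group⟩
  have hs : ∀ i : Fin T.rank, T.cN F (T.simple i) 1 ∈ M := by
    refine fun i => ⟨hs1 i, fun x hx => ?_⟩
    have h2 := (hB _ (Subgroup.mem_sup_right (inv_mem (cN_sq_mem (F := F) hO i)))).1 _ (hs1 i x hx)
    rwa [show (T.cN F (T.simple i) 1 * T.cN F (T.simple i) 1)⁻¹ * (T.cN F (T.simple i) 1 * x) =
      (T.cN F (T.simple i) 1)⁻¹ * x by group] at h2
  have hall : ∀ r < T.n, ∀ t, T.cX F r t ∈ M := by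
    refine root_induction hT (P := fun r => ∀ t, T.cX F r t ∈ M) (fun i hi t => ?_) ?_
    · exact hB _ (Subgroup.mem_sup_left
        (cX_mem_cGen (P := fun r => T.half ≤ r) (simple_lt hT hi) (simple_pos' hT hi) t))
    · intro j hj v hv ih t
      have hL := lifts_cN hO ⟨j, hj⟩ (one_ne_zero (α := F))
      obtain ⟨c, hc⟩ := hL.mono.conj ⟨v, hv⟩
      have h1 := hL.conj ⟨v, hv⟩ (((c⁻¹ : Fˣ) : F) * t) t (by
        have := (hc (((c⁻¹ : Fˣ) : F) * t)).1
        rwa [← mul_assoc (c : F), ← Units.val_mul, mul_inv_cancel, Units.val_one, one_mul] at this)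
      change T.cN F (T.simple j) 1 * T.cX F v _ = T.cX F (T.refl j v) t * _ at h1
      rw [show T.cX F (T.refl j v) t = T.cN F (T.simple j) 1 * T.cX F v (((c⁻¹ : Fˣ) : F) * t) *
        (T.cN F (T.simple j) 1)⁻¹ by rw [h1, mul_inv_cancel_right]]
      exact mul_mem (mul_mem (hs ⟨j, hj⟩) (ih _)) (inv_mem (hs ⟨j, hj⟩))
  have htop : (⊤ : Subgroup (T.datum.SteinbergCover F)) ≤ M := by
    rw [← PresentedGroup.closure_range_of (T.datum.steinbergRelsAB F), Subgroup.closure_le]
    rintro _ ⟨⟨r, t⟩, rfl⟩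
    have := hall r.val r.2 t
    rwa [cX, Cfsg.Lie.ChevalleyDatum.scGen, Cfsg.Lie.ChevalleyDatum.stX, dif_pos r.2] at this
  have := (htop (Subgroup.mem_top g)).1 1 ⟨1, one_mem _, 1, one_mem _, 1, one_mem _, by simp⟩
  rwa [mul_one] at this

theorem chom_cBorel {b : T.datum.SteinbergCover F} (hb : b ∈ T.cBorel F) :
    hO.chom F b ∈ T.datum.borelSubgroup F := by
  obtain ⟨u, hu, h, hh, rfl⟩ := (mem_cBorel_iff hO).mp hb
  rw [map_mul]
  refine mul_mem (Subgroup.mem_sup_left ?_) (Subgroup.mem_sup_right (chom_cDiag hO hh))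
  rw [posUnipotent_rootGen hO.valid, ← covHom_cGen hO.valid hO.comm]
  exact ⟨u, hu, rfl⟩

theorem chom_cMon {g : T.datum.SteinbergCover F} (hg : g ∈ T.cMon F) :
    hO.chom F g ∈ T.datum.monomialSubgroup F := by
  obtain ⟨h, hh, l, rfl⟩ := exists_cnw hO hg
  rw [map_mul]
  refine mul_mem (diag_le_N hO.valid (chom_cDiag hO hh)) ?_
  rw [cnw, map_list_prod, List.map_map]
  refine list_prod_mem fun x hx => ?_
  obtain ⟨i, -, rfl⟩ := List.mem_map.mp hx
  rw [Function.comp_apply, chom_cN hO (simple_lt hO.valid i.2)]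
  exact nU_simple_mem_N hO.valid i

/-- The kernel lies in `H̄`. -/
theorem ker_le_cDiag : (hO.chom F).ker ≤ T.cDiag F := by
  intro g hg
  have hT := hO.valid
  obtain ⟨a, ha, m, hm, c, hc, rfl⟩ := exists_cbruhat hO g
  rw [MonoidHom.mem_ker, map_mul, map_mul, mul_eq_one_iff_eq_inv, ← eq_inv_mul_iff_mul_eq] at hg
  obtain ⟨π, hL⟩ := exists_clifts hO hm
  have hdiag : hO.chom F m ∈ T.datum.diagonalSubgroup F := by
    rw [← borel_inf_monomial (T := T) (F := F) hT]
    refine ⟨?_, chom_cMon hO hm⟩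
    show hO.chom F m ∈ T.datum.borelSubgroup F
    rw [hg]
    exact mul_mem (inv_mem (chom_cBorel hO ha)) (inv_mem (chom_cBorel hO hc))
  have hπ : π = 1 := hL.mono.unique (mono_diag hT hdiag)
  subst hπ
  have hmH := mem_cDiag_of_lifts_one hO hm hL
  have hgB : a * m * c ∈ T.cBorel F := mul_mem (mul_mem ha (Subgroup.mem_sup_right hmH)) hc
  obtain ⟨u, hu, h, hh, e⟩ := (mem_cBorel_iff hO).mp hgB
  have h1 : hO.chom F u * hO.chom F h = 1 := by
    rw [← map_mul, ← e, map_mul, map_mul, hg]; group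
  have hu1 : hO.chom F u = 1 := by
    have : hO.chom F u ∈ (⊥ : Subgroup (GL T.I F)) := by
      rw [← pos_inf_diag (T := T) (F := F) hT]
      refine ⟨?_, ?_⟩
      · rw [SetLike.mem_coe, posUnipotent_rootGen hT, ← covHom_cGen hT hO.comm]
        exact ⟨u, hu, rfl⟩
      · show hO.chom F u ∈ T.datum.diagonalSubgroup F
        rw [eq_inv_of_mul_eq_one_left h1]; exact inv_mem (chom_cDiag hO hh)
    exact Subgroup.mem_bot.mp this
  have hu0 : u = 1 := ceq_of_sys hO (one_mem _) Mono.one (P := fun r => T.half ≤ r)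
    (fun r hr => hr) hu (one_mem _) (by rw [hu1, map_one])
  rw [e, hu0, one_mul]
  exact hh

theorem chom_mem_group (g : T.datum.SteinbergCover F) : hO.chom F g ∈ T.datum.group F := by
  have : (⊤ : Subgroup (T.datum.SteinbergCover F)) ≤ (T.datum.group F).comap (hO.chom F) := by
    rw [← PresentedGroup.closure_range_of (T.datum.steinbergRelsAB F), Subgroup.closure_le]
    rintro _ ⟨⟨r, t⟩, rfl⟩
    rw [SetLike.mem_coe, Subgroup.mem_comap]
    have e := chom_cX hO r.2 t
    rw [cX, Cfsg.Lie.ChevalleyDatum.scGen, Cfsg.Lie.ChevalleyDatum.stX, dif_pos r.2] at e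
    exact (congrArg (· ∈ T.datum.group F) e).mpr (xU_mem_group hO.valid r.2 t)
  exact this (Subgroup.mem_top g)

/-- The map onto the Chevalley group. -/
noncomputable def covProj : T.datum.SteinbergCover F →* ↥(T.datum.group F) :=
  (hO.chom F).codRestrict _ (chom_mem_group hO)

theorem covProj_surjective : Function.Surjective (covProj (F := F) hO) := by
  rintro ⟨g, hg⟩
  have hle : T.datum.group F ≤ (hO.chom F).range := by
    rw [group_eq hO.valid, Subgroup.closure_le]
    rintro _ ⟨r, hr, t, rfl⟩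
    exact ⟨_, chom_cX hO hr t⟩
  obtain ⟨x, hx⟩ := hle hg
  exact ⟨x, Subtype.ext hx⟩

theorem covProj_ker : (covProj (F := F) hO).ker = Subgroup.center _ := by
  refine le_antisymm (fun k hk => ?_) (fun z hz => ?_)
  · have hk1 : hO.chom F k = 1 := congrArg Subtype.val hk
    have hL := lifts_cDiag hO (ker_le_cDiag hO (MonoidHom.mem_ker.mpr hk1))
    rw [Subgroup.mem_center_iff]
    intro g
    have hle : (⊤ : Subgroup (T.datum.SteinbergCover F)) ≤ Subgroup.centralizer {k} := by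
      rw [← PresentedGroup.closure_range_of (T.datum.steinbergRelsAB F), Subgroup.closure_le]
      rintro _ ⟨⟨r, t⟩, rfl⟩
      rw [SetLike.mem_coe, Subgroup.mem_centralizer_singleton_iff]
      have e := hL.conj r t t (by rw [hk1, one_mul, mul_one]; rfl)
      change k * T.cX F r.val t = T.cX F r.val t * k at e
      rw [cX, Cfsg.Lie.ChevalleyDatum.scGen, Cfsg.Lie.ChevalleyDatum.stX, dif_pos r.2] at e
      exact e.symm
    exact Subgroup.mem_centralizer_singleton_iff.mp (hle (Subgroup.mem_top g))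
  · have hc : covProj hO z ∈ Subgroup.center ↥(T.datum.group F) := by
      rw [Subgroup.mem_center_iff]
      intro g
      obtain ⟨x, rfl⟩ := covProj_surjective hO g
      rw [← map_mul, ← map_mul, Subgroup.mem_center_iff.mp hz x]
    rw [group_center_eq_bot hO.valid hO.comm, Subgroup.mem_bot] at hc
    exact hc

end

end CfsgLib.Chevalley.Tbl
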