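import Cfsg.Agent.Lib.KnownA.SteinbergCover
import Cfsg.Agent.Lib.KnownA.SteinbergCentral
import Cfsg.Agent.Lib.Chevalley.SteinbergTorus

set_option autoImplicit false

/-!
The group presented by (R1), (R2): perfectness, and the lifts it carries as a central extension of the
Chevalley group.
-/

namespace CfsgLib.KnownA.SteinbergUniv

open CfsgLib.Chevalley CfsgLib.Chevalley.Tbl
open scoped commutatorElement

universe u

variable {T : Tbl} {F : Type u} [Field F]

/-- Simple diagonal elements lift to `cDiag`. -/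
theorem diag_le_map_cDiag (hO : T.StOk) :
    T.datum.diagonalSubgroup F ≤ (T.cDiag F).map (hO.chom F) := by
  classical
  rw [← torusHom_range hO.valid]
  rintro _ ⟨f, rfl⟩
  refine (show (⊤ : Subgroup (Fin T.rank → Fˣ)) ≤
    ((T.cDiag F).map (hO.chom F)).comap (torusHom T F) from ?_) (Subgroup.mem_top f)
  intro x _
  refine Subgroup.pi_mem_of_mulSingle_mem (H := ((T.cDiag F).map (hO.chom F)).comap (torusHom T F)) x
    fun i => ?_
  rw [Subgroup.mem_comap]
  refine ⟨_, cH_mem_cDiag hO i (Units.ne_zero (x i)), ?_⟩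
  rw [chom_cH hO (simple_lt hO.valid i.2), hU_eq hO.valid (simple_lt hO.valid i.2)]
  refine dU_congr fun s _ => ?_
  rw [Finset.prod_eq_single i]
  · simp [hCh, pair_simple hO.valid i.2]
  · intro j _ hj; simp [Pi.mulSingle_eq_of_ne hj]
  · simp

/-- Monomial elements lift to `cMon`. -/
theorem monomial_le_map_cMon (hO : T.StOk) :
    T.datum.monomialSubgroup F ≤ (T.cMon F).map (hO.chom F) := by
  have hT := hO.valid
  have hd : T.datum.diagonalSubgroup F ≤ (T.cMon F).map (hO.chom F) :=
    (diag_le_map_cDiag hO).trans (Subgroup.map_mono (cDiag_le_cMon hO))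
  rw [monomialSubgroup_eq hT, sup_le_iff]
  refine ⟨hd, (Subgroup.closure_le _).mpr ?_⟩
  rintro _ ⟨r, hr, rfl⟩
  obtain ⟨i, hi, g, e, hg, ⟨he, h1, h2⟩, -⟩ := exists_carries (F := F) hT r hr
  have hp := simple_lt hT hi
  have hsimple : ∀ j < T.rank, ∀ t : F, t ≠ 0 →
      T.nU F (T.simple j) t ∈ (T.cMon F).map (hO.chom F) := fun j hj t ht =>
    ⟨_, Subgroup.subset_closure ⟨j, hj, t, ht, rfl⟩, chom_cN hO (simple_lt hT hj) t⟩
  have hgI : g ∈ (T.cMon F).map (hO.chom F) := by
    refine (Subgroup.closure_le _).mpr ?_ hg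
    rintro _ ⟨j, hj, rfl⟩
    exact hsimple j hj 1 one_ne_zero
  have hne : e ≠ 0 := by rcases he with rfl | rfl <;> norm_num
  have hn : g * T.nU F (T.simple i) e = T.nU F r (e * e) * g :=
    nU_congr hT hp g (fun u => e * u) (fun u => e * u) r h1 h2 (by
      rcases he with rfl | rfl <;> simp)
  rw [show e * e = 1 by rcases he with rfl | rfl <;> norm_num, ← mul_inv_eq_iff_eq_mul] at hn
  rw [SetLike.mem_coe, ← hn]
  exact mul_mem (mul_mem hgI (hsimple i hi e hne)) (inv_mem hgI)

/-- The presented group as a central extension of the Chevalley group. -/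
noncomputable def coverCov (hO : T.StOk) (F : Type u) [Field F] :
    Cov T F (T.datum.SteinbergCover F) where
  π := hO.chom F
  ker_le k hk := (covProj_ker hO).le (MonoidHom.mem_ker.mpr (Subtype.ext (MonoidHom.mem_ker.mp hk)))
  le_range g hg := by
    obtain ⟨x, hx⟩ := covProj_surjective hO ⟨g, hg⟩
    exact ⟨x, congrArg Subtype.val hx⟩

/-- The generators as lifts of the root elements. -/
noncomputable def coverLift (hO : T.StOk) : YLift (coverCov hO F) where
  y := T.cX F
  img r hr t := chom_cX hO hr t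
  add r hr t u := cX_add hO.valid hr t u
  rel r hr s hs hne hneg t u := ccomm hO.valid hr hs hne hneg t u
  conj r hr e _ he t := by
    obtain ⟨m, hm, hme⟩ := monomial_le_map_cMon hO he
    obtain ⟨w, hL⟩ := exists_clifts hO hm
    obtain ⟨k, hk⟩ := hL.mono.conj ⟨r, hr⟩
    have e1 := hL.conj ⟨r, hr⟩ t _ (hk t).1
    refine ⟨_, (w ⟨r, hr⟩).2, (k : F) * t, ?_⟩
    have hz : (coverCov hO F).π (m⁻¹ * e) = 1 := by
      rw [map_mul, map_inv, ← hme]; exact inv_mul_cancel _
    have hz' := ker_comm (coverCov hO F).ker_le hz (T.cX F r t)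
    calc e * T.cX F r t * e⁻¹ = m * ((m⁻¹ * e) * T.cX F r t) * e⁻¹ := by group
      _ = m * T.cX F r t * m⁻¹ := by rw [← hz']; group
      _ = _ := by rw [e1, mul_inv_cancel_right]

theorem coverGen_eq (p : Fin T.datum.nroots × F) :
    (PresentedGroup.of p : T.datum.SteinbergCover F) = T.cX F p.1.val p.2 := by
  rw [cX, Cfsg.Lie.ChevalleyDatum.scGen, Cfsg.Lie.ChevalleyDatum.stX, dif_pos p.1.2]
  rfl

/-! ### Perfectness -/

theorem cX_commutator_isK (hO : T.StOk) {v : ℕ} (hv : v < T.n) (hK : T.isK v = true)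
    (hF : ∃ a : F, a ≠ 0 ∧ a ≠ 1) (t : F) :
    T.cX F v t ∈ commutator (T.datum.SteinbergCover F) := by
  have hT := hO.valid
  obtain ⟨a, ha0, ha1⟩ := hF
  simp only [isK, List.any_eq_true, List.mem_range, decide_eq_true_eq] at hK
  obtain ⟨s, hs, hpair⟩ := hK
  let c : Fˣ := Units.mk0 a ha0
  set d : F := ((c ^ T.pair s v : Fˣ) : F) with hd
  have hd1 : d - 1 ≠ 0 := by
    intro e
    have e' : (c ^ T.pair s v : Fˣ) = 1 := Units.ext (sub_eq_zero.mp e)
    have hc1 : c ≠ 1 := fun h => ha1 (congrArg Units.val h)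
    rcases Int.natAbs_eq_iff.mp hpair with h | h <;> simp [h] at e' <;> exact hc1 e'
  obtain ⟨g, hg, hge⟩ := diag_le_map_cDiag hO (show T.dU (T.hCh s c) ∈ T.datum.diagonalSubgroup F by
    rw [diagonalSubgroup_eq hT]; exact Subgroup.subset_closure ⟨s, hs, c, rfl⟩)
  have hconj := (lifts_cDiag hO hg).conj ⟨v, hv⟩ (t / (d - 1)) (d * (t / (d - 1))) (by
    rw [hge, Equiv.Perm.one_apply]; exact dU_hCh_xU hT hs c hv _)
  have key : ⁅g, T.cX F v (t / (d - 1))⁆ = T.cX F v t := by
    rw [commutatorElement_def, hconj, Equiv.Perm.one_apply, mul_inv_cancel_right, cX_inv hT hv,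
      cX_add hT hv]
    congr 1; field_simp; ring
  rw [← key, _root_.commutator_def]
  exact Subgroup.commutator_mem_commutator (Subgroup.mem_top _) (Subgroup.mem_top _)

theorem cX_commutator_simple (hO : T.StOk) {torus : Bool}
    (htor : torus = true → ∃ a : F, a ≠ 0 ∧ a ≠ 1) {i : ℕ} (hi : i < T.rank)
    (h : T.chkGood torus i = true) (t : F) :
    T.cX F (T.simple i) t ∈ commutator (T.datum.SteinbergCover F) := by
  have hT := hO.valid
  have hp := simple_lt hT hi
  simp only [chkGood, Bool.or_eq_true, Bool.and_eq_true, List.any_eq_true, List.mem_range] at h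
  rcases h with ⟨htr, hK⟩ | ⟨a, ha, b, hb, hgood⟩
  · exact cX_commutator_isK hO hp hK (htor htr) t
  simp only [goodPair, Bool.and_eq_true, Bool.not_eq_true', Option.isNone_eq_false_iff] at hgood
  obtain ⟨⟨hsum, hmatch⟩, hall⟩ := hgood
  obtain ⟨⟨u, N⟩, hu⟩ := Option.isSome_iff_exists.mp hsum
  have hba : b ≠ a := fun e => by rw [e, sum?_self hT ha] at hu; simp at hu
  have hbn : b ≠ T.neg a := fun e => by rw [e, sum?_neg hT ha] at hu; simp at hu
  cases hl : (T.commT a b).filter (fun c => Nat.beq c.1 (T.simple i)) with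
  | nil => rw [hl] at hmatch; simp at hmatch
  | cons c tl =>
    cases tl with
    | cons c' tl' => rw [hl] at hmatch; simp at hmatch
    | nil =>
      rw [hl] at hmatch
      simp only [Bool.and_eq_true, Bool.or_eq_true, decide_eq_true_eq] at hmatch
      obtain ⟨hC1, hij⟩ := hmatch
      have hmem : c ∈ (T.commT a b).filter (fun c => Nat.beq c.1 (T.simple i)) := by rw [hl]; simp
      rw [List.mem_filter] at hmem
      have hc1 : c.1 = T.simple i := Nat.eq_of_beq_eq_true hmem.2
      have hzz : (c.2.1 : F) * (c.2.1 : F) = 1 := by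
        rcases Int.natAbs_eq_iff.mp hC1 with h' | h' <;> simp [h']
      obtain ⟨t', u', htu⟩ : ∃ t' u' : F, (c.2.1 : F) * (-t') ^ c.2.2.1 * u' ^ c.2.2.2 = t := by
        rcases hij with h' | h'
        · refine ⟨-((c.2.1 : F) * t), 1, ?_⟩
          rw [Nat.eq_of_beq_eq_true h', one_pow, mul_one, pow_one, neg_neg, ← mul_assoc, hzz, one_mul]
        · refine ⟨-1, (c.2.1 : F) * t, ?_⟩
          rw [Nat.eq_of_beq_eq_true h', neg_neg, one_pow, mul_one, pow_one, ← mul_assoc, hzz, one_mul]
      have key := ccomm hT ha hb hba hbn t' u'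
      have hprod : ((T.commT a b).map fun e =>
          T.cX F e.1 ((e.2.1 : F) * (-t') ^ e.2.2.1 * u' ^ e.2.2.2)).prod ∈
          commutator (T.datum.SteinbergCover F) := by
        have e2 : ((T.commT a b).map fun e =>
            T.cX F e.1 ((e.2.1 : F) * (-t') ^ e.2.2.1 * u' ^ e.2.2.2)).prod =
            ⁅(T.cX F b u')⁻¹, (T.cX F a t')⁻¹⁆ := by
          rw [commutatorElement_def, inv_inv, inv_inv,
            show (T.cX F b u')⁻¹ * (T.cX F a t')⁻¹ * T.cX F b u' * T.cX F a t' =
              (T.cX F b u')⁻¹ * (T.cX F a t')⁻¹ * (T.cX F b u' * T.cX F a t') by group, key]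
          group
        rw [e2, _root_.commutator_def]
        exact Subgroup.commutator_mem_commutator (Subgroup.mem_top _) (Subgroup.mem_top _)
      have hd : T.cX F c.1 ((c.2.1 : F) * (-t') ^ c.2.2.1 * u' ^ c.2.2.2) ∈
          commutator (T.datum.SteinbergCover F) := by
        refine list_prod_split (α := ℕ × ℤ × ℕ × ℕ) _
          (fun e : ℕ × ℤ × ℕ × ℕ => T.cX F e.1 ((e.2.1 : F) * (-t') ^ e.2.2.1 * u' ^ e.2.2.2))
          (fun e : ℕ × ℤ × ℕ × ℕ => Nat.beq e.1 (T.simple i)) c (T.commT a b) hl ?_ hprod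
        intro e he hne
        have := List.all_eq_true.mp hall e he
        simp only [hne, Bool.false_or, Bool.and_eq_true] at this
        exact cX_commutator_isK hO (commT_lt hT ha hb e he) this.2 (htor this.1) _
      rw [hc1, htu] at hd
      exact hd

/-- The group presented by (R1), (R2) is perfect. -/
theorem cover_perfect (hO : T.StOk) {torus : Bool} (htor : torus = true → ∃ a : F, a ≠ 0 ∧ a ≠ 1)
    (h : T.chkPerfect torus = true) : commutator (T.datum.SteinbergCover F) = ⊤ := by
  have hT := hO.valid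
  have hall : ∀ r < T.n, ∀ t : F, T.cX F r t ∈ commutator (T.datum.SteinbergCover F) := by
    refine root_induction hT (P := fun r => ∀ t : F, T.cX F r t ∈ commutator (T.datum.SteinbergCover F))
      (fun i hi t => cX_commutator_simple hO htor hi (allLt_iff.mp h i hi) t) ?_
    intro j hj v hv ih t
    have hL := lifts_cN hO ⟨j, hj⟩ (one_ne_zero (α := F))
    obtain ⟨c, hc⟩ := hL.mono.conj ⟨v, hv⟩
    have h1 := hL.conj ⟨v, hv⟩ (((c⁻¹ : Fˣ) : F) * t) t (by
      have := (hc (((c⁻¹ : Fˣ) : F) * t)).1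
      rwa [← mul_assoc (c : F), ← Units.val_mul, mul_inv_cancel, Units.val_one, one_mul] at this)
    change T.cN F (T.simple j) 1 * T.cX F v _ = T.cX F (T.refl j v) t * _ at h1
    rw [show T.cX F (T.refl j v) t = T.cN F (T.simple j) 1 * T.cX F v (((c⁻¹ : Fˣ) : F) * t) *
      (T.cN F (T.simple j) 1)⁻¹ by rw [h1, mul_inv_cancel_right]]
    exact (inferInstance : (commutator (T.datum.SteinbergCover F)).Normal).conj_mem _ (ih _) _
  rw [eq_top_iff, ← PresentedGroup.closure_range_of, Subgroup.closure_le]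
  rintro _ ⟨p, rfl⟩
  rw [SetLike.mem_coe, coverGen_eq]
  exact hall _ p.1.2 _

end CfsgLib.KnownA.SteinbergUniv
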