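import Cfsg.Agent.Lib.KnownA.SteinbergCoverTables

set_option autoImplicit false

/-!
Over a finite field (R3) follows from (R1), (R2), also for the long roots of type B2, where only squares act.
-/

namespace CfsgLib.KnownA.SteinbergUniv

open CfsgLib.Chevalley CfsgLib.Chevalley.Tbl
open scoped commutatorElement

universe u v

/-- In a finite field a nonsquare generator multiple `t` can have `1 - t` of the same kind. -/
theorem exists_nonsquare_pair {F : Type u} [Field F] [Finite F] {g : Fˣ}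
    (hg : ∀ x : Fˣ, x ∈ Subgroup.zpowers g) (hsq : ¬ IsSquare g) :
    ∃ x y : Fˣ, ((g * x ^ 2 : Fˣ) : F) + ((g * y ^ 2 : Fˣ) : F) = 1 := by
  classical
  have := Fintype.ofFinite F
  let sq : Finset F := (Finset.univ.image fun x : Fˣ => ((x ^ 2 : Fˣ) : F))
  let nsq : Finset F := (Finset.univ.image fun x : Fˣ => ((g * x ^ 2 : Fˣ) : F))
  have hcard : nsq.card = sq.card := by
    have : nsq = sq.image fun z => (g : F) * z := by
      simp only [nsq, sq, Finset.image_image]
      rfl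
    rw [this, Finset.card_image_of_injective _ (mul_right_injective₀ g.ne_zero)]
  by_contra hno
  push Not at hno
  have hdich : ∀ z : Fˣ, (z : F) ∈ sq ∨ (z : F) ∈ nsq := by
    intro z
    obtain ⟨i, rfl⟩ := (Submonoid.mem_powers_iff _ _).1 (mem_powers_iff_mem_zpowers.2 (hg z))
    rcases Nat.even_or_odd' i with ⟨k, rfl | rfl⟩
    · exact Or.inl (Finset.mem_image.2 ⟨g ^ k, Finset.mem_univ _, by rw [← pow_mul, mul_comm]⟩)
    · exact Or.inr (Finset.mem_image.2 ⟨g ^ k, Finset.mem_univ _,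
        by rw [← pow_mul, mul_comm k 2, ← pow_succ']⟩)
  have h1sq : (1 : F) ∈ sq := Finset.mem_image.2 ⟨1, Finset.mem_univ _, by simp⟩
  have h1nsq : (1 : F) ∉ nsq := by
    intro h1
    obtain ⟨x, -, hx⟩ := Finset.mem_image.1 h1
    refine hsq ⟨x⁻¹, ?_⟩
    rw [← pow_two, inv_pow, eq_inv_iff_mul_eq_one]
    exact Units.ext hx
  have hsub : (nsq.image fun z => 1 - z) ⊆ sq.erase 1 := by
    intro z hz
    obtain ⟨t, ht, rfl⟩ := Finset.mem_image.1 hz
    obtain ⟨x, -, hx⟩ := Finset.mem_image.1 ht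
    have ht0 : t ≠ 0 := hx ▸ Units.ne_zero _
    have h1t : 1 - t ≠ 0 := fun h => h1nsq (by rwa [← sub_eq_zero.1 h] at ht)
    refine Finset.mem_erase.2 ⟨fun h => ht0 (by linear_combination -h), ?_⟩
    rcases hdich (Units.mk0 _ h1t) with h | h
    · exact h
    · obtain ⟨y, -, hy⟩ := Finset.mem_image.1 h
      exact absurd (by rw [hx, hy]; simp) (hno x y)
  have := Finset.card_le_card hsub
  rw [Finset.card_image_of_injective _ sub_right_injective, hcard,
    Finset.card_erase_of_mem h1sq] at this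
  have : 0 < sq.card := Finset.card_pos.2 ⟨1, h1sq⟩
  omega

namespace YLift

variable {T : Tbl} {F : Type u} [Field F] {E : Type v} [Group E] {c : Cov T F E} (L : YLift c)
  (hT : T.Valid)
include hT

/-- A lift of a torus element acts on `h̄_r` through the value of its character at `r`. -/
theorem conj_hb {r s : ℕ} (hr : r < T.n) (hs : s < T.n) (cc : Fˣ) {d : E}
    (hd : c.π d = T.dU (T.hCh s cc)) (b : F) :
    d * L.hb r b * d⁻¹ =
      L.hb r (((cc ^ T.pair s r : Fˣ) : F) * b) * (L.hb r ((cc ^ T.pair s r : Fˣ) : F))⁻¹ := by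
  set x : Fˣ := cc ^ T.pair s r with hx
  have hdd : T.dU (T.hCh s cc) ∈ T.datum.diagonalSubgroup F := by
    rw [diagonalSubgroup_eq hT]; exact Subgroup.subset_closure ⟨s, hs, cc, rfl⟩
  have hdN : c.π d ∈ T.datum.monomialSubgroup F := hd ▸ diag_le_N hT hdd
  have hy : ∀ u, d * L.y r u * d⁻¹ = L.y r ((x : F) * u) := fun u =>
    L.conj_eq hT hdN hr hr (by rw [hd, mul_inv_eq_iff_eq_mul, dU_hCh_xU hT hs cc hr])
  have hy' : ∀ u, d * L.y (T.neg r) u * d⁻¹ = L.y (T.neg r) ((x : F)⁻¹ * u) := fun u =>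
    L.conj_eq hT hdN (neg_lt' hr) (neg_lt' hr) (by
      rw [hd, mul_inv_eq_iff_eq_mul, dU_conj_X hT (isChar_hCh hT s cc) (neg_lt' hr),
        (isChar_hCh hT s cc).neg r hr, show T.hCh s cc r = x from rfl,
        Units.val_inv_eq_inv_val])
  have hn : ∀ u, d * L.nb r u * d⁻¹ = L.nb r ((x : F) * u) := fun u => by
    rw [nb, show ∀ p q : E, d * (p * q * p) * d⁻¹ = (d * p * d⁻¹) * (d * q * d⁻¹) * (d * p * d⁻¹)
      from fun p q => by group, hy, hy', nb]
    congr 2
    rw [mul_inv, mul_neg]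
  rw [hb, show ∀ p q : E, d * (p * q) * d⁻¹ = (d * p * d⁻¹) * (d * q * d⁻¹) from
    fun p q => by group, hn, hn, mul_neg, mul_one, L.nb_neg hT hr (x : F), hb, hb]
  group

theorem hb_comm [Finite F] {r : ℕ} (hr : r < T.n) (a b : Fˣ) :
    Commute (L.hb r (a : F)) (L.hb r (b : F)) := by
  obtain ⟨g, hg⟩ := IsCyclic.exists_generator (α := Fˣ)
  let η : Fˣ →* GL T.I F :=
    { toFun := fun x => T.hU F r (x : F)
      map_one' := by rw [hU_eq hT hr, hCh_one, dU_one]
      map_mul' := fun x x' => (hU_mul hT hr x x').symm }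
  have himg : ∀ x : Fˣ, c.π (L.hb r (x : F)) = η x := fun x => L.img_hb hT hr _
  have hpow : ∀ x : Fˣ, ∃ i : ℤ, ∃ z : E, (∀ e, e * z = z * e) ∧
      L.hb r (x : F) = L.hb r (g : F) ^ i * z := by
    intro x
    obtain ⟨i, hi⟩ := Subgroup.mem_zpowers_iff.1 (hg x)
    refine ⟨i, (L.hb r (g : F) ^ i)⁻¹ * L.hb r (x : F), fun e => ker_comm c.ker_le ?_ e, by group⟩
    rw [map_mul, map_inv, map_zpow, himg, himg, ← map_zpow, hi, inv_mul_cancel]
  obtain ⟨i, z, hz, hx⟩ := hpow a
  obtain ⟨j, w, hw, hx'⟩ := hpow b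
  rw [hx, hx']
  exact ((((Commute.refl _).zpow_zpow i j).mul_right (hw _)).mul_left
    ((hz _).symm : Commute z _))

/-- (R3) from multiplicativity on the squares. -/
theorem hb_mul_of_sq [Finite F] {r : ℕ} (hr : r < T.n)
    (hS : ∀ x b : Fˣ, L.hb r ((x ^ 2 * b : Fˣ) : F) = L.hb r ((x ^ 2 : Fˣ) : F) * L.hb r (b : F))
    (a b : Fˣ) : L.hb r (a : F) * L.hb r (b : F) = L.hb r ((a * b : Fˣ) : F) := by
  have hc := L.hb_comm hT hr
  obtain ⟨g, hg⟩ := IsCyclic.exists_generator (α := Fˣ)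
  have hdich : ∀ z : Fˣ, (∃ x, z = x ^ 2) ∨ ∃ x, z = g * x ^ 2 := by
    intro z
    obtain ⟨i, rfl⟩ := (Submonoid.mem_powers_iff _ _).1 (mem_powers_iff_mem_zpowers.2 (hg z))
    rcases Nat.even_or_odd' i with ⟨k, rfl | rfl⟩
    · exact Or.inl ⟨g ^ k, by rw [← pow_mul, mul_comm]⟩
    · exact Or.inr ⟨g ^ k, by rw [← pow_mul, mul_comm k 2, ← pow_succ']⟩
  rcases hdich a with ⟨x, rfl⟩ | ⟨x, rfl⟩
  · exact (hS x b).symm
  rcases hdich b with ⟨y, rfl⟩ | ⟨y, rfl⟩
  · rw [(hc _ _).eq, ← hS, mul_comm (y ^ 2)]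
  by_cases hsq : IsSquare g
  · obtain ⟨w, hw⟩ := hsq
    rw [show g * x ^ 2 = (w * x) ^ 2 by rw [hw, mul_pow, pow_two w]]
    exact (hS _ _).symm
  -- two nonsquares: the defect does not depend on them, and vanishes for `t + u = 1`
  have key : ∀ p q : Fˣ, L.hb r ((g * p ^ 2 : Fˣ) : F) * L.hb r ((g * q ^ 2 : Fˣ) : F) =
      L.hb r ((g * p ^ 2 * (g * q ^ 2) : Fˣ) : F) *
        ((L.hb r ((g * g : Fˣ) : F))⁻¹ * (L.hb r (g : F) * L.hb r (g : F))) := by
    intro p q
    rw [show g * p ^ 2 * (g * q ^ 2) = (p * q) ^ 2 * (g * g) by rw [mul_pow]; ac_rfl, mul_comm g (p ^ 2),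
      mul_comm g (q ^ 2), hS, hS, hS]
    have e : L.hb r (((p * q) ^ 2 : Fˣ) : F) = L.hb r ((p ^ 2 : Fˣ) : F) * L.hb r ((q ^ 2 : Fˣ) : F) := by
      rw [mul_pow, hS]
    rw [e]
    have h1 := (hc g (q ^ 2)).eq
    calc L.hb r ((p ^ 2 : Fˣ) : F) * L.hb r (g : F) * (L.hb r ((q ^ 2 : Fˣ) : F) * L.hb r (g : F))
        = L.hb r ((p ^ 2 : Fˣ) : F) * (L.hb r (g : F) * L.hb r ((q ^ 2 : Fˣ) : F)) * L.hb r (g : F) := by
          group
      _ = _ := by rw [h1]; group
  obtain ⟨p, q, hpq⟩ := exists_nonsquare_pair hg hsq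
  have h0 := L.hb_mul_one_sub hT hr (Units.ne_zero _) (Units.ne_zero _) hpq
  rw [key p q, ← Units.val_mul, mul_eq_left] at h0
  rw [key x y, h0, mul_one]

/-- (R3) for the long roots: their torus commutes with the one of a root of `isK` type. -/
theorem hb_mul_long [Finite F] {r s : ℕ} (hr : r < T.n) (hs : s < T.n)
    (h1 : (T.pair r s).natAbs = 1) (h2 : (T.pair s r).natAbs = 2) (a b : Fˣ) :
    L.hb r (a : F) * L.hb r (b : F) = L.hb r ((a * b : Fˣ) : F) := by
  have hK : T.isK s = true := by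
    simp only [isK, List.any_eq_true, List.mem_range, decide_eq_true_eq]
    exact ⟨r, hr, h1⟩
  have hcomm : ∀ x y : Fˣ, Commute (L.hb r (x : F)) (L.hb s (y : F)) := by
    intro x y
    have h := L.conj_hb hT hs hr x (d := L.hb r (x : F)) (by rw [L.img_hb hT hr, hU_eq hT hr]) (y : F)
    rw [← Units.val_mul, ← L.hb_mul hT hs hK, (L.hb_comm hT hs _ _).eq, mul_inv_cancel_right] at h
    exact mul_inv_eq_iff_eq_mul.mp h
  refine L.hb_mul_of_sq hT hr (fun x y => ?_) a b
  obtain ⟨cc, hcc⟩ : ∃ cc : Fˣ, cc ^ T.pair s r = x ^ 2 := by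
    rcases Int.natAbs_eq_iff.mp h2 with h | h
    · exact ⟨x, by rw [h]; exact zpow_natCast x 2⟩
    · exact ⟨x⁻¹, by rw [h, zpow_neg, inv_zpow, inv_inv]; exact zpow_natCast x 2⟩
  have h := L.conj_hb hT hr hs cc (d := L.hb s (cc : F)) (by rw [L.img_hb hT hs, hU_eq hT hs]) (y : F)
  rw [(hcomm y cc).symm.eq, mul_inv_cancel_right, hcc, ← Units.val_mul, eq_mul_inv_iff_mul_eq] at h
  rw [← h, (L.hb_comm hT hr _ _).eq]

end YLift

/-- Every root is of `isK` type or long next to one of that type. -/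
def chkR3 (T : Tbl) : Bool :=
  allLt (fun r => T.isK r || (List.range T.n).any fun s =>
    decide ((T.pair r s).natAbs = 1) && decide ((T.pair s r).natAbs = 2)) T.n

theorem YLift.hb_mul_all {T : Tbl} {F : Type u} [Field F] [Finite F] {E : Type v} [Group E]
    {c : Cov T F E} (L : YLift c) (hT : T.Valid) (hR : chkR3 T = true) {r : ℕ} (hr : r < T.n)
    (a b : Fˣ) : L.hb r (a : F) * L.hb r (b : F) = L.hb r ((a * b : Fˣ) : F) := by
  have h := allLt_iff.mp hR r hr
  simp only [Bool.or_eq_true, List.any_eq_true, List.mem_range, Bool.and_eq_true,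
    decide_eq_true_eq] at h
  rcases h with h | ⟨s, hs, h1, h2⟩
  · exact L.hb_mul hT hr h a b
  · exact L.hb_mul_long hT hr hs h1 h2 a b

/-- The group presented by (R1), (R2) is the one presented by (R1)-(R3) over a finite field. -/
theorem cover_equiv {T : Tbl} {F : Type u} [Field F] [Finite F] (hO : T.StOk)
    (hR : chkR3 T = true) :
    ∃ e : T.datum.SteinbergCover F ≃* T.datum.SteinbergGroup F,
      ∀ (r : ℕ) (t : F), e (T.datum.scGen F r t) = T.datum.stGen F r t := by
  have hT := hO.valid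
  have hsub : T.datum.steinbergRelsAB F ⊆ T.datum.steinbergRels F := fun g hg => Or.inl hg
  let f : T.datum.SteinbergCover F →* T.datum.SteinbergGroup F :=
    PresentedGroup.toGroup (f := fun p => (PresentedGroup.of p : T.datum.SteinbergGroup F))
      (fun g hg => by
        have : FreeGroup.lift (fun p => (PresentedGroup.of p : T.datum.SteinbergGroup F)) =
            PresentedGroup.mk (T.datum.steinbergRels F) :=
          FreeGroup.ext_hom _ _ fun p => by rw [FreeGroup.lift_apply_of]; rfl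
        rw [this]
        exact PresentedGroup.one_of_mem (hsub hg))
  have hf : ∀ w, f (PresentedGroup.mk _ w) = PresentedGroup.mk (T.datum.steinbergRels F) w := by
    intro w
    refine DFunLike.congr_fun (FreeGroup.ext_hom (f.comp (PresentedGroup.mk _))
      (PresentedGroup.mk (T.datum.steinbergRels F)) fun p => ?_) w
    show f (PresentedGroup.of p) = PresentedGroup.of p
    exact PresentedGroup.toGroup.of _
  let L := coverLift (F := F) hO
  have hrel : ∀ g ∈ T.datum.steinbergRels F,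
      FreeGroup.lift (fun p => (PresentedGroup.of p : T.datum.SteinbergCover F)) g = 1 := by
    have e : FreeGroup.lift (fun p => (PresentedGroup.of p : T.datum.SteinbergCover F)) =
        PresentedGroup.mk (T.datum.steinbergRelsAB F) :=
      FreeGroup.ext_hom _ _ fun p => by rw [FreeGroup.lift_apply_of]; rfl
    rintro g (hg | ⟨r, t₁, t₂, hr, h₁, h₂, rfl⟩)
    · rw [e]; exact PresentedGroup.one_of_mem hg
    · have hr' : r < T.n := hr
      have hh : ∀ k : F, PresentedGroup.mk (T.datum.steinbergRelsAB F) (T.datum.stH r k) =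
          L.hb r k := by
        intro k
        rw [Cfsg.Lie.ChevalleyDatum.stH, mk_cWord, Cfsg.Lie.ChevalleyDatum.hWord,
          Cfsg.Lie.ChevalleyDatum.nWord, Cfsg.Lie.ChevalleyDatum.nWord, datum_neg hr']
        simp [L, coverLift, YLift.hb, YLift.nb, mul_assoc]
      rw [e, map_mul, map_mul, map_inv, hh, hh, hh,
        show t₁ = ((Units.mk0 t₁ h₁ : Fˣ) : F) from rfl,
        show t₂ = ((Units.mk0 t₂ h₂ : Fˣ) : F) from rfl, L.hb_mul_all hT hR hr', ← Units.val_mul,
        mul_inv_cancel]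
  let g : T.datum.SteinbergGroup F →* T.datum.SteinbergCover F := PresentedGroup.toGroup hrel
  refine ⟨MonoidHom.toMulEquiv f g (PresentedGroup.ext fun p => ?_) (PresentedGroup.ext fun p => ?_),
    fun r t => hf _⟩
  · show g (f (PresentedGroup.of p)) = PresentedGroup.of p
    rw [show f (PresentedGroup.of p) = PresentedGroup.of p from PresentedGroup.toGroup.of _]
    exact PresentedGroup.toGroup.of _
  · show f (g (PresentedGroup.of p)) = PresentedGroup.of p
    rw [show g (PresentedGroup.of p) = PresentedGroup.of p from PresentedGroup.toGroup.of _]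
    exact PresentedGroup.toGroup.of _

end CfsgLib.KnownA.SteinbergUniv
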