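import Cfsg.Agent.Lib.KnownA.SteinbergCoverLift
import Cfsg.Agent.Lib.Chevalley.TablesSt
import Cfsg.Agent.Lib.Chevalley.TablesCerts

set_option autoImplicit false

/-!
The seven tables with the certificates used for the group presented by (R1), (R2).
-/

namespace CfsgLib.KnownA.SteinbergUniv

open CfsgLib.Chevalley

theorem exists_tbl_cover {D : Cfsg.Lie.ChevalleyDatum}
    (hD : D ∈ [Cfsg.Lie.chevG2, Cfsg.Lie.chevB2, Cfsg.Lie.chevD4, Cfsg.Lie.chevF4, Cfsg.Lie.chevE6,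
      Cfsg.Lie.chevE7, Cfsg.Lie.chevE8]) :
    ∃ T : Tbl, ∃ torus : Bool, T.StOk ∧ T.chkPerfect torus = true ∧ T.datum = D ∧
      (torus = true → D ∈ [Cfsg.Lie.chevB2, Cfsg.Lie.chevG2]) := by
  simp only [List.mem_cons, List.not_mem_nil, or_false] at hD
  rcases hD with rfl | rfl | rfl | rfl | rfl | rfl | rfl
  · exact ⟨_, _, ⟨Data.G2.valid, Data.G2.chkComm, Data.G2.chkSorted, Data.G2.chkSplit⟩,
      Data.G2.chkPerfect, Data.G2.datum_eq, fun _ => by simp⟩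
  · exact ⟨_, _, ⟨Data.B2.valid, Data.B2.chkComm, Data.B2.chkSorted, Data.B2.chkSplit⟩,
      Data.B2.chkPerfect, Data.B2.datum_eq, fun _ => by simp⟩
  · exact ⟨_, _, ⟨Data.D4.valid, Data.D4.chkComm, Data.D4.chkSorted, Data.D4.chkSplit⟩,
      Data.D4.chkPerfect, Data.D4.datum_eq, fun h => by simp at h⟩
  · exact ⟨_, _, ⟨Data.F4.valid, Data.F4.chkComm, Data.F4.chkSorted, Data.F4.chkSplit⟩,
      Data.F4.chkPerfect, Data.F4.datum_eq, fun h => by simp at h⟩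
  · exact ⟨_, _, ⟨Data.E6.valid, Data.E6.chkComm, Data.E6.chkSorted, Data.E6.chkSplit⟩,
      Data.E6.chkPerfect, Data.E6.datum_eq, fun h => by simp at h⟩
  · exact ⟨_, _, ⟨Data.E7.valid, Data.E7.chkComm, Data.E7.chkSorted, Data.E7.chkSplit⟩,
      Data.E7.chkPerfect, Data.E7.datum_eq, fun h => by simp at h⟩
  · exact ⟨_, _, ⟨Data.E8.valid, Data.E8.chkComm, Data.E8.chkSorted, Data.E8.chkSplit⟩,
      Data.E8.chkPerfect, Data.E8.datum_eq, fun h => by simp at h⟩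

end CfsgLib.KnownA.SteinbergUniv
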