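import Cfsg.Agent.Lib.KnownA.SteinbergCoverLift

set_option autoImplicit false

/-!
Universality of the group presented by (R1), (R2), given lifts in every central extension.
-/

namespace CfsgLib.KnownA.SteinbergUniv

open CfsgLib.Chevalley CfsgLib.Chevalley.Tbl

universe u v w

/-- Two homomorphisms from a perfect group agreeing modulo the centre are equal. -/
theorem hom_eq_of_central {G : Type u} {H : Type v} [Group G] [Group H]
    (hG : commutator G = ⊤) (f g : G →* H)
    (h : ∀ x, (g x)⁻¹ * f x ∈ Subgroup.center H) : f = g := by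
  refine MonoidHom.ext fun x => ?_
  let δ : G →* Subgroup.center H :=
    { toFun := fun x => ⟨(g x)⁻¹ * f x, h x⟩
      map_one' := Subtype.ext (by simp)
      map_mul' := fun a b => Subtype.ext (by
        show (g (a * b))⁻¹ * f (a * b) = (g a)⁻¹ * f a * ((g b)⁻¹ * f b)
        have hc := Subgroup.mem_center_iff.mp (h a) (g b)⁻¹
        rw [map_mul, map_mul, mul_inv_rev]
        calc (g b)⁻¹ * (g a)⁻¹ * (f a * f b) = ((g b)⁻¹ * ((g a)⁻¹ * f a)) * f b := by group
          _ = _ := by rw [hc]; group) }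
  have hker : commutator G ≤ δ.ker := by
    rw [_root_.commutator_def, Subgroup.commutator_le]
    intro a _ b _
    rw [MonoidHom.mem_ker, map_commutatorElement, commutatorElement_eq_one_iff_mul_comm]
    exact Subtype.ext (Subgroup.mem_center_iff.mp (δ b).2 (δ a).1)
  rw [hG] at hker
  have := congrArg Subtype.val (MonoidHom.mem_ker.mp (hker (Subgroup.mem_top x)))
  exact (inv_mul_eq_one.mp this).symm

variable {T : Tbl} {F : Type u} [Field F]

/-- Lifts define a map from the group presented by (R1), (R2). -/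
theorem exists_coverHom (hO : T.StOk) {Q : Type v} [Group Q] {c : Cov T F Q} (L : YLift c) :
    ∃ φ : T.datum.SteinbergCover F →* Q, c.π.comp φ = hO.chom F := by
  have hT := hO.valid
  have hX : ∀ r < T.n, ∀ t : F,
      FreeGroup.lift (fun p : Fin T.datum.nroots × F => L.y p.1.val p.2) (T.datum.stX r t) =
        L.y r t := by
    intro r hr t
    rw [Cfsg.Lie.ChevalleyDatum.stX, dif_pos hr, FreeGroup.lift_apply_of]
  have hW : ∀ l : List (ℕ × F), (∀ p ∈ l, p.1 < T.n) →
      FreeGroup.lift (fun p : Fin T.datum.nroots × F => L.y p.1.val p.2) (T.datum.stWord l) =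
        (l.map fun p => L.y p.1 p.2).prod := by
    intro l hl
    rw [Cfsg.Lie.ChevalleyDatum.stWord, map_list_prod, List.map_map]
    exact congrArg List.prod (List.map_congr_left fun p hp => hX p.1 (hl p hp) p.2)
  let φ : T.datum.SteinbergCover F →* Q :=
    PresentedGroup.toGroup (f := fun p : Fin T.datum.nroots × F => L.y p.1.val p.2) (by
      rintro g (⟨r, t₁, t₂, hr, rfl⟩ | ⟨r, s, t, u, hr, hs, hrs, hneg, rfl⟩)
      · have hr' : r < T.n := hr
        simp only [map_mul, map_inv, hX r hr', L.add r hr', mul_inv_cancel]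
      · have hr' : r < T.n := hr
        have hs' : s < T.n := hs
        rw [datum_neg hr'] at hneg
        simp only [map_mul, map_inv, hX r hr', hX s hs']
        rw [hW _ (by
          intro p hp
          simp only [Cfsg.Lie.ChevalleyDatum.commWord, datum_commTerms hT hr' hs', List.mem_map] at hp
          obtain ⟨k, hk, rfl⟩ := hp
          exact commT_lt hT hr' hs' k hk)]
        simp only [Cfsg.Lie.ChevalleyDatum.commWord, datum_commTerms hT hr' hs', List.map_map,
          Function.comp_def]
        rw [mul_assoc _ (L.y s u) (L.y r t), L.rel r hr' s hs' hrs hneg t u]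
        group)
  refine ⟨φ, PresentedGroup.ext fun p => ?_⟩
  rw [MonoidHom.comp_apply,
    show φ (PresentedGroup.of p) = L.y p.1.val p.2 from PresentedGroup.toGroup.of _, coverGen_eq,
    chom_cX hO p.1.2]
  exact L.img _ p.1.2 p.2

/-- Lifts in a perfect central extension of the cover give a section. -/
theorem exists_section (hO : T.StOk) (hperf : commutator (T.datum.SteinbergCover F) = ⊤)
    (hlift : ∀ (Q : Type v) [Group Q] (c : Cov T F Q), Nonempty (YLift c)) {Q : Type v} [Group Q]
    (hQ : commutator Q = ⊤) (pr : Q →* T.datum.SteinbergCover F) (hpr : Function.Surjective pr)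
    (hc : pr.ker ≤ Subgroup.center Q) :
    ∃ φ : T.datum.SteinbergCover F →* Q, pr.comp φ = MonoidHom.id _ := by
  have hT := hO.valid
  have hk : ((hO.chom F).comp pr).ker ≤ Subgroup.center Q := by
    intro z hz
    have hz' : pr z ∈ Subgroup.center (T.datum.SteinbergCover F) :=
      (coverCov hO F).ker_le (MonoidHom.mem_ker.mpr (MonoidHom.mem_ker.mp hz))
    have hcen : ∀ q : Q, (MonoidHom.id Q q)⁻¹ * (MulAut.conj z).toMonoidHom q ∈ Subgroup.center Q := by
      intro q
      refine hc (MonoidHom.mem_ker.mpr ?_)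
      simp only [MonoidHom.id_apply, MulEquiv.coe_toMonoidHom, MulAut.conj_apply, map_mul, map_inv]
      rw [← Subgroup.mem_center_iff.mp hz' (pr q)]
      group
    rw [Subgroup.mem_center_iff]
    intro q
    have := DFunLike.congr_fun (hom_eq_of_central hQ (MulAut.conj z).toMonoidHom (MonoidHom.id Q) hcen) q
    simp only [MonoidHom.id_apply, MulEquiv.coe_toMonoidHom, MulAut.conj_apply] at this
    exact (mul_inv_eq_iff_eq_mul.mp this).symm
  let c : Cov T F Q :=
    { π := (hO.chom F).comp pr
      ker_le := hk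
      le_range := fun g hg => by
        obtain ⟨x, hx⟩ := (coverCov hO F).le_range hg
        obtain ⟨q, rfl⟩ := hpr x
        exact ⟨q, hx⟩ }
  obtain ⟨L⟩ := hlift Q c
  obtain ⟨φ, hφ⟩ := exists_coverHom hO L
  refine ⟨φ, hom_eq_of_central hperf _ _ fun x => ?_⟩
  have hagree : (hO.chom F).comp (pr.comp φ) = hO.chom F := hφ
  refine (coverCov hO F).ker_le (MonoidHom.mem_ker.mpr ?_)
  show hO.chom F (x⁻¹ * pr (φ x)) = 1
  rw [map_mul, map_inv, ← MonoidHom.comp_apply, ← MonoidHom.comp_apply, MonoidHom.comp_assoc, hagree,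
    inv_mul_cancel]

/-- Every central extension lifts uniquely. -/
theorem cover_lift_unique (hO : T.StOk) (hperf : commutator (T.datum.SteinbergCover F) = ⊤)
    {G₁ : Type w} {E : Type v} [Group G₁] [Group E]
    (hlift : ∀ (Q : Type (max u v)) [Group Q] (c : Cov T F Q), Nonempty (YLift c))
    (π₁ : E →* G₁) (hπ : Function.Surjective π₁) (hc : π₁.ker ≤ Subgroup.center E)
    (σ : T.datum.SteinbergCover F →* G₁) :
    ∃! τ : T.datum.SteinbergCover F →* E, π₁.comp τ = σ := by
  let P : Subgroup (T.datum.SteinbergCover F × E) :=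
    MonoidHom.eqLocus (σ.comp (MonoidHom.fst _ _)) (π₁.comp (MonoidHom.snd _ _))
  let p : ↥P →* T.datum.SteinbergCover F := (MonoidHom.fst _ _).comp P.subtype
  have hp : Function.Surjective p := fun x => by
    obtain ⟨e, he⟩ := hπ (σ x)
    exact ⟨⟨(x, e), he.symm⟩, rfl⟩
  have hpc : p.ker ≤ Subgroup.center ↥P := by
    intro z hz
    rw [Subgroup.mem_center_iff]
    intro q
    have hz1 : z.1.1 = 1 := MonoidHom.mem_ker.mp hz
    have hz2 : π₁ z.1.2 = 1 := by
      have h : σ z.1.1 = π₁ z.1.2 := z.2
      rw [hz1, map_one] at h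
      exact h.symm
    exact Subtype.ext (Prod.ext (by simp [hz1])
      (Subgroup.mem_center_iff.mp (hc hz2) q.1.2))
  -- the derived subgroup is a perfect extension
  set Q := commutator ↥P with hQdef
  have hQs : Q.map p = ⊤ := by
    rw [hQdef, _root_.commutator_def, Subgroup.map_commutator, Subgroup.map_top_of_surjective p hp,
      ← _root_.commutator_def, hperf]
  have hsup : ∀ x : ↥P, ∃ q ∈ Q, q⁻¹ * x ∈ p.ker := fun x => by
    obtain ⟨q, hq, hqx⟩ := (hQs.ge (Subgroup.mem_top (p x)) : p x ∈ Q.map p)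
    exact ⟨q, hq, by rw [MonoidHom.mem_ker, map_mul, map_inv, hqx, inv_mul_cancel]⟩
  have hQ : commutator ↥Q = ⊤ := by
    apply Subgroup.map_injective Q.subtype_injective
    rw [_root_.commutator_def, Subgroup.map_commutator, ← MonoidHom.range_eq_map,
      Subgroup.range_subtype]
    refine le_antisymm (Subgroup.commutator_le_self _) ?_
    conv_lhs => rw [hQdef, _root_.commutator_def]
    refine Subgroup.commutator_le.mpr fun x _ y _ => ?_
    obtain ⟨a, ha, hxa⟩ := hsup x
    obtain ⟨b, hb, hyb⟩ := hsup y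
    rw [commutator_congr (π := p) hpc (x := x) (x' := a) (y := y) (y' := b)
      (by rw [MonoidHom.mem_ker, map_mul, map_inv, inv_mul_eq_one] at hxa; exact hxa.symm)
      (by rw [MonoidHom.mem_ker, map_mul, map_inv, inv_mul_eq_one] at hyb; exact hyb.symm)]
    exact Subgroup.commutator_mem_commutator ha hb
  obtain ⟨φ, hφ⟩ := exists_section hO hperf hlift hQ (p.comp Q.subtype) (fun x => by
      obtain ⟨q, hq, hqx⟩ := (hQs.ge (Subgroup.mem_top x) : x ∈ Q.map p)
      exact ⟨⟨q, hq⟩, hqx⟩)
    (fun z hz => by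
      rw [Subgroup.mem_center_iff]
      exact fun q => Subtype.ext (Subgroup.mem_center_iff.mp (hpc (MonoidHom.mem_ker.mpr hz)) q.1))
  refine ⟨((MonoidHom.snd _ _).comp P.subtype).comp (Q.subtype.comp φ), ?_, fun τ hτ => ?_⟩
  · refine MonoidHom.ext fun x => ?_
    have h : σ (φ x).1.1.1 = π₁ (φ x).1.1.2 := (φ x).1.2
    have hx : (φ x).1.1.1 = x := DFunLike.congr_fun hφ x
    rw [hx] at h
    exact h.symm
  · refine hom_eq_of_central hperf _ _ fun x => hc (MonoidHom.mem_ker.mpr ?_)
    have h : σ (φ x).1.1.1 = π₁ (φ x).1.1.2 := (φ x).1.2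
    have hx : (φ x).1.1.1 = x := DFunLike.congr_fun hφ x
    rw [hx] at h
    rw [map_mul, map_inv, show π₁ (τ x) = σ x from DFunLike.congr_fun hτ x]
    show (π₁ (φ x).1.1.2)⁻¹ * σ x = 1
    rw [← h, inv_mul_cancel]

end CfsgLib.KnownA.SteinbergUniv
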