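import Mathlib

set_option autoImplicit false

/-!
Elementary facts about finite fields used for the certificates.
-/

namespace CfsgLib.KnownA.SteinbergUniv

variable {F : Type*} [Field F] [Fintype F]

theorem exists_pow_ne_one {k : ℕ} (hk : 0 < k) (h : k + 1 < Fintype.card F) :
    ∃ c : Fˣ, c ^ k ≠ 1 := by
  obtain ⟨g, hg⟩ := IsCyclic.exists_generator (α := Fˣ)
  refine ⟨g, fun hgk => ?_⟩
  have h1 := Nat.le_of_dvd hk (orderOf_dvd_of_pow_eq_one hgk)
  rw [orderOf_eq_card_of_forall_mem_zpowers hg, Nat.card_units, Nat.card_eq_fintype_card] at h1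
  omega

open Polynomial in
theorem exists_homoth (h : 5 ≤ Fintype.card F) :
    ∃ u : F, u ≠ 0 ∧ u + 1 ≠ 0 ∧ u * u + u + 1 ≠ 0 := by
  classical
  let p : F[X] := X * (X + 1) * (X * X + X + 1)
  have hdeg : p.natDegree ≤ 4 := by
    simp only [p]
    compute_degree
    all_goals omega
  have hp : p ≠ 0 := by
    simp only [p]
    refine mul_ne_zero (mul_ne_zero X_ne_zero ?_) ?_ <;>
      · intro h'
        simpa using congrArg (Polynomial.eval 0) h'
  have hroots : p.roots.toFinset.card < Fintype.card F :=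
    ((Multiset.toFinset_card_le _).trans (p.card_roots'.trans hdeg)).trans_lt h
  obtain ⟨u, hu⟩ : ∃ u : F, u ∉ p.roots.toFinset := by
    by_contra h'
    push Not at h'
    rw [Finset.eq_univ_of_forall h'] at hroots
    simp at hroots
  rw [Multiset.mem_toFinset, mem_roots hp, IsRoot] at hu
  simp only [p, eval_mul, eval_add, eval_X, eval_one, mul_ne_zero_iff] at hu
  exact ⟨u, hu.1.1, hu.1.2, hu.2⟩

theorem card_ne_three_of_two_eq_zero (h2 : (2 : F) = 0) : Fintype.card F ≠ 3 := by
  intro h
  have h3 : ((Fintype.card F : ℕ) : F) = 0 := FiniteField.cast_card_eq_zero F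
  rw [h] at h3
  push_cast at h3
  exact one_ne_zero (α := F) (by linear_combination h3 - h2)

end CfsgLib.KnownA.SteinbergUniv
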