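import Cfsg.Agent.Lib.KnownA.SteinbergCentral
import Cfsg.Agent.Lib.Chevalley.SteinbergTorus

set_option autoImplicit false

/-!
Lifts of root elements through the torus: `y_r(t) = [h, x_r(t / (χ_r - 1))]`.

Lifts of commuting root elements commute because a torus element fixes one and moves the other, because
all homotheties act (alternating pairing), or because one of them is a commutator of elements commuting
with the other.  The relations among positive roots follow by descending induction on the roots, the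
others by conjugation with monomial elements.
-/

namespace CfsgLib.KnownA.SteinbergUniv

open CfsgLib.Chevalley CfsgLib.Chevalley.Tbl
open scoped commutatorElement

/-! ### Certificates -/

/-- Parameters of the certificates: admissible exponents, admissible structure constants, whether
homotheties may be used, and words moving pairs of roots to positive ones. -/
structure TorusCert where
  exps : List ℕ
  consts : List ℕ
  homoth : Bool
  words : List (List ℕ)

section Checks

variable (T : Tbl) (C : TorusCert)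

/-- Some coroot fixes `r` and moves `s`. -/
def chkKill (r s : ℕ) : Bool :=
  (List.range T.n).any fun v =>
    decide (T.pair v r = 0) && C.exps.contains (T.pair v s).natAbs

/-- `r` is a commutator of roots commuting with `s`. -/
def chkDec (r s : ℕ) : Bool :=
  (List.range T.n).any fun a =>
    match T.sum? r (T.neg a) with
    | none => false
    | some (b, _) =>
      match T.sum? a b with
      | none => false
      | some (w, N) =>
        Nat.beq w r && C.consts.contains N.natAbs && decide (T.commT a b = [(r, N, 1, 1)]) &&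
          (T.sum? a s).isNone && !(Nat.beq s (T.neg a)) && (T.sum? b s).isNone &&
          !(Nat.beq s (T.neg b))

/-- A root meeting no relation with `s`, moved against it by a torus element. -/
def chkSep (e s : ℕ) : Bool :=
  (T.sum? e s).isNone && !(Nat.beq s (T.neg e)) && (chkKill T C e s || chkKill T C s e)

/-- `x_r` lies in the product of three root subgroups separated from `s`. -/
def chkDec2 (r s : ℕ) : Bool :=
  (List.range T.n).any fun a => (List.range T.n).any fun b =>
    !(T.sum? a b).isNone &&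
      match T.commT a b with
      | [q, p] => Nat.beq p.1 r && Nat.beq p.2.2.2 1 && C.consts.contains p.2.1.natAbs &&
          chkSep T C a s && chkSep T C b s && chkSep T C q.1 s
      | _ => false

def chkCommuting (r s : ℕ) : Bool :=
  chkKill T C r s || chkKill T C s r || chkDec T C r s || chkDec T C s r ||
    (C.homoth && Nat.beq r s && T.isK r) || chkDec2 T C r s

def chkPairT (r s : ℕ) : Bool :=
  if s = T.neg r then true
  else if (T.sum? r s).isNone then chkCommuting T C r s
  else
    (!(Nat.ble T.half r && Nat.blt r s) || chkKill T C r s) &&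
      C.words.any fun l =>
        l.all (fun i => Nat.blt i T.rank) && Nat.ble T.half (T.actWord l r) &&
          Nat.ble T.half (T.actWord l s) &&
          (T.commT r s).all fun c => Nat.ble T.half (T.actWord l c.1)

def chkMove1 (r : ℕ) : Bool :=
  (List.range T.n).any fun v => C.exps.contains (T.pair v r).natAbs

def chkTorusRow (r : ℕ) : Bool := chkMove1 T C r && allLt (chkPairT T C r) T.n

def chkTorus : Bool := allLt (chkTorusRow T C) T.n

end Checks

/-- The hypotheses on the field under which the certificates apply. -/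
structure FieldOk (F : Type*) [Field F] (C : TorusCert) : Prop where
  exps : ∀ k ∈ C.exps, ∃ c : Fˣ, c ^ k ≠ 1
  consts : ∀ k ∈ C.consts, (k : F) ≠ 0
  homoth : C.homoth = true → ∃ u : F, u ≠ 0 ∧ u + 1 ≠ 0 ∧ u * u + u + 1 ≠ 0

/-- An alternating biadditive map invariant under homotheties is trivial. -/
theorem alt_invariant_trivial {F : Type*} [Field F] {M : Type*} [Group M] (k : F → F → M)
    (hl : ∀ x y z, k (x + y) z = k x z * k y z) (hr : ∀ x y z, k x (y + z) = k x y * k x z)
    (halt : ∀ x, k x x = 1) (hinv : ∀ l : F, l ≠ 0 → ∀ x y, k (l * x) (l * y) = k x y)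
    {u : F} (hu0 : u ≠ 0) (hu1 : u + 1 ≠ 0) (hu2 : u * u + u + 1 ≠ 0) (x y : F) : k x y = 1 := by
  have h0l : ∀ z, k 0 z = 1 := fun z => by
    have h := hl 0 0 z
    rwa [add_zero, left_eq_mul] at h
  have h0r : ∀ z, k z 0 = 1 := fun z => by
    have h := hr z 0 0
    rwa [add_zero, left_eq_mul] at h
  have hanti : ∀ a b, k a b * k b a = 1 := fun a b => by
    have h := halt (a + b)
    rwa [hl, hr, hr, halt, halt, one_mul, mul_one] at h
  have hneg : ∀ a b, k a (-b) = (k a b)⁻¹ := fun a b =>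
    (inv_eq_of_mul_eq_one_right (by rw [← hr, add_neg_cancel, h0r])).symm
  -- `k 1 p⁻¹ = k 1 (-p)`
  have hp : ∀ p : F, p ≠ 0 → k p 1 = k 1 p⁻¹ := fun p hp => by
    conv_rhs => rw [← hinv p hp 1 p⁻¹, mul_one, mul_inv_cancel₀ hp]
  have hp' : ∀ p : F, p ≠ 0 → k p 1 = k 1 (-p) := fun p _ => by
    rw [hneg]; exact eq_inv_of_mul_eq_one_left (hanti p 1)
  have hkey : ∀ p r : F, p ≠ 0 → r ≠ 0 → p + r ≠ 0 →
      k 1 ((p + r)⁻¹ + -(p⁻¹ + r⁻¹)) = 1 := fun p r hp0 hr0 hpr => by
    rw [hr 1 (p + r)⁻¹, hneg, hr 1 p⁻¹ r⁻¹, ← hp _ hpr, ← hp p hp0, ← hp r hr0, hl,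
      mul_inv_cancel]
  have hf : ∀ z : F, k 1 z = 1 := by
    intro z
    rcases eq_or_ne z 0 with rfl | hz
    · exact h0r 1
    let D : F := (1 + u)⁻¹ + -(1 + u⁻¹)
    have h1u : (1 : F) + u ≠ 0 := by rwa [add_comm]
    have hD : D ≠ 0 := by
      intro hD
      apply hu2
      have h3 := congrArg (fun w => w * (u * (1 + u))) hD
      simp only [D] at h3
      field_simp at h3
      linear_combination -h3
    have hk : D * z⁻¹ ≠ 0 := mul_ne_zero hD (inv_ne_zero hz)
    have h := hkey (D * z⁻¹) (D * z⁻¹ * u) hk (mul_ne_zero hk hu0)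
      (by rw [← mul_one_add]; exact mul_ne_zero hk h1u)
    convert h using 2
    simp only [← mul_one_add, mul_inv, inv_inv]
    calc z = z * (D⁻¹ * D) := by rw [inv_mul_cancel₀ hD, mul_one]
      _ = _ := by simp only [D]; ring
  rcases eq_or_ne x 0 with rfl | hx
  · exact h0l y
  · rw [← hinv x⁻¹ (inv_ne_zero hx), inv_mul_cancel₀ hx, hf]

/-! ### The torus -/

section Torus

universe u v

variable {T : Tbl} {F : Type u} [Field F] {C : TorusCert}
  (hT : T.Valid) (hC : T.chkComm = true) (hS : chkTorus T C = true) (hF : FieldOk F C)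

include hT hC hS hF

omit hC hS in
theorem exists_char_ne_one {v r : ℕ} (hk : C.exps.contains (T.pair v r).natAbs = true) :
    ∃ cc : Fˣ, cc ^ T.pair v r ≠ 1 := by
  obtain ⟨cc, hcc⟩ := hF.exps _ (List.contains_iff_mem.mp hk)
  refine ⟨cc, fun h => hcc ?_⟩
  rw [← zpow_natCast]
  rcases Int.natAbs_eq (T.pair v r) with e | e
  · rw [← e]; exact h
  · rw [show ((T.pair v r).natAbs : ℤ) = -T.pair v r by omega, zpow_neg, h, inv_one]

omit hC in
theorem exists_move (r : ℕ) : ∃ χ : ℕ → Fˣ, r < T.n →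
    T.IsChar χ ∧ T.dU χ ∈ T.datum.diagonalSubgroup F ∧ χ r ≠ 1 := by
  by_cases hr : r < T.n
  · have h := allLt_iff.mp hS r hr
    simp only [chkTorusRow, chkMove1, Bool.and_eq_true, List.any_eq_true, List.mem_range] at h
    obtain ⟨⟨v, hv, hk⟩, -⟩ := h
    obtain ⟨cc, hcc⟩ := exists_char_ne_one hT hF hk
    exact ⟨T.hCh v cc, fun _ => ⟨isChar_hCh hT v cc,
      by rw [diagonalSubgroup_eq hT]; exact Subgroup.subset_closure ⟨v, hv, cc, rfl⟩, hcc⟩⟩
  · exact ⟨1, fun h => absurd h hr⟩

variable {E : Type v} [Group E] (c : Cov T F E)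

omit hC hS hF in
theorem exists_lift₂ (g : GL T.I F) : ∃ e : E, g ∈ T.datum.group F → c.π e = g := by
  by_cases hg : g ∈ T.datum.group F
  · obtain ⟨e, he⟩ := c.le_range hg
    exact ⟨e, fun _ => he⟩
  · exact ⟨1, fun h => absurd h hg⟩

/-- A lift of an element of the group. -/
noncomputable def lg (g : GL T.I F) : E := (exists_lift₂ hT c g).choose

omit hC hS hF in
theorem img_lg {g : GL T.I F} (hg : g ∈ T.datum.group F) : c.π (lg hT c g) = g :=
  (exists_lift₂ hT c g).choose_spec hg

/-- The chosen character moving `r`. -/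
noncomputable def mvChar (r : ℕ) : ℕ → Fˣ := (exists_move hT hS hF r).choose

omit hC in
theorem mvChar_spec {r : ℕ} (hr : r < T.n) :
    T.IsChar (mvChar hT hS hF r) ∧ T.dU (mvChar hT hS hF r) ∈ T.datum.diagonalSubgroup F ∧
      ((mvChar hT hS hF r r : F) - 1) ≠ 0 := by
  obtain ⟨h1, h2, h3⟩ := (exists_move hT hS hF r).choose_spec hr
  exact ⟨h1, h2, sub_ne_zero.mpr fun h => h3 (Units.ext h)⟩

/-- The chosen lift. -/
noncomputable def yt (r : ℕ) (t : F) : E :=
  ⁅lg hT c (T.dU (mvChar hT hS hF r)), lg hT c (T.xU F r (t * ((mvChar hT hS hF r r : F) - 1)⁻¹))⁆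

omit hC hS hF in
theorem dU_commutator_xU {χ : ℕ → Fˣ} (hχ : T.IsChar χ) {r : ℕ} (hr : r < T.n) (v : F) :
    ⁅(T.dU χ : GL T.I F), T.xU F r v⁆ = T.xU F r (((χ r : F) - 1) * v) := by
  rw [commutatorElement_def, dU_conj_X hT hχ hr, mul_inv_cancel_right, xU_inv hT hr, xU_add hT hr]
  congr 1; ring

omit hC in
theorem img_yt {r : ℕ} (hr : r < T.n) (t : F) : c.π (yt hT hS hF c r t) = T.xU F r t := by
  obtain ⟨h1, h2, h3⟩ := mvChar_spec hT hS hF hr
  rw [yt, map_commutatorElement, img_lg hT c (diag_le_group hT h2), img_lg hT c (xU_mem_group hT hr _),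
    dU_commutator_xU hT h1 hr]
  congr 1
  rw [mul_comm t, mul_inv_cancel_left₀ h3]

omit hC hS hF in
/-- The pairing of two commuting root subgroups, invariant under a torus element. -/
theorem pairing_invariant {d : E} {χ : ℕ → Fˣ} (hχ : T.IsChar χ) (hd : c.π d = T.dU χ) {r s : ℕ}
    (hr : r < T.n) (hs : s < T.n) {x y x' y' : E} {t u : F} (hx : c.π x = T.xU F r t)
    (hy : c.π y = T.xU F s u) (hx' : c.π x' = T.xU F r ((χ r : F) * t))
    (hy' : c.π y' = T.xU F s ((χ s : F) * u)) (hc : c.π ⁅x, y⁆ = 1) : ⁅x', y'⁆ = ⁅x, y⁆ := by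
  have h := conj_commutator_eq c.ker_le (g := d) (x := x) (y := y) (x' := x') (y' := y')
    (by rw [hd, hx, hx', dU_conj_X hT hχ hr, mul_inv_cancel_right])
    (by rw [hd, hy, hy', dU_conj_X hT hχ hs, mul_inv_cancel_right])
  rw [← h, ker_comm c.ker_le hc d, mul_inv_cancel_right]

omit hS hF in
theorem commute_xU' {r s : ℕ} (hr : r < T.n) (hs : s < T.n) (h1 : T.sum? r s = none)
    (h2 : s ≠ T.neg r) (t u : F) : Commute (T.xU F r t) (T.xU F s u) := by
  by_cases hne : s = r
  · subst hne
    show _ * _ = _ * _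
    rw [xU_add hT hr, xU_add hT hr, add_comm]
  · have := comm_xU (F := F) hT hC hr hs hne h2 t u
    rw [commT_eq_nil hT hr hs h1] at this
    show _ * _ = _ * _
    simpa using this.symm

omit hS in
/-- A torus element fixing `r` and moving `s`. -/
theorem commute_of_kill {r s : ℕ} (hr : r < T.n) (hs : s < T.n) (h1 : T.sum? r s = none)
    (h2 : s ≠ T.neg r) (hk : chkKill T C r s = true) {x y : E} {t u : F}
    (hx : c.π x = T.xU F r t) (hy : c.π y = T.xU F s u) : Commute x y := by
  simp only [chkKill, List.any_eq_true, List.mem_range, Bool.and_eq_true, decide_eq_true_eq] at hk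
  obtain ⟨v, hv, hzero, hk⟩ := hk
  obtain ⟨cc, hcc⟩ := exists_char_ne_one hT hF hk
  have hχ := isChar_hCh (F := F) hT v cc
  have hr1 : T.hCh v cc r = 1 := by show cc ^ T.pair v r = 1; rw [hzero, zpow_zero]
  set b : F := ((T.hCh v cc s : Fˣ) : F) with hb
  have hb1 : b - 1 ≠ 0 := sub_ne_zero.mpr fun h => hcc (Units.ext h)
  obtain ⟨d, hd⟩ := c.le_range (diag_le_group hT (show T.dU (T.hCh v cc) ∈ T.datum.diagonalSubgroup F by
    rw [diagonalSubgroup_eq hT]; exact Subgroup.subset_closure ⟨v, hv, cc, rfl⟩))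
  obtain ⟨y1, hy1⟩ := c.le_range (xU_mem_group (F := F) hT hs (u / (b - 1)))
  obtain ⟨y2, hy2⟩ := c.le_range (xU_mem_group (F := F) hT hs (b * (u / (b - 1))))
  have hcen : ∀ {z : E} {w : F}, c.π z = T.xU F s w → c.π ⁅x, z⁆ = 1 := fun {z w} hz => by
    rw [map_commutatorElement, hx, hz, commutatorElement_eq_one_iff_mul_comm]
    exact (commute_xU' hT hC hr hs h1 h2 _ _).eq
  have hinv : ⁅x, y2⁆ = ⁅x, y1⁆ :=
    pairing_invariant hT c hχ hd hr hs hx hy1 (by rw [hr1, Units.val_one, one_mul]; exact hx)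
      hy2 (hcen hy1)
  have hadd : ⁅x, y⁆ = ⁅x, y2 * y1⁻¹⁆ := commutator_congr c.ker_le rfl (by
    rw [hy, map_mul, map_inv, hy1, hy2, xU_inv hT hs, xU_add hT hs]
    congr 1; field_simp; ring)
  have hy1' : c.π y1⁻¹ = T.xU F s (-(u / (b - 1))) := by rw [map_inv, hy1, xU_inv hT hs]
  rw [commutator_mul_right (ker_comm c.ker_le (hcen hy1') y2)] at hadd
  have hone : ⁅x, y1⁆ * ⁅x, y1⁻¹⁆ = 1 := by
    rw [← commutator_mul_right (ker_comm c.ker_le (hcen hy1') y1), mul_inv_cancel,
      commutatorElement_one_right]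
  rw [hinv, hone] at hadd
  exact commutatorElement_eq_one_iff_mul_comm.mp hadd

omit hS in
theorem commute_of_dec {r s : ℕ} (hr : r < T.n) (hs : s < T.n) (hk : chkDec T C r s = true)
    {x y : E} {t u : F} (hx : c.π x = T.xU F r t) (hy : c.π y = T.xU F s u) : Commute x y := by
  simp only [chkDec, List.any_eq_true, List.mem_range] at hk
  obtain ⟨a, ha, hk⟩ := hk
  cases hb' : T.sum? r (T.neg a) with
  | none => rw [hb'] at hk; simp at hk
  | some p =>
    obtain ⟨b, N'⟩ := p
    rw [hb'] at hk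
    dsimp only at hk
    cases hsum : T.sum? a b with
    | none => rw [hsum] at hk; simp at hk
    | some p =>
      obtain ⟨w, N⟩ := p
      rw [hsum] at hk
      simp only [Bool.and_eq_true, Nat.beq_eq, decide_eq_true_eq, Option.isNone_iff_eq_none,
        Bool.not_eq_true', Bool.eq_false_iff, ne_eq] at hk
      obtain ⟨⟨⟨⟨⟨⟨hw, hN⟩, hcomm⟩, ha1⟩, ha2⟩, hb1⟩, hb2⟩ := hk
      have hb := sum?_lt hT hr (neg_lt' ha) hb'
      have hne : b ≠ a := by
        intro e; rw [e, sum?_self hT ha] at hsum; cases hsum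
      have hneg : b ≠ T.neg a := by
        intro e; rw [e, sum?_neg hT ha] at hsum; cases hsum
      have hN0 : (N : F) ≠ 0 := by
        have h := hF.consts _ (List.contains_iff_mem.mp hN)
        rcases Int.natAbs_eq N with e | e <;> rw [e] <;> simpa using h
      have hrel := comm_xU (F := F) hT hC ha hb hne hneg (-(t / (N : F))) (-1)
      rw [hcomm] at hrel
      simp only [List.map_cons, List.map_nil, List.prod_cons, List.prod_nil, mul_one, pow_one,
        _root_.neg_neg, ← xU_inv hT ha, ← xU_inv hT hb] at hrel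
      have hxU : ⁅T.xU F a (t / (N : F)), T.xU F b 1⁆ = T.xU F r t := by
        have h : ⁅T.xU F a (t / (N : F)), T.xU F b 1⁆ = (T.xU F r ((N : F) * (t / N) * -1))⁻¹ := by
          rw [commutatorElement_def, eq_inv_iff_mul_eq_one]
          calc T.xU F a (t / (N : F)) * T.xU F b 1 * (T.xU F a (t / (N : F)))⁻¹ * (T.xU F b 1)⁻¹ *
                T.xU F r ((N : F) * (t / N) * -1)
              = T.xU F a (t / (N : F)) * T.xU F b 1 * ((T.xU F a (t / (N : F)))⁻¹ * (T.xU F b 1)⁻¹ *
                  T.xU F r ((N : F) * (t / N) * -1)) := by group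
            _ = 1 := by rw [← hrel]; group
        rw [h, xU_inv hT hr]
        congr 1; field_simp
      obtain ⟨la, hla⟩ := c.le_range (xU_mem_group (F := F) hT ha (t / (N : F)))
      obtain ⟨lb, hlb⟩ := c.le_range (xU_mem_group (F := F) hT hb 1)
      have hcm : Commute y ⁅la, lb⁆ := by
        refine commute_commutator c.ker_le ?_ ?_
        · rw [hy, hla]; exact (commute_xU' hT hC ha hs ha1 ha2 _ _).symm
        · rw [hy, hlb]; exact (commute_xU' hT hC hb hs hb1 hb2 _ _).symm
      have hz : c.π (⁅la, lb⁆⁻¹ * x) = 1 := by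
        rw [map_mul, map_inv, map_commutatorElement, hla, hlb, hxU, hx, inv_mul_cancel]
      have := hcm.mul_right (ker_comm c.ker_le hz y : Commute y (⁅la, lb⁆⁻¹ * x))
      rw [mul_inv_cancel_left] at this
      exact this.symm

omit hS in
theorem commute_of_homoth {r : ℕ} (hr : r < T.n) (hh : C.homoth = true) (hK : T.isK r = true)
    {x y : E} {t u : F} (hx : c.π x = T.xU F r t) (hy : c.π y = T.xU F r u) : Commute x y := by
  obtain ⟨u₀, hu0, hu1, hu2⟩ := hF.homoth hh
  simp only [isK, List.any_eq_true, List.mem_range, decide_eq_true_eq] at hK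
  obtain ⟨v, hv, hpair⟩ := hK
  have hcen : ∀ a b : F, c.π ⁅lg hT c (T.xU F r a), lg hT c (T.xU F r b)⁆ = 1 := fun a b => by
    rw [map_commutatorElement, img_lg hT c (xU_mem_group hT hr _), img_lg hT c (xU_mem_group hT hr _),
      commutatorElement_eq_one_iff_mul_comm, xU_add hT hr, xU_add hT hr, add_comm]
  have h1 := alt_invariant_trivial (fun a b => ⁅lg hT c (T.xU F r a), lg hT c (T.xU F r b)⁆) ?_ ?_ ?_ ?_
    hu0 hu1 hu2 t u
  · have h2 : ⁅x, y⁆ = 1 := by
      rw [← h1]
      exact commutator_congr c.ker_le (by rw [hx, img_lg hT c (xU_mem_group hT hr _)])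
        (by rw [hy, img_lg hT c (xU_mem_group hT hr _)])
    exact commutatorElement_eq_one_iff_mul_comm.mp h2
  · intro a b z
    rw [commutator_congr c.ker_le (x' := lg hT c (T.xU F r b) * lg hT c (T.xU F r a))
      (y' := lg hT c (T.xU F r z))
      (by rw [map_mul, img_lg hT c (xU_mem_group hT hr _), img_lg hT c (xU_mem_group hT hr _),
        img_lg hT c (xU_mem_group hT hr _), xU_add hT hr, add_comm]) rfl,
      commutator_mul_left (ker_comm c.ker_le (hcen _ _) _)]
  · intro a b z
    rw [commutator_congr c.ker_le (x' := lg hT c (T.xU F r a))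
      (y' := lg hT c (T.xU F r b) * lg hT c (T.xU F r z)) rfl
      (by rw [map_mul, img_lg hT c (xU_mem_group hT hr _), img_lg hT c (xU_mem_group hT hr _),
        img_lg hT c (xU_mem_group hT hr _), xU_add hT hr]),
      commutator_mul_right (ker_comm c.ker_le (hcen _ _) _)]
  · exact fun a => commutatorElement_self _
  · intro l hl a b
    obtain ⟨cc, hcc⟩ : ∃ cc : Fˣ, cc ^ T.pair v r = Units.mk0 l hl := by
      rcases Int.natAbs_eq_iff.mp hpair with h | h
      · exact ⟨Units.mk0 l hl, by simp [h]⟩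
      · exact ⟨(Units.mk0 l hl)⁻¹, by simp [h]⟩
    obtain ⟨d, hd⟩ := c.le_range (diag_le_group hT
      (show T.dU (T.hCh v cc) ∈ T.datum.diagonalSubgroup F by
        rw [diagonalSubgroup_eq hT]; exact Subgroup.subset_closure ⟨v, hv, cc, rfl⟩))
    have hχr : ((T.hCh v cc r : Fˣ) : F) = l := by
      show ((cc ^ T.pair v r : Fˣ) : F) = l
      rw [hcc]; rfl
    exact pairing_invariant hT c (isChar_hCh hT v cc) hd hr hr
      (img_lg hT c (xU_mem_group hT hr _)) (img_lg hT c (xU_mem_group hT hr _))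
      (by rw [hχr]; exact img_lg hT c (xU_mem_group hT hr _))
      (by rw [hχr]; exact img_lg hT c (xU_mem_group hT hr _)) (hcen a b)

omit hS in
theorem commute_of_sep {e s : ℕ} (he : e < T.n) (hs : s < T.n) (hk : chkSep T C e s = true)
    {x y : E} {t u : F} (hx : c.π x = T.xU F e t) (hy : c.π y = T.xU F s u) : Commute y x := by
  simp only [chkSep, Bool.and_eq_true, Bool.or_eq_true, Option.isNone_iff_eq_none,
    Bool.not_eq_true', Bool.eq_false_iff, ne_eq, Nat.beq_eq] at hk
  obtain ⟨⟨h1, h2⟩, hk⟩ := hk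
  rcases hk with hk | hk
  · exact (commute_of_kill hT hC hF c he hs h1 h2 hk hx hy).symm
  · exact commute_of_kill hT hC hF c hs he (sum?_none hT he hs h1).1
      (fun e' => h2 (by rw [e', neg_neg' hs])) hk hy hx

omit hS in
theorem commute_of_dec2 {r s : ℕ} (hr : r < T.n) (hs : s < T.n) (hk : chkDec2 T C r s = true)
    {x y : E} {t u : F} (hx : c.π x = T.xU F r t) (hy : c.π y = T.xU F s u) : Commute x y := by
  simp only [chkDec2, List.any_eq_true, List.mem_range, Bool.and_eq_true, Bool.not_eq_true',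
    Option.isNone_eq_false_iff] at hk
  obtain ⟨a, ha, b, hb, hsome, hk⟩ := hk
  obtain ⟨⟨w, N⟩, hsum⟩ := Option.isSome_iff_exists.mp hsome
  have hne : b ≠ a := by
    intro e; rw [e, sum?_self hT ha] at hsum; cases hsum
  have hneg : b ≠ T.neg a := by
    intro e; rw [e, sum?_neg hT ha] at hsum; cases hsum
  match hl : T.commT a b with
  | [] => simp [hl] at hk
  | [_] => simp [hl] at hk
  | _ :: _ :: _ :: _ => simp [hl] at hk
  | [q, p] =>
    simp only [hl, Bool.and_eq_true, Nat.beq_eq] at hk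
    obtain ⟨⟨⟨⟨⟨hp, hj⟩, hN⟩, hsa⟩, hsb⟩, hsq⟩ := hk
    have hq : q.1 < T.n := commT_lt hT ha hb q (by simp [hl])
    have hN0 : (p.2.1 : F) ≠ 0 := by
      have h := hF.consts _ (List.contains_iff_mem.mp hN)
      rcases Int.natAbs_eq p.2.1 with e | e <;> rw [e] <;> simpa using h
    set v : F := t / (p.2.1 : F) with hv
    have hrel := comm_xU (F := F) hT hC ha hb hne hneg (-1) v
    simp only [hl, List.map_cons, List.map_nil, List.prod_cons, List.prod_nil, mul_one, hp, hj,
      _root_.neg_neg, one_pow, pow_one] at hrel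
    rw [show (p.2.1 : F) * v = t by rw [hv]; field_simp] at hrel
    obtain ⟨la, hla⟩ := c.le_range (xU_mem_group (F := F) hT ha (-1))
    obtain ⟨lb, hlb⟩ := c.le_range (xU_mem_group (F := F) hT hb v)
    obtain ⟨lq, hlq⟩ := c.le_range
      (xU_mem_group (F := F) hT hq ((q.2.1 : F) * v ^ q.2.2.2))
    set k := lq⁻¹ * (la * lb)⁻¹ * (lb * la) with hkdef
    have ca := commute_of_sep hT hC hF c ha hs hsa hla hy
    have cb := commute_of_sep hT hC hF c hb hs hsb hlb hy
    have cq := commute_of_sep hT hC hF c hq hs hsq hlq hy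
    have hcm : Commute y k :=
      (cq.inv_right.mul_right (ca.mul_right cb).inv_right).mul_right (cb.mul_right ca)
    have hz : c.π (k⁻¹ * x) = 1 := by
      rw [map_mul, map_inv, hkdef, map_mul, map_mul, map_inv, map_inv, map_mul, map_mul, hla, hlb,
        hlq, hx, hrel]
      group
    have := hcm.mul_right (ker_comm c.ker_le hz y : Commute y (k⁻¹ * x))
    rw [mul_inv_cancel_left] at this
    exact this.symm

/-- Lifts of commuting root elements commute. -/
theorem commute_lifts₂ {r s : ℕ} (hr : r < T.n) (hs : s < T.n) (h1 : T.sum? r s = none)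
    (h2 : s ≠ T.neg r) {x y : E} {t u : F} (hx : c.π x = T.xU F r t) (hy : c.π y = T.xU F s u) :
    Commute x y := by
  have h := allLt_iff.mp hS r hr
  simp only [chkTorusRow, Bool.and_eq_true, allLt_iff] at h
  have hp := h.2 s hs
  rw [chkPairT, if_neg h2, h1, Option.isNone_none, if_pos rfl] at hp
  simp only [chkCommuting, Bool.or_eq_true, Bool.and_eq_true, Nat.beq_eq] at hp
  have h1' : T.sum? s r = none := (sum?_none hT hr hs h1).1
  have h2' : r ≠ T.neg s := fun e => h2 (by rw [e, neg_neg' hs])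
  rcases hp with ((((hp | hp) | hp) | hp) | ⟨⟨hh, rfl⟩, hK⟩) | hp
  · exact commute_of_kill hT hC hF c hr hs h1 h2 hp hx hy
  · exact (commute_of_kill hT hC hF c hs hr h1' h2' hp hy hx).symm
  · exact commute_of_dec hT hC hF c hr hs hp hx hy
  · exact (commute_of_dec hT hC hF c hs hr hp hy hx).symm
  · exact commute_of_homoth hT hC hF c hr hh hK hx hy
  · exact commute_of_dec2 hT hC hF c hr hs hp hx hy

theorem yt_add {r : ℕ} (hr : r < T.n) (t u : F) :
    yt hT hS hF c r t * yt hT hS hF c r u = yt hT hS hF c r (t + u) := by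
  unfold yt
  set d := lg hT c (T.dU (mvChar hT hS hF r))
  set k := ((mvChar hT hS hF r r : F) - 1)⁻¹
  have hl := fun a : F => img_lg hT c (xU_mem_group (F := F) hT hr a)
  have hy : c.π ⁅d, lg hT c (T.xU F r (u * k))⁆ = T.xU F r u := img_yt hT hS hF c hr u
  have hyc := commute_lifts₂ hT hC hS hF c hr hr (sum?_self hT hr) (neg_ne hr).symm
    (hl (t * k)) hy
  rw [commutator_congr c.ker_le (x := d) (x' := d) (y := lg hT c (T.xU F r ((t + u) * k)))
    (y' := lg hT c (T.xU F r (t * k)) * lg hT c (T.xU F r (u * k))) rfl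
    (by rw [map_mul, hl, hl, hl, xU_add hT hr, add_mul]), commutator_mul_right hyc]

theorem yt_zero {r : ℕ} (hr : r < T.n) : yt hT hS hF c r 0 = 1 := by
  have h := yt_add hT hC hS hF c hr (0 : F) 0
  rw [add_zero] at h
  exact mul_eq_left.mp h

theorem yt_inv {r : ℕ} (hr : r < T.n) (t : F) :
    (yt hT hS hF c r t)⁻¹ = yt hT hS hF c r (-t) :=
  inv_eq_of_mul_eq_one_right (by rw [yt_add hT hC hS hF c hr, add_neg_cancel, yt_zero hT hC hS hF c hr])

omit hC in
theorem yt_conj_torus {d : E} {χ : ℕ → Fˣ} (hχ : T.IsChar χ) (hd : c.π d = T.dU χ) {r : ℕ}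
    (hr : r < T.n) (t : F) :
    d * yt hT hS hF c r t * d⁻¹ = yt hT hS hF c r ((χ r : F) * t) := by
  obtain ⟨h1, h2, -⟩ := mvChar_spec hT hS hF hr
  refine conj_commutator_eq c.ker_le ?_ ?_
  · rw [hd, img_lg hT c (diag_le_group hT h2), (dU_comm χ (mvChar hT hS hF r)).eq,
      mul_inv_cancel_right]
  · rw [hd, img_lg hT c (xU_mem_group hT hr _), img_lg hT c (xU_mem_group hT hr _),
      dU_conj_X hT hχ hr, mul_inv_cancel_right, mul_assoc]

/-- Every commutator of a torus lift with a lift of a root element is a chosen lift. -/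
theorem torus_commutator {d : E} {χ : ℕ → Fˣ} (hχ : T.IsChar χ) (hd : c.π d = T.dU χ) {r : ℕ}
    (hr : r < T.n) {x : E} {v : F} (hx : c.π x = T.xU F r v) :
    ⁅d, x⁆ = yt hT hS hF c r (((χ r : F) - 1) * v) := by
  rw [commutator_congr c.ker_le (x := d) (x' := d) rfl (hx.trans (img_yt hT hS hF c hr v).symm),
    commutatorElement_def, yt_conj_torus hT hS hF c hχ hd hr, yt_inv hT hC hS hF c hr,
    yt_add hT hC hS hF c hr]
  congr 1; ring

theorem yt_conj {r : ℕ} (hr : r < T.n) {e : E} (he : c.π e ∈ T.datum.monomialSubgroup F)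
    {w : Equiv.Perm (Fin T.n)} (hm : T.Mono (c.π e) w) (t : F) :
    ∃ t', e * yt hT hS hF c r t * e⁻¹ = yt hT hS hF c (w ⟨r, hr⟩).val t' := by
  obtain ⟨-, h2, -⟩ := mvChar_spec hT hS hF hr
  obtain ⟨k, hk⟩ := hm.conj ⟨r, hr⟩
  obtain ⟨χ', hχ', hd'⟩ := diag_exists_char hT (conj_diag hT he h2)
  set v : F := t * ((mvChar hT hS hF r r : F) - 1)⁻¹ with hv
  refine ⟨((χ' (w ⟨r, hr⟩).val : F) - 1) * ((k : F) * v), ?_⟩
  rw [yt, conj_commutatorElement]
  refine torus_commutator hT hC hS hF c hχ' ?_ (w ⟨r, hr⟩).2 ?_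
  · rw [map_mul, map_mul, map_inv, img_lg hT c (diag_le_group hT h2)]
    exact hd'
  · rw [map_mul, map_mul, map_inv, img_lg hT c (xU_mem_group hT hr _)]
    exact mul_inv_eq_iff_eq_mul.mpr (hk _).1

/-! ### Positive roots -/

/-- The subgroup generated by the chosen lifts of the roots from `k` on. -/
def yFrom (k : ℕ) : Subgroup E :=
  Subgroup.closure {e | ∃ j < T.n, k ≤ j ∧ ∃ t, e = yt hT hS hF c j t}

omit hC in
theorem yt_mem_yFrom {j k : ℕ} (hj : j < T.n) (hk : k ≤ j) (t : F) :
    yt hT hS hF c j t ∈ yFrom hT hS hF c k :=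
  Subgroup.subset_closure ⟨j, hj, hk, t, rfl⟩

omit hC in
theorem map_yFrom (k : ℕ) :
    (yFrom hT hS hF c k).map c.π = T.rootGen F (fun s => k ≤ s) := by
  rw [yFrom, rootGen, MonoidHom.map_closure]
  refine congrArg _ (Set.ext fun g => ⟨?_, ?_⟩)
  · rintro ⟨_, ⟨j, hj, hk, t, rfl⟩, rfl⟩
    exact ⟨j, hj, hk, t, img_yt hT hS hF c hj t⟩
  · rintro ⟨j, hj, hk, t, rfl⟩
    exact ⟨_, ⟨j, hj, hk, t, rfl⟩, img_yt hT hS hF c hj t⟩

/-- The lifted subgroup meets the kernel trivially. -/
def Inj (k : ℕ) : Prop := ∀ e ∈ yFrom hT hS hF c k, c.π e = 1 → e = 1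

omit hC in
theorem Inj.eq {k : ℕ} (h : Inj hT hS hF c k) {e e' : E} (he : e ∈ yFrom hT hS hF c k)
    (he' : e' ∈ yFrom hT hS hF c k) (hi : c.π e = c.π e') : e = e' :=
  mul_inv_eq_one.mp (h _ (mul_mem he (inv_mem he')) (by rw [map_mul, map_inv, hi, mul_inv_cancel]))

/-- A lifted positive root subgroup normalises the lifts of the later roots. -/
theorem conj_mem_yFrom {k : ℕ} (hk : T.half ≤ k) (hkn : k < T.n)
    (hI : Inj hT hS hF c (k + 1)) (t : F) {e : E} (he : e ∈ yFrom hT hS hF c (k + 1)) :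
    yt hT hS hF c k t * e * (yt hT hS hF c k t)⁻¹ ∈ yFrom hT hS hF c (k + 1) := by
  set g := yt hT hS hF c k t with hg
  induction he using Subgroup.closure_induction with
  | one => simp
  | mul a b _ _ ha hb => simpa [mul_assoc] using mul_mem ha hb
  | inv a _ ha => simpa [mul_assoc] using inv_mem ha
  | mem x hx =>
    obtain ⟨s, hs, hks, u, rfl⟩ := hx
    have hneg : s ≠ T.neg k := by unfold neg n at *; omega
    by_cases hnone : T.sum? k s = none
    · have hc := commute_lifts₂ hT hC hS hF c hkn hs hnone hneg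
        (img_yt hT hS hF c hkn t) (img_yt hT hS hF c hs u)
      rw [hg, hc.eq, mul_inv_cancel_right]
      exact yt_mem_yFrom hT hS hF c hs hks u
    have hp := (Bool.and_eq_true _ _).mp (show (chkMove1 T C k && allLt (chkPairT T C k) T.n) = true
      from allLt_iff.mp hS k hkn)
    have hp2 := allLt_iff.mp hp.2 s hs
    rw [chkPairT, if_neg hneg, if_neg (by simpa using hnone)] at hp2
    have hkill : chkKill T C k s = true := by
      have h := ((Bool.and_eq_true _ _).mp hp2).1
      rw [show Nat.ble T.half k = true from Nat.ble_eq_true_of_le hk,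
        show Nat.blt k s = true from Nat.ble_eq_true_of_le hks] at h
      simpa using h
    simp only [chkKill, List.any_eq_true, List.mem_range, Bool.and_eq_true, decide_eq_true_eq] at hkill
    obtain ⟨v, hv, hzero, hkk⟩ := hkill
    obtain ⟨cc, hcc⟩ := exists_char_ne_one hT hF hkk
    have hχ := isChar_hCh (F := F) hT v cc
    have hk1 : T.hCh v cc k = 1 := by show cc ^ T.pair v k = 1; rw [hzero, zpow_zero]
    set b : F := ((T.hCh v cc s : Fˣ) : F) with hb
    have hb1 : b - 1 ≠ 0 := sub_ne_zero.mpr fun h => hcc (Units.ext h)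
    obtain ⟨d, hd⟩ := c.le_range (diag_le_group hT (show T.dU (T.hCh v cc) ∈ T.datum.diagonalSubgroup F by
      rw [diagonalSubgroup_eq hT]; exact Subgroup.subset_closure ⟨v, hv, cc, rfl⟩))
    have hdg : d * g * d⁻¹ = g := by
      rw [hg, yt_conj_torus hT hS hF c hχ hd hkn, hk1, Units.val_one, one_mul]
    have hex : ∀ a : F, ∃ w ∈ yFrom hT hS hF c (k + 1),
        c.π w = c.π (g * yt hT hS hF c s a * g⁻¹) := by
      intro a
      have hn := Subgroup.mem_normalizer_iff.mp
        (xU_mem_normalizer_ge (F := F) hT hC hkn hk (show T.half ≤ k + 1 by omega) t)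
        (T.xU F s a)
      have := hn.mp (xU_mem_rootGen (P := fun j => k + 1 ≤ j) hs hks a)
      rw [← map_yFrom hT hS hF c] at this
      obtain ⟨w, hw, hwi⟩ := this
      refine ⟨w, hw, ?_⟩
      rw [hwi, map_mul, map_mul, map_inv, hg, img_yt hT hS hF c hkn, img_yt hT hS hF c hs]
    choose W hW hWi using hex
    set f : F → E := fun a => g * yt hT hS hF c s a * g⁻¹ * (W a)⁻¹ with hf
    have hfz : ∀ a, c.π (f a) = 1 := fun a => by
      simp only [hf, map_mul, map_inv, hWi, mul_inv_cancel]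
    have hfeq : ∀ a, g * yt hT hS hF c s a * g⁻¹ = f a * W a := fun a => by simp [hf]
    have hWadd : ∀ a a', W (a + a') = W a * W a' := fun a a' =>
      Inj.eq hT hS hF c hI (hW _) (mul_mem (hW _) (hW _)) (by
        rw [map_mul, hWi, hWi, hWi, ← map_mul, ← yt_add hT hC hS hF c hs]
        simp [mul_assoc])
    have hfadd : ∀ a a', f (a + a') = f a * f a' := fun a a' => by
      have e1 : g * yt hT hS hF c s (a + a') * g⁻¹ = (f a * W a) * (f a' * W a') := by
        rw [← hfeq, ← hfeq, ← yt_add hT hC hS hF c hs]; simp [mul_assoc]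
      rw [hfeq, hWadd, mul_assoc (f a) (W a), ← mul_assoc (W a) (f a'),
        ker_comm c.ker_le (hfz a') (W a), ← mul_assoc, ← mul_assoc, ← mul_assoc] at e1
      exact mul_right_cancel (mul_right_cancel e1)
    have hdW : ∀ a, d * W a * d⁻¹ = W (b * a) := fun a => by
      refine Inj.eq hT hS hF c hI ?_ (hW _) ?_
      · have hmem := hW a
        generalize W a = w at hmem ⊢
        induction hmem using Subgroup.closure_induction with
        | mem x hx =>
          obtain ⟨j, hj, hkj, t', rfl⟩ := hx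
          rw [yt_conj_torus hT hS hF c hχ hd hj]
          exact yt_mem_yFrom hT hS hF c hj hkj _
        | one => simp
        | mul x y _ _ hx hy => simpa [mul_assoc] using mul_mem hx hy
        | inv x _ hx => simpa [mul_assoc] using inv_mem hx
      · rw [map_mul, map_mul, hWi, hWi, ← map_mul, ← map_mul]
        rw [← yt_conj_torus hT hS hF c hχ hd hs a]
        conv_rhs => rw [← hdg]
        congr 1; group
    have hfb : ∀ a, f (b * a) = f a := fun a => by
      have e1 : d * f a * d⁻¹ = f (b * a) := by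
        calc d * f a * d⁻¹ = (d * g * d⁻¹) * (d * yt hT hS hF c s a * d⁻¹) * (d * g * d⁻¹)⁻¹ *
              (d * W a * d⁻¹)⁻¹ := by simp only [hf]; group
          _ = f (b * a) := by rw [hdg, hdW, yt_conj_torus hT hS hF c hχ hd hs]
      rw [← e1, ker_comm c.ker_le (hfz a), mul_inv_cancel_right]
    have hfu : f u = 1 := by
      have h := hfadd ((b - 1) * (u / (b - 1))) (u / (b - 1))
      rw [show (b - 1) * (u / (b - 1)) + u / (b - 1) = b * (u / (b - 1)) by ring, hfb,
        right_eq_mul, show (b - 1) * (u / (b - 1)) = u by field_simp] at h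
      exact h
    rw [hfeq, hfu, one_mul]
    exact hW u

theorem inj_yFrom : ∀ m k, k + m = T.n → T.half ≤ k → Inj hT hS hF c k := by
  intro m
  induction m with
  | zero =>
    intro k hk _ e he _
    have : yFrom hT hS hF c k = ⊥ := by
      rw [yFrom, Subgroup.closure_eq_bot_iff]
      rintro _ ⟨j, hj, hkj, -⟩
      omega
    rw [this] at he
    exact Subgroup.mem_bot.mp he
  | succ m ih =>
    intro k hk hhalf
    have hkn : k < T.n := by omega
    have hI := ih (k + 1) (by omega) (by omega)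
    let S : Subgroup E :=
      { carrier := {e | ∃ t, ∃ w ∈ yFrom hT hS hF c (k + 1), e = yt hT hS hF c k t * w}
        one_mem' := ⟨0, 1, one_mem _, by rw [yt_zero hT hC hS hF c hkn, mul_one]⟩
        mul_mem' := by
          rintro _ _ ⟨t, w, hw, rfl⟩ ⟨t', w', hw', rfl⟩
          have h := conj_mem_yFrom hT hC hS hF c hhalf hkn hI (-t') hw
          rw [← yt_inv hT hC hS hF c hkn t', inv_inv] at h
          refine ⟨t + t', _, mul_mem h hw', ?_⟩
          rw [← yt_add hT hC hS hF c hkn]
          group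
        inv_mem' := by
          rintro _ ⟨t, w, hw, rfl⟩
          refine ⟨-t, _, conj_mem_yFrom hT hC hS hF c hhalf hkn hI t (inv_mem hw), ?_⟩
          rw [← yt_inv hT hC hS hF c hkn t]
          group }
    have hle : yFrom hT hS hF c k ≤ S := by
      rw [yFrom, Subgroup.closure_le]
      rintro _ ⟨j, hj, hkj, t, rfl⟩
      rcases Nat.eq_or_lt_of_le hkj with rfl | hlt
      · exact ⟨t, 1, one_mem _, (mul_one _).symm⟩
      · exact ⟨0, _, yt_mem_yFrom hT hS hF c hj hlt t, by
          rw [yt_zero hT hC hS hF c hkn, one_mul]⟩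
    intro e he hπ
    obtain ⟨t, w, hw, rfl⟩ := hle he
    rw [map_mul, img_yt hT hS hF c hkn] at hπ
    have hwmem : c.π w ∈ T.rootGen F (fun s => k + 1 ≤ s) :=
      (map_yFrom hT hS hF c (k + 1)).le ⟨w, hw, rfl⟩
    obtain ⟨rfl, hw1⟩ := xU_mul_inj hT hC hhalf hkn (t := t) (t' := 0) hwmem (one_mem _)
      (by rw [hπ, xU_zero hT hkn, one_mul])
    rw [yt_zero hT hC hS hF c hkn, one_mul]
    exact hI w hw hw1

omit hC hS hF in
theorem pw_val (l : List (Fin T.rank)) (y : Fin T.n) :
    (T.pw hT l y).val = T.actWord (l.map Fin.val) y.val := by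
  induction l with
  | nil => rfl
  | cons i l ih =>
    show (T.refP hT i (T.pw hT l y)).val = T.refl i.val (T.actWord (l.map Fin.val) y.val)
    rw [← ih]; rfl

/-- The relations, for any pair. -/
theorem yt_rel {r s : ℕ} (hr : r < T.n) (hs : s < T.n) (hne : s ≠ r) (hneg : s ≠ T.neg r)
    (t u : F) :
    yt hT hS hF c s u * yt hT hS hF c r t = yt hT hS hF c r t * yt hT hS hF c s u *
      ((T.commT r s).map fun k =>
        yt hT hS hF c k.1 ((k.2.1 : F) * (-t) ^ k.2.2.1 * u ^ k.2.2.2)).prod := by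
  cases hsum : T.sum? r s with
  | none =>
    rw [commT_eq_nil hT hr hs hsum, List.map_nil, List.prod_nil, mul_one]
    exact (commute_lifts₂ hT hC hS hF c hr hs hsum hneg (img_yt hT hS hF c hr t)
      (img_yt hT hS hF c hs u)).symm.eq
  | some p =>
    have hp := allLt_iff.mp hS r hr
    simp only [chkTorusRow, Bool.and_eq_true, allLt_iff] at hp
    have hp2 := hp.2 s hs
    rw [chkPairT, if_neg hneg, hsum, if_neg (by simp)] at hp2
    simp only [Bool.and_eq_true, List.any_eq_true, List.all_eq_true, Nat.ble_eq, Nat.blt_eq] at hp2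
    obtain ⟨-, l, -, ⟨⟨⟨hl, hlr⟩, hls⟩, hlc⟩⟩ := hp2
    obtain ⟨l', rfl⟩ : ∃ l' : List (Fin T.rank), l'.map Fin.val = l :=
      ⟨l.pmap (fun i hi => (⟨i, hi⟩ : Fin T.rank)) hl, by simp [List.map_pmap]⟩
    have hN := nw_mem (F := F) hT l'
    obtain ⟨e, he⟩ := c.le_range (show T.nw F l' ∈ T.datum.group F from by
      refine list_prod_mem fun x hx => ?_
      obtain ⟨i, -, rfl⟩ := List.mem_map.mp hx
      exact mul_mem (mul_mem (xU_mem_group hT (simple_lt hT i.2) _)
        (xU_mem_group hT (neg_lt' (simple_lt hT i.2)) _)) (xU_mem_group hT (simple_lt hT i.2) _))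
    have heN : c.π e ∈ T.datum.monomialSubgroup F := he ▸ hN
    have hm : T.Mono (c.π e) (T.pw hT l') := he ▸ mono_nw hT l'
    have hmove : ∀ {j : ℕ}, j < T.n → T.half ≤ T.actWord (l'.map Fin.val) j → ∀ a,
        e * yt hT hS hF c j a * e⁻¹ ∈ yFrom hT hS hF c T.half := by
      intro j hj hpos a
      obtain ⟨a', ha'⟩ := yt_conj hT hC hS hF c hj heN hm a
      rw [ha']
      exact yt_mem_yFrom hT hS hF c (T.pw hT l' ⟨j, hj⟩).2 (by rw [pw_val hT]; exact hpos) _
    have hprod : ∀ (L : List (ℕ × ℤ × ℕ × ℕ)), (∀ k ∈ L, k.1 < T.n ∧ T.half ≤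
          T.actWord (l'.map Fin.val) k.1) → ∀ (a : ℕ × ℤ × ℕ × ℕ → F),
        e * (L.map fun k => yt hT hS hF c k.1 (a k)).prod * e⁻¹ ∈ yFrom hT hS hF c T.half := by
      intro L hL a
      induction L with
      | nil => simp
      | cons k L ih =>
        have h1 := hmove (hL k List.mem_cons_self).1 (hL k List.mem_cons_self).2 (a k)
        have h2 := ih fun k' hk' => hL k' (List.mem_cons_of_mem _ hk')
        simpa [mul_assoc] using mul_mem h1 h2
    have himg : c.π (yt hT hS hF c s u * yt hT hS hF c r t) =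
        c.π (yt hT hS hF c r t * yt hT hS hF c s u *
          ((T.commT r s).map fun k =>
            yt hT hS hF c k.1 ((k.2.1 : F) * (-t) ^ k.2.2.1 * u ^ k.2.2.2)).prod) := by
      rw [map_mul, map_mul, map_mul, map_list_prod, List.map_map, img_yt hT hS hF c hr,
        img_yt hT hS hF c hs, comm_xU hT hC hr hs hne hneg t u]
      congr 1
      exact congrArg List.prod (List.map_congr_left fun k hk => by
        rw [Function.comp_apply, img_yt hT hS hF c (commT_lt hT hr hs k hk)])
    have hI := inj_yFrom hT hC hS hF c T.half T.half (by show T.half + T.half = 2 * T.half; omega) le_rfl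
    have key := Inj.eq hT hS hF c hI
      (e := e * (yt hT hS hF c s u * yt hT hS hF c r t) * e⁻¹)
      (e' := e * (yt hT hS hF c r t * yt hT hS hF c s u *
          ((T.commT r s).map fun k =>
            yt hT hS hF c k.1 ((k.2.1 : F) * (-t) ^ k.2.2.1 * u ^ k.2.2.2)).prod) * e⁻¹)
      (by simpa [mul_assoc] using mul_mem (hmove hs hls u) (hmove hr hlr t))
      (by
        have h3 := hprod (T.commT r s) (fun k hk => ⟨commT_lt hT hr hs k hk, hlc k hk⟩)
          fun k => (k.2.1 : F) * (-t) ^ k.2.2.1 * u ^ k.2.2.2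
        simpa [mul_assoc] using mul_mem (mul_mem (hmove hr hlr t) (hmove hs hls u)) h3)
      (by simp only [map_mul c.π e, map_mul c.π (e * _), himg])
    exact mul_left_cancel (mul_right_cancel key)

/-- The lifts. -/
noncomputable def yLiftT : YLift c where
  y := yt hT hS hF c
  img r hr t := img_yt hT hS hF c hr t
  add r hr t u := yt_add hT hC hS hF c hr t u
  rel r hr s hs hne hneg t u := yt_rel hT hC hS hF c hr hs hne hneg t u
  conj r hr e _ he t := by
    obtain ⟨w, -, hm⟩ := exists_mono hT he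
    obtain ⟨t', ht'⟩ := yt_conj hT hC hS hF c hr he hm t
    exact ⟨_, (w ⟨r, hr⟩).2, t', ht'⟩

omit hC in
/-- The presented group is perfect. -/
theorem sX_mem_commutator' (hO : T.StOk) {r : ℕ} (hr : r < T.n) (t : F) :
    T.sX F r t ∈ commutator (T.datum.SteinbergGroup F) := by
  obtain ⟨h1, h2, h3⟩ := mvChar_spec hT hS hF hr
  set χ := mvChar hT hS hF r with hχ
  obtain ⟨f, hf⟩ := MonoidHom.mem_range.mp ((torusHom_range (F := F) hT).ge h2)
  have hg : sTorus hO f ∈ T.sDiag F := by
    exact (show (⊤ : Subgroup (Fin T.rank → Fˣ)) ≤ (T.sDiag F).comap (sTorus hO) by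
      intro x _
      classical
      rw [Subgroup.mem_comap]
      refine Subgroup.pi_mem_of_mulSingle_mem (H := (T.sDiag F).comap (sTorus hO)) x fun i => ?_
      rw [Subgroup.mem_comap, sTorus_single]
      exact sH_mem_sDiag hO i (Units.ne_zero _)) (Subgroup.mem_top f)
  have hL := lifts_sDiag hO hg
  have hc := hL.conj ⟨r, hr⟩ (t * ((χ r : F) - 1)⁻¹) ((χ r : F) * (t * ((χ r : F) - 1)⁻¹)) (by
    rw [hom_sTorus, hf]; exact dU_conj_X hT h1 hr _)
  have : ⁅sTorus hO f, T.sX F r (t * ((χ r : F) - 1)⁻¹)⁆ = T.sX F r t := by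
    rw [commutatorElement_def, hc, Equiv.Perm.one_apply, mul_inv_cancel_right,
      sX_inv hT hr, sX_add hT hr]
    congr 1; field_simp; ring
  rw [← this, _root_.commutator_def]
  exact Subgroup.commutator_mem_commutator (Subgroup.mem_top _) (Subgroup.mem_top _)

end Torus

end CfsgLib.KnownA.SteinbergUniv
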