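import Cfsg.Agent.Lib.Orth.Basic

/-!
# Sylow `2`-subgroups of `O⁺(2m, 2)` meet non-trivially
-/

set_option autoImplicit false
set_option linter.unusedSectionVars false

namespace CfsgLib.KnownA.SylowMeetPlus

open QuadraticMap Module CfsgLib.Orth

variable {F V : Type*} [Field F] [AddCommGroup V] [Module F V] (Q : QuadraticForm F V)

/-- The stabiliser of a vector. -/
def fixer (a : V) : Subgroup (orthGroup Q) where
  carrier := {g | g.1 a = a}
  one_mem' := rfl
  mul_mem' := fun {g h} hg hh => by
    show g.1 (h.1 a) = a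
    rw [hh, hg]
  inv_mem' := fun {g} hg => by
    show g.1.symm a = a
    rw [LinearEquiv.symm_apply_eq, hg]

/-- The elements trivial on `a^⊥` modulo `a`. -/
def unip (a : V) : Subgroup (orthGroup Q) where
  carrier := {g | g.1 a = a ∧ ∀ v, polar Q a v = 0 → ∃ c : F, g.1 v = v + c • a}
  one_mem' := ⟨rfl, fun v _ => ⟨0, by simp⟩⟩
  mul_mem' := fun {g h} hg hh => ⟨by show g.1 (h.1 a) = a; rw [hh.1, hg.1], fun v hv => by
    obtain ⟨c, hc⟩ := hh.2 v hv
    obtain ⟨d, hd⟩ := hg.2 v hv
    refine ⟨d + c, ?_⟩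
    show g.1 (h.1 v) = _
    rw [hc, map_add, map_smul, hd, hg.1, add_smul, add_assoc]⟩
  inv_mem' := fun {g} hg => ⟨by
    show g.1.symm a = a
    rw [LinearEquiv.symm_apply_eq, hg.1], fun v hv => by
    obtain ⟨c, hc⟩ := hg.2 v hv
    refine ⟨-c, ?_⟩
    show g.1.symm v = _
    rw [LinearEquiv.symm_apply_eq, map_add, map_smul, hc, hg.1, neg_smul, add_assoc, add_neg_cancel,
      add_zero]⟩

variable {Q}

theorem unip_le_fixer (a : V) : unip Q a ≤ fixer Q a := fun _ hg => hg.1

theorem unip_conj {a : V} {g h : orthGroup Q} (hg : g ∈ unip Q a) (hh : h ∈ fixer Q a) :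
    h * g * h⁻¹ ∈ unip Q a := by
  have hh' : (h⁻¹).1 a = a := (fixer Q a).inv_mem hh
  refine ⟨?_, fun v hv => ?_⟩
  · show h.1 (g.1 ((h⁻¹).1 a)) = a
    rw [hh', hg.1, hh]
  · obtain ⟨c, hc⟩ := hg.2 ((h⁻¹).1 v) (by
      rw [← hh', polar_isom (h⁻¹) a v, hv])
    refine ⟨c, ?_⟩
    show h.1 (g.1 ((h⁻¹).1 v)) = _
    rw [hc, map_add, map_smul, inv_apply, hh]

theorem fixer_le_normalizer (a : V) :
    fixer Q a ≤ Subgroup.normalizer ((unip Q a : Subgroup (orthGroup Q)) : Set (orthGroup Q)) := by
  intro h hh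
  rw [Subgroup.mem_normalizer_iff]
  refine fun g => ⟨fun hg => unip_conj hg hh, fun hg => ?_⟩
  have := unip_conj hg (inv_mem hh)
  simpa [mul_assoc] using this

/-- A subspace on which the form vanishes. -/
def Singular (Q : QuadraticForm F V) (U : Submodule F V) : Prop := ∀ u ∈ U, Q u = 0

theorem Singular.polar_eq {U : Submodule F V} (hU : Singular Q U) {u v : V} (hu : u ∈ U) (hv : v ∈ U) :
    polar Q u v = 0 := by
  simp [polar, hU _ (add_mem hu hv), hU _ hu, hU _ hv]

theorem finite_orth [Finite V] : Finite (orthGroup Q) :=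
  Finite.of_injective (fun g => (g.1 : V → V)) fun g h e =>
    Subtype.ext (LinearEquiv.ext fun v => congrFun e v)

section Two

variable [FiniteDimensional F V] (hQ : (QuadraticMap.polarBilin Q).Nondegenerate) (hF : ∀ c : F, c = 0 ∨ c = 1)

include hQ in
theorem exists_partner {a : V} (ha : a ≠ 0) (hqa : Q a = 0) : ∃ b, Q b = 0 ∧ polar Q a b = 1 := by
  obtain ⟨z, -, hz⟩ := exists_polar_one hQ (W := (⊥ : Submodule F V)) (x := a) (by simpa using ha)
  refine ⟨z + (-Q z) • a, ?_, ?_⟩
  · rw [quad_add', quad_smul', polar_smul_r', hqa, hz]; ring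
  · rw [polar_add_right, polar_smul_r', polar_self', hqa, polar_comm, hz]; ring

include hQ in
theorem eq_smul_of_perp {a b e : V} (hab : polar Q a b = 1)
    (he : ∀ v, polar Q a v = 0 → polar Q e v = 0) : e = polar Q e b • a := by
  have h : e + (-(polar Q e b)) • a = 0 := eq_zero_of_polar hQ fun v => by
    have h' := he (v + (-(polar Q a v)) • b) (by rw [polar_add_right, polar_smul_r', hab]; ring)
    rw [polar_add_right, polar_smul_r'] at h'
    rw [polar_add_left, polar_smul_l']
    linear_combination h'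
  rwa [neg_smul, ← sub_eq_add_neg, sub_eq_zero] at h

include hQ hF in
theorem unip_sq {a : V} (ha : a ≠ 0) (hqa : Q a = 0) {g : orthGroup Q} (hg : g ∈ unip Q a) :
    g * g = 1 := by
  obtain ⟨b, hqb, hab⟩ := exists_partner hQ ha hqa
  have h2 : ∀ c : F, c + c = 0 := by
    have h11 : (1 : F) + 1 = 0 := (hF (1 + 1)).resolve_right fun h => one_ne_zero (α := F) (by linear_combination h)
    intro c; linear_combination c * h11
  have hv2 : ∀ v, polar Q a v = 0 → g.1 (g.1 v) = v := by
    intro v hv
    obtain ⟨c, hc⟩ := hg.2 v hv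
    rw [hc, map_add, map_smul, hg.1, hc, add_assoc, ← add_smul, h2, zero_smul, add_zero]
  have he : ∀ v, polar Q a v = 0 → polar Q (g.1 (g.1 b) + -b) v = 0 := by
    intro v hv
    rw [polar_add_left, polar_neg_left]
    conv_lhs => rw [← hv2 v hv]
    rw [polar_isom, polar_isom, hv2 v hv, add_neg_cancel]
  have hb := eq_smul_of_perp hQ hab he
  set s := polar Q (g.1 (g.1 b) + -b) b
  have hs : s = 0 := by
    have hb' : g.1 (g.1 b) = b + s • a := by rw [← hb]; abel
    have h : Q (g.1 (g.1 b)) = Q b := by rw [apply_quad, apply_quad]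
    rw [hb', quad_add', quad_smul', polar_smul_r', hqa, hqb, polar_comm, hab] at h
    linear_combination h
  refine Subtype.ext (LinearEquiv.ext fun v => ?_)
  show g.1 (g.1 v) = v
  have hd : v = (v + (-(polar Q a v)) • b) + polar Q a v • b := by rw [neg_smul]; abel
  have hbb : g.1 (g.1 b) = b := by
    rw [hs, zero_smul, ← sub_eq_add_neg, sub_eq_zero] at hb; exact hb
  conv_lhs => rw [hd]
  rw [map_add, map_add, map_smul, map_smul, hbb,
    hv2 (v + (-(polar Q a v)) • b) (by rw [polar_add_right, polar_smul_r', hab]; ring), ← hd]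

include hQ hF in
theorem isPGroup_unip {a : V} (ha : a ≠ 0) (hqa : Q a = 0) : IsPGroup 2 (unip Q a) := fun g =>
  ⟨1, Subtype.ext (by rw [Subgroup.coe_pow, pow_one, _root_.sq]; exact unip_sq hQ hF ha hqa g.2)⟩

include hQ in
theorem exists_siegel_mem {a w : V} (hqa : Q a = 0) (haw : polar Q a w = 0) :
    ∃ g ∈ unip Q a, ∀ v, g.1 v =
      v + polar Q a v • w + (-(polar Q w v) - Q w * polar Q a v) • a := by
  obtain ⟨g, hg⟩ := exists_siegel hQ hqa haw
  refine ⟨g, ⟨?_, fun v hv => ?_⟩, hg⟩
  · rw [hg, polar_self', hqa, polar_comm, haw]; simp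
  · exact ⟨_, by rw [hg, hv, zero_smul, add_zero]⟩

include hQ hF in
theorem unip_le_sylow [Finite V] {a : V} (ha : a ≠ 0) (hqa : Q a = 0) (H : Sylow 2 (orthGroup Q))
    (hH : (H : Subgroup (orthGroup Q)) ≤ fixer Q a) : unip Q a ≤ (H : Subgroup (orthGroup Q)) := by
  have hsup := H.isPGroup'.to_sup_of_normal_right' (isPGroup_unip hQ hF ha hqa)
    (hH.trans (fixer_le_normalizer a))
  have := H.is_maximal' hsup le_sup_left
  exact this ▸ le_sup_right

include hQ hF in
theorem odd_singular [Finite V] {U : Submodule F V} (hU : Singular Q U) (h2 : 2 ≤ finrank F U) :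
    ¬ 2 ∣ Nat.card {v : V // v ≠ 0 ∧ Q v = 0} := by
  classical
  have h11 : (1 : F) + 1 = 0 := (hF (1 + 1)).resolve_right fun h => one_ne_zero (α := F) (by linear_combination h)
  obtain ⟨u₁, hu₁, hne₁⟩ := Submodule.exists_mem_ne_zero_of_ne_bot (p := U) (by
    rintro rfl; simp at h2)
  obtain ⟨u₂, hu₂, hne₂⟩ : ∃ u₂ ∈ U, u₂ ∉ Submodule.span F {u₁} := by
    by_contra hall
    push Not at hall
    have := Submodule.finrank_mono (show U ≤ Submodule.span F {u₁} from hall)
    rw [finrank_span_singleton hne₁] at this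
    omega
  let pick : V → V := fun v =>
    if polar Q v u₁ = 0 then u₁ else if polar Q v u₂ = 0 then u₂ else u₁ + u₂
  have hmem : ∀ v, pick v ∈ U := fun v => by
    simp only [pick]; split_ifs <;> first | exact hu₁ | exact hu₂ | exact add_mem hu₁ hu₂
  have hperp : ∀ v, polar Q v (pick v) = 0 := fun v => by
    simp only [pick]
    split_ifs with h h'
    · exact h
    · exact h'
    · rw [polar_add_right, (hF _).resolve_left h, (hF _).resolve_left h', h11]
  have hne : ∀ v, pick v ≠ 0 := fun v => by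
    simp only [pick]
    split_ifs
    · exact hne₁
    · rintro rfl; exact hne₂ (zero_mem _)
    · intro h
      exact hne₂ (by rw [eq_neg_of_add_eq_zero_right h]; exact neg_mem (Submodule.mem_span_singleton_self _))
  have hinv : ∀ v, pick (v + pick v) = pick v := fun v => by
    have hp : ∀ u ∈ U, polar Q (v + pick v) u = polar Q v u := fun u hu => by
      rw [polar_add_left, hU.polar_eq (hmem v) hu, add_zero]
    simp only [pick] at hp ⊢
    rw [hp u₁ hu₁, hp u₂ hu₂]
  let f : {v : V // Q v = 0} → {v : V // Q v = 0} := fun v =>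
    ⟨v.1 + pick v.1, by rw [quad_add', v.2, hU _ (hmem _), hperp]; simp⟩
  have hf : Function.Involutive f := fun v => Subtype.ext (by
    show v.1 + pick v.1 + pick (v.1 + pick v.1) = v.1
    rw [hinv, add_assoc, ← one_smul F (pick v.1), ← add_smul, h11, zero_smul, add_zero])
  haveI := Fintype.ofFinite {v : V // Q v = 0}
  have heven : 2 ∣ Nat.card {v : V // Q v = 0} := by
    by_contra hodd
    rw [Nat.card_eq_fintype_card] at hodd
    haveI : Fact (Nat.Prime 2) := ⟨Nat.prime_two⟩
    obtain ⟨v, hv⟩ := Equiv.Perm.exists_fixed_point_of_prime (p := 2) (n := 1) hodd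
      (σ := hf.toPerm) (Equiv.ext fun v => by simp [pow_succ, hf v])
    exact hne v.1 (by simpa [f] using congrArg Subtype.val hv)
  have hsplit : Nat.card {v : V // Q v = 0} = Nat.card {v : V // v ≠ 0 ∧ Q v = 0} + 1 := by
    rw [← Finite.card_option]
    exact Nat.card_congr
      { toFun := fun v => if h : v.1 = 0 then none else some ⟨v.1, h, v.2⟩
        invFun := fun o => o.elim ⟨0, QuadraticMap.map_zero Q⟩ fun v => ⟨v.1, v.2.2⟩
        left_inv := fun v => by
          by_cases h : v.1 = 0
          · simp only [dif_pos h]; exact Subtype.ext h.symm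
          · simp [dif_neg h]
        right_inv := fun o => by
          rcases o with _ | v
          · simp
          · simp [v.2.1] }
  omega

include hQ hF in
theorem exists_fixed [Finite V] {U : Submodule F V} (hU : Singular Q U) (h2 : 2 ≤ finrank F U)
    (H : Sylow 2 (orthGroup Q)) :
    ∃ a, a ≠ 0 ∧ Q a = 0 ∧ (H : Subgroup (orthGroup Q)) ≤ fixer Q a := by
  letI : MulAction (H : Subgroup (orthGroup Q)) {v : V // v ≠ 0 ∧ Q v = 0} :=
    { smul := fun g v => ⟨g.1.1 v.1, fun h => v.2.1 (g.1.1.map_eq_zero_iff.1 h), by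
        rw [apply_quad, v.2.2]⟩
      one_smul := fun _ => rfl
      mul_smul := fun _ _ _ => rfl }
  haveI : Fact (Nat.Prime 2) := ⟨Nat.prime_two⟩
  obtain ⟨a, ha⟩ := H.isPGroup'.nonempty_fixed_point_of_prime_not_dvd_card
    {v : V // v ≠ 0 ∧ Q v = 0} (odd_singular hQ hF hU h2)
  exact ⟨a.1, a.2.1, a.2.2, fun g hg => congrArg Subtype.val (ha ⟨g, hg⟩)⟩

end Two

section Pair

variable [FiniteDimensional F V] (hQ : (QuadraticMap.polarBilin Q).Nondegenerate)
variable {a b : V} (hqa : Q a = 0) (hqb : Q b = 0) (hab : polar Q a b = 1)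

variable (Q a b) in
/-- The two functionals of a hyperbolic pair. -/
def pairMap : V →ₗ[F] F × F :=
  (QuadraticMap.polarBilin Q a).prod (QuadraticMap.polarBilin Q b)

variable (Q a b) in
/-- The complement of a hyperbolic pair. -/
def comp : Submodule F V := LinearMap.ker (pairMap Q a b)

theorem mem_comp {v : V} : v ∈ comp Q a b ↔ polar Q a v = 0 ∧ polar Q b v = 0 := by
  simp [comp, pairMap, Prod.ext_iff]

theorem polar_comp (x y : comp Q a b) : polar (Q.comp (comp Q a b).subtype) x y = polar Q x.1 y.1 := rfl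

include hqa hqb hab in
theorem proj_mem (v : V) : v + (-(polar Q b v)) • a + (-(polar Q a v)) • b ∈ comp Q a b := by
  have hba : polar Q b a = 1 := by rw [polar_comm, hab]
  simp only [mem_comp, polar_add_right, polar_smul_r', polar_self', hqa, hqb, hab, hba]
  constructor <;> ring

include hQ hqa hqb hab in
theorem comp_nondeg : (QuadraticMap.polarBilin (Q.comp (comp Q a b).subtype)).Nondegenerate := by
  have h : ∀ x : comp Q a b, (∀ y, polar (Q.comp (comp Q a b).subtype) x y = 0) → x = 0 := fun x hx => by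
    refine Subtype.ext (eq_zero_of_polar hQ fun v => ?_)
    have h' := hx ⟨_, proj_mem hqa hqb hab v⟩
    rw [polar_comp] at h'
    have hx' := mem_comp.1 x.2
    simpa [polar_add_right, polar_smul_r', polar_comm _ x.1 a, polar_comm _ x.1 b, hx'.1, hx'.2] using h'
  exact ⟨h, fun y hy => h y fun x => by rw [polar_comm]; exact hy x⟩

include hqa hqb hab in
theorem finrank_comp {k : ℕ} (hdim : finrank F V = 2 * (k + 1)) : finrank F (comp Q a b) = 2 * k := by
  have hba : polar Q b a = 1 := by rw [polar_comm, hab]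
  have hs : LinearMap.range (pairMap Q a b) = ⊤ := LinearMap.range_eq_top.2 fun p => ⟨p.2 • a + p.1 • b, by
    simp [pairMap, polar_add_right, polar_smul_r', polar_self', hqa, hqb, hab, hba]⟩
  have h := LinearMap.finrank_range_add_finrank_ker (pairMap Q a b)
  rw [hs, finrank_top, Module.finrank_prod, finrank_self, hdim] at h
  show finrank F (LinearMap.ker (pairMap Q a b)) = 2 * k
  omega

include hqa hab in
theorem singular_comp {k : ℕ} {U : Submodule F V} (hU : Singular Q U) (hk : k + 1 ≤ finrank F U) :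
    ∃ U' : Submodule F (comp Q a b), Singular (Q.comp (comp Q a b).subtype) U' ∧ k ≤ finrank F U' := by
  set A := LinearMap.ker (QuadraticMap.polarBilin Q a)
  have hA : ∀ v, v ∈ A ↔ polar Q a v = 0 := fun v => by simp [A]
  -- a totally singular subspace containing `a`
  obtain ⟨U₁, hU₁, ha₁, hk₁⟩ : ∃ U₁ : Submodule F V, Singular Q U₁ ∧ a ∈ U₁ ∧ k + 1 ≤ finrank F U₁ := by
    by_cases ha : a ∈ U
    · exact ⟨U, hU, ha, hk⟩
    refine ⟨(U ⊓ A) ⊔ Submodule.span F {a}, ?_, Submodule.mem_sup_right (Submodule.mem_span_singleton_self a), ?_⟩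
    · intro v hv
      obtain ⟨u, hu, w, hw, rfl⟩ := Submodule.mem_sup.1 hv
      obtain ⟨c, rfl⟩ := Submodule.mem_span_singleton.1 hw
      rw [quad_add', quad_smul', polar_smul_r', hU u hu.1, hqa, polar_comm, (hA u).1 hu.2]; ring
    · have hne : a ≠ 0 := fun h => by simp [h] at hab
      have h1 := Submodule.finrank_sup_add_finrank_inf_eq (U ⊓ A) (Submodule.span F {a})
      have h0 : (U ⊓ A) ⊓ Submodule.span F {a} = ⊥ := by
        rw [eq_bot_iff]
        intro v hv
        obtain ⟨c, rfl⟩ := Submodule.mem_span_singleton.1 hv.2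
        rcases eq_or_ne c 0 with rfl | hc
        · simp
        · exact absurd ((Submodule.smul_mem_iff _ hc).1 hv.1.1) ha
      rw [h0, finrank_bot, finrank_span_singleton hne, add_zero] at h1
      have h2 := LinearMap.finrank_range_add_finrank_ker ((QuadraticMap.polarBilin Q a).domRestrict U)
      have h3 := Submodule.finrank_le (LinearMap.range ((QuadraticMap.polarBilin Q a).domRestrict U))
      rw [finrank_self] at h3
      have h4 : finrank F (LinearMap.ker ((QuadraticMap.polarBilin Q a).domRestrict U))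
          ≤ finrank F ↥(U ⊓ A) :=
        LinearMap.finrank_le_finrank_of_injective
          (f := LinearMap.codRestrict (U ⊓ A) (U.subtype.comp (LinearMap.ker ((QuadraticMap.polarBilin Q a).domRestrict U)).subtype)
            fun x => ⟨x.1.2, x.2⟩) fun x y h => Subtype.ext (Subtype.ext (congrArg (fun z : ↥(U ⊓ A) => (z : V)) h))
      omega
  refine ⟨U₁.comap (comp Q a b).subtype, fun x hx => hU₁ _ hx, ?_⟩
  have h2 := LinearMap.finrank_range_add_finrank_ker ((QuadraticMap.polarBilin Q b).domRestrict U₁)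
  have h3 := Submodule.finrank_le (LinearMap.range ((QuadraticMap.polarBilin Q b).domRestrict U₁))
  rw [finrank_self] at h3
  have hin : ∀ x : LinearMap.ker ((QuadraticMap.polarBilin Q b).domRestrict U₁), (x.1.1 : V) ∈ comp Q a b :=
    fun x => mem_comp.2 ⟨hU₁.polar_eq ha₁ x.1.2, x.2⟩
  have h4 : finrank F (LinearMap.ker ((QuadraticMap.polarBilin Q b).domRestrict U₁))
      ≤ finrank F (U₁.comap (comp Q a b).subtype) :=
    LinearMap.finrank_le_finrank_of_injective
      (f := LinearMap.codRestrict _ (LinearMap.codRestrict (comp Q a b)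
        (U₁.subtype.comp (LinearMap.ker ((QuadraticMap.polarBilin Q b).domRestrict U₁)).subtype) hin)
        fun x => x.1.2)
      fun x y h => Subtype.ext (Subtype.ext (congrArg (fun z : U₁.comap (comp Q a b).subtype => ((z : comp Q a b) : V)) h))
  omega

theorem apply_mem_comp {g : orthGroup Q} (hg : g ∈ fixer Q a ⊓ fixer Q b) {v : V}
    (hv : v ∈ comp Q a b) : g.1 v ∈ comp Q a b := by
  have hga : g.1 a = a := hg.1
  have hgb : g.1 b = b := hg.2
  have h := mem_comp.1 hv
  refine mem_comp.2 ⟨?_, ?_⟩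
  · rw [← hga, polar_isom, h.1]
  · rw [← hgb, polar_isom, h.2]

include hQ hqa hqb hab in
theorem exists_restrict : Nonempty {e : ↥(fixer Q a ⊓ fixer Q b) ≃* orthGroup (Q.comp (comp Q a b).subtype) //
    ∀ g x, ((e g).1 x : V) = g.1.1 x.1} := by
  let res : ↥(fixer Q a ⊓ fixer Q b) →* orthGroup (Q.comp (comp Q a b).subtype) :=
    MonoidHom.mk' (fun g => ⟨
      { toFun := fun x => ⟨g.1.1 x.1, apply_mem_comp g.2 x.2⟩
        invFun := fun x => ⟨(g⁻¹).1.1 x.1, apply_mem_comp (g⁻¹).2 x.2⟩
        map_add' := fun x y => Subtype.ext (map_add g.1.1 x.1 y.1)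
        map_smul' := fun c x => Subtype.ext (map_smul g.1.1 c x.1)
        left_inv := fun x => Subtype.ext (g.1.1.symm_apply_apply x.1)
        right_inv := fun x => Subtype.ext (g.1.1.apply_symm_apply x.1) },
      fun x => apply_quad g.1 x.1⟩) fun g h => rfl
  have hbij : Function.Bijective res := by
    constructor
    · intro g h heq
      refine Subtype.ext (Subtype.ext (LinearEquiv.ext fun v => ?_))
      have hv : v = (v + (-(polar Q b v)) • a + (-(polar Q a v)) • b) + polar Q b v • a + polar Q a v • b := by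
        simp only [neg_smul]; abel
      have hga : g.1.1 a = a := g.2.1
      have hgb : g.1.1 b = b := g.2.2
      have hha : h.1.1 a = a := h.2.1
      have hhb : h.1.1 b = b := h.2.2
      have hp : g.1.1 (v + (-(polar Q b v)) • a + (-(polar Q a v)) • b)
          = h.1.1 (v + (-(polar Q b v)) • a + (-(polar Q a v)) • b) :=
        congrArg (fun r : orthGroup (Q.comp (comp Q a b).subtype) =>
          (r.1 ⟨_, proj_mem hqa hqb hab v⟩ : V)) heq
      rw [hv]
      simp only [map_add, map_smul, hga, hgb, hha, hhb]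
      simp only [map_add, map_smul, hga, hgb, hha, hhb] at hp
      rw [hp]
    · intro r
      let π : V →ₗ[F] comp Q a b := LinearMap.codRestrict _
        (LinearMap.id + (-(QuadraticMap.polarBilin Q b)).smulRight a
          + (-(QuadraticMap.polarBilin Q a)).smulRight b)
        fun v => by simpa using proj_mem hqa hqb hab v
      have hπ : ∀ v, (π v : V) = v + (-(polar Q b v)) • a + (-(polar Q a v)) • b := fun v => by simp [π]
      let L : V →ₗ[F] V := ((comp Q a b).subtype.comp (r.1.toLinearMap.comp π))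
        + (QuadraticMap.polarBilin Q b).smulRight a + (QuadraticMap.polarBilin Q a).smulRight b
      have hL : ∀ v, L v = (r.1 (π v) : V) + polar Q b v • a + polar Q a v • b := fun v => by simp [L]
      have hQsum : ∀ (x : comp Q a b) (s t : F), Q ((x : V) + s • a + t • b) = Q x.1 + s * t := by
        intro x s t
        have hx := mem_comp.1 x.2
        simp only [quad_add', quad_smul', polar_add_left, polar_smul_r', polar_smul_l', polar_comm _ x.1 a,
          polar_comm _ x.1 b, hx.1, hx.2, hqa, hqb, hab]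
        ring
      obtain ⟨g, hg⟩ := exists_of_preserving hQ L fun v => by
        rw [hL, hQsum, show Q (r.1 (π v) : V) = Q (π v : V) from r.2 (π v), ← hQsum]
        congr 1
        rw [hπ]; simp only [neg_smul]; abel
      have hba : polar Q b a = 1 := by rw [polar_comm, hab]
      have hπ0 : ∀ v, (π v : V) = 0 → r.1 (π v) = 0 := fun v h => by
        rw [show π v = 0 from Subtype.ext h, map_zero]
      refine ⟨⟨g, ?_, ?_⟩, Subtype.ext (LinearEquiv.ext fun x => Subtype.ext ?_)⟩
      · show g.1 a = a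
        rw [hg, hL, hπ0 a (by rw [hπ, polar_self', hqa, hba]; simp)]
        simp [polar_self', hqa, hba]
      · show g.1 b = b
        rw [hg, hL, hπ0 b (by rw [hπ, polar_self', hqb, hab]; simp)]
        simp [polar_self', hqb, hab]
      · show g.1 x.1 = (r.1 x : V)
        have hx := mem_comp.1 x.2
        rw [hg, hL, hx.1, hx.2, zero_smul, zero_smul, add_zero, add_zero,
          show π x.1 = x from Subtype.ext (by rw [hπ, hx.1, hx.2]; simp)]
  exact ⟨⟨MulEquiv.ofBijective res hbij, fun g x => rfl⟩⟩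

include hQ hqa hqb hab in
theorem exists_sylow_comp (hF : ∀ c : F, c = 0 ∨ c = 1) [Finite V] (H : Sylow 2 (orthGroup Q))
    (hH : (H : Subgroup (orthGroup Q)) ≤ fixer Q a) :
    ∃ S : Sylow 2 ↥(fixer Q a ⊓ fixer Q b),
      (S : Subgroup ↥(fixer Q a ⊓ fixer Q b)) = (H : Subgroup (orthGroup Q)).subgroupOf (fixer Q a ⊓ fixer Q b) := by
  haveI := finite_orth (Q := Q)
  have hne : a ≠ 0 := fun h => by simp [h] at hab
  have hP := unip_le_sylow hQ hF hne hqa H hH
  set D := fixer Q a ⊓ fixer Q b
  set K := (H : Subgroup (orthGroup Q)).subgroupOf D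
  obtain ⟨S, hS⟩ := (H.isPGroup'.comap_of_injective D.subtype D.subtype_injective : IsPGroup 2 K).exists_le_sylow
  refine ⟨S, (Subgroup.eq_of_le_of_card_ge hS ?_).symm⟩
  -- `H = unip a * (H ⊓ D)`
  have hdec : ∀ h ∈ (H : Subgroup (orthGroup Q)), ∃ u ∈ unip Q a, u⁻¹ * h ∈ D := by
    intro h hh
    have hha : h.1 a = a := hH hh
    have hc1 : polar Q a (h.1 b) = 1 := by
      conv_lhs => rw [← hha]
      rw [polar_isom, hab]
    set t := polar Q b (h.1 b)
    have hba : polar Q b a = 1 := by rw [polar_comm, hab]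
    set w := h.1 b + -b + (-t) • a with hw
    have haw : polar Q a w = 0 := by
      simp only [hw, polar_add_right, polar_smul_r', polar_neg_right, polar_self', hqa, hc1, hab]; ring
    have hbw : polar Q b w = 0 := by
      simp only [hw, polar_add_right, polar_smul_r', polar_neg_right, polar_self', hqb, hba]; ring
    have hqh : h.1 b = b + w + t • a := by simp only [hw, neg_smul]; abel
    have hqw : Q w + t = 0 := by
      have h0 := apply_quad h b
      rw [hqh, quad_add', quad_add', quad_smul', polar_add_left, polar_smul_r', polar_smul_r', hbw,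
        polar_comm _ w a, haw, hba, hqa, hqb] at h0
      linear_combination h0
    obtain ⟨u, hu, huv⟩ := exists_siegel_mem hQ hqa haw
    refine ⟨u, hu, ?_, ?_⟩
    · exact (fixer Q a).mul_mem ((fixer Q a).inv_mem (unip_le_fixer a hu)) (hH hh)
    · show (u⁻¹).1 (h.1 b) = b
      have hub : u.1 b = h.1 b := by
        rw [huv, hab, one_smul, polar_comm _ w b, hbw, mul_one, hqh]
        congr 2
        linear_combination -hqw
      rw [← hub]; exact u.1.symm_apply_apply b
  have hSP : IsPGroup 2 ↥(unip Q a ⊔ (S : Subgroup D).map D.subtype) :=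
    (isPGroup_unip hQ hF hne hqa).to_sup_of_normal_left' (S.isPGroup'.map _)
      (fun x hx => fixer_le_normalizer a (by
        obtain ⟨y, -, rfl⟩ := hx
        exact y.2.1))
  obtain ⟨H', hH'⟩ := hSP.exists_le_sylow
  have hinj : Nat.card (unip Q a) * Nat.card (S : Subgroup D) ≤ Nat.card H' := by
    rw [← Nat.card_prod]
    refine Nat.card_le_card_of_injective (fun p => (⟨p.1.1 * p.2.1.1, mul_mem (hH' (Subgroup.mem_sup_left p.1.2))
      (hH' (Subgroup.mem_sup_right ⟨p.2.1, p.2.2, rfl⟩))⟩ : H')) fun p p' h => ?_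
    have h' : p.1.1 * p.2.1.1 = p'.1.1 * p'.2.1.1 := congrArg Subtype.val h
    have hd : p'.1.1⁻¹ * p.1.1 ∈ D := by
      rw [show p'.1.1⁻¹ * p.1.1 = p'.2.1.1 * p.2.1.1⁻¹ by rw [eq_mul_inv_iff_mul_eq, mul_assoc, h', inv_mul_cancel_left]]
      exact mul_mem p'.2.1.2 (inv_mem p.2.1.2)
    have hu : p'.1.1⁻¹ * p.1.1 ∈ unip Q a := mul_mem (inv_mem p'.1.2) p.1.2
    have h1 : p'.1.1⁻¹ * p.1.1 = 1 := by
      generalize p'.1.1⁻¹ * p.1.1 = g at hd hu
      have hga : g.1 a = a := hd.1
      have hgb : g.1 b = b := hd.2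
      refine Subtype.ext (LinearEquiv.ext fun v => ?_)
      show g.1 v = v
      have hdec' : v = (v + (-(polar Q a v)) • b) + polar Q a v • b := by rw [neg_smul]; abel
      have hp : polar Q a (v + (-(polar Q a v)) • b) = 0 := by rw [polar_add_right, polar_smul_r', hab]; ring
      obtain ⟨c, hc⟩ := hu.2 _ hp
      have hc0 : c = 0 := by
        have h0 := polar_isom g b (v + (-(polar Q a v)) • b)
        rw [hgb, hc, polar_add_right, polar_smul_r', polar_comm _ b a, hab] at h0
        linear_combination h0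
      conv_lhs => rw [hdec']
      rw [map_add, map_smul, hgb, hc, hc0, zero_smul, add_zero, ← hdec']
    have he1 : p.1 = p'.1 := Subtype.ext (inv_mul_eq_one.1 h1).symm
    rw [he1] at h'
    exact Prod.ext he1 (Subtype.ext (Subtype.ext (mul_left_cancel h')))
  have hsurj : Nat.card H ≤ Nat.card (unip Q a) * Nat.card K := by
    rw [← Nat.card_prod]
    refine Nat.card_le_card_of_surjective (fun p => (⟨p.1.1 * p.2.1.1, mul_mem (hP p.1.2) p.2.2⟩ : H)) ?_
    rintro ⟨h, hh⟩
    obtain ⟨u, hu, hud⟩ := hdec h hh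
    exact ⟨(⟨u, hu⟩, ⟨⟨_, hud⟩, mul_mem (inv_mem (hP hu)) hh⟩), Subtype.ext (mul_inv_cancel_left u h)⟩
  have hHH : Nat.card H' = Nat.card H := by rw [H'.card_eq_multiplicity, H.card_eq_multiplicity]
  exact Nat.le_of_mul_le_mul_left (hinj.trans (hHH ▸ hsurj)) Nat.card_pos

end Pair

/-- Two Sylow `2`-subgroups of `O⁺(2k, 2)` share a non-trivial element. -/
theorem exists_common (hF : ∀ c : F, c = 0 ∨ c = 1) :
    ∀ (k : ℕ), 1 ≤ k → ∀ {V : Type*} [AddCommGroup V] [Module F V] [FiniteDimensional F V] [Finite V]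
      (Q : QuadraticForm F V), (QuadraticMap.polarBilin Q).Nondegenerate → finrank F V = 2 * k →
      (∃ U, Singular Q U ∧ k ≤ finrank F U) → ∀ H₁ H₂ : Sylow 2 (orthGroup Q),
      ∃ g : orthGroup Q, g ≠ 1 ∧ g ∈ (H₁ : Subgroup (orthGroup Q)) ∧ g ∈ (H₂ : Subgroup (orthGroup Q)) := by
  intro k hk
  induction k, hk using Nat.le_induction with
  | base =>
    intro V _ _ _ _ Q hQ hdim ⟨U, hU, hkU⟩ H₁ H₂
    obtain ⟨a, haU, hne⟩ := Submodule.exists_mem_ne_zero_of_ne_bot (p := U) (by
      rintro rfl; simp at hkU)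
    have hqa : Q a = 0 := hU a haU
    obtain ⟨b, hqb, hab⟩ := exists_partner hQ hne hqa
    have hba : polar Q b a = 1 := by rw [polar_comm, hab]
    have h0 : finrank F (comp Q a b) = 0 := finrank_comp hqa hqb hab (k := 0) (by omega)
    have hspan : ∀ v : V, v = polar Q b v • a + polar Q a v • b := fun v => by
      have h := (Submodule.mem_bot F).1 (Submodule.finrank_eq_zero.1 h0 ▸ proj_mem hqa hqb hab v)
      simp only [neg_smul] at h
      rw [← sub_eq_zero, ← h]; abel
    have hsq : ∀ g : orthGroup Q, g * g = 1 := by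
      intro g
      have key : ∀ v, Q v = 0 → polar Q b v * polar Q a v = 0 := fun v hv => by
        have h : Q (polar Q b v • a + polar Q a v • b) = 0 := by rw [← hspan v, hv]
        rwa [quad_add', quad_smul', quad_smul', polar_smul_l', polar_smul_r', hqa, hqb, hab, mul_zero,
          mul_zero, zero_add, zero_add, mul_one] at h
      have kb := key (g.1 b) (by rw [apply_quad, hqb])
      have ka := key (g.1 a) (by rw [apply_quad, hqa])
      have hab' : g.1 (g.1 a) = a ∧ g.1 (g.1 b) = b := by
        have hpol : polar Q (g.1 a) (g.1 b) = 1 := by rw [polar_isom, hab]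
        have hga0 : g.1 a ≠ 0 := fun h => hne (g.1.map_eq_zero_iff.1 h)
        have ea := hspan (g.1 a)
        have eb := hspan (g.1 b)
        rcases hF (polar Q b (g.1 a)) with s | s <;> rcases hF (polar Q a (g.1 a)) with t | t <;>
          rw [s, t] at ea ka <;>
          simp only [zero_smul, one_smul, zero_add, add_zero] at ea
        · exact absurd ea hga0
        · rw [ea] at hpol
          rw [hpol, one_mul] at kb
          rw [hpol, kb, one_smul, zero_smul, add_zero] at eb
          exact ⟨by rw [ea, eb], by rw [eb, ea]⟩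
        · rw [ea] at hpol
          rw [hpol, mul_one] at kb
          rw [hpol, kb, one_smul, zero_smul, zero_add] at eb
          exact ⟨by rw [ea, ea], by rw [eb, eb]⟩
        · simp at ka
      refine Subtype.ext (LinearEquiv.ext fun v => ?_)
      show g.1 (g.1 v) = v
      conv_lhs => rw [hspan v]
      rw [map_add, map_add, map_smul, map_smul, map_smul, map_smul, hab'.1, hab'.2, ← hspan v]
    have htop : ∀ H : Sylow 2 (orthGroup Q), (H : Subgroup (orthGroup Q)) = ⊤ := fun H =>
      (H.is_maximal' (Q := ⊤) (fun g => ⟨1, Subtype.ext (by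
        rw [Subgroup.coe_pow, pow_one, _root_.sq]; exact hsq g.1)⟩) le_top).symm
    refine ⟨refl Q (a + b), fun h => ?_, by rw [htop]; exact Subgroup.mem_top _,
      by rw [htop]; exact Subgroup.mem_top _⟩
    have h' := congrArg (fun g : orthGroup Q => g.1 a) h
    simp only [refl_apply] at h'
    rw [quad_add', hqa, hqb, hab, polar_add_left, polar_self', hqa, hba] at h'
    simp at h'
    have : polar Q a (a + b) = 0 := by rw [← h']; simp
    rw [polar_add_right, polar_self', hqa, hab] at this
    simp at this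
  | succ k hk ih =>
    intro V _ _ _ _ Q hQ hdim ⟨U, hU, hkU⟩ H₁ H₂
    haveI := finite_orth (Q := Q)
    obtain ⟨a, hna, hqa, hH₁⟩ := exists_fixed hQ hF hU (by omega) H₁
    obtain ⟨b, hnb, hqb, hH₂⟩ := exists_fixed hQ hF hU (by omega) H₂
    have hP₁ := unip_le_sylow hQ hF hna hqa H₁ hH₁
    have hP₂ := unip_le_sylow hQ hF hnb hqb H₂ hH₂
    obtain ⟨a', -, hab'⟩ := exists_partner hQ hna hqa
    by_cases hab : a = b
    · subst hab
      obtain ⟨w, haw, hwa⟩ : ∃ w, polar Q a w = 0 ∧ w ∉ Submodule.span F {a} := by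
        by_contra hall
        push Not at hall
        have h1 := LinearMap.finrank_range_add_finrank_ker (QuadraticMap.polarBilin Q a)
        have h2 := Submodule.finrank_le (LinearMap.range (QuadraticMap.polarBilin Q a))
        have h3 := Submodule.finrank_mono (show LinearMap.ker (QuadraticMap.polarBilin Q a)
          ≤ Submodule.span F {a} from fun v hv => hall v (by simpa using hv))
        rw [finrank_span_singleton hna] at h3
        rw [finrank_self] at h2
        omega
      obtain ⟨g, hg, hgv⟩ := exists_siegel_mem hQ hqa haw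
      refine ⟨g, fun h => hwa ?_, hP₁ hg, hP₂ hg⟩
      have h' : g.1 a' = a' := by rw [h]; rfl
      rw [hgv, hab', one_smul, add_assoc] at h'
      rw [eq_neg_of_add_eq_zero_left (add_eq_left.1 h')]
      exact neg_mem (Submodule.smul_mem _ _ (Submodule.mem_span_singleton_self a))
    rcases hF (polar Q a b) with h | h
    · obtain ⟨g, hg, hgv⟩ := exists_siegel_mem hQ hqa h
      refine ⟨g, fun hg1 => hab ?_, hP₁ hg, hP₂ ⟨?_, fun v hv => ⟨polar Q a v, ?_⟩⟩⟩
      · have h' : g.1 a' = a' := by rw [hg1]; rfl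
        rw [hgv, hab', one_smul, hqb, zero_mul, sub_zero, add_assoc] at h'
        rcases hF (polar Q b a') with hc | hc <;> rw [hc] at h'
        · simp at h'; exact absurd h' hnb
        · rw [neg_smul, one_smul, ← sub_eq_add_neg] at h'
          exact (sub_eq_zero.1 (add_eq_left.1 h')).symm
      · rw [hgv, h, polar_self', hqb]; simp
      · rw [hgv, hv, hqb]; simp
    · have hba : polar Q b a = 1 := by rw [polar_comm, h]
      obtain ⟨S₁, hS₁⟩ := exists_sylow_comp hQ hqa hqb h hF H₁ hH₁
      obtain ⟨S₂, hS₂⟩ := exists_sylow_comp hQ hqb hqa hba hF H₂ hH₂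
      obtain ⟨⟨e, -⟩⟩ := exists_restrict hQ hqa hqb h
      let σ : ↥(fixer Q b ⊓ fixer Q a) ≃* ↥(fixer Q a ⊓ fixer Q b) :=
        MulEquiv.subgroupCongr (inf_comm _ _)
      let T₁ : Sylow 2 _ := S₁.mapSurjective (f := e.toMonoidHom) e.surjective
      let T₂ : Sylow 2 _ := S₂.mapSurjective (f := (σ.trans e).toMonoidHom) (σ.trans e).surjective
      haveI : Finite (comp Q a b) := Finite.of_injective _ Subtype.coe_injective
      obtain ⟨g, hg1, hgT₁, hgT₂⟩ := ih (Q.comp (comp Q a b).subtype) (comp_nondeg hQ hqa hqb h)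
        (finrank_comp hqa hqb h hdim) (singular_comp hqa h hU hkU) T₁ T₂
      obtain ⟨x, hx, rfl⟩ := hgT₁
      obtain ⟨y, hy, hyx⟩ := hgT₂
      have hxy : σ y = x := e.injective hyx
      refine ⟨x.1, fun hx1 => hg1 ?_, ?_, ?_⟩
      · rw [show x = 1 from Subtype.ext hx1, map_one]
      · exact (hS₁ ▸ hx : x ∈ (H₁ : Subgroup (orthGroup Q)).subgroupOf _)
      · rw [← hxy]
        exact (hS₂ ▸ hy : y ∈ (H₂ : Subgroup (orthGroup Q)).subgroupOf _)

end CfsgLib.KnownA.SylowMeetPlus
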