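import Cfsg.Agent.Lib.Classical.SympBasic
import Cfsg.Agent.Lib.Classical.SympCount
import Cfsg.Agent.Lib.KnownA.SympInvolutions
import Mathlib

/-!
Centraliser orders of involutions of symplectic groups in characteristic two: the centraliser acts
simply transitively on adapted tuples, which are counted by splitting off one vector or one pair
at a time.
-/

set_option autoImplicit false
set_option linter.unusedSectionVars false

namespace CfsgLib.SympCentralizer

open Module CfsgLib.Classical

universe u v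

variable {F : Type u} [Field F] {V : Type v} [AddCommGroup V] [Module F V]

/-- A self-adjoint square-zero map of a symplectic space. -/
structure Good (B : V →ₗ[F] V →ₗ[F] F) (N : V →ₗ[F] V) : Prop where
  alt : B.IsAlt
  nondeg : B.Nondegenerate
  sq : ∀ x, N (N x) = 0
  adj : ∀ x y, B (N x) y = B x (N y)

variable (B : V →ₗ[F] V →ₗ[F] F) (N : V →ₗ[F] V)

/-- Isometries commuting with `N`. -/
def Cent : Type v := {g : V ≃ₗ[F] V // (∀ x y, B (g x) (g y) = B x y) ∧ ∀ x, g (N x) = N (g x)}

/-- Totally isotropic families with `B (N x i) (x j) = δ_{τ i, j}`. -/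
def TopCond {ι : Type*} [DecidableEq ι] (τ : ι → ι) (x : ι → V) : Prop :=
  (∀ i j, B (x i) (x j) = 0) ∧ ∀ i j, B (N (x i)) (x j) = if j = τ i then 1 else 0

/-- Adapted tuples. -/
def TupCond {ι : Type*} [DecidableEq ι] (τ : ι → ι) {r : ℕ} (p : (ι → V) × (Fin r ⊕ Fin r → V)) : Prop :=
  TopCond B N τ p.1 ∧ (∀ u i, B (p.2 u) (p.1 i) = 0 ∧ B (p.2 u) (N (p.1 i)) = 0) ∧
    (∀ u, N (p.2 u) = 0) ∧ IsSympFamily B p.2

/-- The type of adapted tuples. -/
def Tup {ι : Type*} [DecidableEq ι] (τ : ι → ι) (r : ℕ) :=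
  {p : (ι → V) × (Fin r ⊕ Fin r → V) // TupCond B N τ p}

variable {B N}

theorem Good.symm [CharP F 2] (h : Good B N) (x y : V) : B x y = B y x := by
  rw [alt_swap h.alt x y, CharTwo.neg_eq]

theorem Good.NN (h : Good B N) (x y : V) : B (N x) (N y) = 0 := by
  rw [h.adj, h.sq, map_zero]

theorem Good.gram [CharP F 2] (h : Good B N) {ι : Type*} [DecidableEq ι] {τ : ι → ι}
    (_hτ : Function.Involutive τ) {x : ι → V} (hx : TopCond B N τ x) (i j : ι) :
    B (x i) (N (x j)) = if j = τ i then 1 else 0 := by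
  rw [← h.adj, hx.2]

section Torsor

variable [CharP F 2] [FiniteDimensional F V] {ι : Type} [Fintype ι] [DecidableEq ι] {τ : ι → ι}
  {r : ℕ}

/-- The family of an adapted tuple. -/
def fam (N : V →ₗ[F] V) (p : (ι → V) × (Fin r ⊕ Fin r → V)) : (ι ⊕ ι) ⊕ (Fin r ⊕ Fin r) → V :=
  Sum.elim (Sum.elim p.1 (fun i => N (p.1 i))) p.2

theorem fam_gram (h : Good B N) (hτ : Function.Involutive τ) {p q : (ι → V) × (Fin r ⊕ Fin r → V)}
    (hp : TupCond B N τ p) (hq : TupCond B N τ q) (i j : (ι ⊕ ι) ⊕ (Fin r ⊕ Fin r)) :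
    B (fam N p i) (fam N p j) = B (fam N q i) (fam N q j) := by
  rcases i with (i | i) | u <;> rcases j with (j | j) | w <;>
    simp only [fam, Sum.elim_inl, Sum.elim_inr]
  · rw [hp.1.1, hq.1.1]
  · rw [h.gram hτ hp.1, h.gram hτ hq.1]
  · rw [h.symm, (hp.2.1 w i).1, h.symm, (hq.2.1 w i).1]
  · rw [hp.1.2, hq.1.2]
  · rw [h.NN, h.NN]
  · rw [h.symm, (hp.2.1 w i).2, h.symm, (hq.2.1 w i).2]
  · rw [(hp.2.1 u j).1, (hq.2.1 u j).1]
  · rw [(hp.2.1 u j).2, (hq.2.1 u j).2]
  · rcases u with u | u <;> rcases w with w | w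
    · rw [hp.2.2.2.2.1, hq.2.2.2.2.1]
    · rw [hp.2.2.2.1, hq.2.2.2.1]
    · rw [h.symm, hp.2.2.2.1, h.symm, hq.2.2.2.1]
    · rw [hp.2.2.2.2.2, hq.2.2.2.2.2]

theorem fam_linearIndependent (h : Good B N) (hτ : Function.Involutive τ)
    {p : (ι → V) × (Fin r ⊕ Fin r → V)} (hp : TupCond B N τ p) :
    LinearIndependent F (fam N p) := by
  rw [Fintype.linearIndependent_iff]
  intro g hg
  have hpair : ∀ z, ∑ i, g i * B (fam N p i) z = 0 := fun z => by
    have := congrArg (fun y => B y z) hg
    simpa [LinearMap.sum_apply, map_sum] using this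
  rintro ((i | i) | u)
  · have := hpair (N (p.1 (τ i)))
    simpa [fam, Fintype.sum_sum_type, h.gram hτ hp.1, h.NN, fun u j => (hp.2.1 u j).2,
      hτ i, Finset.sum_ite_eq, hτ.injective.eq_iff] using this
  · have h0 : ∀ l, g (.inl (.inl l)) = 0 := fun l => by
      have := hpair (N (p.1 (τ l)))
      simpa [fam, Fintype.sum_sum_type, h.gram hτ hp.1, h.NN, fun u j => (hp.2.1 u j).2,
        hτ l, Finset.sum_ite_eq, hτ.injective.eq_iff] using this
    have := hpair (p.1 (τ i))
    simpa [fam, Fintype.sum_sum_type, hp.1.2, h0, fun u j => (hp.2.1 u j).1,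
      hτ i, Finset.sum_ite_eq, hτ.injective.eq_iff] using this
  · rcases u with u | u
    · have := hpair (p.2 (.inr u))
      simpa [fam, Fintype.sum_sum_type, fun v j => h.symm (p.1 j) (p.2 v), fun v j => (hp.2.1 v j).1,
        fun v j => h.symm (N (p.1 j)) (p.2 v), fun v j => (hp.2.1 v j).2, hp.2.2.2.1, hp.2.2.2.2.2,
        Finset.sum_ite_eq'] using this
    · have := hpair (p.2 (.inl u))
      simpa [fam, Fintype.sum_sum_type, fun v j => h.symm (p.1 j) (p.2 v), fun v j => (hp.2.1 v j).1,
        fun v j => h.symm (N (p.1 j)) (p.2 v), fun v j => (hp.2.1 v j).2,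
        fun a b => h.symm (p.2 (.inr a)) (p.2 (.inl b)), hp.2.2.2.1, hp.2.2.2.2.1,
        Finset.sum_ite_eq] using this

/-- The centraliser is a torsor on adapted tuples. -/
theorem card_cent (h : Good B N) (hτ : Function.Involutive τ)
    (hdim : finrank F V = 2 * Fintype.card ι + 2 * r) (hne : Nat.card (Tup B N τ r) ≠ 0) :
    Nat.card (Cent B N) = Nat.card (Tup B N τ r) := by
  obtain ⟨⟨p, hp⟩⟩ := (Nat.card_ne_zero.mp hne).1
  let act : Cent B N → Tup B N τ r := fun g =>
    ⟨(fun i => g.1 (p.1 i), fun u => g.1 (p.2 u)),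
      ⟨fun i j => by rw [g.2.1]; exact hp.1.1 i j,
        fun i j => by rw [← g.2.2, g.2.1]; exact hp.1.2 i j⟩,
      fun u i => ⟨by rw [g.2.1]; exact (hp.2.1 u i).1,
        by show B _ (N (g.1 (p.1 i))) = 0; rw [← g.2.2, g.2.1]; exact (hp.2.1 u i).2⟩,
      fun u => by rw [← g.2.2, hp.2.2.1, map_zero],
      ⟨fun i j => by rw [g.2.1]; exact hp.2.2.2.1 i j,
        fun i j => by rw [g.2.1]; exact hp.2.2.2.2.1 i j,
        fun i j => by rw [g.2.1]; exact hp.2.2.2.2.2 i j⟩⟩
  have hcard : Fintype.card ((ι ⊕ ι) ⊕ (Fin r ⊕ Fin r)) = finrank F V := by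
    simp [hdim, two_mul]
  have hspan := fun (q : (ι → V) × (Fin r ⊕ Fin r → V)) (hq : TupCond B N τ q) =>
    (fam_linearIndependent h hτ hq).span_eq_top_of_card_eq_finrank' hcard
  let bp := Basis.mk (fam_linearIndependent h hτ hp) (hspan p hp).ge
  have hbp : ∀ i, bp i = fam N p i := fun i => Basis.mk_apply _ _ i
  have hbij : Function.Bijective act := by
    constructor
    · intro g g' hgg
      apply Subtype.ext
      apply LinearEquiv.toLinearMap_injective
      refine bp.ext fun i => ?_
      have e1 := congrFun (congrArg (fun q : Tup B N τ r => q.1.1) hgg)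
      have e2 := congrFun (congrArg (fun q : Tup B N τ r => q.1.2) hgg)
      show g.1 (bp i) = g'.1 (bp i)
      rw [hbp]
      rcases i with (i | i) | u
      · exact e1 i
      · show g.1 (N (p.1 i)) = g'.1 (N (p.1 i))
        rw [g.2.2, g'.2.2]; exact congrArg N (e1 i)
      · exact e2 u
    · rintro ⟨q, hq⟩
      let bq := Basis.mk (fam_linearIndependent h hτ hq) (hspan q hq).ge
      have hbq : ∀ i, bq i = fam N q i := fun i => Basis.mk_apply _ _ i
      let g := bp.equiv bq (Equiv.refl _)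
      have hg : ∀ i, g (fam N p i) = fam N q i := fun i => by
        rw [← hbp, ← hbq, Basis.equiv_apply]; rfl
      have hiso : ∀ x y, B (g x) (g y) = B x y := by
        have : B.compl₁₂ g.toLinearMap g.toLinearMap = B := by
          refine bp.ext fun i => bp.ext fun j => ?_
          rw [LinearMap.compl₁₂_apply, hbp, hbp]
          show B (g _) (g _) = _
          rw [hg, hg, fam_gram h hτ hq hp]
        intro x y
        exact LinearMap.congr_fun (LinearMap.congr_fun this x) y
      have hcomm : ∀ x, g (N x) = N (g x) := by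
        have : g.toLinearMap ∘ₗ N = N ∘ₗ g.toLinearMap := by
          refine bp.ext fun i => ?_
          rw [LinearMap.comp_apply, LinearMap.comp_apply, hbp]
          show g (N (fam N p i)) = N (g (fam N p i))
          rw [hg]
          rcases i with (i | i) | u
          · exact hg (.inl (.inr i))
          · show g (N (N (p.1 i))) = N (N (q.1 i))
            rw [h.sq, h.sq, map_zero]
          · show g (N (p.2 u)) = N (q.2 u)
            rw [hp.2.2.1, hq.2.2.1, map_zero]
        exact fun x => LinearMap.congr_fun this x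
      refine ⟨⟨g, hiso, hcomm⟩, Subtype.ext (Prod.ext (_root_.funext fun i => ?_) (_root_.funext fun u => ?_))⟩
      · exact hg (.inl (.inl i))
      · exact hg (.inr u)
  exact Nat.card_congr (Equiv.ofBijective act hbij)

end Torsor

section Split

variable [CharP F 2] [FiniteDimensional F V] {I : Type} [Fintype I] [DecidableEq I] {σ : I → I}

/-- The complement of a top family. -/
def compl (B : V →ₗ[F] V →ₗ[F] F) (N : V →ₗ[F] V) (x : I → V) : Submodule F V :=
  (⨅ i, LinearMap.ker (B (x i))) ⊓ ⨅ i, LinearMap.ker (B (N (x i)))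

theorem mem_compl (h : Good B N) (x : I → V) (z : V) :
    z ∈ compl B N x ↔ (∀ i, B z (x i) = 0) ∧ ∀ i, B z (N (x i)) = 0 := by
  simp [compl, h.symm z]

theorem compl_invariant (h : Good B N) (x : I → V) : ∀ z ∈ compl B N x, N z ∈ compl B N x := by
  intro z hz
  rw [mem_compl h] at hz ⊢
  exact ⟨fun i => by rw [h.adj]; exact hz.2 i, fun i => h.NN z (x i)⟩

/-- Projection to the complement. -/
theorem exists_decomp (h : Good B N) (hσ : Function.Involutive σ) {x : I → V} (hx : TopCond B N σ x)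
    (z : V) : ∃ (a b : I → F), ∃ y ∈ compl B N x, z = (∑ i, a i • x i) + (∑ i, b i • N (x i)) + y := by
  refine ⟨fun i => B z (N (x (σ i))), fun i => B z (x (σ i)),
    z - (∑ i, B z (N (x (σ i))) • x i) - (∑ i, B z (x (σ i)) • N (x i)), ?_, by abel⟩
  rw [mem_compl h]
  refine ⟨fun j => ?_, fun j => ?_⟩
  · simp [map_sub, map_sum, LinearMap.sum_apply, hx.1, hx.2]
    rw [Finset.sum_eq_single (σ j)]
    · simp [hσ j]
    · intro i _ hi; rw [if_neg (fun e => hi (by rw [e, hσ]))]
    · exact fun e => absurd (Finset.mem_univ _) e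
  · simp [map_sub, map_sum, LinearMap.sum_apply, h.gram hσ hx, h.NN]
    rw [Finset.sum_eq_single (σ j)]
    · simp [hσ j]
    · intro i _ hi; rw [if_neg (fun e => hi (by rw [e, hσ]))]
    · exact fun e => absurd (Finset.mem_univ _) e

theorem decomp_zero (h : Good B N) (hσ : Function.Involutive σ) {x : I → V} (hx : TopCond B N σ x)
    {a b : I → F} {y : V} (hy : y ∈ compl B N x)
    (he : (∑ i, a i • x i) + (∑ i, b i • N (x i)) + y = 0) : a = 0 ∧ b = 0 ∧ y = 0 := by
  rw [mem_compl h] at hy
  have ha : a = 0 := _root_.funext fun i => by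
    have := congrArg (fun w => B w (N (x (σ i)))) he
    simpa [LinearMap.sum_apply, h.gram hσ hx, h.NN, hy.2, hσ.injective.eq_iff, Finset.sum_ite_eq]
      using this
  subst ha
  have hb : b = 0 := _root_.funext fun i => by
    have := congrArg (fun w => B w (x (σ i))) he
    simpa [LinearMap.sum_apply, hx.2, hy.1, hσ.injective.eq_iff, Finset.sum_ite_eq] using this
  subst hb
  exact ⟨rfl, rfl, by simpa using he⟩

theorem compl_good (h : Good B N) (hσ : Function.Involutive σ) {x : I → V} (hx : TopCond B N σ x) :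
    Good (B.domRestrict₁₂ (compl B N x) (compl B N x)) (N.restrict (compl_invariant h x)) := by
  refine ⟨fun z => h.alt _, ?_, fun z => Subtype.ext (h.sq _), fun z w => h.adj _ _⟩
  have key : ∀ z : compl B N x, (∀ w : compl B N x, B (z : V) w = 0) → z = 0 := by
    intro z hz
    refine Subtype.ext (h.nondeg.1 _ fun w => ?_)
    obtain ⟨a, b, y, hy, rfl⟩ := exists_decomp h hσ hx w
    have hz' := (mem_compl h x _).1 z.2
    simp [map_sum, hz'.1, hz'.2, hz ⟨y, hy⟩]
  exact ⟨key, fun z hz => key z fun w => by rw [h.symm]; exact hz w⟩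

theorem compl_dims (h : Good B N) (hσ : Function.Involutive σ) {x : I → V} (hx : TopCond B N σ x) :
    finrank F (compl B N x) + 2 * Fintype.card I = finrank F V ∧
      finrank F (LinearMap.range (N.restrict (compl_invariant h x))) + Fintype.card I =
        finrank F (LinearMap.range N) := by
  let Φ : ((I → F) × (I → F)) × compl B N x →ₗ[F] V :=
    ((Fintype.linearCombination F x).coprod (Fintype.linearCombination F fun i => N (x i))).coprod
      (compl B N x).subtype
  have hΦ : ∀ a b y, Φ ((a, b), y) = (∑ i, a i • x i) + (∑ i, b i • N (x i)) + (y : V) := fun a b y => by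
    simp [Φ, Fintype.linearCombination_apply]
  have hbij : Function.Bijective Φ := by
    refine ⟨(injective_iff_map_eq_zero Φ).2 ?_, fun z => ?_⟩
    · rintro ⟨⟨a, b⟩, y⟩ he
      obtain ⟨rfl, rfl, hy⟩ := decomp_zero h hσ hx y.2 ((hΦ a b y).symm.trans he)
      simpa [Prod.ext_iff] using hy
    · obtain ⟨a, b, y, hy, rfl⟩ := exists_decomp h hσ hx z
      exact ⟨((a, b), ⟨y, hy⟩), hΦ a b ⟨y, hy⟩⟩
  let e := LinearEquiv.ofBijective Φ hbij
  refine ⟨?_, ?_⟩
  · have h1 := e.finrank_eq
    rw [Module.finrank_prod, Module.finrank_prod, Module.finrank_fintype_fun_eq_card] at h1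
    omega
  · let Ψ : (I → F) × LinearMap.range (N.restrict (compl_invariant h x)) →ₗ[F] V :=
      (Fintype.linearCombination F fun i => N (x i)).coprod
        ((compl B N x).subtype.comp (LinearMap.range (N.restrict (compl_invariant h x))).subtype)
    have hinj : Function.Injective Ψ := by
      refine (injective_iff_map_eq_zero Ψ).2 ?_
      rintro ⟨b, y⟩ he
      obtain ⟨-, rfl, hy⟩ := decomp_zero h hσ hx (a := 0) (b := b) (y.1).2 (by
        simpa [Ψ, Fintype.linearCombination_apply] using he)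
      exact Prod.ext rfl (Subtype.ext (Subtype.ext hy))
    have hrange : LinearMap.range Ψ = LinearMap.range N := by
      apply le_antisymm
      · rintro _ ⟨⟨b, ⟨_, w, rfl⟩⟩, rfl⟩
        exact ⟨(∑ i, b i • x i) + (w : V), by simp [Ψ, Fintype.linearCombination_apply, map_sum]⟩
      · rintro _ ⟨z, rfl⟩
        obtain ⟨a, b, y, hy, rfl⟩ := exists_decomp h hσ hx z
        exact ⟨(a, ⟨_, ⟨⟨y, hy⟩, rfl⟩⟩), by
          simp [Ψ, Fintype.linearCombination_apply, map_sum, h.sq]⟩
    have h1 := (LinearEquiv.ofInjective Ψ hinj).finrank_eq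
    rw [Module.finrank_prod, Module.finrank_fintype_fun_eq_card, hrange] at h1
    omega

variable {ι : Type} [Fintype ι] [DecidableEq ι] {τ : ι → ι} {r : ℕ}

/-- Splitting off the first part of an adapted tuple. -/
def splitEquiv (h : Good B N) :
    Tup B N (Sum.map σ τ) r ≃ Σ x : {x : I → V // TopCond B N σ x},
      Tup (B.domRestrict₁₂ (compl B N x.1) (compl B N x.1)) (N.restrict (compl_invariant h x.1)) τ r where
  toFun p :=
    ⟨⟨fun i => p.1.1 (.inl i), fun i j => p.2.1.1 _ _, fun i j => by simpa using p.2.1.2 (.inl i) (.inl j)⟩,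
      (fun i => ⟨p.1.1 (.inr i), (mem_compl h _ _).2 ⟨fun j => p.2.1.1 _ _,
          fun j => by rw [← h.adj]; simpa using p.2.1.2 (.inr i) (.inl j)⟩⟩,
        fun u => ⟨p.1.2 u, (mem_compl h _ _).2 ⟨fun j => (p.2.2.1 u _).1, fun j => (p.2.2.1 u _).2⟩⟩),
      ⟨fun i j => p.2.1.1 _ _, fun i j => (p.2.1.2 (.inr i) (.inr j)).trans (if_congr Sum.inr_injective.eq_iff rfl rfl)⟩,
      fun u i => ⟨(p.2.2.1 u _).1, (p.2.2.1 u _).2⟩,
      fun u => Subtype.ext (p.2.2.2.1 u), p.2.2.2.2.1, p.2.2.2.2.2.1, p.2.2.2.2.2.2⟩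
  invFun q :=
    ⟨(Sum.elim q.1.1 (fun i => (q.2.1.1 i : V)), fun u => (q.2.1.2 u : V)), by
      have hm := fun z : compl B N q.1.1 => (mem_compl h q.1.1 (z : V)).1 z.2
      refine ⟨⟨?_, ?_⟩, ?_, fun u => congrArg Subtype.val (q.2.2.2.2.1 u), ?_⟩
      · rintro (i | i) (j | j)
        · exact q.1.2.1 i j
        · exact (h.symm _ _).trans ((hm _).1 i)
        · exact (hm _).1 j
        · exact q.2.2.1.1 i j
      · rintro (i | i) (j | j)
        · simpa using q.1.2.2 i j
        · simpa using (h.symm _ _).trans ((hm (q.2.1.1 j)).2 i)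
        · simpa [h.adj] using (hm (q.2.1.1 i)).2 j
        · exact (q.2.2.1.2 i j).trans (if_congr Sum.inr_injective.eq_iff.symm rfl rfl)
      · rintro u (i | i)
        · exact ⟨(hm _).1 i, (hm _).2 i⟩
        · exact q.2.2.2.1 u i
      · exact ⟨q.2.2.2.2.2.1, q.2.2.2.2.2.2.1, q.2.2.2.2.2.2.2⟩⟩
  left_inv p := Subtype.ext (Prod.ext (_root_.funext fun i => by cases i <;> rfl) rfl)
  right_inv q := rfl

/-- Renaming the index type. -/
def reindexEquiv {κ : Type} [DecidableEq κ] {τ' : κ → κ} (e : κ ≃ ι) (he : ∀ k, τ (e k) = e (τ' k)) :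
    Tup B N τ r ≃ Tup B N τ' r where
  toFun p := ⟨(fun k => p.1.1 (e k), p.1.2),
    ⟨fun i j => p.2.1.1 _ _, fun i j => by
      show B (N (p.1.1 (e i))) (p.1.1 (e j)) = _
      rw [p.2.1.2, he]; exact if_congr e.injective.eq_iff rfl rfl⟩,
    fun u i => p.2.2.1 u _, p.2.2.2⟩
  invFun p := ⟨(fun i => p.1.1 (e.symm i), p.1.2),
    ⟨fun i j => p.2.1.1 _ _, fun i j => by
      show B (N (p.1.1 (e.symm i))) (p.1.1 (e.symm j)) = _
      rw [p.2.1.2]
      refine if_congr ?_ rfl rfl
      rw [← e.injective.eq_iff, e.apply_symm_apply, ← he, e.apply_symm_apply]⟩,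
    fun u i => p.2.2.1 u _, p.2.2.2⟩
  left_inv p := Subtype.ext (Prod.ext (_root_.funext fun i => by simp) rfl)
  right_inv p := Subtype.ext (Prod.ext (_root_.funext fun i => by simp) rfl)

end Split

section Count

variable [Fintype F] [CharP F 2] [FiniteDimensional F V]

/-- `|Sp_{2k}(q)|`. -/
def spOrd (q k : ℕ) : ℕ := q ^ (k ^ 2) * ∏ i : Fin k, (q ^ (2 * ((i : ℕ) + 1)) - 1)

theorem spOrd_zero (q : ℕ) : spOrd q 0 = 1 := by simp [spOrd]

theorem spOrd_succ (q k : ℕ) :
    spOrd q (k + 1) = spOrd q k * (q ^ (2 * k + 1) * (q ^ (2 * k + 2) - 1)) := by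
  simp only [spOrd, Fin.prod_univ_castSucc, Fin.val_castSucc, Fin.val_last]
  rw [show (k + 1) ^ 2 = k ^ 2 + (2 * k + 1) by ring, pow_add, show 2 * (k + 1) = 2 * k + 2 by ring]
  ring

theorem spOrd_ne_zero {q : ℕ} (hq : 1 < q) (k : ℕ) : spOrd q k ≠ 0 :=
  mul_ne_zero (pow_ne_zero _ (by omega)) (Finset.prod_ne_zero_iff.2 fun i _ => by
    have : 1 < q ^ (2 * ((i : ℕ) + 1)) := Nat.one_lt_pow (by omega) hq
    omega)

/-- The non-symplectic factor of the type `b`/`c` orders. -/
def oFac (q : ℕ) : ℕ → ℕ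
  | 0 => 1
  | s + 1 => oFac q s * if Even s ∧ 1 ≤ s then q ^ s - 1 else q ^ s

theorem oFac_spec (q k : ℕ) :
    oFac q (2 * k + 1) = spOrd q k ∧ oFac q (2 * k + 2) = q ^ (2 * k + 1) * spOrd q k := by
  induction k with
  | zero => simp [oFac, spOrd]
  | succ k ih =>
    have h1 : oFac q (2 * (k + 1) + 1) = spOrd q (k + 1) := by
      rw [show 2 * (k + 1) + 1 = (2 * k + 2) + 1 by ring, oFac,
        if_pos ⟨⟨k + 1, by ring⟩, by omega⟩, ih.2, spOrd_succ]
      ring
    refine ⟨h1, ?_⟩
    rw [show 2 * (k + 1) + 2 = (2 * (k + 1) + 1) + 1 by ring, oFac, if_neg, h1, mul_comm]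
    rintro ⟨he, -⟩
    exact Nat.not_even_iff_odd.2 ⟨k + 1, rfl⟩ he

theorem oFac_ne_zero {q : ℕ} (hq : 1 < q) : ∀ s, oFac q s ≠ 0
  | 0 => by simp [oFac]
  | s + 1 => by
    refine mul_ne_zero (oFac_ne_zero hq s) ?_
    split_ifs with hs
    · have : 1 < q ^ s := Nat.one_lt_pow (by omega) hq
      omega
    · exact pow_ne_zero _ (by omega)

/-- The exponent of `q`. -/
def expo (r : ℕ) : ℕ → ℕ
  | 0 => 0
  | s + 1 => expo r s + (2 * r + s + 1)

theorem two_mul_expo (r s : ℕ) : 2 * expo r s = 4 * r * s + s * (s + 1) := by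
  induction s with
  | zero => simp [expo]
  | succ s ih => rw [expo, mul_add, ih]; ring

instance [Finite V] {ι : Type} [Finite ι] [DecidableEq ι] (τ : ι → ι) (r : ℕ) :
    Finite (Tup B N τ r) :=
  Subtype.finite

/-- Alternating case. -/
def AltN (B : V →ₗ[F] V →ₗ[F] F) (N : V →ₗ[F] V) : Prop := ∀ y, B (N y) y = 0

theorem N_eq_zero (h0 : finrank F (LinearMap.range N) = 0) : N = 0 :=
  LinearMap.range_eq_bot.1 (Submodule.finrank_eq_zero.1 h0)

omit [CharP F 2] in
theorem card_fibre {W : Type*} [AddCommGroup W] [Module F W] [FiniteDimensional F W]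
    (f : V →ₗ[F] W) {w : W} (hw : ∃ v, f v = w) :
    Nat.card {v : V // f v = w} = Fintype.card F ^ finrank F (LinearMap.ker f) := by
  obtain ⟨v₀, hv₀⟩ := hw
  have e : {v : V // f v = w} ≃ LinearMap.ker f :=
    { toFun := fun v => ⟨v.1 - v₀, by simp [v.2, hv₀]⟩
      invFun := fun k => ⟨k.1 + v₀, by simp [hv₀]⟩
      left_inv := fun v => by simp
      right_inv := fun k => by simp }
  rw [Nat.card_congr e, Module.natCard_eq_pow_finrank (K := F), Nat.card_eq_fintype_card]

theorem card_base (h : Good B N) (h0 : finrank F (LinearMap.range N) = 0) {m : ℕ}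
    (hm : finrank F V = 2 * m) {ι : Type} [Fintype ι] [DecidableEq ι] [IsEmpty ι] (τ : ι → ι) :
    Nat.card (Tup B N τ m) = spOrd (Fintype.card F) m := by
  have : Finite V := Module.finite_of_finite F
  have hN := N_eq_zero h0
  obtain ⟨k, b, hb⟩ := exists_sympBasis h.alt h.nondeg
  obtain rfl : k = m := by
    have := finrank_eq_card_basis b
    simp [hm] at this; omega
  have : Nonempty (Tup B N τ k) :=
    ⟨⟨(fun i => isEmptyElim i, b), ⟨fun i => isEmptyElim i, fun i => isEmptyElim i⟩,
      fun u i => isEmptyElim i, fun u => by rw [hN]; rfl, hb⟩⟩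
  have e : Cent B N ≃ isomGroup B :=
    { toFun := fun g => ⟨g.1, g.2.1⟩
      invFun := fun g => ⟨g.1, g.2, fun x => by simp [hN]⟩
      left_inv := fun _ => rfl
      right_inv := fun _ => rfl }
  rw [← card_cent h (τ := τ) (fun i => isEmptyElim i) (by simp [hm]) Nat.card_pos.ne',
    Nat.card_congr e, card_isom_alt h.alt h.nondeg k hm, spOrd,
    ← Fin.prod_univ_eq_prod_range (fun i => Fintype.card F ^ (2 * (i + 1)) - 1)]

theorem qform_add (h : Good B N) (y z : V) : B (N (y + z)) (y + z) = B (N y) y + B (N z) z := by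
  have : B (N z) y = B (N y) z := by rw [h.adj, h.symm]
  simp only [map_add, LinearMap.add_apply, this]
  linear_combination CharTwo.add_self_eq_zero (B (N y) z)

theorem exists_char (h : Good B N) : ∃ d, ∀ y, B (N y) y = B (N y) d ^ 2 := by
  let rt := (frobeniusEquiv F 2).symm
  let φ : V →ₗ[F] F :=
    { toFun := fun y => rt (B (N y) y)
      map_add' := fun y z => by rw [qform_add h, map_add]
      map_smul' := fun c y => by
        simp only [map_smul, LinearMap.smul_apply, smul_eq_mul, RingHom.id_apply, map_mul,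
          ← mul_assoc]
        congr 1
        rw [← map_mul, ← sq, ← frobenius_def 2 c, ← frobeniusEquiv_apply,
          RingEquiv.symm_apply_apply] }
  have hφ : φ ∈ LinearMap.range N.dualMap := by
    rw [LinearMap.range_dualMap_eq_dualAnnihilator_ker, Submodule.mem_dualAnnihilator]
    intro w hw
    show rt (B (N w) w) = 0
    rw [LinearMap.mem_ker.1 hw, map_zero, LinearMap.zero_apply, map_zero]
  obtain ⟨ψ, hψ⟩ := hφ
  have hsurj : Function.Surjective B :=
    (LinearMap.injective_iff_surjective_of_finrank_eq_finrank Subspace.dual_finrank_eq.symm).1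
      ((injective_iff_map_eq_zero B).2 fun v hv => h.nondeg.1 v fun w => by simp [hv])
  obtain ⟨d, hd⟩ := hsurj ψ
  refine ⟨d, fun y => ?_⟩
  have : B (N y) d = rt (B (N y) y) := by
    rw [h.symm, hd]; exact LinearMap.congr_fun hψ y
  rw [this, ← frobenius_def, ← frobeniusEquiv_apply, RingEquiv.apply_symm_apply]

theorem even_of_alt (h : Good B N) (ha : AltN B N) : Even (finrank F (LinearMap.range N)) := by
  obtain ⟨W, hW⟩ := Submodule.exists_isCompl (LinearMap.ker N)
  let g : W →ₗ[F] W →ₗ[F] F := (B ∘ₗ N).domRestrict₁₂ W W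
  have hga : g.IsAlt := fun w => ha _
  have hker : ∀ w : W, N w = 0 → w = 0 := fun w hw => Subtype.ext
    (Submodule.disjoint_def.1 hW.disjoint _ (LinearMap.mem_ker.2 hw) w.2)
  have hsymm : ∀ z w : V, B (N z) w = B (N w) z := fun z w => by rw [h.adj, h.symm]
  have key : ∀ w : W, (∀ z : W, B (N (w : V)) z = 0) → w = 0 := fun w hw => hker w <| by
    refine h.nondeg.1 _ fun z => ?_
    obtain ⟨a, ha', b, hb, rfl⟩ := Submodule.mem_sup.1
      (hW.sup_eq_top.ge (Submodule.mem_top (x := z)))
    rw [map_add, h.adj _ a, LinearMap.mem_ker.1 ha', map_zero, zero_add]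
    exact hw ⟨b, hb⟩
  obtain ⟨m, b, -⟩ := exists_sympBasis hga
    (⟨fun w hw => key w hw, fun w hw => key w fun z => (hsymm _ _).trans (hw z)⟩ : g.Nondegenerate)
  have h1 := finrank_eq_card_basis b
  have h2 := Submodule.finrank_add_eq_of_isCompl hW
  have h3 := LinearMap.finrank_range_add_finrank_ker N
  simp at h1
  exact ⟨m, by omega⟩

theorem exists_unit (h : Good B N) (hna : ¬ AltN B N) : ∃ x, B (N x) x = 1 := by
  obtain ⟨d, hd⟩ := exists_char h
  obtain ⟨v, hv⟩ := not_forall.1 hna
  have hv' : B (N v) d ≠ 0 := fun e => hv (by rw [hd, e]; simp)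
  refine ⟨(B (N v) d)⁻¹ • v, ?_⟩
  rw [hd, map_smul, map_smul, LinearMap.smul_apply, smul_eq_mul, inv_mul_cancel₀ hv', one_pow]

theorem topCond_unit (h : Good B N) {x : Unit → V} :
    TopCond B N id x ↔ B (N (x ())) (x ()) = 1 :=
  ⟨fun hx => by simpa using hx.2 () (), fun hx => ⟨fun i j => h.alt _, fun i j => by simpa using hx⟩⟩

theorem compl_char (h : Good B N) {x : Unit → V} (hx : TopCond B N id x) {d : V}
    (hd : ∀ y, B (N y) y = B (N y) d ^ 2) :
    B (N (x ())) d = 1 := by
  have h1 := hd (x ())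
  rw [(topCond_unit h).1 hx] at h1
  exact frobenius_inj F 2 (by simp only [frobenius_def]; rw [← h1, one_pow])

theorem parity (h : Good B N) {d : V} (hd : ∀ y, B (N y) y = B (N y) d ^ 2) :
    B (N d) d = (finrank F (LinearMap.range N) : F) := by
  induction hs : finrank F (LinearMap.range N) using Nat.strong_induction_on generalizing V with
  | _ s ih =>
    by_cases ha : AltN B N
    · rw [ha d, eq_comm, CharP.cast_eq_zero_iff F 2]
      exact even_iff_two_dvd.1 (hs ▸ even_of_alt h ha)
    · obtain ⟨x₀, hx₀⟩ := exists_unit h ha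
      let x : Unit → V := fun _ => x₀
      have hx : TopCond B N id x := (topCond_unit h).2 hx₀
      have hσ : Function.Involutive (id : Unit → Unit) := fun _ => rfl
      obtain ⟨a, b, y, hy, hdy⟩ := exists_decomp h hσ hx d
      have hr := (compl_dims h hσ hx).2
      simp only [Fintype.card_unit] at hr
      have hy' := (mem_compl h x y).1 hy
      have e1 : ∀ z ∈ compl B N x, B (N z) d = B (N z) y := fun z hz => by
        have hz' := (mem_compl h x z).1 hz
        have hz0 := hz'.2 ()
        rw [← h.adj] at hz0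
        simp [hdy, hz0, h.NN]
      have hy2 := ih _ (by omega) (compl_good h hσ hx) (d := ⟨y, hy⟩)
        (fun z => (hd z.1).trans (by rw [e1 _ z.2]; rfl)) rfl
      change B (N y) y = _ at hy2
      have hyx : B (N y) (x ()) = 0 := by rw [h.adj]; exact hy'.2 ()
      have hxy : B (N (x ())) y = 0 := by rw [h.symm]; exact hy'.2 ()
      have ha1 : a () = 1 := by
        have := compl_char h hx hd
        simp [hdy, hx₀, x, h.NN] at this
        simpa [x, hxy] using this
      have : B (N d) d = 1 + B (N y) y := by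
        rw [hdy]
        simp [ha1, map_add, h.sq, h.NN, x] at *
        simp [hx₀, hyx, hxy]
      rw [this, hy2, ← hs, ← hr, Nat.cast_add, Nat.cast_one, add_comm]

theorem bad_iff (h : Good B N) {x : Unit → V} (hx : TopCond B N id x) {d : V}
    (hd : ∀ y, B (N y) y = B (N y) d ^ 2) :
    AltN (B.domRestrict₁₂ (compl B N x) (compl B N x)) (N.restrict (compl_invariant h x)) ↔
      N (x ()) = N d := by
  constructor
  · intro hc
    refine sub_eq_zero.1 (h.nondeg.1 _ fun w => ?_)
    obtain ⟨a, b, z, hz, rfl⟩ := exists_decomp h (fun _ => rfl) hx w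
    have hz' := (mem_compl h x z).1 hz
    have h1 : B (N z) (x ()) = 0 := by rw [h.adj]; exact hz'.2 ()
    have h2 : B (N z) d = 0 := by
      have := hd z
      rw [show B (N z) z = 0 from hc ⟨z, hz⟩] at this
      simpa using this.symm
    rw [map_sub, LinearMap.sub_apply, sub_eq_zero, h.symm, h.symm (N d), ← h.adj, ← h.adj]
    simp [map_add, h.sq, h1, h2, (topCond_unit h).1 hx, compl_char h hx hd]
  · intro hxd z
    show B (N (z : V)) z = 0
    have hz' := ((mem_compl h x (z : V)).1 z.2).2 ()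
    rw [hd, h.adj, ← hxd, hz']
    simp

theorem card_bTup (h : Good B N) {s r : ℕ} (hs : finrank F (LinearMap.range N) = s)
    (hd : finrank F V = 2 * s + 2 * r) (hna : s = 0 ∨ ¬ AltN B N) :
    Nat.card (Tup B N (id : Fin s → Fin s) r) =
      Fintype.card F ^ expo r s * oFac (Fintype.card F) s * spOrd (Fintype.card F) r := by
  induction s generalizing V with
  | zero => rw [card_base h hs (by omega)]; simp [expo, oFac]
  | succ s ih =>
    classical
    have : Finite V := Module.finite_of_finite F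
    have : Fintype V := Fintype.ofFinite V
    replace hna := hna.resolve_left (Nat.succ_ne_zero s)
    let q := Fintype.card F
    let T := q ^ expo r s * oFac q s * spOrd q r
    obtain ⟨d, hchar⟩ := exists_char h
    have hσ : Function.Involutive (id : Unit → Unit) := fun _ => rfl
    let e : Unit ⊕ Fin s ≃ Fin (s + 1) :=
      (Equiv.sumCongr finOneEquiv.symm (Equiv.refl _)).trans (finSumFinEquiv.trans (finCongr (by omega)))
    rw [Nat.card_congr ((reindexEquiv (τ' := Sum.map id id) e fun k => by simp).trans (splitEquiv h)),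
      Nat.card_sigma]
    have hfib : ∀ x : {x : Unit → V // TopCond B N id x},
        Nat.card (Tup (B.domRestrict₁₂ (compl B N x.1) (compl B N x.1))
          (N.restrict (compl_invariant h x.1)) (id : Fin s → Fin s) r) =
          if 1 ≤ s ∧ N (x.1 ()) = N d then 0 else T := by
      intro x
      have hc := compl_good h hσ x.2
      have hdim := compl_dims h hσ x.2
      simp only [Fintype.card_unit] at hdim
      split_ifs with hb
      · have := (bad_iff h x.2 hchar).2 hb.2
        have : IsEmpty (Tup (B.domRestrict₁₂ (compl B N x.1) (compl B N x.1))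
            (N.restrict (compl_invariant h x.1)) (id : Fin s → Fin s) r) := ⟨fun p => by
          have h1 := p.2.1.2 ⟨0, by omega⟩ ⟨0, by omega⟩
          simp [this _] at h1⟩
        simp
      · refine ih hc (by omega) (by omega) ?_
        rcases Nat.eq_zero_or_pos s with h0 | h0
        · exact .inl h0
        · exact .inr fun ha => hb ⟨h0, (bad_iff h x.2 hchar).1 ha⟩
    rw [Finset.sum_congr rfl fun x _ => hfib x, Finset.sum_ite, Finset.sum_const_zero, zero_add,
      Finset.sum_const, smul_eq_mul, Finset.filter_not, Finset.card_univ_sdiff,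
      ← Nat.card_eq_fintype_card]
    have hker : finrank F (LinearMap.ker N) = 2 * r + s + 1 := by
      have := LinearMap.finrank_range_add_finrank_ker N; omega
    let f : V →ₗ[F] F := (B.flip d).comp N
    have hf : f ≠ 0 := fun e0 => hna fun y => by
      rw [hchar]; simp [show B (N y) d = 0 from LinearMap.congr_fun e0 y]
    have hU : Nat.card {x : Unit → V // TopCond B N id x} = q ^ (2 * r + s + 1) * q ^ s := by
      rw [← pow_add, show 2 * r + s + 1 + s = finrank F V - 1 by omega,
        ← card_linearMap_fibre f hf 1]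
      refine Nat.card_congr (Equiv.subtypeEquiv (Equiv.funUnique Unit V) fun x => ?_)
      refine ⟨fun hx => compl_char h hx hchar, fun hx => (topCond_unit h).2 ?_⟩
      have hx' : B (N (x ())) d = 1 := hx
      rw [hchar, hx', one_pow]
    have hbad : (Finset.univ.filter fun x : {x : Unit → V // TopCond B N id x} =>
        1 ≤ s ∧ N (x.1 ()) = N d).card = if Even s ∧ 1 ≤ s then q ^ (2 * r + s + 1) else 0 := by
      rw [← Fintype.card_subtype, ← Nat.card_eq_fintype_card]
      have hpar := parity h hchar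
      rw [hs] at hpar
      split_ifs with hse
      · rw [← hker, ← card_fibre N ⟨d, rfl⟩]
        refine Nat.card_congr
          { toFun := fun x => ⟨x.1.1 (), x.2.2⟩
            invFun := fun x => ⟨⟨fun _ => x.1, (topCond_unit h).2 (by
              have e0 : (s : F) = 0 := (CharP.cast_eq_zero_iff F 2 _).2 (even_iff_two_dvd.1 hse.1)
              rw [hchar, x.2, hpar, Nat.cast_succ, e0, zero_add, one_pow])⟩, hse.2, x.2⟩
            left_inv := fun _ => rfl
            right_inv := fun _ => rfl }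
      · refine Nat.card_eq_zero.2 (.inl ⟨fun x => hse ⟨?_, x.2.1⟩⟩)
        by_contra hodd
        have h1 := compl_char h x.1.2 hchar
        rw [x.2.2, hpar, (CharP.cast_eq_zero_iff F 2 _).2
          (even_iff_two_dvd.1 (Nat.even_add_one.2 hodd))] at h1
        exact zero_ne_one h1
    rw [hbad, hU, expo, pow_add, oFac]
    split_ifs with hse
    · rw [← Nat.mul_sub_one]; simp only [T, q]; ring
    · simp only [T, q, Nat.sub_zero]; ring

theorem card_aTup (h : Good B N) {a r : ℕ} (ha : AltN B N)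
    (hs : finrank F (LinearMap.range N) = 2 * a) (hd : finrank F V = 4 * a + 2 * r) :
    Nat.card (Tup B N (Prod.map id not : Fin a × Bool → Fin a × Bool) r) =
      Fintype.card F ^ expo r (2 * a) * spOrd (Fintype.card F) a * spOrd (Fintype.card F) r := by
  induction a generalizing V with
  | zero => rw [card_base h hs (by omega)]; simp [expo, spOrd_zero]
  | succ a ih =>
    classical
    have : Finite V := Module.finite_of_finite F
    have : Fintype V := Fintype.ofFinite V
    let q := Fintype.card F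
    have hσ : Function.Involutive not := Bool.not_not
    let e : Bool ⊕ (Fin a × Bool) ≃ Fin (a + 1) × Bool :=
      { toFun := Sum.elim (fun b => (0, b)) fun p => (p.1.succ, p.2)
        invFun := fun p => Fin.cases (Sum.inl p.2) (fun i => Sum.inr (i, p.2)) p.1
        left_inv := by rintro (b | ⟨i, b⟩) <;> simp
        right_inv := by rintro ⟨i, b⟩; cases i using Fin.cases <;> simp }
    have he : ∀ k, (Prod.map id not : Fin (a + 1) × Bool → _) (e k) =
        e (Sum.map not (Prod.map id not : Fin a × Bool → _) k) := by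
      rintro (b | ⟨i, b⟩) <;> rfl
    rw [Nat.card_congr ((reindexEquiv e he).trans (splitEquiv h)), Nat.card_sigma,
      Finset.sum_congr rfl fun x _ => (by
        have hdim := compl_dims h hσ x.2
        simp only [Fintype.card_bool] at hdim
        exact ih (compl_good h hσ x.2) (fun z => ha z.1) (by omega) (by omega)),
      Finset.sum_const, smul_eq_mul, Finset.card_univ, ← Nat.card_eq_fintype_card]
    have e2 : {x : Bool → V // TopCond B N not x} ≃
        Σ x : {x : V // N x ≠ 0}, {y : V // B (N x.1) y = 1 ∧ B x.1 y = 0} :=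
      { toFun := fun x => ⟨⟨x.1 true, fun e0 => by simpa [e0] using x.2.2 true false⟩,
          ⟨x.1 false, by simpa using x.2.2 true false, x.2.1 _ _⟩⟩
        invFun := fun p => ⟨fun b => if b then p.1.1 else p.2.1, by
          obtain ⟨⟨x, hx⟩, ⟨y, hy1, hy2⟩⟩ := p
          refine ⟨?_, ?_⟩
          · rintro (_ | _) (_ | _) <;> simp [h.alt.self_eq_zero, hy2, h.symm y x]
          · have : B (N y) x = 1 := by rw [h.adj, h.symm, hy1]
            rintro (_ | _) (_ | _) <;> simp [ha x, ha y, hy1, this]⟩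
        left_inv := fun x => Subtype.ext (_root_.funext fun b => by cases b <;> rfl)
        right_inv := fun p => rfl }
    have hfib : ∀ x : {x : V // N x ≠ 0},
        Nat.card {y : V // B (N x.1) y = 1 ∧ B x.1 y = 0} = q ^ (4 * a + 2 * r + 2) := by
      rintro ⟨x, hx⟩
      let Φ : V →ₗ[F] F × F := (B (N x)).prod (B x)
      obtain ⟨y, hy⟩ := alt_exists_partner h.nondeg.1 hx
      have hΦ : LinearMap.range Φ = ⊤ := LinearMap.range_eq_top.2 fun ⟨u, v⟩ =>
        ⟨u • y + (v - u * B x y) • N y, by simp [Φ, hy, h.NN, ← h.adj]⟩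
      have hk := LinearMap.finrank_range_add_finrank_ker Φ
      rw [hΦ, finrank_top, Module.finrank_prod, Module.finrank_self] at hk
      rw [show 4 * a + 2 * r + 2 = finrank F (LinearMap.ker Φ) by omega,
        ← card_fibre Φ (w := (1, 0)) (LinearMap.range_eq_top.1 hΦ _)]
      exact Nat.card_congr (Equiv.subtypeEquivRight fun y => by simp [Φ])
    have hx1 : Nat.card {x : V // N x ≠ 0} =
        q ^ (2 * r + 2 * a + 2) * (q ^ (2 * a + 2) - 1) := by
      rw [Nat.mul_sub_one, ← pow_add, Nat.card_eq_fintype_card, Fintype.card_subtype_compl,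
        ← Nat.card_eq_fintype_card, ← Nat.card_eq_fintype_card,
        Module.natCard_eq_pow_finrank (K := F), Nat.card_eq_fintype_card (α := F)]
      congr 1
      · congr 1; omega
      · rw [card_fibre N (w := 0) ⟨0, map_zero N⟩]
        congr 1
        have := LinearMap.finrank_range_add_finrank_ker N; omega
    rw [Nat.card_congr e2, Nat.card_sigma, Finset.sum_congr rfl fun x _ => hfib x, Finset.sum_const,
      smul_eq_mul, Finset.card_univ, ← Nat.card_eq_fintype_card, hx1, spOrd_succ,
      show 2 * (a + 1) = 2 * a + 1 + 1 by ring, expo, expo]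
    ring

theorem card_cent_b (h : Good B N) {s r : ℕ} (hs : finrank F (LinearMap.range N) = s)
    (hd : finrank F V = 2 * s + 2 * r) (hna : ¬ AltN B N) :
    Nat.card (Cent B N) =
      Fintype.card F ^ expo r s * oFac (Fintype.card F) s * spOrd (Fintype.card F) r := by
  have hc := card_bTup h hs hd (.inr hna)
  have hq : 1 < Fintype.card F := Fintype.one_lt_card
  rw [← hc]
  refine card_cent h (fun _ => rfl) (by simp [hd]) ?_
  rw [hc]
  exact mul_ne_zero (mul_ne_zero (pow_ne_zero _ (by omega)) (oFac_ne_zero hq s)) (spOrd_ne_zero hq r)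

theorem card_cent_a (h : Good B N) {a r : ℕ} (ha : AltN B N)
    (hs : finrank F (LinearMap.range N) = 2 * a) (hd : finrank F V = 4 * a + 2 * r) :
    Nat.card (Cent B N) =
      Fintype.card F ^ expo r (2 * a) * spOrd (Fintype.card F) a * spOrd (Fintype.card F) r := by
  have hc := card_aTup h ha hs hd
  have hq : 1 < Fintype.card F := Fintype.one_lt_card
  rw [← hc]
  refine card_cent h (fun p => by simp [Prod.map]) (by simp [hd]; ring) ?_
  rw [hc]
  exact mul_ne_zero (mul_ne_zero (pow_ne_zero _ (by omega)) (spOrd_ne_zero hq _)) (spOrd_ne_zero hq r)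

end Count

section Bridge

open Matrix CfsgLib.KnownA.SympInvolutions

variable [Fintype F] [CharP F 2] {m : ℕ}

theorem cent_equiv (t : symplecticGroup (Fin m) F) :
    Nat.card (Subgroup.centralizer ({t} : Set (symplecticGroup (Fin m) F))) =
      Nat.card (Cent (sympBil F m) (nil t)) := by
  refine Nat.card_congr <| ((spEquiv m).toEquiv.subtypeEquiv
    (q := fun g => ∀ x, g.1 (nil t x) = nil t (g.1 x)) fun g => ?_).trans
    { toFun := fun g => ⟨g.1.1, g.1.2, g.2⟩
      invFun := fun c => ⟨⟨c.1, c.2.1⟩, c.2.2⟩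
      left_inv := fun _ => rfl
      right_inv := fun _ => rfl }
  rw [Subgroup.mem_centralizer_singleton_iff]
  constructor
  · intro hc x
    show (spEquiv m g).1 _ = nil t ((spEquiv m g).1 x)
    rw [spEquiv_apply, spEquiv_apply, nil_apply, nil_apply, mulVec_sub, mulVec_mulVec, mulVec_mulVec]
    rw [show g.1 * t.1 = t.1 * g.1 from congrArg Subtype.val hc]
  · intro hc
    refine Subtype.ext (Matrix.ext_of_mulVec_single fun i => ?_)
    have h1 : (spEquiv m g).1 (nil t (Pi.single i 1)) = nil t ((spEquiv m g).1 (Pi.single i 1)) := hc _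
    rw [spEquiv_apply, spEquiv_apply, nil_apply, nil_apply, mulVec_sub, mulVec_mulVec, mulVec_mulVec]
      at h1
    exact sub_left_inj.1 h1

theorem sp_setup {s : ℕ} (t : symplecticGroup (Fin m) F) (ht : t ^ 2 = 1) (ht1 : t ≠ 1)
    (hs : ((t : Matrix (Fin m ⊕ Fin m) (Fin m ⊕ Fin m) F) - 1).rank = s) :
    Good (sympBil F m) (nil t) ∧ finrank F (LinearMap.range (nil t)) = s ∧
      finrank F (Fin m ⊕ Fin m → F) = 2 * s + 2 * (m - s) ∧ s ≤ m ∧
      (AltN (sympBil F m) (nil t) ↔ ∀ v, Cfsg.sympForm m F v ((t : Matrix _ _ F) *ᵥ v) = 0) := by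
  have hp := nil_props t (orderOf_eq_prime ht ht1)
  have hg : Good (sympBil F m) (nil t) := ⟨sympBil_isAlt m, sympBil_nondegenerate m, hp.1,
    fun x y => by rw [sympBil_apply, sympBil_apply]; exact hp.2 x y⟩
  have hrank : finrank F (LinearMap.range (nil t)) = s := hs
  have h1 := LinearMap.finrank_range_add_finrank_ker (nil t)
  have h2 : finrank F (LinearMap.range (nil t)) ≤ finrank F (LinearMap.ker (nil t)) :=
    Submodule.finrank_mono (by rintro _ ⟨x, rfl⟩; exact hp.1 x)
  have hV : finrank F (Fin m ⊕ Fin m → F) = 2 * m := by simp [two_mul]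
  refine ⟨hg, hrank, by omega, by omega, forall_congr' fun v => ?_⟩
  rw [← sympBil_apply, hg.symm, nil_apply, map_sub, sympBil_isAlt m v, sub_zero]

theorem ne_one_of_rank {s : ℕ} (t : symplecticGroup (Fin m) F)
    (hs : ((t : Matrix (Fin m ⊕ Fin m) (Fin m ⊕ Fin m) F) - 1).rank = s) (h0 : s ≠ 0) : t ≠ 1 := by
  rintro rfl
  exact h0 (by simp [← hs])

theorem expo_eq {r s k : ℕ} (hm : k = r + s) : expo r s = 2 * k * s - (3 * s ^ 2 - s) / 2 := by
  have h := two_mul_expo r s
  have h1 : s ≤ 3 * s ^ 2 := by nlinarith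
  obtain ⟨c, hc⟩ : ∃ c, 3 * s ^ 2 - s = c := ⟨_, rfl⟩
  have h2 : 2 * expo r s + c = 4 * k * s := by
    subst hm
    have : c + s = 3 * s ^ 2 := by omega
    nlinarith
  rw [hc, show 2 * k * s = (4 * k * s) / 2 by rw [show 4 * k * s = 2 * (2 * k * s) by ring]; omega]
  omega

theorem card_centralizer_b {q s : ℕ} (hF : Fintype.card F = q) (t : symplecticGroup (Fin m) F)
    (ht : t ^ 2 = 1) (hs : ((t : Matrix (Fin m ⊕ Fin m) (Fin m ⊕ Fin m) F) - 1).rank = s)
    (hodd : Odd s) :
    Nat.card (Subgroup.centralizer ({t} : Set (symplecticGroup (Fin m) F))) =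
      q ^ (2 * m * s - (3 * s ^ 2 - s) / 2) * spOrd q ((s - 1) / 2) * spOrd q (m - s) := by
  obtain ⟨k, rfl⟩ := hodd
  obtain ⟨hg, hr, hd, hle, -⟩ := sp_setup t ht (ne_one_of_rank t hs (by omega)) hs
  have hna : ¬ AltN (sympBil F m) (nil t) := fun ha => by
    have := even_of_alt hg ha
    rw [hr] at this
    exact Nat.not_even_iff_odd.2 ⟨k, rfl⟩ this
  rw [cent_equiv, card_cent_b hg hr hd hna, (oFac_spec _ k).1, hF,
    expo_eq (k := m) (by omega), show (2 * k + 1 - 1) / 2 = k by omega]

theorem card_centralizer_a {q s : ℕ} (hF : Fintype.card F = q) (t : symplecticGroup (Fin m) F)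
    (ht : t ^ 2 = 1) (ht1 : t ≠ 1)
    (hs : ((t : Matrix (Fin m ⊕ Fin m) (Fin m ⊕ Fin m) F) - 1).rank = s) (heven : Even s)
    (halt : ∀ v, Cfsg.sympForm m F v ((t : Matrix (Fin m ⊕ Fin m) (Fin m ⊕ Fin m) F) *ᵥ v) = 0) :
    Nat.card (Subgroup.centralizer ({t} : Set (symplecticGroup (Fin m) F))) =
      q ^ (2 * m * s - (3 * s ^ 2 - s) / 2) * spOrd q (s / 2) * spOrd q (m - s) := by
  obtain ⟨a, rfl⟩ := heven
  obtain ⟨hg, hr, hd, hle, hiff⟩ := sp_setup t ht ht1 hs
  rw [cent_equiv, card_cent_a hg (a := a) (r := m - (a + a)) (hiff.2 halt) (by omega) (by omega), hF,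
    show 2 * a = a + a by ring, expo_eq (k := m) (by omega), show (a + a) / 2 = a by omega]

theorem card_centralizer_c {q s : ℕ} (hF : Fintype.card F = q) (t : symplecticGroup (Fin m) F)
    (ht : t ^ 2 = 1) (hs : ((t : Matrix (Fin m ⊕ Fin m) (Fin m ⊕ Fin m) F) - 1).rank = s)
    (heven : Even s)
    (hna : ∃ v, Cfsg.sympForm m F v ((t : Matrix (Fin m ⊕ Fin m) (Fin m ⊕ Fin m) F) *ᵥ v) ≠ 0) :
    Nat.card (Subgroup.centralizer ({t} : Set (symplecticGroup (Fin m) F))) =
      q ^ (2 * m * s - (3 * s ^ 2 - 3 * s) / 2 - 1) * spOrd q ((s - 2) / 2) * spOrd q (m - s) := by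
  have ht1 : t ≠ 1 := by
    rintro rfl
    obtain ⟨v, hv⟩ := hna
    simp [CfsgLib.Classical.sympForm_self] at hv
  obtain ⟨hg, hr, hd, hle, hiff⟩ := sp_setup t ht ht1 hs
  obtain ⟨v, hv⟩ := hna
  have hs0 : s ≠ 0 := fun h0 => hv <| hiff.1 (fun y => by
    simp [N_eq_zero (N := nil t) (hr.trans h0)]) v
  obtain ⟨k, rfl⟩ : ∃ k, s = 2 * k + 2 := by obtain ⟨c, rfl⟩ := heven; exact ⟨c - 1, by omega⟩
  rw [cent_equiv, card_cent_b hg hr hd (fun ha => hv (hiff.1 ha v)), (oFac_spec _ k).2, hF,
    ← mul_assoc, ← pow_add, expo_eq (k := m) (by omega),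
    show (2 * k + 2 - 2) / 2 = k by omega]
  congr 3
  have e1 := expo_eq (r := m - (2 * k + 2)) (s := 2 * k + 2) (k := m) (by omega)
  have e2 := two_mul_expo (m - (2 * k + 2)) (2 * k + 2)
  have e3 : 3 * (2 * k + 2) ^ 2 = 12 * k ^ 2 + 24 * k + 12 := by ring
  have e4 : 2 * m * (2 * k + 2) = 4 * (m * k) + 4 * m := by ring
  have e5 : m * k ≥ (2 * k + 2) * k := Nat.mul_le_mul_right k hle
  rw [e3, e4]
  have e6 : (2 * k + 2) * k = 2 * k ^ 2 + 2 * k := by ring
  omega

end Bridge

end CfsgLib.SympCentralizer
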