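import Mathlib
import Cfsg.Agent.Lib.Classical.HermCount
import Cfsg.Agent.Lib.Classical.SympMatrix
import Cfsg.Agent.Lib.Classical.SympBasic

/-!
The centraliser of a fixed-point-free symplectic map of order three is a unitary group over the
quadratic extension, when the field has no cube root of unity other than one.
-/

set_option autoImplicit false

namespace CfsgLib.SympOrderThree

open Polynomial Module CfsgLib.Classical

variable {F : Type*} [Field F] [Fintype F]

/-- `X² + X + 1`. -/
noncomputable def cpoly (F : Type*) [Field F] : F[X] := X ^ 2 + X + 1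

omit [Fintype F] in
lemma cpoly_natDegree : (cpoly F).natDegree = 2 := by
  rw [cpoly]; compute_degree!

lemma no_root (hq : Fintype.card F % 3 = 2) (a : F) : a ^ 2 + a + 1 ≠ 0 := by
  intro h
  have ha3 : a ^ 3 = 1 := by linear_combination (a - 1) * h
  have ha0 : a ≠ 0 := by rintro rfl; simp at h
  have h1 : a ^ (Fintype.card F - 1) = 1 := FiniteField.pow_card_sub_one_eq_one a ha0
  obtain ⟨k, hk⟩ : ∃ k, Fintype.card F - 1 = 3 * k + 1 := ⟨(Fintype.card F - 1) / 3, by omega⟩
  rw [hk, pow_succ, pow_mul, ha3, one_pow, one_mul] at h1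
  subst h1
  have h3 : ((3 : ℕ) : F) = 0 := by push_cast; linear_combination h
  have : Fact (Nat.Prime (ringChar F)) := ⟨CharP.char_is_prime F (ringChar F)⟩
  have hd : ringChar F ∣ 3 := (ringChar.spec F 3).1 h3
  have e := (Nat.prime_dvd_prime_iff_eq this.out Nat.prime_three).1 hd
  obtain ⟨n, -, hn⟩ := FiniteField.card F (ringChar F)
  rw [hn, e] at hq
  have : 3 ∣ 3 ^ (n : ℕ) := dvd_pow_self 3 n.ne_zero
  omega

lemma cpoly_irreducible (hq : Fintype.card F % 3 = 2) : Irreducible (cpoly F) :=
  irreducible_of_degree_le_three_of_not_isRoot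
    (by rw [cpoly_natDegree]; simp) (fun a h => no_root hq a (by simpa [cpoly, IsRoot] using h))

variable [hfact : Fact (Irreducible (cpoly F))]

/-- The quadratic extension. -/
abbrev E (F : Type*) [Field F] := AdjoinRoot (cpoly F)

/-- The cube root of unity. -/
noncomputable abbrev ω (F : Type*) [Field F] : E F := AdjoinRoot.root (cpoly F)

omit [Fintype F] in
lemma omega_quad : ω F ^ 2 + ω F + 1 = 0 := by
  have this : aeval (ω F) (cpoly F) = 0 := by rw [AdjoinRoot.aeval_eq, AdjoinRoot.mk_self]
  have key : ∀ z : E F, aeval z (X ^ 2 + X + 1 : F[X]) = z ^ 2 + z + 1 := fun z => by simp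
  exact (key _).symm.trans this

lemma omega_indep (hq : Fintype.card F % 3 = 2) {a b : F}
    (h : algebraMap F (E F) a * ω F + algebraMap F (E F) b = 0) : a = 0 ∧ b = 0 := by
  by_cases ha : a = 0
  · subst ha; exact ⟨rfl, by simpa using h⟩
  · exfalso
    apply no_root hq (-b / a)
    apply (algebraMap F (E F)).injective
    have e : algebraMap F (E F) (-b / a) = ω F := by
      rw [map_div₀, map_neg, div_eq_iff (by simpa using ha)]; linear_combination -h
    simp only [map_add, map_pow, map_one, map_zero, e]
    exact omega_quad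

noncomputable instance : Module.Finite F (E F) :=
  (AdjoinRoot.powerBasis hfact.out.ne_zero).finite

noncomputable instance : Finite (E F) := Module.finite_of_finite F

omit [Fintype F] in
lemma finrank_E : finrank F (E F) = 2 := by
  rw [(AdjoinRoot.powerBasis hfact.out.ne_zero).finrank, AdjoinRoot.powerBasis_dim, cpoly_natDegree]

/-- Conjugation. -/
noncomputable def conj (F : Type*) [Field F] [Fintype F] [Fact (Irreducible (cpoly F))] :
    E F →+* E F := (FiniteField.frobeniusAlgHom F (E F)).toRingHom

lemma conj_apply (x : E F) : conj F x = x ^ Fintype.card F := rfl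

lemma conj_algebraMap (a : F) : conj F (algebraMap F (E F) a) = algebraMap F (E F) a :=
  (FiniteField.frobeniusAlgHom F (E F)).commutes a

lemma conj_omega (hq : Fintype.card F % 3 = 2) : conj F (ω F) = -1 - ω F := by
  have h3 : ω F ^ 3 = 1 := by linear_combination (ω F - 1) * omega_quad (F := F)
  rw [conj_apply, ← Nat.mod_add_div (Fintype.card F) 3, hq, pow_add, pow_mul, h3, one_pow, mul_one]
  linear_combination omega_quad (F := F)

theorem card_centralizer (hq : Fintype.card F % 3 = 2) {V : Type*} [AddCommGroup V] [Module F V]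
    [FiniteDimensional F V] {B : V →ₗ[F] V →ₗ[F] F} (hA : B.IsAlt) (hN : B.Nondegenerate)
    (T : V →ₗ[F] V) (hT : ∀ v, T (T v) + T v + v = 0) (hTB : ∀ u v, B (T u) (T v) = B u v)
    {m : ℕ} (hm : finrank F V = 2 * m) :
    Nat.card {g : V ≃ₗ[F] V // (∀ u v, B (g u) (g v) = B u v) ∧ ∀ v, g (T v) = T (g v)} =
      Fintype.card F ^ (m * (m - 1) / 2) * ∏ i ∈ Finset.range m,
        (if Even i then Fintype.card F ^ (i + 1) + 1 else Fintype.card F ^ (i + 1) - 1) := by
  have := Fintype.ofFinite (E F)
  let φ : E F →+* Module.End F V :=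
    Ideal.Quotient.lift _ (aeval (R := F) (T : Module.End F V)).toRingHom (fun p hp => by
      obtain ⟨r, rfl⟩ := Ideal.mem_span_singleton'.1 hp
      have h0 : aeval (T : Module.End F V) (cpoly F) = 0 := by
        refine LinearMap.ext fun v => ?_
        simp [cpoly, sq, Module.End.mul_apply, hT]
      simp [h0])
  let _ : Module (E F) V := Module.compHom V φ
  have hω : ∀ v : V, ω F • v = T v := fun v => by
    show φ (ω F) v = T v
    have : φ (ω F) = aeval (R := F) (T : Module.End F V) X := rfl
    rw [this, aeval_X]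
  have halg : ∀ (a : F) (v : V), algebraMap F (E F) a • v = a • v := fun a v => by
    show φ (AdjoinRoot.mk (cpoly F) (C a)) v = a • v
    have : φ (AdjoinRoot.mk (cpoly F) (C a)) = aeval (R := F) (T : Module.End F V) (C a) := rfl
    rw [this, aeval_C, Module.algebraMap_end_apply]
  have : IsScalarTower F (E F) V := IsScalarTower.of_algebraMap_smul halg
  have : Module.Finite (E F) V := Module.Finite.of_restrictScalars_finite F (E F) V
  have hdec : ∀ c : E F, ∃ a b : F, c = algebraMap F (E F) a * ω F + algebraMap F (E F) b := by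
    intro c
    obtain ⟨f, hf, rfl⟩ := (AdjoinRoot.powerBasis hfact.out.ne_zero).exists_eq_aeval c
    rw [AdjoinRoot.powerBasis_dim, cpoly_natDegree] at hf
    obtain ⟨a, b, rfl⟩ := exists_eq_X_add_C_of_natDegree_le_one (p := f) (by omega)
    exact ⟨a, b, by simp⟩
  let ι := algebraMap F (E F)
  let h : V → V → E F := fun u v => ι (B u v) * ω F - ι (B (T u) v)
  have hr : ∀ u v, B u (T v) = -B (T u) v - B u v := fun u v => by
    have e0 := hT u
    have h1 : B (T (T u)) v = -B (T u) v - B u v := by
      rw [show T (T u) = -T u - u by linear_combination (norm := module) e0]; simp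
    have h3 : T (T (T u)) = u := by
      have e1 := hT (T u)
      linear_combination (norm := module) e1 - e0
    rw [← h1, ← hTB (T (T u)) v, h3]
  have hlin : ∀ (c : E F) u v, h u (c • v) = c * h u v := by
    intro c u v
    obtain ⟨a, b, rfl⟩ := hdec c
    simp only [add_smul, mul_smul, hω, halg, h, map_add, map_smul, smul_eq_mul, hTB]
    simp only [hr, map_mul, map_sub, map_neg, ι]
    linear_combination (algebraMap F (E F) a * algebraMap F (E F) (B u v)) * (-omega_quad (F := F))
  have hsymm : ∀ u v, conj F (h u v) = h v u := by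
    intro u v
    simp only [h, ι, map_sub, map_mul, conj_algebraMap, conj_omega hq]
    rw [alt_swap hA v u, show B (T v) u = B (T u) v + B u v by
      rw [alt_swap hA (T v) u, hr]; ring]
    simp only [map_neg, map_add]
    ring
  let H : V →ₛₗ[conj F] V →ₗ[E F] E F := LinearMap.mk₂'ₛₗ (conj F) (RingHom.id _) h
    (fun u u' v => by simp only [h, map_add, LinearMap.add_apply]; ring)
    (fun c u v => by
      show h (c • u) v = conj F c * h u v
      rw [← hsymm v (c • u), hlin, map_mul, hsymm])
    (fun u v v' => by simp only [h, map_add]; ring)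
    (fun c u v => hlin c u v)
  have hH : ∀ u v, H u v = h u v := fun _ _ => rfl
  have hextract : ∀ u v u' v', h u' v' = h u v → B u' v' = B u v := fun u v u' v' e => by
    have e' : algebraMap F (E F) (B u' v' - B u v) * ω F +
        algebraMap F (E F) (B (T u) v - B (T u') v') = 0 := by
      simp only [map_sub]; linear_combination e
    exact sub_eq_zero.1 (omega_indep hq e').1
  have hherm : IsHermitian H := ⟨⟨fun a => by
      obtain ⟨x, y, rfl⟩ := hdec a
      simp only [map_add, map_mul, conj_algebraMap, conj_omega hq, map_sub, map_neg, map_one]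
      ring,
    fun e => by
      have h1 := RingHom.congr_fun e (ω F)
      rw [conj_omega hq, RingHom.id_apply] at h1
      have h2 : algebraMap F (E F) 2 * ω F + algebraMap F (E F) 1 = 0 := by
        simp only [map_ofNat, map_one]; linear_combination -h1
      exact one_ne_zero (omega_indep hq h2).2⟩, hsymm⟩
  have hsep : H.SeparatingRight := fun v hv => hN.2 v fun u => by
    have := hextract 0 v u v (by rw [← hH, ← hH, hv, hv])
    simpa using this
  have hdim : finrank (E F) V = m := by
    have := Module.finrank_mul_finrank F (E F) V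
    rw [finrank_E, hm] at this; omega
  have hcard : Fintype.card (E F) = Fintype.card F ^ 2 := by
    rw [Module.card_eq_pow_finrank (K := F), finrank_E]
  have key := card_isom_herm_closed hcard conj_apply hherm hsep
  rw [hdim] at key
  rw [← key]
  refine Nat.card_congr
    { toFun := fun g => ⟨{ g.1 with
          map_smul' := fun c v => by
            obtain ⟨a, b, rfl⟩ := hdec c
            show g.1 _ = _ • g.1 v
            simp only [RingHom.id_apply, add_smul, mul_smul, hω, halg, map_add, map_smul, g.2.2] }, fun u v => by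
        show h (g.1 u) (g.1 v) = h u v
        simp only [h]
        rw [g.2.1, ← g.2.2, g.2.1]⟩
      invFun := fun g => ⟨g.1.restrictScalars F, fun u v => hextract _ _ _ _ (g.2 u v), fun v => by
        show g.1 (T v) = T (g.1 v)
        rw [← hω, map_smul, hω]⟩
      left_inv := fun g => rfl
      right_inv := fun g => rfl }

open Matrix

theorem card_centralizer_sp {F : Type*} [Field F] [Fintype F] {q : ℕ} (hF : Fintype.card F = q)
    (hq : q % 3 = 2) {m : ℕ} (x : Matrix.symplecticGroup (Fin m) F) (hx3 : x ^ 3 = 1)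
    (hfpf : IsUnit ((x : Matrix (Fin m ⊕ Fin m) (Fin m ⊕ Fin m) F) - 1)) :
    (Nat.card ↥(Subgroup.centralizer ({x} : Set ↥(Matrix.symplecticGroup (Fin m) F))) : ℤ) =
      (q : ℤ) ^ (m * (m - 1) / 2) * ∏ i : Fin m, ((q : ℤ) ^ ((i : ℕ) + 1) - (-1) ^ ((i : ℕ) + 1)) := by
  subst hF
  have : Fact (Irreducible (cpoly F)) := ⟨cpoly_irreducible hq⟩
  set M : Matrix (Fin m ⊕ Fin m) (Fin m ⊕ Fin m) F := x.1 with hM
  have h3 : M ^ 3 = 1 := by
    have := congrArg (fun g : Matrix.symplecticGroup (Fin m) F => g.1) hx3
    simpa [hM] using this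
  have hquad : M ^ 2 + M + 1 = 0 := by
    refine hfpf.mul_right_eq_zero.1 ?_
    rw [show (M - 1) * (M ^ 2 + M + 1) = M ^ 3 - 1 by noncomm_ring, h3, sub_self]
  let T : (Fin m ⊕ Fin m → F) →ₗ[F] (Fin m ⊕ Fin m → F) := M.mulVecLin
  have hT : ∀ v, T (T v) + T v + v = 0 := fun v => by
    show M *ᵥ (M *ᵥ v) + M *ᵥ v + v = 0
    rw [mulVec_mulVec, ← sq]
    conv_lhs => arg 2; rw [← one_mulVec v]
    rw [← add_mulVec, ← add_mulVec, hquad, zero_mulVec]
  have key := card_centralizer hq (sympBil_isAlt (F := F) m) (sympBil_nondegenerate m) T hT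
    (fun u v => by
      rw [sympBil_apply, sympBil_apply]
      exact (mem_symplecticGroup_iff_preserves m).1 x.2 u v) (m := m) (by simp [two_mul])
  have e : Nat.card ↥(Subgroup.centralizer ({x} : Set ↥(Matrix.symplecticGroup (Fin m) F))) = _ :=
    (Nat.card_congr <| ((spEquiv m).toEquiv.subtypeEquiv
      (q := fun g => ∀ v, g.1 (T v) = T (g.1 v)) fun g => by
        rw [Subgroup.mem_centralizer_singleton_iff]
        show _ ↔ ∀ v, (spEquiv m g).1 (M *ᵥ v) = M *ᵥ (spEquiv m g).1 v
        simp only [spEquiv_apply, mulVec_mulVec]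
        refine ⟨fun hc v => by rw [show g.1 * M = M * g.1 from congrArg Subtype.val hc], fun hc => ?_⟩
        exact Subtype.ext (Matrix.ext_of_mulVec_single fun i => hc _)).trans
      { toFun := fun g => ⟨g.1.1, g.1.2, g.2⟩
        invFun := fun c => ⟨⟨c.1, c.2.1⟩, c.2.2⟩
        left_inv := fun _ => rfl
        right_inv := fun _ => rfl }).trans key
  rw [e, Nat.cast_mul, Nat.cast_pow, Nat.cast_prod,
    ← Fin.prod_univ_eq_prod_range (fun i => ((if Even i then Fintype.card F ^ (i + 1) + 1
      else Fintype.card F ^ (i + 1) - 1 : ℕ) : ℤ))]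
  congr 1
  refine Finset.prod_congr rfl fun i _ => ?_
  split_ifs with hi
  · rw [Odd.neg_one_pow (Even.add_one hi)]; push_cast; ring
  · rw [Even.neg_one_pow (Nat.even_add_one.2 hi), Nat.cast_sub (Nat.one_le_pow _ _ Fintype.card_pos)]
    push_cast; ring

end CfsgLib.SympOrderThree
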