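import Cfsg.Agent.Lib.KnownC.JordanNormal
import Cfsg.Agent.Lib.KnownC.RegNilp
import Cfsg.Agent.Lib.Classical.SympBasic
import Mathlib

/-!
Jordan types of unipotent isometries: the parity condition and its converse.
-/

set_option autoImplicit false
set_option linter.unusedSectionVars false

namespace CfsgLib.UnipotentTypes

open Module CfsgLib.KnownC CfsgLib.KnownC.JordanNormal

universe u

variable {F : Type u} [Field F]

section Nec

variable {V : Type*} [AddCommGroup V] [Module F V] [FiniteDimensional F V]
variable {B : V →ₗ[F] V →ₗ[F] F} {N : Module.End F V} {t : ℕ} {d : Fin t → ℕ} {v : Fin t → V}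

theorem repr_pow (h : IsChains N d v) (j : ℕ) (k : Fin t) (i : Fin (d k)) (y : V) :
    h.basis.repr ((N ^ j) y) ⟨k, i⟩ =
      if j ≤ (i : ℕ) then h.basis.repr y ⟨k, ⟨i - j, lt_of_le_of_lt (Nat.sub_le _ _) i.2⟩⟩ else 0 := by
  classical
  let c1 : V →ₗ[F] F := (h.basis.coord ⟨k, i⟩).comp (N ^ j)
  let c2 : V →ₗ[F] F :=
    if j ≤ (i : ℕ) then h.basis.coord ⟨k, ⟨i - j, lt_of_le_of_lt (Nat.sub_le _ _) i.2⟩⟩ else 0
  have hc : c1 = c2 := by
    refine h.basis.ext fun ⟨l, m⟩ => ?_
    show h.basis.coord ⟨k, i⟩ ((N ^ j) (h.basis ⟨l, m⟩)) = c2 _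
    have e1 : (N ^ j) (h.basis ⟨l, m⟩) = (N ^ (j + (m : ℕ))) (v l) := by
      rw [h.basis_apply, ← Module.End.mul_apply, ← pow_add]
    rw [e1]
    have hext : ∀ {a : Fin t} {x : Fin (d a)} {b : Fin t} {y : Fin (d b)},
        ((⟨a, x⟩ : Σ k : Fin t, Fin (d k)) = ⟨b, y⟩) ↔ a = b ∧ (x : ℕ) = y := by
      intro a x b y
      constructor
      · intro e; cases e; exact ⟨rfl, rfl⟩
      · rintro ⟨rfl, e⟩; rw [Fin.ext e]
    by_cases hlt : j + (m : ℕ) < d l
    · rw [show (N ^ (j + (m : ℕ))) (v l) = h.basis ⟨l, ⟨j + m, hlt⟩⟩ from (h.basis_apply ⟨l, ⟨_, hlt⟩⟩).symm]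
      simp only [c2]
      split_ifs with hj
      · simp only [Basis.coord_apply, Basis.repr_self, Finsupp.single_apply, hext]
        refine if_congr ?_ rfl rfl
        refine and_congr_right fun _ => ?_
        show j + (m : ℕ) = i ↔ (m : ℕ) = i - j
        omega
      · simp only [Basis.coord_apply, Basis.repr_self, Finsupp.single_apply, hext, LinearMap.zero_apply]
        rw [if_neg]
        rintro ⟨-, he⟩
        change j + (m : ℕ) = i at he
        omega
    · rw [pow_apply_eq_zero (h.last l) (by omega), map_zero]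
      simp only [c2]
      split_ifs with hj
      · simp only [Basis.coord_apply, Basis.repr_self, Finsupp.single_apply, hext]
        rw [if_neg]
        rintro ⟨rfl, he⟩
        change (m : ℕ) = i - j at he
        omega
      · rfl
  have := LinearMap.congr_fun hc y
  simp only [c1, c2] at this
  split_ifs with hj <;> simp only [hj, if_true, if_false] at this <;> exact this

/-- Blocks of a given size come in even number when the attached form is alternating. -/
theorem even_count (hB : B.Nondegenerate) (u : V ≃ₗ[F] V) (hu : ∀ x, u x = x + N x)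
    (hiso : ∀ x y, B (u x) (u y) = B x y) (h : IsChains N d v) (j : ℕ) (hj : 1 ≤ j)
    (hzero : ∀ x, (N ^ j) x = 0 → B x ((N ^ (j - 1)) x) = 0) :
    Even (Finset.univ.filter (fun k => d k = j)).card := by
  classical
  let S := {k : Fin t // d k = j}
  let L : (S → F) →ₗ[F] V := Fintype.linearCombination F fun k : S => v k.1
  have hLj : ∀ c, (N ^ j) (L c) = 0 := fun c => by
    simp only [L, Fintype.linearCombination_apply, map_sum, map_smul]
    refine Finset.sum_eq_zero fun k _ => ?_
    rw [pow_apply_eq_zero (h.last k.1) k.2.le, smul_zero]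
  let g : (S → F) →ₗ[F] (S → F) →ₗ[F] F := B.compl₁₂ L ((N ^ (j - 1)).comp L)
  have hg : ∀ a b, g a b = B (L a) ((N ^ (j - 1)) (L b)) := fun a b => rfl
  have hga : g.IsAlt := fun c => hzero _ (hLj c)
  -- the adjoint of `N`
  let P : Module.End F V := -(u.symm : V →ₗ[F] V)
  have hPN : Commute N P := by
    refine LinearMap.ext fun x => ?_
    show N (-(u.symm x)) = -(u.symm (N x))
    rw [map_neg, neg_inj]
    apply u.injective
    rw [u.apply_symm_apply, hu, ← map_add, ← hu, u.apply_symm_apply]
  have hadj : ∀ a b, B a (N b) = B ((N * P) a) b := fun a b => by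
    have h1 : N b = u b - b := by rw [hu]; abel
    have h2 : (N * P) a = u.symm a - a := by
      show N (-(u.symm a)) = _
      rw [map_neg]
      have : a = u.symm a + N (u.symm a) := by rw [← hu, u.apply_symm_apply]
      linear_combination (norm := module) this
    rw [h1, h2, map_sub, map_sub, LinearMap.sub_apply, ← hiso (u.symm a) b, u.apply_symm_apply]
  have hadjp : ∀ (n : ℕ) a b, B a ((N ^ n) b) = B (((N * P) ^ n) a) b := by
    intro n
    induction n with
    | zero => intro a b; rfl
    | succ n ih =>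
      intro a b
      rw [pow_succ, Module.End.mul_apply, ih, hadj, ← Module.End.mul_apply, ← pow_succ']
  have hsep : g.SeparatingLeft := by
    intro c hc
    have hvan : ∀ y, (N ^ j) y = 0 → B (L c) ((N ^ (j - 1)) y) = 0 := by
      intro y hy
      rw [← h.basis.sum_repr y, map_sum, map_sum]
      refine Finset.sum_eq_zero fun ⟨k, i⟩ _ => ?_
      rw [map_smul, map_smul, smul_eq_mul, h.basis_apply, ← Module.End.mul_apply, ← pow_add]
      by_cases hlt : (i : ℕ) + j < d k
      · have := repr_pow h j k ⟨i + j, hlt⟩ y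
        rw [hy, map_zero, if_pos (Nat.le_add_left j i)] at this
        simp only [Nat.add_sub_cancel] at this
        rw [← this]; simp
      · rcases Nat.eq_zero_or_pos (i : ℕ) with hi | hi
        · rcases Nat.lt_or_ge (d k) j with hk | hk
          · rw [pow_apply_eq_zero (h.last k) (by omega)]; simp
          · have hkj : d k = j := by omega
            have := hc (Pi.single ⟨k, hkj⟩ 1)
            rw [hg] at this
            simp only [L, Fintype.linearCombination_apply_single, one_smul] at this
            show _ * B (L c) ((N ^ (j - 1 + (i : ℕ))) (v k)) = 0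
            rw [hi, add_zero, show B (L c) ((N ^ (j - 1)) (v k)) = 0 from this, mul_zero]
        · show _ * B (L c) ((N ^ (j - 1 + (i : ℕ))) (v k)) = 0
          rw [show j - 1 + (i : ℕ) = j + ((i : ℕ) - 1) by omega, pow_add, Module.End.mul_apply, hadjp,
            hPN.mul_pow, hPN.pow_pow j j |>.eq, Module.End.mul_apply, hLj]
          simp
    let φ : V →ₗ[F] F := (B (L c)).comp (N ^ (j - 1))
    have hφ : φ ∈ LinearMap.range (N ^ j).dualMap := by
      rw [LinearMap.range_dualMap_eq_dualAnnihilator_ker, Submodule.mem_dualAnnihilator]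
      exact fun w hw => hvan w hw
    obtain ⟨ψ, hψ⟩ := hφ
    have hsurj : Function.Surjective B :=
      (LinearMap.injective_iff_surjective_of_finrank_eq_finrank Subspace.dual_finrank_eq.symm).1
        ((injective_iff_map_eq_zero B).2 fun w hw => hB.1 w fun z => by simp [hw])
    obtain ⟨z, hz⟩ := hsurj ψ
    have heq : ((N * P) ^ (j - 1)) (L c) = ((N * P) ^ j) z := by
      refine sub_eq_zero.1 (hB.1 _ fun y => ?_)
      rw [map_sub, LinearMap.sub_apply, sub_eq_zero, ← hadjp, ← hadjp, hz]
      exact (LinearMap.congr_fun hψ y).symm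
    have hN : (N ^ (j - 1)) (L c) = (N ^ j) (P z) := by
      obtain ⟨j', rfl⟩ : ∃ j', j = j' + 1 := ⟨j - 1, by omega⟩
      rw [Nat.add_sub_cancel] at heq ⊢
      rw [hPN.mul_pow, hPN.mul_pow, (hPN.pow_pow _ _).eq, (hPN.pow_pow _ _).eq, Module.End.mul_apply,
        Module.End.mul_apply, pow_succ P, Module.End.mul_apply,
        show P ((N ^ (j' + 1)) z) = (N ^ (j' + 1)) (P z) from
          (LinearMap.congr_fun (hPN.symm.pow_right (j' + 1)).eq z)] at heq
      have hinj : ∀ n, Function.Injective (P ^ n : Module.End F V) := fun n => by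
        induction n with
        | zero => exact Function.injective_id
        | succ n ih =>
          rw [pow_succ]
          exact ih.comp (fun x y e => u.symm.injective (neg_injective e))
      exact hinj j' heq
    refine _root_.funext fun ⟨k, hk⟩ => ?_
    show c ⟨k, hk⟩ = 0
    have h1 := repr_pow h j k ⟨j - 1, by omega⟩ (P z)
    rw [← hN, repr_pow h (j - 1) k, if_pos (le_refl _), if_neg (show ¬ j ≤ j - 1 by omega)] at h1
    simp only [Nat.sub_self] at h1
    rw [← h1]
    simp only [L, Fintype.linearCombination_apply, map_sum, map_smul, Finsupp.coe_finset_sum,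
      Finset.sum_apply, Finsupp.smul_apply, smul_eq_mul]
    rw [Finset.sum_eq_single (⟨k, hk⟩ : S)]
    · rw [show v k = h.basis ⟨k, ⟨0, h.pos k⟩⟩ by rw [h.basis_apply]; rfl, Basis.repr_self,
        Finsupp.single_eq_same, mul_one]
    · rintro ⟨l, hl⟩ _ hne
      rw [show v l = h.basis ⟨l, ⟨0, h.pos l⟩⟩ by rw [h.basis_apply]; rfl, Basis.repr_self,
        Finsupp.single_eq_of_ne, mul_zero]
      intro e
      exact hne (Subtype.ext (congrArg Sigma.fst e).symm)
    · exact fun e => absurd (Finset.mem_univ _) e
  have hrefl : ∀ a b, g a b = 0 → g b a = 0 := fun a b e => hga.isRefl a b e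
  obtain ⟨m, b, -⟩ := Classical.exists_sympBasis hga ⟨hsep, fun y hy => hsep y fun x => hrefl _ _ (hy x)⟩
  have h1 := finrank_eq_card_basis b
  rw [Module.finrank_fintype_fun_eq_card, Fintype.card_subtype] at h1
  rw [h1]
  exact ⟨m, by simp⟩

/-- Alternating forms: blocks of odd size come in pairs. -/
theorem zero_of_alt (hA : B.IsAlt) (u : V ≃ₗ[F] V) (hu : ∀ x, u x = x + N x)
    (hiso : ∀ x y, B (u x) (u y) = B x y) (k : ℕ) (x : V) (hx : (N ^ (2 * k + 1)) x = 0) :
    B x ((N ^ (2 * k)) x) = 0 := by
  let M : Module.End F V := (u.symm : V →ₗ[F] V)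
  have hMN : ∀ y, M (N y) = N (M y) := fun y => u.injective <| by
    show u (u.symm (N y)) = u (N (u.symm y))
    rw [u.apply_symm_apply, hu, ← map_add, ← hu, u.apply_symm_apply]
  have h0 : ∀ a b, B a (N b) = -B (N (M a)) b := fun a b => by
    have e := hiso (M a) b
    rw [show u (M a) = a from u.apply_symm_apply a] at e
    have : a = M a + N (M a) := by rw [← hu]; exact (u.apply_symm_apply a).symm
    conv_lhs at e => rw [hu, map_add]
    have e2 : B a b = B (M a) b + B (N (M a)) b := by
      conv_lhs => rw [this]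
      simp
    linear_combination e - e2
  -- move half of the powers to the left
  have h1 : ∀ (n : ℕ) a b, B a ((N ^ n) b) = (-1) ^ n * B ((N ^ n) ((M ^ n) a)) b := by
    intro n
    induction n with
    | zero => intro a b; simp
    | succ n ih =>
      intro a b
      have hc : ∀ y, M ((N ^ n) y) = (N ^ n) (M y) := fun y =>
        LinearMap.congr_fun ((Commute.pow_right (show Commute M N from LinearMap.ext hMN) n)).eq y
      rw [pow_succ N n, Module.End.mul_apply, ih, h0, hc, ← Module.End.mul_apply N, ← pow_succ', pow_succ',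
        pow_succ' M, Module.End.mul_apply M, ← (Commute.pow_self N n).eq]
      ring_nf
  have hNz : (N ^ (k + 1)) ((N ^ k) x) = 0 := by
    rw [← Module.End.mul_apply, ← pow_add, show k + 1 + k = 2 * k + 1 by ring]; exact hx
  have h2 : ∀ n : ℕ, B ((M ^ n) ((N ^ k) x)) ((N ^ k) x) = 0 := by
    intro n
    induction n with
    | zero => exact hA _
    | succ n ih =>
      set w := (M ^ (n + 1)) ((N ^ k) x)
      have hw : (M ^ n) ((N ^ k) x) = w + N w := by
        rw [← hu, show w = M ((M ^ n) ((N ^ k) x)) by rw [← Module.End.mul_apply, ← pow_succ']]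
        exact (u.apply_symm_apply _).symm
      have hcomm : Commute (M ^ (n + 1)) (N ^ k) := (show Commute M N from LinearMap.ext hMN).pow_pow _ _
      have hNw : B (N w) ((N ^ k) x) = 0 := by
        rw [h1 k, show w = (N ^ k) ((M ^ (n + 1)) x) from LinearMap.congr_fun hcomm.eq x]
        have : (N ^ k) ((M ^ k) (N ((N ^ k) ((M ^ (n + 1)) x)))) = 0 := by
          rw [← Module.End.mul_apply N, ← pow_succ', show (M ^ k) ((N ^ (k + 1)) ((M ^ (n + 1)) x)) =
            (N ^ (k + 1)) ((M ^ k) ((M ^ (n + 1)) x)) from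
              LinearMap.congr_fun ((show Commute M N from LinearMap.ext hMN).pow_pow _ _).eq _,
            ← Module.End.mul_apply, ← pow_add, show k + (k + 1) = 2 * k + 1 by ring,
            ← Module.End.mul_apply, ← ((show Commute M N from LinearMap.ext hMN).pow_pow _ _).eq,
            Module.End.mul_apply]
          rw [show (N ^ (2 * k + 1)) ((M ^ (n + 1)) x) = (M ^ (n + 1)) ((N ^ (2 * k + 1)) x) from
            (LinearMap.congr_fun ((show Commute M N from LinearMap.ext hMN).pow_pow (n + 1) (2 * k + 1)).eq x).symm, hx,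
            map_zero, map_zero]
        rw [this]; simp
      have := ih
      rw [hw, map_add, LinearMap.add_apply, hNw, add_zero] at this
      exact this
  rw [show 2 * k = k + k by ring, pow_add, Module.End.mul_apply, h1]
  rw [show (N ^ k) ((M ^ k) x) = (M ^ k) ((N ^ k) x) from
    (LinearMap.congr_fun ((show Commute M N from LinearMap.ext hMN).pow_pow _ _).eq x).symm, h2, mul_zero]

/-- Symmetric forms, odd characteristic: blocks of even size come in pairs. -/
theorem zero_of_symm (h2 : (2 : F) ≠ 0) (hS : ∀ x y, B x y = B y x) (u : V ≃ₗ[F] V)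
    (hu : ∀ x, u x = x + N x) (hiso : ∀ x y, B (u x) (u y) = B x y) (k : ℕ) (x : V)
    (hx : (N ^ (2 * k + 2)) x = 0) : B x ((N ^ (2 * k + 1)) x) = 0 := by
  set e := (N ^ (2 * k + 1)) x with he
  have hfix : N e = 0 := by rw [he, ← Module.End.mul_apply, ← pow_succ']; exact hx
  have h0 : ∀ n, ∀ a b, (N ^ (n + 1)) a = 0 → B a ((N ^ n) b) = (-1) ^ n * B ((N ^ n) a) b := by
    intro n
    induction n with
    | zero => intro a b _; simp
    | succ n ih =>
      intro a b ha
      -- `B a (N z) + B (N a) z + B (N a) (N z) = 0`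
      have hz : ∀ a z, B a (N z) + B (N a) z + B (N a) (N z) = 0 := fun a z => by
        have e := hiso a z
        simp only [hu, map_add, LinearMap.add_apply] at e
        linear_combination e
      have ha' : (N ^ (n + 1)) (N a) = 0 := by rw [← Module.End.mul_apply, ← pow_succ]; exact ha
      have e1 := hz a ((N ^ n) b)
      rw [← Module.End.mul_apply N, ← pow_succ'] at e1
      have e2 := ih (N a) b ha'
      have e3 := ih (N a) (N b) ha'
      rw [← Module.End.mul_apply (N ^ n) N b, ← pow_succ] at e3
      rw [← Module.End.mul_apply (N ^ n) N a, ← pow_succ] at e2 e3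
      have e4 := hz ((N ^ (n + 1)) a) b
      rw [← Module.End.mul_apply N, ← pow_succ', ha] at e4
      simp only [map_zero, LinearMap.zero_apply, add_zero] at e4
      rw [e4, mul_zero] at e3
      rw [e2, e3, add_zero] at e1
      linear_combination e1
  have h1 := h0 (2 * k + 1) x x (by rw [show 2 * k + 1 + 1 = 2 * k + 2 by ring]; exact hx)
  rw [← he, hS e x, Odd.neg_one_pow ⟨k, rfl⟩] at h1
  have : (2 : F) * B x e = 0 := by linear_combination h1
  exact (mul_eq_zero.1 this).resolve_left h2

end Nec

/-! ### Constructions -/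

/-- Kinds of forms. -/
inductive Kind
  | alt
  | quad

/-- A space carrying a form of the given kind invariant under `1 + N`, with chains of sizes `s`. -/
def Real (F : Type u) [Field F] : Kind → Multiset ℕ → Prop
  | .alt, s => ∃ (V : Type u) (_ : AddCommGroup V) (_ : Module F V) (_ : FiniteDimensional F V)
      (N : Module.End F V) (t : ℕ) (d : Fin t → ℕ) (v : Fin t → V) (B : V →ₗ[F] V →ₗ[F] F),
      IsChains N d v ∧ Finset.univ.val.map d = s ∧ B.IsAlt ∧ B.Nondegenerate ∧
        ∀ x y, B (x + N x) (y + N y) = B x y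
  | .quad, s => ∃ (V : Type u) (_ : AddCommGroup V) (_ : Module F V) (_ : FiniteDimensional F V)
      (N : Module.End F V) (t : ℕ) (d : Fin t → ℕ) (v : Fin t → V) (Q : QuadraticForm F V),
      IsChains N d v ∧ Finset.univ.val.map d = s ∧ (QuadraticMap.polarBilin Q).Nondegenerate ∧
        ∀ x, Q (x + N x) = Q x

theorem isChains_prod {V W : Type*} [AddCommGroup V] [Module F V] [FiniteDimensional F V]
    [AddCommGroup W] [Module F W] [FiniteDimensional F W] {N : Module.End F V} {M : Module.End F W}
    {t t' : ℕ} {d : Fin t → ℕ} {d' : Fin t' → ℕ} {v : Fin t → V} {w : Fin t' → W}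
    (h : IsChains N d v) (h' : IsChains M d' w) :
    IsChains (N.prodMap M) (Fin.append d d')
      (Fin.append (fun k => ((v k, 0) : V × W)) (fun k => (0, w k))) := by
  classical
  have hp : ∀ (n : ℕ) (a : V) (b : W), ((N.prodMap M) ^ n) (a, b) = ((N ^ n) a, (M ^ n) b) := by
    intro n
    induction n with
    | zero => intro a b; rfl
    | succ n ih => intro a b; rw [pow_succ', Module.End.mul_apply, ih, pow_succ', pow_succ']; rfl
  refine ⟨?_, ?_, ?_⟩
  · intro k
    cases k using Fin.addCases with
    | left i => rw [Fin.append_left]; exact h.pos i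
    | right i => rw [Fin.append_right]; exact h'.pos i
  · intro k
    cases k using Fin.addCases with
    | left i =>
      rw [show Fin.append d d' (Fin.castAdd t' i) = d i from Fin.append_left _ _ _,
        Fin.append_left, hp, h.last, map_zero]; rfl
    | right i =>
      rw [show Fin.append d d' (Fin.natAdd t i) = d' i from Fin.append_right _ _ _,
        Fin.append_right, hp, h'.last, map_zero]; rfl
  · set D := Fin.append d d'
    set v₂ := Fin.append (fun k => ((v k, 0) : V × W)) (fun k => (0, w k))
    set C := comb (N.prodMap M) D v₂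
    have hmem : ∀ (k : Fin (t + t')) (i : Fin (D k)),
        ((N.prodMap M) ^ (i : ℕ)) (v₂ k) ∈ LinearMap.range C := fun k i =>
      ⟨Pi.single ⟨k, i⟩ 1, by simp [C, comb, Fintype.linearCombination_apply_single]⟩
    have hsurj : Function.Surjective C := by
      rw [← LinearMap.range_eq_top, eq_top_iff]
      rintro ⟨a, b⟩ -
      obtain ⟨c, rfl⟩ := h.bij.2 a
      obtain ⟨c', rfl⟩ := h'.bij.2 b
      rw [comb_apply, comb_apply, show (((∑ k, ∑ i : Fin (d k), c ⟨k, i⟩ • (N ^ (i : ℕ)) (v k)),
          (∑ k, ∑ i : Fin (d' k), c' ⟨k, i⟩ • (M ^ (i : ℕ)) (w k))) : V × W) =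
          (∑ k, ∑ i : Fin (d k), c ⟨k, i⟩ • ((N ^ (i : ℕ)) (v k), (0 : W))) +
          (∑ k, ∑ i : Fin (d' k), c' ⟨k, i⟩ • ((0 : V), (M ^ (i : ℕ)) (w k))) by
        ext <;> simp [Prod.fst_sum, Prod.snd_sum]]
      refine Submodule.add_mem _ (Submodule.sum_mem _ fun k _ => Submodule.sum_mem _ fun i _ =>
        Submodule.smul_mem _ _ ?_) (Submodule.sum_mem _ fun k _ => Submodule.sum_mem _ fun i _ =>
        Submodule.smul_mem _ _ ?_)
      · have := hmem (Fin.castAdd t' k) ⟨i, by simp [D]⟩
        simpa [v₂, hp] using this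
      · have := hmem (Fin.natAdd t k) ⟨i, by simp [D]⟩
        simpa [v₂, hp] using this
    refine ⟨(LinearMap.injective_iff_surjective_of_finrank_eq_finrank ?_).2 hsurj, hsurj⟩
    rw [Module.finrank_fintype_fun_eq_card, Fintype.card_sigma, Module.finrank_prod, ← h.sum_eq,
      ← h'.sum_eq, Fin.sum_univ_add]
    simp [D]

theorem map_append {t t' : ℕ} (d : Fin t → ℕ) (d' : Fin t' → ℕ) :
    Finset.univ.val.map (Fin.append d d') = Finset.univ.val.map d + Finset.univ.val.map d' := by
  rw [Fin.univ_val_map, Fin.univ_val_map, Fin.univ_val_map, List.ofFn_fin_append, Multiset.coe_add]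

theorem Real.add : ∀ {k : Kind} {s s' : Multiset ℕ}, Real F k s → Real F k s' → Real F k (s + s')
  | .alt, _, _, ⟨V, _, _, _, N, t, d, v, B, hc, hs, hA, hB, hi⟩,
      ⟨W, _, _, _, M, t', d', w, B', hc', hs', hA', hB', hi'⟩ => by
    refine ⟨V × W, inferInstance, inferInstance, inferInstance, N.prodMap M, _, _, _,
      B.compl₁₂ (LinearMap.fst F V W) (LinearMap.fst F V W) +
        B'.compl₁₂ (LinearMap.snd F V W) (LinearMap.snd F V W),
      isChains_prod hc hc', by rw [map_append, hs, hs'], fun x => ?_, ⟨fun x hx => ?_, fun x hx => ?_⟩,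
      fun x y => ?_⟩
    · show B x.1 x.1 + B' x.2 x.2 = 0
      rw [hA, hA', add_zero]
    · exact Prod.ext (hB.1 _ fun y => by simpa using hx (y, 0)) (hB'.1 _ fun y => by simpa using hx (0, y))
    · exact Prod.ext (hB.2 _ fun y => by simpa using hx (y, 0)) (hB'.2 _ fun y => by simpa using hx (0, y))
    · show B (x.1 + N x.1) (y.1 + N y.1) + B' (x.2 + M x.2) (y.2 + M y.2) = B x.1 y.1 + B' x.2 y.2
      rw [hi, hi']
  | .quad, _, _, ⟨V, _, _, _, N, t, d, v, Q, hc, hs, hB, hi⟩,
      ⟨W, _, _, _, M, t', d', w, Q', hc', hs', hB', hi'⟩ => by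
    refine ⟨V × W, inferInstance, inferInstance, inferInstance, N.prodMap M, _, _, _, Q.prod Q',
      isChains_prod hc hc', by rw [map_append, hs, hs'], ⟨fun x hx => ?_, fun x hx => ?_⟩, fun x => ?_⟩
    · refine Prod.ext (hB.1 _ fun y => ?_) (hB'.1 _ fun y => ?_)
      · simpa [QuadraticMap.polar] using hx (y, 0)
      · simpa [QuadraticMap.polar] using hx (0, y)
    · refine Prod.ext (hB.2 _ fun y => ?_) (hB'.2 _ fun y => ?_)
      · simpa [QuadraticMap.polar] using hx (y, 0)
      · simpa [QuadraticMap.polar] using hx (0, y)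
    · show Q (x.1 + N x.1) + Q' (x.2 + M x.2) = Q x.1 + Q' x.2
      rw [hi, hi']

/-- A single chain from a regular nilpotent map. -/
theorem chains_of_reg {V : Type*} [AddCommGroup V] [Module F V] [FiniteDimensional F V]
    {N : Module.End F V} (hR : RegNilp.Reg N) {D : ℕ} (hD : finrank F V = D) (h1 : 1 ≤ D) :
    ∃ x, IsChains N (fun _ : Fin 1 => D) (fun _ => x) := by
  obtain ⟨x, hx⟩ := RegNilp.exists_cyclic hR (hD ▸ h1)
  refine ⟨x, fun _ => h1, fun _ => by rw [← hD, hR.nil]; rfl, ?_⟩
  have hsurj : Function.Surjective (comb N (fun _ : Fin 1 => D) fun _ => x) := by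
    rw [← LinearMap.range_eq_top, eq_top_iff, ← RegNilp.span_cyclic hR hx, Submodule.span_le]
    rintro _ ⟨i, rfl⟩
    exact ⟨Pi.single ⟨0, ⟨i, hD ▸ i.2⟩⟩ 1, by simp [comb, Fintype.linearCombination_apply_single]⟩
  exact ⟨(LinearMap.injective_iff_surjective_of_finrank_eq_finrank
    (by simp [hD])).2 hsurj, hsurj⟩

/-- The shift. -/
def shift (F : Type u) [Field F] (e : ℕ) : Module.End F (Fin e → F) where
  toFun a i := if h : 1 ≤ (i : ℕ) then a ⟨i - 1, lt_of_le_of_lt (Nat.sub_le _ _) i.2⟩ else 0
  map_add' a b := by ext i; by_cases h : 1 ≤ (i : ℕ) <;> simp [h]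
  map_smul' c a := by ext i; by_cases h : 1 ≤ (i : ℕ) <;> simp [h]

theorem shift_apply {e : ℕ} (a : Fin e → F) (i : Fin e) :
    shift F e a i = if h : 1 ≤ (i : ℕ) then a ⟨i - 1, lt_of_le_of_lt (Nat.sub_le _ _) i.2⟩ else 0 := rfl

theorem shift_reg (e : ℕ) : RegNilp.Reg (shift F e) := by
  refine ⟨?_, ?_⟩
  · have : ∀ n, ∀ a : Fin e → F, ∀ i : Fin e, (i : ℕ) < n → ((shift F e) ^ n) a i = 0 := by
      intro n
      induction n with
      | zero => intro a i hi; omega
      | succ n ih =>
        intro a i hi
        rw [pow_succ', Module.End.mul_apply, shift_apply]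
        split_ifs with h
        · exact ih a _ (by show (i : ℕ) - 1 < n; omega)
        · rfl
    refine LinearMap.ext fun a => _root_.funext fun i => this _ a i ?_
    rw [Module.finrank_fin_fun]; exact i.2
  · rcases e with _ | e
    · exact (Submodule.finrank_le _).trans (by simp)
    let f : LinearMap.ker (shift F (e + 1)) →ₗ[F] F := (LinearMap.proj (Fin.last e)).comp (Submodule.subtype _)
    have hf : Function.Injective f := by
      refine (injective_iff_map_eq_zero f).2 fun ⟨a, ha⟩ h0 => Subtype.ext (_root_.funext fun i => ?_)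
      rcases eq_or_ne i (Fin.last e) with rfl | hne
      · exact h0
      · have hi : (i : ℕ) < e := by
          have := i.2; have : (i : ℕ) ≠ e := fun h => hne (Fin.ext h); omega
        have := congrFun (LinearMap.mem_ker.1 ha) ⟨i + 1, by omega⟩
        rw [shift_apply, dif_pos (show 1 ≤ (i : ℕ) + 1 by omega)] at this
        simpa using this
    exact (LinearMap.finrank_le_finrank_of_injective hf).trans_eq (finrank_self F)

/-- The pairing `λ(a b)`. -/
def mu (F : Type u) [Field F] (e : ℕ) : (Fin e → F) →ₗ[F] (Fin e → F) →ₗ[F] F :=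
  LinearMap.mk₂ F (fun a b => ∑ i : Fin e, a i * b i.rev)
    (fun a a' b => by simp [add_mul, Finset.sum_add_distrib])
    (fun c a b => by simp [Finset.mul_sum, mul_assoc])
    (fun a b b' => by simp [mul_add, Finset.sum_add_distrib])
    (fun c a b => by simp [Finset.mul_sum, mul_left_comm])

theorem mu_apply {e : ℕ} (a b : Fin e → F) : mu F e a b = ∑ i : Fin e, a i * b i.rev := rfl

theorem mu_comm {e : ℕ} (a b : Fin e → F) : mu F e a b = mu F e b a := by
  rw [mu_apply, mu_apply]
  exact Fintype.sum_equiv Fin.revPerm _ _ fun i => by simp [mul_comm]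

theorem mu_sep {e : ℕ} (a : Fin e → F) (h : ∀ b, mu F e a b = 0) : a = 0 := _root_.funext fun i => by
  have := h (Pi.single i.rev 1)
  simpa [mu_apply, Pi.single_apply, Fin.rev_inj] using this

theorem mu_shift {e : ℕ} (a b : Fin e → F) : mu F e (shift F e a) b = mu F e a (shift F e b) := by
  rcases e with _ | e
  · simp [mu_apply]
  rw [mu_apply, mu_apply, Fin.sum_univ_succ, Fin.sum_univ_castSucc]
  simp [shift_apply, Fin.rev_succ, Fin.rev_castSucc]
  refine Finset.sum_congr rfl fun i _ => ?_
  congr 2

/-- `a ↦ (a_{i+1})`. -/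
def tail' (F : Type u) [Field F] (e : ℕ) : Module.End F (Fin e → F) where
  toFun a i := if h : (i : ℕ) + 1 < e then a ⟨i + 1, h⟩ else 0
  map_add' a b := by ext i; by_cases h : (i : ℕ) + 1 < e <;> simp [h]
  map_smul' c a := by ext i; by_cases h : (i : ℕ) + 1 < e <;> simp [h]

theorem mu_tail {e : ℕ} (a b : Fin e → F) :
    mu F e (tail' F e a) b = mu F e a (tail' F e b) := by
  rcases e with _ | e
  · simp [mu_apply]
  rw [mu_apply, mu_apply, Fin.sum_univ_castSucc, Fin.sum_univ_succ]
  simp only [tail', LinearMap.coe_mk, AddHom.coe_mk, Fin.val_castSucc, Fin.val_last, Fin.rev_zero]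
  simp [Fin.rev_castSucc, Fin.rev_succ, Fin.val_rev]
  split_ifs with h
  · refine Finset.sum_congr rfl fun i _ => ?_
    congr 2
  · obtain rfl : e = 0 := by omega
    simp

theorem mu_tail_shift {e : ℕ} (a : Fin e → F) :
    mu F e (tail' F e (shift F e a)) (shift F e a) = mu F e a (shift F e a) := by
  rw [mu_apply, mu_apply]
  refine Finset.sum_congr rfl fun i _ => ?_
  by_cases h : (i : ℕ) + 1 < e
  · congr 1
    simp only [tail', LinearMap.coe_mk, AddHom.coe_mk, dif_pos h, shift_apply]
    rw [dif_pos (show 1 ≤ (i : ℕ) + 1 by omega)]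
    congr 1
  · have : shift F e a i.rev = 0 := by
      rw [shift_apply, dif_neg]
      rw [Fin.val_rev]; omega
    rw [this, mul_zero, mul_zero]

/-- `(a, b) ↦ (- s b, a - s b)`. -/
def comp2 (F : Type u) [Field F] (e : ℕ) : Module.End F ((Fin e → F) × (Fin e → F)) :=
  (-(shift F e).comp (LinearMap.snd F _ _)).prod
    (LinearMap.fst F _ _ - (shift F e).comp (LinearMap.snd F _ _))

theorem comp2_reg (e : ℕ) : RegNilp.Reg (comp2 F e) := by
  have hs := shift_reg (F := F) e
  have happ : ∀ a b, comp2 F e (a, b) = (-shift F e b, a - shift F e b) := fun a b => rfl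
  refine ⟨?_, ?_⟩
  · have key : ∀ (n : ℕ) (z : (Fin e → F) × (Fin e → F)), ∃ w : (Fin e → F) × (Fin e → F),
        ((comp2 F e) ^ (2 * n)) z = (((shift F e) ^ n) w.1, ((shift F e) ^ n) w.2) := by
      intro n
      induction n with
      | zero => intro z; exact ⟨z, rfl⟩
      | succ n ih =>
        intro z
        obtain ⟨w, hw⟩ := ih z
        refine ⟨(shift F e w.2 - w.1, -w.2 + (shift F e w.2 - w.1)), ?_⟩
        rw [show 2 * (n + 1) = 1 + (1 + 2 * n) by ring, pow_add, pow_add, pow_one, Module.End.mul_apply,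
          Module.End.mul_apply, hw, happ, happ, pow_succ (shift F e) n, Module.End.mul_apply,
          Module.End.mul_apply]
        have hc : ∀ y, shift F e (((shift F e) ^ n) y) = ((shift F e) ^ n) (shift F e y) := fun y => by
          rw [← Module.End.mul_apply, ← pow_succ', pow_succ, Module.End.mul_apply]
        refine Prod.ext ?_ ?_ <;>
          · simp only [map_sub, map_neg, map_add, hc]
            abel
    refine LinearMap.ext fun z => ?_
    rw [Module.finrank_prod, ← two_mul]
    obtain ⟨w, hw⟩ := key (finrank F (Fin e → F)) z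
    rw [hw, hs.nil]; rfl
  · let f : LinearMap.ker (comp2 F e) →ₗ[F] LinearMap.ker (shift F e) :=
      LinearMap.codRestrict _ ((LinearMap.snd F _ _).comp (Submodule.subtype _)) fun z => by
        have := LinearMap.mem_ker.1 z.2
        rw [happ] at this
        exact LinearMap.mem_ker.2 (neg_eq_zero.1 (congrArg Prod.fst this))
    have hf : Function.Injective f := by
      refine (injective_iff_map_eq_zero f).2 fun z h0 => ?_
      obtain ⟨⟨a, b⟩, hz⟩ := z
      have hb : b = 0 := congrArg Subtype.val h0
      subst hb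
      have := congrArg Prod.snd ((happ a 0).symm.trans (LinearMap.mem_ker.1 hz))
      simp at this
      subst this
      rfl
    exact (LinearMap.finrank_le_finrank_of_injective hf).trans hs.ker

/-- An alternating model with one block of size `2 e`. -/
theorem real_alt_even {e : ℕ} (he : 1 ≤ e) : Real F .alt {2 * e} := by
  let W := (Fin e → F) × (Fin e → F)
  obtain ⟨x, hx⟩ := chains_of_reg (comp2_reg (F := F) e) (D := 2 * e) (by simp [two_mul]) (by omega)
  refine ⟨W, inferInstance, inferInstance, inferInstance, comp2 F e, 1, _, _,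
    (mu F e).compl₁₂ (LinearMap.fst F _ _) (LinearMap.snd F _ _) -
      (mu F e).compl₁₂ (LinearMap.snd F _ _) (LinearMap.fst F _ _), hx, rfl, fun z => ?_,
    ⟨fun z hz => ?_, fun z hz => ?_⟩, fun z w => ?_⟩
  · show mu F e z.1 z.2 - mu F e z.2 z.1 = 0
    rw [mu_comm, sub_self]
  · refine Prod.ext (mu_sep _ fun b => ?_) (mu_sep _ fun b => ?_)
    · have := hz (0, b)
      change mu F e z.1 b - mu F e z.2 0 = 0 at this
      simpa using this
    · have := hz (b, 0)
      change mu F e z.1 0 - mu F e z.2 b = 0 at this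
      simpa using this
  · refine Prod.ext (mu_sep _ fun b => ?_) (mu_sep _ fun b => ?_)
    · have := hz (0, b)
      change mu F e 0 z.2 - mu F e b z.1 = 0 at this
      rw [mu_comm]; simpa using this
    · have := hz (b, 0)
      change mu F e b z.2 - mu F e 0 z.1 = 0 at this
      rw [mu_comm]; simpa using this
  · obtain ⟨a, b⟩ := z
    obtain ⟨c, d⟩ := w
    show mu F e (a + -shift F e b) (d + (c - shift F e d)) - mu F e (b + (a - shift F e b)) (c + -shift F e d) =
      mu F e a d - mu F e b c
    simp only [map_add, map_sub, map_neg, LinearMap.add_apply, LinearMap.sub_apply, LinearMap.neg_apply,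
      mu_shift]
    ring

/-- A quadratic model with one block of size `2 e`, characteristic two. -/
theorem real_quad_even [CharP F 2] {e : ℕ} (he : 1 ≤ e) : Real F .quad {2 * e} := by
  let W := (Fin e → F) × (Fin e → F)
  obtain ⟨x, hx⟩ := chains_of_reg (comp2_reg (F := F) e) (D := 2 * e) (by simp [two_mul]) (by omega)
  let T : W →ₗ[F] W →ₗ[F] F :=
    ((mu F e).comp (tail' F e)).compl₁₂ (LinearMap.fst F _ _) (LinearMap.fst F _ _) +
      (mu F e).compl₁₂ (LinearMap.fst F _ _) (LinearMap.snd F _ _) +
      (mu F e).compl₁₂ (LinearMap.snd F _ _) (LinearMap.snd F _ _)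
  have hT : ∀ a b c d, T (a, b) (c, d) = mu F e (tail' F e a) c + mu F e a d + mu F e b d :=
    fun a b c d => rfl
  let Q : QuadraticForm F W := LinearMap.BilinMap.toQuadraticMap T
  have hQ : ∀ a b, Q (a, b) = mu F e (tail' F e a) a + mu F e a b + mu F e b b := fun a b => hT a b a b
  have hpol : ∀ a b c d, QuadraticMap.polar Q (a, b) (c, d) = mu F e a d + mu F e c b := fun a b c d => by
    rw [show QuadraticMap.polar Q (a, b) (c, d) = T (a, b) (c, d) + T (c, d) (a, b) from
      LinearMap.BilinMap.polar_toQuadraticMap _ _, hT, hT, mu_tail c a, mu_comm c (tail' F e a),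
      mu_comm d b]
    linear_combination (mu F e (tail' F e a) c + mu F e b d) * (CharTwo.two_eq_zero (R := F))
  refine ⟨W, inferInstance, inferInstance, inferInstance, comp2 F e, 1, _, _, Q, hx, rfl,
    ⟨fun z hz => ?_, fun z hz => ?_⟩, fun z => ?_⟩
  · obtain ⟨a, b⟩ := z
    refine Prod.ext (mu_sep _ fun c => ?_) (mu_sep _ fun c => ?_)
    · simpa [hpol] using hz (0, c)
    · rw [mu_comm]; simpa [hpol] using hz (c, 0)
  · obtain ⟨a, b⟩ := z
    refine Prod.ext (mu_sep _ fun c => ?_) (mu_sep _ fun c => ?_)
    · simpa [hpol] using hz (0, c)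
    · rw [mu_comm]; simpa [hpol] using hz (c, 0)
  · obtain ⟨a, b⟩ := z
    show Q (a + -shift F e b, b + (a - shift F e b)) = Q (a, b)
    rw [hQ, hQ]
    simp only [map_add, map_sub, map_neg, LinearMap.add_apply, LinearMap.sub_apply, LinearMap.neg_apply,
      mu_tail_shift, mu_shift, mu_tail (shift F e b) a, mu_comm (shift F e b) (tail' F e a), mu_comm b a]
    linear_combination (mu F e a a + mu F e a b - mu F e b (shift F e a) - mu F e (tail' F e a) (shift F e b) - mu F e a (shift F e b) -
      mu F e b (shift F e b) + mu F e b (shift F e (shift F e b))) * (CharTwo.two_eq_zero (R := F))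

/-- The inverse of `1 + shift`, minus one. -/
theorem exists_dual_shift (D : ℕ) : ∃ M : Module.End F (Fin D → F), RegNilp.Reg M ∧
    ∀ a b, mu F D (a + shift F D a) (b + M b) = mu F D a b := by
  have hs := shift_reg (F := F) D
  set S := shift F D
  set U : Module.End F (Fin D → F) := ∑ i ∈ Finset.range (finrank F (Fin D → F)), (-S) ^ i
  have hnegS : (-S) ^ finrank F (Fin D → F) = 0 := by
    rw [show -S = (-1 : F) • S from (neg_one_smul F S).symm, _root_.smul_pow, hs.nil, smul_zero]
  have hU : (1 + S) * U = 1 := by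
    have h := mul_neg_geom_sum (-S) (finrank F (Fin D → F))
    rw [hnegS, sub_zero, sub_neg_eq_add] at h
    exact h
  have hcU : Commute S U := Commute.sum_right _ _ _ fun i _ => (Commute.neg_right (Commute.refl S)).pow_right i
  refine ⟨U - 1, ⟨?_, ?_⟩, fun a b => ?_⟩
  · have : U - 1 = -(S * U) := by
      rw [eq_neg_iff_add_eq_zero, ← hU]; noncomm_ring
    rw [this, show -(S * U) = (-S) * U from (neg_mul S U).symm, hcU.neg_left.mul_pow, hnegS, zero_mul]
  · refine le_trans (Submodule.finrank_mono fun x hx => ?_) hs.ker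
    have h1 : U x = x := sub_eq_zero.1 (show U x - x = 0 from LinearMap.mem_ker.1 hx)
    have h2 := LinearMap.congr_fun hU x
    rw [Module.End.mul_apply, h1] at h2
    exact LinearMap.mem_ker.2 (add_left_cancel (a := x) (h2.trans (add_zero x).symm))
  · have : b + (U - 1) b = U b := by simp
    rw [this]
    have h2 := LinearMap.congr_fun hU b
    rw [Module.End.mul_apply] at h2
    show mu F D (a + S a) (U b) = mu F D a b
    rw [show mu F D a b = mu F D a (U b + S (U b)) from congrArg (mu F D a) h2.symm]
    rw [map_add, LinearMap.add_apply, map_add, mu_shift]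

theorem pair_chains {D : ℕ} (hD : 1 ≤ D) {M : Module.End F (Fin D → F)} (hM : RegNilp.Reg M) :
    ∃ v, IsChains ((shift F D).prodMap M) (Fin.append (fun _ : Fin 1 => D) (fun _ : Fin 1 => D)) v := by
  obtain ⟨x, hx⟩ := chains_of_reg (shift_reg (F := F) D) (Module.finrank_fin_fun F) hD
  obtain ⟨y, hy⟩ := chains_of_reg hM (Module.finrank_fin_fun F) hD
  exact ⟨_, isChains_prod hx hy⟩

/-- Two blocks of equal size, alternating. -/
theorem real_alt_pair {D : ℕ} (hD : 1 ≤ D) : Real F .alt {D, D} := by
  obtain ⟨M, hM, hiso⟩ := exists_dual_shift (F := F) D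
  obtain ⟨v, hv⟩ := pair_chains hD hM
  refine ⟨(Fin D → F) × (Fin D → F), inferInstance, inferInstance, inferInstance, _, _, _, v,
    (mu F D).compl₁₂ (LinearMap.fst F _ _) (LinearMap.snd F _ _) -
      (mu F D).compl₁₂ (LinearMap.snd F _ _) (LinearMap.fst F _ _), hv, by rw [map_append]; rfl,
    fun z => ?_, ⟨fun z hz => ?_, fun z hz => ?_⟩, fun z w => ?_⟩
  · show mu F D z.1 z.2 - mu F D z.2 z.1 = 0
    rw [mu_comm, sub_self]
  · refine Prod.ext (mu_sep _ fun b => ?_) (mu_sep _ fun b => ?_)
    · have := hz (0, b)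
      change mu F D z.1 b - mu F D z.2 0 = 0 at this
      simpa using this
    · have := hz (b, 0)
      change mu F D z.1 0 - mu F D z.2 b = 0 at this
      simpa using this
  · refine Prod.ext (mu_sep _ fun b => ?_) (mu_sep _ fun b => ?_)
    · have := hz (0, b)
      change mu F D 0 z.2 - mu F D b z.1 = 0 at this
      rw [mu_comm]; simpa using this
    · have := hz (b, 0)
      change mu F D b z.2 - mu F D 0 z.1 = 0 at this
      rw [mu_comm]; simpa using this
  · show mu F D (z.1 + shift F D z.1) (w.2 + M w.2) - mu F D (z.2 + M z.2) (w.1 + shift F D w.1) =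
      mu F D z.1 w.2 - mu F D z.2 w.1
    rw [hiso, mu_comm (z.2 + M z.2), hiso, mu_comm z.2]

/-- Two blocks of equal size, quadratic. -/
theorem real_quad_pair {D : ℕ} (hD : 1 ≤ D) : Real F .quad {D, D} := by
  obtain ⟨M, hM, hiso⟩ := exists_dual_shift (F := F) D
  obtain ⟨v, hv⟩ := pair_chains hD hM
  let T : ((Fin D → F) × (Fin D → F)) →ₗ[F] ((Fin D → F) × (Fin D → F)) →ₗ[F] F :=
    (mu F D).compl₁₂ (LinearMap.fst F (Fin D → F) (Fin D → F)) (LinearMap.snd F (Fin D → F) (Fin D → F))
  let Q : QuadraticForm F ((Fin D → F) × (Fin D → F)) := LinearMap.BilinMap.toQuadraticMap T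
  have hpol : ∀ z w, QuadraticMap.polar Q z w = mu F D z.1 w.2 + mu F D w.1 z.2 := fun z w =>
    LinearMap.BilinMap.polar_toQuadraticMap _ _
  refine ⟨_, inferInstance, inferInstance, inferInstance, _, _, _, v, Q, hv, by rw [map_append]; rfl,
    ⟨fun z hz => ?_, fun z hz => ?_⟩, fun z => hiso z.1 z.2⟩
  · refine Prod.ext (mu_sep _ fun b => ?_) (mu_sep _ fun b => ?_)
    · simpa [hpol] using hz (0, b)
    · rw [mu_comm]; simpa [hpol] using hz (b, 0)
  · refine Prod.ext (mu_sep _ fun b => ?_) (mu_sep _ fun b => ?_)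
    · simpa [hpol] using hz (0, b)
    · rw [mu_comm]; simpa [hpol] using hz (b, 0)

/-- One block of odd size, quadratic, odd characteristic. -/
theorem real_quad_odd (h2 : (2 : F) ≠ 0) {D : ℕ} (hodd : Odd D) : Real F .quad {D} := by
  have hs := shift_reg (F := F) D
  set S := shift F D with hS
  obtain ⟨M, hM, hiso⟩ := exists_dual_shift (F := F) D
  obtain ⟨C, hC⟩ := RegNilp.exists_equiv hs hM rfl
  obtain ⟨k, rfl⟩ := hodd
  obtain ⟨x, hx⟩ := chains_of_reg hs (Module.finrank_fin_fun F) (by omega)
  let β : (Fin (2 * k + 1) → F) →ₗ[F] (Fin (2 * k + 1) → F) →ₗ[F] F :=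
    (mu F (2 * k + 1)).compl₂ C.toLinearMap
  have hβ : ∀ a b, β (a + S a) (b + S b) = β a b := fun a b => by
    show mu F _ (a + S a) (C (b + S b)) = mu F _ a (C b)
    rw [C.map_add, hC, hiso]
  let Q : QuadraticForm F (Fin (2 * k + 1) → F) := LinearMap.BilinMap.toQuadraticMap β
  have hpol : ∀ a b, QuadraticMap.polar Q a b = β a b + β b a := fun a b =>
    LinearMap.BilinMap.polar_toQuadraticMap _ _
  have hker : ∀ y, S y = 0 → y ≠ 0 → ∃ z, QuadraticMap.polar Q z y ≠ 0 := by
    intro y hy hy0
    -- `y` is orthogonal to the range of `S` for `β` on either side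
    set top := (S ^ (2 * k)) x
    have hr : ∀ z, β (S z) y = -β z (S y) - β (S z) (S y) := fun z => by
      have := hβ z y
      simp only [map_add, LinearMap.add_apply] at this
      linear_combination this
    have hmove : ∀ n a b, (S ^ (n + 1)) b = 0 → β ((S ^ n) a) b = (-1) ^ n * β a ((S ^ n) b) := by
      intro n
      induction n with
      | zero => intro a b _; simp
      | succ n ih =>
        intro a b hb
        have e0 : ∀ z w, β (S z) w + β z (S w) + β (S z) (S w) = 0 := fun z w => by
          have := hβ z w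
          simp only [map_add, LinearMap.add_apply] at this
          linear_combination this
        have hb' : (S ^ (n + 1)) (S b) = 0 := by rw [← Module.End.mul_apply, ← pow_succ]; exact hb
        have e1 := e0 ((S ^ n) a) b
        rw [← Module.End.mul_apply S, ← pow_succ'] at e1
        have e2 := ih a (S b) hb'
        have e3 := ih (S a) (S b) hb'
        rw [← Module.End.mul_apply (S ^ n) S a, ← pow_succ] at e3
        rw [← Module.End.mul_apply (S ^ n) S b, ← pow_succ] at e2 e3
        have e4 := e0 a ((S ^ (n + 1)) b)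
        rw [← Module.End.mul_apply S, ← pow_succ', hb] at e4
        simp only [map_zero, add_zero] at e4
        rw [e4, mul_zero] at e3
        rw [e2, e3, add_zero] at e1
        linear_combination e1
    have hlast : (S ^ (2 * k + 1)) = 0 := by
      have := hs.nil; rwa [Module.finrank_fin_fun] at this
    have htop : β x top = β top x := by
      rw [hmove (2 * k) x x (by rw [hlast]; rfl), pow_mul, neg_one_sq, one_pow, one_mul]
    have htop0 : top ≠ 0 := by
      intro h0
      have e : comb S (fun _ : Fin 1 => 2 * k + 1) (fun _ => x) (Pi.single ⟨0, ⟨2 * k, by omega⟩⟩ 1) = top := by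
        simp [comb, Fintype.linearCombination_apply_single, top]
      have := hx.bij.1 (e.trans (h0.trans (map_zero _).symm))
      simpa using congrFun this ⟨0, ⟨2 * k, by omega⟩⟩
    have hyk : y ∈ LinearMap.ker S := hy
    obtain ⟨c, hc⟩ : ∃ c : F, c • top = y := by
      have h1 : top ∈ LinearMap.ker S := by
        show S top = 0
        rw [← Module.End.mul_apply, ← pow_succ', hlast]; rfl
      have h3 : (F ∙ top) = LinearMap.ker S :=
        Submodule.eq_of_le_of_finrank_le ((Submodule.span_singleton_le_iff_mem _ _).2 h1)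
          (by rw [finrank_span_singleton htop0]; exact hs.ker)
      rw [← h3] at hyk
      exact Submodule.mem_span_singleton.1 hyk
    have hc0 : c ≠ 0 := fun h => hy0 (by rw [← hc, h, zero_smul])
    refine ⟨x, fun h0 => ?_⟩
    rw [← hc, hpol, map_smul, map_smul, LinearMap.smul_apply, ← htop, smul_eq_mul, ← two_mul] at h0
    have hxt : β x top = 0 := by simpa [h2, hc0] using h0
    -- then `top` is in the right radical of `β`
    have hvan : ∀ z, β z top = 0 := by
      intro z
      obtain ⟨cz, rfl⟩ := hx.bij.2 z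
      rw [comb_apply, map_sum, LinearMap.sum_apply]
      refine Finset.sum_eq_zero fun l _ => ?_
      rw [map_sum, LinearMap.sum_apply]
      refine Finset.sum_eq_zero fun i _ => ?_
      rw [map_smul, LinearMap.smul_apply]
      rcases Nat.eq_zero_or_pos (i : ℕ) with hi | hi
      · rw [hi]; show cz _ • β x top = 0; rw [hxt, smul_zero]
      · have hST : S top = 0 := by rw [← Module.End.mul_apply, ← pow_succ', hlast]; rfl
        obtain ⟨i', hi'⟩ : ∃ i', (i : ℕ) = i' + 1 := ⟨(i : ℕ) - 1, by omega⟩
        rw [hi', pow_succ', Module.End.mul_apply]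
        have := hβ ((S ^ i') x) top
        simp only [map_add, LinearMap.add_apply, hST, map_zero, add_zero] at this
        rw [show β (S ((S ^ i') x)) top = 0 by linear_combination this, smul_zero]
    exact htop0 (C.injective ((mu_sep (C top) fun b => by rw [mu_comm]; exact hvan b).trans (map_zero C).symm))
  have hnd : ∀ y, (∀ z, QuadraticMap.polar Q z y = 0) → y = 0 := by
    intro y hy
    by_contra hy0
    have hinv : ∀ n, ∀ z, QuadraticMap.polar Q z ((S ^ n) y) = 0 := by
      intro n
      induction n with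
      | zero => exact hy
      | succ n ih =>
        intro z
        have hsur : ∃ w, w + S w = z := by
          have hinj : Function.Injective (1 + S : Module.End F _) := by
            have hu : IsUnit (1 + S : Module.End F _) :=
              IsNilpotent.isUnit_one_add ⟨_, hs.nil⟩
            exact ((Module.End.isUnit_iff _).1 hu).1
          exact LinearMap.surjective_of_injective hinj z
        obtain ⟨w, rfl⟩ := hsur
        have e := hpol (w + S w) ((S ^ n) y + S ((S ^ n) y))
        rw [hβ, hβ, ← hpol, ih] at e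
        rw [← Module.End.mul_apply S, ← pow_succ', QuadraticMap.polar_add_right, ih, zero_add] at e
        exact e
    -- the last non-zero iterate lies in the kernel
    have hex : ∃ n, (S ^ n) y = 0 := ⟨_, by rw [hs.nil]; rfl⟩
    classical
    obtain ⟨n, hn⟩ : ∃ n, Nat.find hex = n + 1 := by
      refine Nat.exists_eq_add_one.2 (Nat.pos_of_ne_zero fun h => hy0 ?_)
      have := Nat.find_spec hex
      rwa [h] at this
    have h1 : S ((S ^ n) y) = 0 := by
      rw [← Module.End.mul_apply, ← pow_succ', ← hn]; exact Nat.find_spec hex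
    obtain ⟨z, hz⟩ := hker _ h1 (Nat.find_min hex (by omega))
    exact hz (hinv n z)
  exact ⟨_, inferInstance, inferInstance, inferInstance, S, 1, _, _, Q, hx, rfl,
    ⟨fun y hy => hnd y fun z => by rw [QuadraticMap.polar_comm]; exact hy z, fun y hy => hnd y hy⟩,
    fun a => hβ a a⟩

theorem real_zero : ∀ k, Real F k (0 : Multiset ℕ)
  | .alt => ⟨PUnit.{u + 1}, inferInstance, inferInstance, inferInstance, 0, 0, Fin.elim0, Fin.elim0, 0,
      ⟨fun i => i.elim0, fun i => i.elim0, ⟨fun a b _ => funext fun x => x.1.elim0,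
        fun y => ⟨0, Subsingleton.elim _ _⟩⟩⟩, rfl, fun x => rfl,
      ⟨fun x _ => Subsingleton.elim _ _, fun x _ => Subsingleton.elim _ _⟩, fun x y => rfl⟩
  | .quad => ⟨PUnit.{u + 1}, inferInstance, inferInstance, inferInstance, 0, 0, Fin.elim0, Fin.elim0, 0,
      ⟨fun i => i.elim0, fun i => i.elim0, ⟨fun a b _ => funext fun x => x.1.elim0,
        fun y => ⟨0, Subsingleton.elim _ _⟩⟩⟩, rfl,
      ⟨fun x _ => Subsingleton.elim _ _, fun x _ => Subsingleton.elim _ _⟩, fun x => rfl⟩

/-- Assembly: singles and pairs. -/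
theorem real_of_counts (k : Kind) (ok : ℕ → Prop) (hsingle : ∀ j, 1 ≤ j → ok j → Real F k {j})
    (hpair : ∀ j, 1 ≤ j → Real F k {j, j}) (s : Multiset ℕ) (hpos : ∀ j ∈ s, 1 ≤ j)
    (hev : ∀ j, 1 ≤ j → ¬ ok j → Even (s.count j)) : Real F k s := by
  classical
  induction hn : s.card using Nat.strong_induction_on generalizing s with
  | _ n ih =>
    rcases eq_or_ne s 0 with rfl | hs
    · exact real_zero k
    obtain ⟨a, ha⟩ := Multiset.exists_mem_of_ne_zero hs
    obtain ⟨r, rfl⟩ := Multiset.exists_cons_of_mem ha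
    rw [Multiset.card_cons] at hn
    have ha1 := hpos a ha
    by_cases hok : ok a
    · have hr := ih r.card (by omega) r (fun j hj => hpos j (Multiset.mem_cons_of_mem hj))
        (fun j hj hnj => by
          have := hev j hj hnj
          rwa [Multiset.count_cons_of_ne (fun e => hnj (by rw [e]; exact hok))] at this) rfl
      have := (hsingle a ha1 hok).add hr
      rwa [Multiset.singleton_add] at this
    · have h1 := hev a ha1 hok
      rw [Multiset.count_cons_self, Nat.even_add_one, Nat.not_even_iff_odd] at h1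
      obtain ⟨c, hc⟩ := h1
      obtain ⟨r', rfl⟩ := Multiset.exists_cons_of_mem (Multiset.count_pos.1 (by omega : 0 < r.count a))
      rw [Multiset.card_cons] at hn
      have hr := ih r'.card (by omega) r'
        (fun j hj => hpos j (Multiset.mem_cons_of_mem (Multiset.mem_cons_of_mem hj)))
        (fun j hj hnj => by
          have := hev j hj hnj
          rcases eq_or_ne j a with rfl | hne
          · rw [Multiset.count_cons_self, Multiset.count_cons_self, Nat.even_add_one,
              Nat.even_add_one, not_not] at this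
            exact this
          · rwa [Multiset.count_cons_of_ne hne, Multiset.count_cons_of_ne hne] at this) rfl
      have := (hpair a ha1).add hr
      rwa [Multiset.insert_eq_cons, Multiset.cons_add, Multiset.singleton_add] at this

end CfsgLib.UnipotentTypes
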