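import Mathlib
import Cfsg.Prelude.Def_Classical
import Cfsg.Agent.Lib.KnownA.InvolutionForms

/-!
Involutions of special unitary groups in characteristic two.
-/

set_option autoImplicit false

namespace CfsgLib.KnownA.UnitaryInvolutions

open Module Matrix CfsgLib.KnownA.HermitianForms CfsgLib.KnownA.InvolutionForms CfsgLib.KnownA.SquareZero

variable {F : Type*} [Field F] {σ : F →+* F}

lemma preserves_of_gram {V : Type*} [AddCommGroup V] [Module F V] (f : HForm F V σ) {ι : Type*}
    [Fintype ι] (b : Basis ι F V) (T : V →ₗ[F] V) (h : ∀ i j, f.B (T (b i)) (T (b j)) = f.B (b i) (b j))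
    (x y : V) : f.B (T x) (T y) = f.B x y := by
  conv_rhs => rw [← b.sum_repr x, ← b.sum_repr y]
  conv_lhs => rw [← b.sum_repr x, ← b.sum_repr y]
  simp only [map_sum, map_smul, f.sum_left, f.sum_right, f.smul_left, f.smul_right, h]

/-- The standard Hermitian form. -/
noncomputable def uForm (n : ℕ) (hσ : ∀ x, σ (σ x) = x) : HForm F (Fin n → F) σ where
  B u v := ∑ i, u i * σ (v i)
  add_left x y z := by simp [add_mul, Finset.sum_add_distrib]
  smul_left c x z := by simp [Finset.mul_sum, mul_assoc]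
  symm x y := by simp [map_sum, hσ, mul_comm]

lemma uForm_nondeg (n : ℕ) (hσ : ∀ x, σ (σ x) = x) : (uForm n hσ).Nondeg := by
  intro x hx
  funext i
  simpa [uForm, Pi.single_apply] using hx (Pi.single i 1)

lemma det_norm {n : ℕ} (hσ : ∀ x, σ (σ x) = x) (C : Matrix (Fin n) (Fin n) F)
    (h : ∀ u v, (uForm n hσ).B (C *ᵥ u) (C *ᵥ v) = (uForm n hσ).B u v) : C.det * σ C.det = 1 := by
  have hC : Cᵀ * C.map σ = 1 := by
    ext i j
    have := h (Pi.single i 1) (Pi.single j 1)
    simpa [uForm, mulVec_single, Pi.single_apply, Matrix.mul_apply, Matrix.one_apply, eq_comm] using this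
  have := congrArg Matrix.det hC
  rw [det_mul, det_transpose, det_one] at this
  rwa [RingHom.map_det]

variable [Finite F] [CharP F 2]

theorem suConj {n : ℕ} (hσ : ∀ x, σ (σ x) = x) (hσ1 : ∃ t, t + σ t ≠ 0)
    (A B : Matrix (Fin n) (Fin n) F) (hA2 : A * A = 1) (hB2 : B * B = 1) (hA1 : A ≠ 1)
    (hA : ∀ u v, (uForm n hσ).B (A *ᵥ u) (A *ᵥ v) = (uForm n hσ).B u v)
    (hB : ∀ u v, (uForm n hσ).B (B *ᵥ u) (B *ᵥ v) = (uForm n hσ).B u v)
    (hrank : (A - 1).rank = (B - 1).rank) :
    ∃ C : Matrix (Fin n) (Fin n) F, C.det = 1 ∧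
      (∀ u v, (uForm n hσ).B (C *ᵥ u) (C *ᵥ v) = (uForm n hσ).B u v) ∧ C * A = B * C := by
  classical
  have h2 : (2 : F) = 0 := CharP.cast_eq_zero F 2
  set f := uForm n hσ with hf
  set k := (A - 1).rank with hk
  have props : ∀ M : Matrix (Fin n) (Fin n) F, M * M = 1 →
      (∀ u v, f.B (M *ᵥ u) (M *ᵥ v) = f.B u v) →
      (∀ x, toLin' (M - 1) (toLin' (M - 1) x) = 0) ∧
        ∀ x y, f.B (toLin' (M - 1) x) y = f.B x (toLin' (M - 1) y) := by
    intro M hM hpres
    refine ⟨fun x => ?_, fun x y => ?_⟩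
    · rw [← LinearMap.comp_apply, ← toLin'_mul, sub_one_sq hM, map_zero, LinearMap.zero_apply]
    · have h := hpres x (M *ᵥ y)
      rw [mulVec_mulVec, hM, one_mulVec] at h
      have hl := f.sub_left
      simp only [toLin'_apply, sub_mulVec, one_mulVec]
      rw [hl, h, f.symm (M *ᵥ y - y) x, hl, map_sub, ← f.symm, ← f.symm]
  obtain ⟨hNa, hAa⟩ := props A hA2 hA
  obtain ⟨hNb, hAb⟩ := props B hB2 hB
  have hnorm : ∀ t : F, σ t = t → t ≠ 0 → ∃ c, c * σ c = t := by
    intro t ht _
    obtain ⟨c, hc⟩ := FiniteField.isSquare_of_char_two (F := F) (ringChar.eq F 2) t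
    refine ⟨c, ?_⟩
    have h1 : (σ c + c) * (σ c + c) = 0 := by
      have : σ c * σ c = c * c := by rw [← map_mul, ← hc, ht]
      linear_combination this + (σ c * c + c * c) * h2
    have h1' : σ c = c := by
      have := mul_self_eq_zero.1 h1
      linear_combination this - c * h2
    rw [h1', hc]
  have hdiag : ∀ x, ∃ c, c + σ c = f.B x x := by
    intro x
    obtain ⟨d, hd⟩ := hσ1
    have hfix : σ (d + σ d) = d + σ d := by rw [map_add, hσ, add_comm]
    refine ⟨f.B x x / (d + σ d) * d, ?_⟩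
    rw [map_mul, map_div₀, ← f.symm, hfix, ← mul_add, div_mul_cancel₀ _ hd]
  have horth : ∀ {W : Type _} [AddCommGroup W] [Module F W] [FiniteDimensional F W] (g : HForm F W σ),
      g.Nondeg → ∀ {d : ℕ}, finrank F W = d →
        ∃ b : Basis (Fin d) F W, ∀ i j, g.B (b i) (b j) = if i = j then 1 else 0 := by
    intro W _ _ _ g hg d hd
    rcases Nat.eq_zero_or_pos d with rfl | hpos
    · exact ⟨(Module.finBasis F W).reindex (finCongr hd), fun i => i.elim0⟩
    · have hna : ¬ g.Alt := fun hA => by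
        haveI : Nontrivial W := Module.nontrivial_of_finrank_pos (R := F) (by omega)
        obtain ⟨x, hx⟩ := exists_ne (0 : W)
        exact hx (subsingleton_of_alt g hσ1 hg hA x)
      obtain ⟨b, hb⟩ := exists_orthonormal g h2 hnorm hg hna
      exact ⟨b.reindex (finCongr hd), fun i j => by simp [Basis.reindex_apply, hb, Fin.ext_iff]⟩
  obtain ⟨Wa, hWa, hka, -, htopa⟩ := exists_twist f (toLin' (A - 1)) (uForm_nondeg n hσ) hAa
  obtain ⟨Wb, hWb, hkb, -, htopb⟩ := exists_twist f (toLin' (B - 1)) (uForm_nondeg n hσ) hAb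
  obtain ⟨ba, hba⟩ := horth _ hWa (d := k) hka
  obtain ⟨bb, hbb⟩ := horth _ hWb (d := k) (hkb.trans hrank.symm)
  obtain ⟨r, e, he⟩ := exists_adapted f _ h2 (uForm_nondeg n hσ) hNa hAa hdiag (htopa ba hba)
    (fun r (i j : Fin r) => if i = j then (1 : F) else 0) (fun U hU => horth _ hU rfl)
  obtain ⟨r', e', he'⟩ := exists_adapted f _ h2 (uForm_nondeg n hσ) hNb hAb hdiag (htopb bb hbb)
    (fun r (i j : Fin r) => if i = j then (1 : F) else 0) (fun U hU => horth _ hU rfl)
  obtain rfl : r' = r := by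
    have := card_idx e; have := card_idx e'; omega
  obtain ⟨hiso, hint⟩ := exists_isometry f (toLin' (A - 1)) f (toLin' (B - 1)) he he'
  set g := (e.equiv e' (Equiv.refl _)).toLinearMap with hg
  have hkpos : 0 < k := by
    refine Nat.pos_of_ne_zero fun h0 => hA1 ?_
    have : toLin' (A - 1) = 0 := LinearMap.range_eq_bot.1 (Submodule.finrank_eq_zero.1 (hk.symm.trans h0))
    rwa [LinearEquiv.map_eq_zero_iff, sub_eq_zero] at this
  have hgdet : LinearMap.det g * σ (LinearMap.det g) = 1 := by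
    rw [← LinearMap.det_toMatrix' (f := g)]
    refine det_norm hσ _ fun u v => ?_
    rw [← toLin'_apply, ← toLin'_apply, toLin'_toMatrix']
    exact hiso u v
  have hdet : LinearMap.det g ≠ 0 := left_ne_zero_of_mul_eq_one hgdet
  obtain ⟨μ, hμ⟩ := FiniteField.isSquare_of_char_two (F := F) (ringChar.eq F 2) (LinearMap.det g)⁻¹
  have hμn : μ * σ μ = 1 := by
    have h1 : (μ * σ μ) * (μ * σ μ) = 1 := by
      calc (μ * σ μ) * (μ * σ μ) = μ * μ * σ (μ * μ) := by rw [map_mul]; ring
        _ = 1 := by rw [← hμ, map_inv₀, ← mul_inv, hgdet, inv_one]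
    rcases mul_self_eq_one_iff.1 h1 with h | h
    · exact h
    · rwa [CharTwo.neg_eq] at h
  set d : Fin k → F := Function.update (fun _ => 1) ⟨0, hkpos⟩ μ with hd
  have hd1 : ∀ i, d i * σ (d i) = 1 := fun i => by
    by_cases h : i = ⟨0, hkpos⟩
    · subst h; simp [hd, hμn]
    · simp [hd, Function.update_of_ne h]
  have hdiagiso : ∀ x y, f.B (diagEnd e d x) (diagEnd e d y) = f.B x y := by
    refine preserves_of_gram f e _ fun i j => ?_
    rw [diagEnd, Basis.constr_basis, Basis.constr_basis, f.smul_left, f.smul_right, he.2 i j]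
    rcases i with (i | i) | u <;> rcases j with (j | j) | u'
    all_goals simp [InvolutionForms.gram]
    all_goals split_ifs with hij
    all_goals first | rfl | (subst hij; exact hd1 _)
  have hhdet : LinearMap.det (g ∘ₗ diagEnd e d) = 1 := by
    rw [LinearMap.det_comp, det_diagEnd, hd, Finset.prod_update_of_mem (Finset.mem_univ _)]
    simp [sq, ← hμ, hdet]
  refine ⟨LinearMap.toMatrix' (g ∘ₗ diagEnd e d), by rw [LinearMap.det_toMatrix', hhdet], fun u v => ?_, ?_⟩
  · rw [← toLin'_apply, ← toLin'_apply, toLin'_toMatrix']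
    exact (hiso _ _).trans (hdiagiso u v)
  · have hcomm : (g ∘ₗ diagEnd e d) ∘ₗ toLin' (A - 1) = toLin' (B - 1) ∘ₗ (g ∘ₗ diagEnd e d) := by
      refine LinearMap.ext fun v => ?_
      simp only [LinearMap.comp_apply, diagEnd_comm he.1]
      exact hint _
    have hm := congrArg LinearMap.toMatrix' hcomm
    simp only [LinearMap.toMatrix'_comp, LinearMap.toMatrix'_toLin', Matrix.mul_sub, Matrix.sub_mul,
      Matrix.mul_one, Matrix.one_mul, sub_left_inj] at hm
    simpa [LinearMap.toMatrix'_comp] using hm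

end CfsgLib.KnownA.UnitaryInvolutions
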